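import Cfsg.Agent.H11.Carm

/-! Bounded presentations of root subgroups (Baumslag's trick): `RS` (a root homomorphism in a cover),
`exists_wd` (words for root elements), `borel`, `borel_two`, `borel_le_two`. -/

set_option autoImplicit false

namespace H11
open Subgroup Module
open FreeGroup (of lift)

variable {H G : Type*} [Group H] [Group G] {F : Type*} [Field F] {κ : Type}

/-- `ξ` generates the ring `F` -/
def Gen (ξ : F) : Prop := Subring.closure {ξ} = ⊤

theorem add_ind {p e : ℕ} [Fact p.Prime] [Algebra (ZMod p) F] (b : Basis (Fin e) (ZMod p) F) {P : F → Prop} (h0 : P 0)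
    (hadd : ∀ a c, P a → P c → P (a + c)) (hb : ∀ i, P (b i)) (a : F) : P a := by
  have hn : ∀ (n : ℕ) a, P a → P (n • a) := fun n a ha => by
    induction n with
    | zero => simpa
    | succ n ih => rw [succ_nsmul]; exact hadd _ _ ih ha
  induction b.mem_span a using Submodule.span_induction with
  | mem _ h => obtain ⟨i, rfl⟩ := h; exact hb i
  | zero => exact h0
  | add _ _ _ _ h1 h2 => exact hadd _ _ h1 h2
  | smul c a _ h => rw [← ZMod.natCast_zmod_val c, Nat.cast_smul_eq_nsmul]; exact hn _ _ h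

theorem Gen.basis [Finite F] (p : ℕ) [Fact p.Prime] [Algebra (ZMod p) F] {ξ : F} (h : Gen ξ) :
    ∃ (e : ℕ) (b : Basis (Fin e) (ZMod p) F), (∀ i, b i = ξ ^ (i : ℕ)) ∧ 0 < e ∧ Nat.card F = p ^ e := by
  let pb := PowerBasis.ofAdjoinEqTop (K := ZMod p) (x := ξ) (Algebra.IsIntegral.isIntegral ξ) (eq_top_iff.2 fun a _ =>
    (Subring.closure_le (t := (Algebra.adjoin (ZMod p) {ξ}).toSubring)).2 Algebra.subset_adjoin (h.ge trivial))
  refine ⟨pb.dim, pb.basis, fun i => pb.basis_eq_pow i, pb.dim_pos, ?_⟩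
  rw [Module.natCard_eq_pow_finrank (K := ZMod p), pb.finrank, Nat.card_zmod]

theorem Gen.ind [Finite F] {ξ : F} (h : Gen ξ) {P : F → Prop} (h0 : P 0) (hadd : ∀ a c, P a → P c → P (a + c))
    (hb : ∀ i, P (ξ ^ i)) (a : F) : P a := by
  obtain ⟨p, hp⟩ := CharP.exists F
  have := Fact.mk (CharP.char_is_prime F p)
  letI := ZMod.algebra F p
  obtain ⟨e, b, h1, -⟩ := h.basis p
  exact add_ind b h0 hadd (fun i => h1 i ▸ hb i) a

theorem Gen.of_mem {ξ η : F} (h : Gen ξ) (h' : ξ ∈ Subring.closure {η}) : Gen η :=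
  eq_top_iff.2 (h.ge.trans (Subring.closure_le.2 (by simpa)))

theorem exists_of_not_gen [Finite F] {ξ : F} (h : ¬ Gen ξ) : ∃ (k : ℕ) (φ : F →+* F), 2 ≤ k ∧ k ^ 2 ≤ Nat.card F ∧
    (∀ a, φ a = a ^ k) ∧ ∀ a ∈ Subring.closure {ξ}, φ a = a := by
  let R := Subring.closure {ξ}
  have := Fintype.ofFinite R
  letI : Field R := (Finite.isField_of_domain R).toField
  refine ⟨_, FiniteField.frobeniusAlgHom R F, Fintype.one_lt_card, ?_, fun _ => rfl, fun a ha =>
    (FiniteField.frobeniusAlgHom R F).commutes ⟨a, ha⟩⟩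
  rw [Module.natCard_eq_pow_finrank (K := R), Nat.card_eq_fintype_card]
  refine Nat.pow_le_pow_right Fintype.card_pos (not_lt.1 fun h2 => h (eq_top_iff.2 fun a _ => ?_))
  obtain ⟨c, rfl⟩ := exists_smul_eq_of_finrank_eq_one (K := R) (by have := finrank_pos (R := R) (M := F); omega)
    (one_ne_zero (α := F)) a
  simpa [Subring.smul_def] using c.2

theorem gen_pow [Finite F] {ζ : Fˣ} (hζ : orderOf ζ = Nat.card F - 1) {m : ℕ} (hm : m = 1 ∨ m = 2 ∨ m = 3 ∧ Nat.card F ≠ 4) :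
    Gen ((ζ : F) ^ m) := by
  by_contra h
  obtain ⟨k, φ, h1, h2, h3, h4⟩ := exists_of_not_gen h
  have h5 := h4 _ (Subring.subset_closure rfl)
  obtain ⟨k, rfl⟩ : ∃ l, k = l + 1 := ⟨k - 1, by omega⟩
  rw [h3, pow_succ, mul_eq_right₀ (by simp), ← pow_mul, ← Units.val_pow_eq_pow_val, Units.val_eq_one,
    ← orderOf_dvd_iff_pow_eq_one, hζ] at h5
  have := Nat.le_of_dvd (by rcases hm with rfl | rfl | ⟨rfl, -⟩ <;> omega) h5
  have h6 : (k + 1) ^ 2 = k * k + 2 * k + 1 := by ring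
  have h7 : k ≤ k * k := Nat.le_mul_self k
  rcases hm with rfl | rfl | ⟨rfl, hm⟩
  · omega
  · omega
  · have : k * k ≤ k * 1 := by omega
    have := Nat.le_of_mul_le_mul_left this (by omega)
    obtain rfl : k = 1 := by omega
    omega

theorem exists_prim (F : Type*) [Field F] [Finite F] :
    ∃ ζ : Fˣ, orderOf ζ = Nat.card F - 1 ∧ ∀ a : Fˣ, ∃ i : ℕ, ζ ^ i = a := by
  obtain ⟨ζ, h⟩ := IsCyclic.exists_monoid_generator (α := Fˣ)
  exact ⟨ζ, by rw [orderOf_eq_card_of_forall_mem_powers h, Nat.card_units], h⟩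

structure Add1 (X : F → H) : Prop where
  add : ∀ a b, X (a + b) = X a * X b

theorem Add1.zero {X : F → H} (h : Add1 X) : X 0 = 1 := by simpa using h.add 0 0
theorem Add1.neg {X : F → H} (h : Add1 X) (a : F) : X (-a) = (X a)⁻¹ := by
  rw [eq_inv_iff_mul_eq_one, ← h.add, neg_add_cancel, h.zero]
theorem Add1.comm {X : F → H} (h : Add1 X) (a b : F) : Commute (X a) (X b) := by
  rw [Commute, SemiconjBy, ← h.add, ← h.add, add_comm]
theorem Add1.pow {X : F → H} (h : Add1 X) (a : F) (n : ℕ) : X a ^ n = X (n * a) := by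
  induction n with
  | zero => simp [h.zero]
  | succ n ih => rw [pow_succ, ih, ← h.add]; congr 1; push_cast; ring

structure RS (u s : H) (ξ : F) (X : F → H) : Prop extends Add1 X where
  one : X 1 = u
  act : ∀ a, s * X a * s⁻¹ = X (ξ * a)

theorem RS.xs {u s : H} {ξ : F} {X : F → H} (h : RS u s ξ X) (i : ℕ) : xs s u i = X (ξ ^ i) := by
  induction i with
  | zero => simp [h.one]
  | succ i ih => rw [← xs_succ, ih, h.act, pow_succ']

theorem RS.act_pow {u s : H} {ξ : F} {X : F → H} (h : RS u s ξ X) (i : ℕ) (a : F) :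
    s ^ i * X a * (s ^ i)⁻¹ = X (ξ ^ i * a) := by
  induction i with
  | zero => simp
  | succ i ih => rw [pow_succ' ξ, mul_assoc ξ, ← h.act, ← ih]; group

theorem RS.conj [Finite F] {u s g : H} {ξ c : F} {X Y : F → H} (h : RS u s ξ X) (hξ : Gen ξ) (hY : Add1 Y) {s' : H}
    (hs : ∀ a, s' * Y a * s'⁻¹ = Y (ξ * a)) (hg : g * s * g⁻¹ = s') (hu : g * u * g⁻¹ = Y c) (a : F) :
    g * X a * g⁻¹ = Y (c * a) := by
  refine hξ.ind (P := fun a => g * X a * g⁻¹ = Y (c * a)) (by simp [h.zero, hY.zero]) (fun a b h1 h2 => by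
    rw [h.add, mul_add, hY.add, ← h1, ← h2, conj_mul]) (fun i => ?_) a
  induction i with
  | zero => simp [h.one, hu]
  | succ i ih => rw [pow_succ', ← h.act, mul_left_comm, ← hs, ← ih, ← hg]; group

theorem RS.map [Finite F] {u s : H} {ξ : F} {X : F → H} (h : RS u s ξ X) (hξ : Gen ξ) (π : H →* G) {x : F → G}
    (hx : RS (π u) (π s) ξ x) (a : F) : π (X a) = x a :=
  hξ.ind (P := fun a => π (X a) = x a) (by simp [h.zero, hx.zero]) (fun a b h1 h2 => by
    rw [h.add, hx.add, map_mul, h1, h2]) (fun i => by rw [← h.xs, ← hx.xs, map_xs]) a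

theorem RS.mem [Finite F] {u s : H} {ξ : F} {X : F → H} (h : RS u s ξ X) (hξ : Gen ξ) {K : Subgroup H} (hu : u ∈ K)
    (hs : s ∈ K) (a : F) : X a ∈ K :=
  hξ.ind (P := fun a => X a ∈ K) (by simp [h.zero, one_mem]) (fun a b h1 h2 => h.add a b ▸ mul_mem h1 h2)
    (fun i => h.xs i ▸ mul_mem (mul_mem (pow_mem hs _) hu) (inv_mem (pow_mem hs _))) a

theorem exists_wd' {p e : ℕ} [Fact p.Prime] [Algebra (ZMod p) F] (b : Basis (Fin e) (ZMod p) F) {g : κ → G}
    (y : ℕ → FreeGroup κ) {x : F → G} (hx : Add1 x) (h : ∀ i : Fin e, lift g (y i) = x (b i)) (c : F) :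
    ∃ w ∈ W y e, lift g w = x c ∧ ∀ (C : Cov g) (X : F → C.H), Add1 X → (∀ i : Fin e, C.φ (y i) = X (b i)) → C.φ w = X c :=
  add_ind b (P := fun c => ∃ w ∈ W y e, lift g w = x c ∧
      ∀ (C : Cov g) (X : F → C.H), Add1 X → (∀ i : Fin e, C.φ (y i) = X (b i)) → C.φ w = X c)
    ⟨1, one_mem _, by simp [hx.zero], fun C X hX _ => by simp [hX.zero]⟩
    (fun a c ⟨v, h1, h2, h3⟩ ⟨w, h4, h5, h6⟩ => ⟨v * w, mul_mem h1 h4, by simp [h2, h5, hx.add],
      fun C X hX h => by rw [map_mul, h3 C X hX h, h6 C X hX h, hX.add]⟩)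
    (fun i => ⟨y i, mem_W i.2, h i, fun _ _ _ h => h i⟩) c

/-- words for root elements -/
theorem exists_wd [Finite F] {g : κ → G} {u s : FreeGroup κ} {ξ : F} (hξ : Gen ξ) {x : F → G}
    (hx : RS (lift g u) (lift g s) ξ x) : ∃ w : F → FreeGroup κ, (∀ c, lift g (w c) = x c) ∧
      ∀ (C : Cov g) (X : F → C.H), RS (C.φ u) (C.φ s) ξ X → ∀ c, C.φ (w c) = X c := by
  obtain ⟨p, hp⟩ := CharP.exists F
  have := Fact.mk (CharP.char_is_prime F p)
  letI := ZMod.algebra F p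
  obtain ⟨e, b, h1, -⟩ := hξ.basis p
  choose w _ h2 h3 using exists_wd' b (xs s u) hx.toAdd1 fun i => by rw [map_xs, hx.xs, h1]
  exact ⟨w, h2, fun C X hX c => h3 c C X hX.toAdd1 fun i => by rw [map_xs, hX.xs, h1]⟩

theorem exists_X {p e : ℕ} [Fact p.Prime] [Algebra (ZMod p) F] (b : Basis (Fin e) (ZMod p) F) (y : Fin e → H)
    (h1 : ∀ i j, y i * y j = y j * y i) (h2 : ∀ i, y i ^ p = 1) : ∃ X : F → H, Add1 X ∧ ∀ i, X (b i) = y i := by
  letI := closureCommGroupOfComm (k := Set.range y) (by rintro _ ⟨i, rfl⟩ _ ⟨j, rfl⟩; exact h1 i j)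
  letI : Module (ZMod p) (Additive (closure (Set.range y))) := AddCommGroup.zmodModule fun a => by
    obtain ⟨a, ha⟩ := a
    change (⟨a, ha⟩ : closure (Set.range y)) ^ p = 1
    induction ha using closure_induction with
    | mem _ h => obtain ⟨i, rfl⟩ := h; exact Subtype.ext (h2 i)
    | one => exact one_pow p
    | mul a c ha hc h1 h2 => exact (mul_pow (⟨a, ha⟩ : closure (Set.range y)) ⟨c, hc⟩ p).trans (by rw [h1, h2, one_mul])
    | inv a ha h => exact (inv_pow (⟨a, ha⟩ : closure (Set.range y)) p).trans (by rw [h, inv_one])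
  let L := (b.constr (ZMod p) fun i =>
    Additive.ofMul (⟨y i, subset_closure ⟨i, rfl⟩⟩ : closure (Set.range y))).toAddHom
  exact ⟨fun a => (L.toFun a).toMul.1, ⟨fun a c => by rw [L.map_add']; rfl⟩, fun i =>
    congrArg (fun z : Additive (closure (Set.range y)) => (Additive.toMul z).1) (b.constr_basis (ZMod p) _ i)⟩

theorem exists_RS {p e : ℕ} [Fact p.Prime] [Algebra (ZMod p) F] (b : Basis (Fin e) (ZMod p) F) {ξ : F}
    (hb : ∀ i, b i = ξ ^ (i : ℕ)) (he : 0 < e) {u s : H} (h1 : ∀ i < e, ∀ j < e, Commute (xs s u i) (xs s u j))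
    (h2 : u ^ p = 1) (h3 : ∀ X : F → H, Add1 X → (∀ i : Fin e, xs s u i = X (b i)) → xs s u e = X (ξ ^ e)) :
    ∃ X, RS u s ξ X := by
  obtain ⟨X, hX, h4⟩ := exists_X b (fun i => xs s u i) (fun i j => h1 i i.2 j j.2) fun i => by
    rw [xs, conj_pow, h2]; simp
  have h5 := h3 X hX fun i => (h4 i).symm
  refine ⟨X, hX, by simpa [hb] using h4 ⟨0, he⟩, add_ind b (by simp [hX.zero]) (fun a c h1 h2 => by
    rw [hX.add, mul_add, hX.add, ← h1, ← h2, conj_mul]) fun i => ?_⟩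
  rw [h4, xs_succ, hb, ← pow_succ']
  rcases (Nat.succ_le_of_lt i.2).eq_or_lt with h | h
  · rw [show (i : ℕ) + 1 = e from h, h5]
  · simpa [hb] using (h4 ⟨i + 1, h⟩).symm

theorem baum {u s t : H} (h1 : t * u * t⁻¹ = u * xs s u 1) (h2 : Commute u (xs s u 1)) (h3 : Commute s t) :
    (∀ i j, Commute (xs s u i) (xs s u j)) ∧ ∀ e, ∀ a ∈ W (xs s u) e, Commute a t → a = 1 := by
  have sh : ∀ i j k, Commute (xs s u i) (xs s u j) → Commute (xs s u (k + i)) (xs s u (k + j)) := fun i j k h => by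
    rw [← xs_add, ← xs_add]; exact h.conj _
  have ht : ∀ i, t * xs s u i * t⁻¹ = xs s u i * xs s u (i + 1) := fun i => by
    rw [← xs_add s u i 1, xs, conj_mul, ← h1]
    calc _ = t * s ^ i * u * (t * s ^ i)⁻¹ := by group
      _ = _ := by rw [← (h3.pow_left i).eq]; group
  have h4 : ∀ i, ∀ j ≤ i + 1, Commute (xs s u 0) (xs s u j) := fun i => by
    induction i with
    | zero => intro j hj; interval_cases j; exacts [.refl _, by simpa using h2]
    | succ i ih =>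
      intro j hj
      rcases hj.eq_or_lt with rfl | hj
      · have := (ih (i + 1) le_rfl).conj t
        rw [ht, ht] at this
        have a1 := sh _ _ 1 (ih i (by omega))
        have a2 := sh _ _ 1 (ih (i + 1) le_rfl)
        rw [add_comm 1 i] at a1; rw [add_comm 1 (i + 1)] at a2
        have := (ih (i + 1) le_rfl).inv_right.mul_right (by simpa using this.mul_left (a1.mul_right a2).inv_left)
        simpa using this
      · exact ih j (by omega)
  have h5 : ∀ i j, Commute (xs s u i) (xs s u j) := fun i j => by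
    rcases le_total i j with h | h <;> obtain ⟨k, rfl⟩ := Nat.exists_eq_add_of_le h
    · simpa using sh _ _ i (h4 k k (by omega))
    · simpa using (sh _ _ j (h4 k k (by omega))).symm
  refine ⟨h5, fun e a ha hc => ?_⟩
  have h6 : ∀ a ∈ W (xs s u) e, ∀ i, Commute a (xs s u i) := fun a ha i =>
    mem_centralizer_singleton_iff.1 (W_le (K := centralizer {xs s u i}) (fun j _ =>
      mem_centralizer_singleton_iff.2 (h5 j i)) ha)
  have h7 : ∀ a ∈ W (xs s u) e, ∀ c ∈ W (xs s u) e, Commute a (s * c * s⁻¹) := fun a ha c hc =>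
    mem_centralizer_singleton_iff.1 (W_le (K := (centralizer {a}).comap (MulAut.conj s).toMonoidHom) (fun j _ =>
      mem_centralizer_singleton_iff.2 (by simpa [xs_succ] using (h6 a ha (j + 1)).symm.eq)) hc) |>.symm
  have h8 : t * a * t⁻¹ = a * (s * a * s⁻¹) := by
    clear hc
    induction ha using closure_induction with
    | mem _ h => obtain ⟨i, -, rfl⟩ := h; rw [ht, xs_succ]
    | one => simp
    | mul a c ha hc h1 h2 =>
      rw [← conj_mul, h1, h2, ← conj_mul (b := s), mul_assoc a, ← mul_assoc _ c, ← (h7 c hc a ha).eq]; group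
    | inv a ha h => rw [← conj_inv, h, mul_inv_rev, ← (h7 a ha a ha).inv_inv.eq, conj_inv]
  rw [← hc.eq, mul_inv_cancel_right] at h8
  simpa [mul_inv_eq_one] using h8

variable [Finite F] {g : κ → G} {u s t : FreeGroup κ} {ξ : F} {x : F → G}

theorem borel_aux (p : ℕ) [CharP F p] (hξ : Gen ξ) (hx : RS (lift g u) (lift g s) ξ x) : ∃ (e : ℕ) (w : FreeGroup κ),
    0 < e ∧ Nat.card F = p ^ e ∧ w ∈ W (xs s u) (e + 1) ∧ lift g w = 1 ∧ lift g (u ^ p) = 1 ∧ ∀ C : Cov g,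
      (∀ i < e, ∀ j < e, Commute (xs (C.φ s) (C.φ u) i) (xs (C.φ s) (C.φ u) j)) → C.φ u ^ p = 1 → C.φ w = 1 →
        ∃ X, RS (C.φ u) (C.φ s) ξ X := by
  have := Fact.mk (CharP.char_is_prime F p)
  letI := ZMod.algebra F p
  obtain ⟨e, b, h1, h2, h3⟩ := hξ.basis p
  obtain ⟨w, h4, h5, h6⟩ := exists_wd' b (xs s u) hx.toAdd1 (fun i => by rw [map_xs, hx.xs, h1]) (ξ ^ e)
  refine ⟨e, w⁻¹ * xs s u e, h2, h3, mul_mem (inv_mem (W_mono (by omega) h4)) (mem_W (by omega)), by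
    simp [h5, map_xs, hx.xs], by rw [map_pow, ← hx.one, hx.pow]; simp [hx.zero], fun C c1 c2 c3 =>
      exists_RS b h1 h2 c1 c2 fun X hX h => ?_⟩
  rw [map_mul, map_inv, inv_mul_eq_one, map_xs] at c3
  rw [← c3, h6 C X hX fun i => by rw [map_xs, h]]

theorem borel_le_two (p : ℕ) [CharP F p] (hξ : Gen ξ) (hx : RS (lift g u) (lift g s) ξ x) {k : ℕ} (hk : k ≤ 1)
    (h : Nat.card F ≤ p ^ (k + 1)) : Enf g (2 + k) fun C => ∃ X, RS (C.φ u) (C.φ s) ξ X := by
  obtain ⟨e, w, h1, h2, -, h4, h5, h6⟩ := borel_aux p hξ hx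
  have he : e ≤ k + 1 := (Nat.pow_le_pow_iff_right (CharP.char_is_prime F p).one_lt).1 (h2 ▸ h)
  have A := (Enf.rel (u ^ p) 1 (by simpa using h5)).and (Enf.rel w 1 (by simpa using h4))
  obtain rfl | rfl : k = 0 ∨ k = 1 := by omega
  · exact A.mono le_rfl fun C ⟨c1, c2⟩ => h6 C (fun i _ j _ => by
      rw [show i = j by omega]) (by simpa using c1) (by simpa using c2)
  · refine (A.and (Enf.rel (u * xs s u 1) (xs s u 1 * u) (by
      simp only [map_mul, map_xs, hx.xs]; rw [← hx.one]; exact hx.comm _ _))).mono le_rfl fun C ⟨⟨c1, c2⟩, c3⟩ =>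
      h6 C (fun i hi j hj => ?_) (by simpa using c1) (by simpa using c2)
    simp only [map_mul, map_xs] at c3
    obtain rfl | rfl : i = 0 ∨ i = 1 := by omega
    all_goals obtain rfl | rfl : j = 0 ∨ j = 1 := by omega
    exacts [.refl _, by rw [xs_zero]; exact c3, by rw [xs_zero]; exact c3.symm, .refl _]

theorem borel_rel (hx : RS (lift g u) (lift g s) ξ x) (ht : lift g t * x 1 * (lift g t)⁻¹ = x (1 + ξ)) :
    Enf g 1 fun C => C.φ t * C.φ u * (C.φ t)⁻¹ = C.φ u * xs (C.φ s) (C.φ u) 1 :=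
  (Enf.rel (t * u * t⁻¹) (u * xs s u 1) (by
    simp only [map_mul, map_inv, map_xs, hx.xs]; rw [← hx.one, ht, hx.add, pow_one])).mono le_rfl fun C h => by
      simpa [map_xs] using h

theorem borel (hξ : Gen ξ) (hx : RS (lift g u) (lift g s) ξ x)
    (ht : (Nat.card F).Prime ∨ lift g t * x 1 * (lift g t)⁻¹ = x (1 + ξ)) (d d' : FreeGroup κ) (hd : lift g d = 1)
    (hd' : lift g d' = 1) : Enf g 4 fun C => Commute (C.φ s) (C.φ t) → Commute (C.φ d) (C.φ t) →
      Commute (C.φ d') (C.φ t) → (∃ X, RS (C.φ u) (C.φ s) ξ X) ∧ C.φ d = 1 ∧ C.φ d' = 1 := by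
  obtain ⟨p, hp⟩ := CharP.exists F
  rcases ht with ht | ht
  · have := Fintype.ofFinite F
    obtain ⟨n, h1, h2⟩ := FiniteField.card F p
    refine (((borel_le_two p hξ hx (k := 0) zero_le_one ?_).and (Enf.rel d 1 (by simpa))).and
      (Enf.rel d' 1 (by simpa))).mono le_rfl fun C ⟨⟨c1, c2⟩, c3⟩ _ _ _ => ⟨c1, by simpa using c2, by simpa using c3⟩
    rw [Nat.card_eq_fintype_card, h2] at ht ⊢
    rw [ht.eq_one_of_pow]
  obtain ⟨e, w, h1, h2, h3, h4, h5, h6⟩ := borel_aux p hξ hx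
  refine ((((borel_rel hx ht).and (Enf.rel (u * xs s u 1) (xs s u 1 * u) (by
    simp only [map_mul, map_xs, hx.xs]; rw [← hx.one]; exact hx.comm _ _))).and
    (Enf.rel (u ^ p) d (h5.trans hd.symm))).and (Enf.rel w d' (h4.trans hd'.symm))).mono le_rfl
    fun C ⟨⟨⟨c1, c2⟩, c3⟩, c4⟩ a1 a2 a3 => ?_
  simp only [map_mul, map_xs] at c2
  obtain ⟨b1, b2⟩ := baum c1 c2 a1
  have e1 := b2 1 _ (by simpa using pow_mem (mem_W (x := xs (C.φ s) (C.φ u)) one_pos) p) (c3 ▸ a2)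
  have e2 := b2 _ _ (map_W C.φ (fun i _ => map_xs _ _ _ i) ▸ mem_map_of_mem _ h3) (c4 ▸ a3)
  exact ⟨h6 C (fun i _ j _ => b1 i j) (by simpa using e1) e2, c3 ▸ e1, c4 ▸ e2⟩

theorem borel_two [CharP F 2] (hξ : Gen ξ) (hx : RS (lift g u) (lift g s) ξ x)
    (ht : Nat.card F ≤ 2 ∨ lift g t * x 1 * (lift g t)⁻¹ = x (1 + ξ)) (d : FreeGroup κ) (hd : lift g d = 1) :
    Enf g 3 fun C => Commute (C.φ s) (C.φ t) → Commute (C.φ d) (C.φ t) →
      (∃ X, RS (C.φ u) (C.φ s) ξ X) ∧ C.φ d = 1 := by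
  rcases ht with ht | ht
  · exact ((borel_le_two 2 hξ hx (k := 0) zero_le_one ht).and (Enf.rel d 1 (by simpa))).mono le_rfl
      fun C ⟨c1, c2⟩ _ _ => ⟨c1, by simpa using c2⟩
  obtain ⟨e, w, h1, h2, h3, h4, h5, h6⟩ := borel_aux 2 hξ hx
  refine (((borel_rel hx ht).and (Enf.rel (u ^ 2) 1 (by simpa using h5))).and (Enf.rel w d (h4.trans hd.symm))).mono
    le_rfl fun C ⟨⟨c1, c2⟩, c4⟩ a1 a3 => ?_
  rw [map_pow, map_one] at c2
  have c3 : (C.φ u * xs (C.φ s) (C.φ u) 1) ^ 2 = 1 := by rw [← c1, conj_pow, c2]; simp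
  have c5 : xs (C.φ s) (C.φ u) 1 ^ 2 = 1 := by rw [xs, conj_pow, c2]; simp
  obtain ⟨b1, b2⟩ := baum c1 (by
    rw [sq, mul_eq_one_iff_eq_inv] at c2 c3 c5
    rw [Commute, SemiconjBy, c3, mul_inv_rev, ← c2, ← c5]) a1
  have e2 := b2 _ _ (map_W C.φ (fun i _ => map_xs _ _ _ i) ▸ mem_map_of_mem _ h3) (c4 ▸ a3)
  exact ⟨h6 C (fun i _ j _ => b1 i j) c2 e2, c4 ▸ e2⟩
end H11
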