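import Cfsg.Agent.H11.JD2
/-! Counting Jordan data by type: partitions `Pt`, weighted sums `Zp` and their generating functions
(`Zp_le`), levels `lev` of Jordan data (`sum_type_le`, `sum_gi_le`), growth bounds `Bd` for power
series. -/
namespace H11
open Finset PowerSeries

theorem sum_le_of_injOn {α β : Type*} {T : Finset α} {U : Finset β} (φ : α → β) {F : α → ℝ}
    {G : β → ℝ} (h : Set.InjOn φ T) (hm : ∀ x ∈ T, φ x ∈ U) (hF : ∀ x ∈ T, F x ≤ G (φ x))
    (hG : ∀ y ∈ U, 0 ≤ G y) : ∑ x ∈ T, F x ≤ ∑ y ∈ U, G y := by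
  classical
  refine (sum_le_sum hF).trans ?_
  rw [← sum_image h]
  exact sum_le_sum_of_subset_of_nonneg (image_subset_iff.2 hm) fun y hy _ => hG y hy

section Part

/-- partitions of `n` as multisets -/
noncomputable def Pt (n : ℕ) : Finset (Multiset ℕ) := (univ : Finset n.Partition).image (·.parts)

theorem mem_Pt {n : ℕ} {μ : Multiset ℕ} : μ ∈ Pt n ↔ (∀ i ∈ μ, 0 < i) ∧ μ.sum = n := by
  simp only [Pt, mem_image, mem_univ, true_and]
  exact ⟨fun ⟨p, h⟩ => h ▸ ⟨fun _ => p.parts_pos, p.parts_sum⟩,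
    fun ⟨h, h'⟩ => ⟨⟨μ, fun {i} => h i, h'⟩, rfl⟩⟩

/-- weight of a partition -/
def wt (f : ℕ → ℕ → ℝ) (μ : Multiset ℕ) : ℝ := ∏ i ∈ μ.toFinset, f i (μ.count i)

/-- weighted number of partitions -/
noncomputable def Zp (f : ℕ → ℕ → ℝ) (n : ℕ) : ℝ := ∑ μ ∈ Pt n, wt f μ

/-- `∑ a m X ^ ((i + 1) m)` -/
noncomputable def exs (i : ℕ) (a : ℕ → ℝ) : ℝ⟦X⟧ := expand (i + 1) i.succ_ne_zero (mk a)

theorem coeff_exs (i n : ℕ) (a : ℕ → ℝ) :
    coeff n (exs i a) = if i + 1 ∣ n then a (n / (i + 1)) else 0 := by simp [exs, coeff_expand]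

variable {f : ℕ → ℕ → ℝ} (hf : ∀ i m, 0 ≤ f i m)
include hf

theorem wt_nonneg (μ : Multiset ℕ) : 0 ≤ wt f μ := prod_nonneg fun _ _ => hf _ _

theorem Zp_le (h0 : ∀ i, f i 0 = 1) {n N : ℕ} (h : n ≤ N) :
    Zp f n ≤ coeff n (∏ i ∈ range N, exs i (f (i + 1))) := by
  have h1 : ∀ μ ∈ Pt n, μ.toFinset ⊆ range (N + 1) := fun μ hμ i hi => by
    have := Multiset.single_le_sum (by simp) i (Multiset.mem_toFinset.1 hi)
    rw [(mem_Pt.1 hμ).2] at this
    exact mem_range.2 (by omega)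
  have h2 : ∀ μ ∈ Pt n, μ.count 0 = 0 := fun μ hμ =>
    Multiset.count_eq_zero.2 fun h => ((mem_Pt.1 hμ).1 0 h).false
  rw [coeff_prod]
  refine sum_le_of_injOn (fun μ => Finsupp.indicator (range N) fun i _ => (i + 1) * μ.count (i + 1))
    (fun μ hμ ν hν e => Multiset.ext' fun i => ?_) (fun μ hμ => ?_) (fun μ hμ => le_of_eq ?_)
    fun _ _ => prod_nonneg fun _ _ => by rw [coeff_exs]; split_ifs <;> simp [hf]
  · obtain _ | i := i
    · rw [h2 μ hμ, h2 ν hν]
    by_cases hi : i < N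
    · simpa [Finsupp.indicator_apply, hi] using congr($e i)
    · rw [Multiset.count_eq_zero.2 fun h => hi (by simpa using h1 μ hμ (Multiset.mem_toFinset.2 h)),
        Multiset.count_eq_zero.2 fun h => hi (by simpa using h1 ν hν (Multiset.mem_toFinset.2 h))]
  · refine mem_finsuppAntidiag.2 ⟨?_, Finsupp.support_indicator_subset _ _⟩
    rw [← (mem_Pt.1 hμ).2, sum_multiset_count_of_subset _ _ (h1 μ hμ), sum_range_succ']
    simp +contextual [sum_congr rfl fun i hi => Finsupp.indicator_of_mem hi _, mul_comm]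
  · rw [wt, prod_subset (h1 μ hμ) fun i _ hi => by
      rw [Multiset.count_eq_zero.2 (by simpa using hi), h0], prod_range_succ', h2 μ hμ, h0, mul_one]
    exact prod_congr rfl fun i hi => by simp [Finsupp.indicator_of_mem hi, coeff_exs]

theorem sum_dvd_le {a : ℕ → ℝ} (ha : ∀ i, f i = a) {n d : ℕ} (hd : 0 < d) {T : Finset (Multiset ℕ)}
    (hT : ∀ μ ∈ T, μ ∈ Pt n ∧ ∀ i ∈ μ, d ∣ i) : ∑ μ ∈ T, wt f μ ≤ Zp f (n / d) := by
  have h1 : ∀ μ ∈ T, (μ.map (· / d)).map (d * ·) = μ := fun μ hμ => by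
    rw [Multiset.map_map]
    exact (Multiset.map_congr rfl fun i hi => Nat.mul_div_cancel' ((hT μ hμ).2 i hi)).trans μ.map_id
  have h2 : Function.Injective (d * · : ℕ → ℕ) := mul_right_injective₀ hd.ne'
  refine sum_le_of_injOn (·.map (· / d)) (fun μ hμ ν hν e =>
    (h1 μ hμ).symm.trans ((congrArg _ e).trans (h1 ν hν)))
    (fun μ hμ => mem_Pt.2 ⟨Multiset.forall_mem_map_iff.2 fun i hi => Nat.div_pos (Nat.le_of_dvd
      ((mem_Pt.1 (hT μ hμ).1).1 i hi) ((hT μ hμ).2 i hi)) hd, ?_⟩) (fun μ hμ => le_of_eq ?_)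
    fun _ _ => wt_nonneg hf _
  · rw [← (mem_Pt.1 (hT μ hμ).1).2, ← h1 μ hμ, Multiset.sum_map_mul_left, h1 μ hμ,
      Nat.mul_div_cancel_left _ hd, Multiset.map_id']
  · conv_lhs => rw [← h1 μ hμ, wt, Multiset.toFinset_map, prod_image h2.injOn]
    simp only [Multiset.count_map_eq_count' _ _ h2, ha, wt]

end Part

section Lev
variable {K : Type*} {J : Multiset (K × ℕ)} {i : ℕ}

/-- eigenvalues of the blocks of size `i` -/
def lev (i : ℕ) (J : Multiset (K × ℕ)) : Multiset K := (J.filter (·.2 = i)).map Prod.fst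

theorem mem_lev {a : K} : a ∈ lev i J ↔ (a, i) ∈ J := by simp [lev]

theorem card_lev : (lev i J).card = (J.map Prod.snd).count i := by
  simp [lev, Multiset.count_map, eq_comm]

theorem lev_map (φ : K → K) : lev i (J.map (Prod.map φ id)) = (lev i J).map φ := by
  simp [lev, Multiset.filter_map]

@[simp] theorem lev_add {J' : Multiset (K × ℕ)} : lev i (J + J') = lev i J + lev i J' := by
  simp [lev]

theorem eq_sum_lev {s : Finset ℕ} (h : ∀ x ∈ J, x.2 ∈ s) : J = ∑ i ∈ s, (lev i J).map (·, i) := by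
  induction J using Multiset.induction with
  | empty => simp [lev]
  | cons x J ih =>
    rw [← Multiset.singleton_add]
    simp only [lev_add, Multiset.map_add, sum_add_distrib]
    rw [← ih fun y hy => h y (by simp [hy]), sum_eq_single_of_mem x.2 (h x (by simp))
      fun j _ hj => by simp [lev, Multiset.filter_singleton, hj.symm]]
    simp [lev, Multiset.filter_singleton]

theorem pr_eq_lev {K : Type*} [Field K] {J : Multiset (K × ℕ)} {s : Finset ℕ}
    (h : ∀ x ∈ J, x.2 ∈ s) : pr J = ∏ i ∈ s, (lev i J).prod ^ i := by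
  conv_lhs => rw [eq_sum_lev h]
  clear h
  induction s using Finset.cons_induction with
  | empty => simp
  | cons i s hi ih => rw [sum_cons, prod_cons, pr_add, ih]; simp [pr, Multiset.prod_map_pow]

theorem sum_lev_le (T : Finset (Multiset (K × ℕ))) {s : Finset ℕ} {ω : ℕ → Multiset K → ℝ}
    (hω : ∀ i M, 0 ≤ ω i M) (h : ∀ J ∈ T, ∀ x ∈ J, x.2 ∈ s) {E : ℕ → Multiset K → Prop}
    (hE : ∀ J ∈ T, ∀ i ∈ s, E i (lev i J)) {N : ℕ → ℝ}
    (hN : ∀ i ∈ s, ∀ S : Finset (Multiset K), (∀ M ∈ S, E i M) → ∑ M ∈ S, ω i M ≤ N i) :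
    ∑ J ∈ T, ∏ i ∈ s, ω i (lev i J) ≤ ∏ i ∈ s, N i := by
  classical
  refine le_trans ?_ (prod_le_prod (fun i _ => sum_nonneg fun _ _ => hω _ _) fun i hi =>
    hN i hi (T.image (lev i)) (forall_mem_image.2 fun J hJ => hE J hJ i hi))
  rw [prod_sum]
  exact sum_le_of_injOn (fun J i _ => lev i J) (fun J hJ J' hJ' e => by
      rw [eq_sum_lev (h J hJ), eq_sum_lev (h J' hJ')]
      exact sum_congr rfl fun i hi => congrArg _ congr($e i hi))
    (fun J hJ => mem_pi.2 fun i _ => mem_image_of_mem _ hJ)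
    (fun J _ => (prod_attach s fun i => ω i (lev i J)).ge) fun _ _ => prod_nonneg fun _ _ => hω _ _

theorem sum_type_le (T : Finset (Multiset (K × ℕ))) {n : ℕ} {ω : ℕ → Multiset K → ℝ}
    (hω : ∀ i M, 0 ≤ ω i M) (h : ∀ J ∈ T, J.map Prod.snd ∈ Pt n) {E : ℕ → Multiset K → Prop}
    (hE : ∀ J ∈ T, ∀ i, E i (lev i J)) {f : ℕ → ℕ → ℝ} (hf : ∀ i m, ∀ S : Finset (Multiset K),
      (∀ M ∈ S, E i M ∧ M.card = m + 1) → ∑ M ∈ S, ω i M ≤ f i (m + 1)) :
    ∑ J ∈ T, ∏ i ∈ (J.map Prod.snd).toFinset, ω i (lev i J) ≤ Zp f n := by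
  classical
  rw [← sum_fiberwise_of_maps_to h]
  refine sum_le_sum fun μ _ => ?_
  rw [sum_congr rfl fun J hJ => by rw [(mem_filter.1 hJ).2]]
  refine sum_lev_le (E := fun i M => E i M ∧ M.card = μ.count i) _ hω (fun J hJ x hx => ?_)
    (fun J hJ i _ => ⟨hE J (mem_filter.1 hJ).1 i, by rw [card_lev, (mem_filter.1 hJ).2]⟩) fun i hi => ?_
  · rw [← (mem_filter.1 hJ).2]
    exact Multiset.mem_toFinset.2 (Multiset.mem_map_of_mem _ hx)
  · obtain ⟨m, hm⟩ := Nat.exists_eq_add_one_of_ne_zero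
      (Multiset.count_ne_zero.2 (Multiset.mem_toFinset.1 hi))
    exact hm ▸ hf i m

end Lev

section Gi
variable (A : Type*) [CommGroup A]

/-- the subgroup generated by the `i`-th powers, `i ∈ s` -/
def pw (s : Finset ℕ) : Subgroup A := ⨆ i ∈ s, (powMonoidHom i : A →* A).range

variable {A} {s : Finset ℕ}

theorem pw_le {H : Subgroup A} (h : ∀ i ∈ s, ∀ a, a ^ i ∈ H) : pw A s ≤ H :=
  iSup₂_le fun i hi => by rintro _ ⟨a, rfl⟩; exact h i hi a

theorem pw_index_dvd [Finite A] [IsCyclic A] {i : ℕ} (h : i ∈ s) : (pw A s).index ∣ i :=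
  (Subgroup.index_dvd_of_le (le_iSup₂_of_le i h le_rfl)).trans
    (IsCyclic.index_powMonoidHom_range A i ▸ Nat.gcd_dvd_right _ _)

theorem card_fiber_pw [Fintype A] [DecidableEq A] (s : Finset ℕ) (a : A) :
    Nat.card A * #{b : s → A | ∏ i, b i ^ i.1 = a} ≤ (pw A s).index * Nat.card A ^ #s := by
  let φ : (s → A) →* A := ∏ i : s, (powMonoidHom i.1).comp (Pi.evalMonoidHom _ i)
  have h1 : ∀ b, φ b = ∏ i, b i ^ i.1 := fun b => by simp [φ]
  have h2 : pw A s ≤ φ.range := pw_le fun i hi a => ⟨Pi.mulSingle ⟨i, hi⟩ a, by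
    rw [h1, prod_eq_single ⟨i, hi⟩ (fun j _ hj => by simp [hj]) (by simp)]; simp⟩
  have h3 : #{b : s → A | ∏ i, b i ^ i.1 = a} ≤ Nat.card φ.ker := by
    rcases Finset.eq_empty_or_nonempty {b : s → A | ∏ i, b i ^ i.1 = a} with h | ⟨b, h⟩
    · rw [h]; exact Nat.zero_le _
    · rw [← Nat.card_eq_finsetCard]
      exact Nat.card_le_card_of_injective (fun c => ⟨c.1 / b, by
        rw [MonoidHom.mem_ker, map_div, h1, h1, (mem_filter.1 c.2).2, (mem_filter.1 h).2, div_self']⟩)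
        fun c d e => Subtype.ext (by simpa using e)
  have h4 := Subgroup.card_mul_index φ.ker
  rw [Subgroup.index_ker, Nat.card_fun, Nat.card_eq_finsetCard] at h4
  rw [← h4, ← Subgroup.card_mul_index (pw A s)]
  have := Subgroup.card_le_of_le h2
  calc _ ≤ Nat.card φ.range * (pw A s).index * Nat.card φ.ker := by gcongr
    _ = _ := by ring

/-- `w q ^ (m - 1)`: the number of levels of size `m` -/
def lw (w q : ℝ) (_ m : ℕ) : ℝ := if m = 0 then 1 else w * q ^ (m - 1)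

theorem lw_nonneg {w q : ℝ} (hw : 0 ≤ w) (hq : 0 ≤ q) (i m : ℕ) : 0 ≤ lw w q i m := by
  unfold lw; split_ifs <;> positivity

theorem wt_lw (w q : ℝ) (μ : Multiset ℕ) :
    wt (lw w q) μ = w ^ #μ.toFinset * ∏ i ∈ μ.toFinset, q ^ (μ.count i - 1) := by
  rw [← prod_const, ← prod_mul_distrib]
  exact prod_congr rfl fun i hi => if_neg (Multiset.count_ne_zero.2 (Multiset.mem_toFinset.1 hi))

theorem sum_gi_le [Finite A] {K : Type*} [Field K] {ι : A →* K} (hι : Function.Injective ι)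
    (T : Finset (Multiset (K × ℕ))) {e m q : ℕ} (he : 0 < e) {E : Multiset K → Prop} {a : A}
    (hT : ∀ J ∈ T, (∀ x ∈ J, 0 < x.2) ∧ dm J = e * m ∧ pr J = ι a ∧ ∀ i, E (lev i J))
    (h1 : ∀ M, E M → e ∣ M.card ∧ ∃ b, ι b = M.prod) (h2 : ∀ d b (S : Finset (Multiset K)),
      (∀ M ∈ S, E M ∧ M.card = e * (d + 1) ∧ M.prod = ι b) → #S ≤ q ^ d) :
    (Nat.card A : ℝ) * ∑ J ∈ T, ((pw A (J.map Prod.snd).toFinset).index : ℝ) ≤
      ∑ μ ∈ Pt m, ((pw A μ.toFinset).index : ℝ) ^ 2 * wt (lw (Nat.card A) q) μ := by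
  classical
  have := Fintype.ofFinite A
  have h3 : ∀ J ∈ T, ∃ μ, J.map Prod.snd = e • μ := fun J hJ =>
    Multiset.exists_smul_of_dvd_count _ fun i _ => card_lev ▸ (h1 _ ((hT J hJ).2.2.2 i)).1
  choose! τ hτ using h3
  choose! β hβ using fun M hM => (h1 M hM).2
  have h4 : ∀ J ∈ T, ∀ i, i ∈ τ J ↔ i ∈ J.map Prod.snd := fun J hJ i => by simp [hτ J hJ, he.ne']
  rw [← sum_fiberwise_of_maps_to (g := τ) (t := Pt m) fun J hJ => mem_Pt.2 ⟨fun i hi => by
      obtain ⟨x, hx, rfl⟩ := Multiset.mem_map.1 ((h4 J hJ i).1 hi); exact (hT J hJ).1 x hx,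
    Nat.eq_of_mul_eq_mul_left he (by rw [← (hT J hJ).2.1, dm, hτ J hJ, Multiset.sum_nsmul]; rfl)⟩,
    mul_sum]
  refine sum_le_sum fun μ _ => ?_
  set U := T.filter (τ · = μ)
  have h5 : ∀ J ∈ U, J ∈ T ∧ J.map Prod.snd = e • μ ∧ ∀ x ∈ J, x.2 ∈ μ.toFinset := fun J hJ => by
    obtain ⟨h, rfl⟩ := mem_filter.1 hJ
    exact ⟨h, hτ J h, fun x hx => by simpa [h4 J h] using ⟨_, hx⟩⟩
  have h6 : (#U : ℝ) ≤ #{b : μ.toFinset → A | ∏ i, b i ^ i.1 = a} *
      ∏ i ∈ μ.toFinset, (q : ℝ) ^ (μ.count i - 1) := by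
    rw [card_eq_sum_card_fiberwise (f := fun J i => β (lev i.1 J)) (t := {b : μ.toFinset → A |
      ∏ i, b i ^ i.1 = a}) fun J hJ => mem_filter.2 ⟨mem_univ _, hι (by
        obtain ⟨h, -, h'⟩ := h5 J hJ
        rw [← (hT J h).2.2.1, pr_eq_lev h', map_prod, ← prod_coe_sort μ.toFinset]
        exact prod_congr rfl fun i _ => by rw [map_pow, hβ _ ((hT J h).2.2.2 i)])⟩,
      Nat.cast_sum, ← nsmul_eq_mul]
    refine sum_le_card_nsmul _ _ _ fun b _ => ?_
    have := sum_lev_le {J ∈ U | (fun i => β (lev i.1 J)) = b} (ω := fun _ _ => 1) (by simp)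
      (fun J hJ => (h5 J (mem_filter.1 hJ).1).2.2) (E := fun i M => E M ∧ M.card = e * μ.count i ∧
        ∀ hi, M.prod = ι (b ⟨i, hi⟩)) (fun J hJ i _ => by
          obtain ⟨h, h'⟩ := mem_filter.1 hJ
          obtain ⟨h, h'', -⟩ := h5 J h
          exact ⟨(hT J h).2.2.2 i, by rw [card_lev, h'', Multiset.count_nsmul],
            fun hi => by rw [← h', hβ _ ((hT J h).2.2.2 i)]⟩)
      (N := fun i => (q : ℝ) ^ (μ.count i - 1)) fun i hi S hS => by
        obtain ⟨d, hd⟩ := Nat.exists_eq_add_one_of_ne_zero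
          (Multiset.count_ne_zero.2 (Multiset.mem_toFinset.1 hi))
        simpa [hd] using Nat.cast_le (α := ℝ).2 (h2 d _ S fun M hM =>
          ⟨(hS M hM).1, hd ▸ (hS M hM).2.1, (hS M hM).2.2 hi⟩)
    simpa using this
  rw [sum_congr rfl fun J hJ => by rw [(h5 J hJ).2.1, Multiset.toFinset_nsmul _ _ he.ne'], sum_const,
    nsmul_eq_mul, wt_lw]
  have h7 := Nat.cast_le (α := ℝ).2 (card_fiber_pw μ.toFinset a)
  push_cast at h7
  have h8 := (mul_le_mul_of_nonneg_left h6 (Nat.cast_nonneg _)).trans ((mul_assoc _ _ _).symm.trans_le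
    (mul_le_mul_of_nonneg_right h7 (by positivity)))
  linarith [mul_le_mul_of_nonneg_right h8 (Nat.cast_nonneg (pw A μ.toFinset).index)]

theorem sum_gi_sq_le [Finite A] [IsCyclic A] {f : ℕ → ℕ → ℝ} (hf : ∀ i m, 0 ≤ f i m) {a : ℕ → ℝ}
    (ha : ∀ i, f i = a) {m : ℕ} (hm : 0 < m) :
    ∑ μ ∈ Pt m, ((pw A μ.toFinset).index : ℝ) ^ 2 * wt f μ ≤ Zp f m +
      ∑ d ∈ (m.gcd (Nat.card A)).divisors.erase 1, ((d : ℝ) ^ 2 - 1) * Zp f (m / d) := by
  have h1 : ∀ μ ∈ Pt m, (pw A μ.toFinset).index ∈ (m.gcd (Nat.card A)).divisors := fun μ hμ =>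
    Nat.mem_divisors.2 ⟨Nat.dvd_gcd ((mem_Pt.1 hμ).2 ▸ Multiset.dvd_sum fun i hi =>
      pw_index_dvd (Multiset.mem_toFinset.2 hi)) (Subgroup.index_dvd_card _), by positivity⟩
  rw [Zp, ← sub_le_iff_le_add', ← sum_sub_distrib, ← sum_fiberwise_of_maps_to h1,
    ← add_sum_erase _ _ (Nat.one_mem_divisors.2 (by positivity)), sum_eq_zero fun μ hμ => by
      simp [(mem_filter.1 hμ).2], zero_add]
  refine sum_le_sum fun d hd => ?_
  have h2 := Nat.pos_of_mem_divisors (mem_of_mem_erase hd)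
  rw [sum_congr rfl fun μ hμ => by rw [(mem_filter.1 hμ).2, ← sub_one_mul], ← mul_sum]
  exact mul_le_mul_of_nonneg_left (sum_dvd_le hf ha h2 fun μ hμ => ⟨(mem_filter.1 hμ).1, fun i hi =>
    (mem_filter.1 hμ).2 ▸ pw_index_dvd (Multiset.mem_toFinset.2 hi)⟩)
    (sub_nonneg.2 (one_le_pow₀ (by exact_mod_cast h2)))

end Gi

section Bd
variable {r B c : ℝ} {f g : ℝ⟦X⟧}

/-- coefficients are bounded by `B r ^ n` -/
def Bd (r : ℝ) (f : ℝ⟦X⟧) (B : ℝ) : Prop := ∀ n, coeff n f ≤ B * r ^ n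

theorem Bd.mono (h : Bd r f B) (hr : 0 < r) {B' : ℝ} (h' : B ≤ B') : Bd r f B' := fun n =>
  (h n).trans (by gcongr)

theorem Bd.mul_one_add (h : Bd r f B) (hr : 0 < r) (hB : 0 ≤ B) (hc : 0 ≤ c) {i : ℕ} {y : ℝ}
    (hy : c ≤ y * r ^ i) : Bd r (f * (1 + C c * X ^ i)) (B * (1 + y)) := fun n => by
  have h0 : 0 ≤ y := (mul_nonneg_iff_of_pos_right (by positivity)).1 (hc.trans hy)
  rw [mul_add, mul_one, mul_left_comm, map_add, coeff_C_mul, coeff_mul_X_pow', mul_add, add_mul, mul_one]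
  refine add_le_add (h n) ?_
  split_ifs with hn
  · obtain ⟨k, rfl⟩ := Nat.exists_eq_add_of_le hn
    rw [Nat.add_sub_cancel_left, pow_add]
    calc _ ≤ c * (B * r ^ k) := by gcongr; exact h k
      _ ≤ y * r ^ i * (B * r ^ k) := by gcongr
      _ = _ := by ring
  · simp only [mul_zero]; positivity

theorem Bd.of_mul (h : Bd r f B) (hr : 0 < r) (hB : 0 ≤ B) (hc : 0 ≤ c) {i : ℕ} (hi : 0 < i) {y : ℝ}
    (hy : c ≤ y * r ^ i) (h1 : y < 1) (hg : g * (1 - C c * X ^ i) = f) : Bd r g (B / (1 - y)) := by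
  have h0 : 0 ≤ y := (mul_nonneg_iff_of_pos_right (by positivity)).1 (hc.trans hy)
  have h2 := sub_pos.2 h1
  intro n
  induction n using Nat.strong_induction_on with | _ n ih =>
  have := h n
  rw [← hg, mul_sub, mul_one, mul_left_comm, map_sub, coeff_C_mul, coeff_mul_X_pow',
    sub_le_iff_le_add] at this
  refine this.trans ?_
  rw [show B / (1 - y) * r ^ n = B * r ^ n + y * (B / (1 - y)) * r ^ n by field_simp; ring]
  refine add_le_add le_rfl ?_
  split_ifs with hn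
  · obtain ⟨k, rfl⟩ := Nat.exists_eq_add_of_le hn
    rw [Nat.add_sub_cancel_left, pow_add]
    calc _ ≤ c * (B / (1 - y) * r ^ k) := by gcongr; exact ih k (by omega)
      _ ≤ y * r ^ i * (B / (1 - y) * r ^ k) := by gcongr
      _ = _ := by ring
  · simp only [mul_zero]; positivity

/-- an infinite product bound: `B k ≤ D (1 - β x ^ k)` is propagated -/
theorem Bd.prod {A : ℕ → ℝ⟦X⟧} {k : ℕ} {b : ℕ → ℝ} (h : Bd r (f * ∏ i ∈ range k, A i) (b k))
    (hA : ∀ g, ∀ j ≥ k, Bd r g (b j) → Bd r (g * A j) (b (j + 1))) {N : ℕ} (hN : k ≤ N) :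
    Bd r (f * ∏ i ∈ range N, A i) (b N) := by
  induction N, hN using Nat.le_induction with
  | base => exact h
  | succ N hN ih => rw [prod_range_succ, ← mul_assoc]; exact hA _ N hN ih

theorem mk_lw (w q : ℝ) (i : ℕ) : mk (lw w q i) * (1 - C q * X) = 1 + C (w - q) * X := by
  ext (_ | _ | n) <;> simp [mul_sub, mul_left_comm _ (C q), coeff_succ_mul_X, lw, coeff_one, coeff_X]
  ring

theorem exs_lw (w q : ℝ) (i j : ℕ) :
    exs i (lw w q j) * (1 - C q * X ^ (i + 1)) = 1 + C (w - q) * X ^ (i + 1) := by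
  simpa [exs, expand_C] using congrArg (expand (i + 1) i.succ_ne_zero) (mk_lw w q j)

/-- nonnegative coefficients -/
def NN (f : ℝ⟦X⟧) : Prop := ∀ n, 0 ≤ coeff n f

theorem NN.mul (h : NN f) (h' : NN g) : NN (f * g) := fun n => by
  rw [coeff_mul]; exact sum_nonneg fun _ _ => mul_nonneg (h _) (h' _)

theorem nn_exs {a : ℕ → ℝ} (h : ∀ m, 0 ≤ a m) (i : ℕ) : NN (exs i a) := fun n => by
  rw [coeff_exs]; split_ifs <;> simp [h]

theorem nn_prod {A : ℕ → ℝ⟦X⟧} {s : Finset ℕ} (h : ∀ i, NN (A i)) : NN (∏ i ∈ s, A i) :=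
  prod_induction _ _ (fun _ _ => NN.mul) (fun n => by rw [coeff_one]; split_ifs <;> simp) fun i _ => h i

theorem Zp_gl {q : ℝ} (hq : 1 ≤ q) (n : ℕ) : Zp (lw (q - 1) q) n ≤ q ^ n := by
  have h0 := lw_nonneg (sub_nonneg.2 hq) (zero_le_one.trans hq)
  have h1 := lw_nonneg (zero_le_one.trans hq) (zero_le_one.trans hq)
  have h2 : ∀ i, exs i (lw q q 0) * (1 - C q * X ^ (i + 1)) = 1 := fun i => by simp [exs_lw]
  have h3 : ∀ l i, NN (exs 0 (lw q q 0) * (1 - (1 - C q * X ^ (i + 1)) *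
      ((∏ j ∈ range l, exs (i + j) (lw (q - 1) q 0)) * exs (i + l) (lw q q 0)))) := fun l => by
    induction l with
    | zero => intro i n; simp [mul_comm _ (exs i _), h2]
    | succ l ih =>
      intro i n
      have := add_nonneg (ih (i + 1) n) (((nn_prod (s := range l) fun j => nn_exs (h0 0) (i + 1 + j)).mul
        (nn_exs (h1 0) (i + 1 + l))).mul (g := X ^ (i + 1)) (fun k => by
          rw [coeff_X_pow]; split_ifs <;> simp) n)
      rw [← map_add] at this
      refine this.trans_eq (congrArg _ ?_)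
      have h4 := exs_lw (q - 1) q i 0
      have h5 := h2 0
      simp only [prod_range_succ', add_zero, ← add_assoc, add_right_comm i 1, sub_sub_cancel_left,
        map_neg, map_one, zero_add, pow_one] at h4 h5 ⊢
      linear_combination (exs 0 (lw q q 0) * (∏ j ∈ range l, exs (i + j + 1) (lw (q - 1) q 0)) *
        exs (i + l + 1) (lw q q 0)) * h4 - (X ^ (i + 1) * (∏ j ∈ range l, exs (i + j + 1)
          (lw (q - 1) q 0)) * exs (i + l + 1) (lw q q 0)) * h5
  refine (Zp_le h0 (fun _ => if_pos rfl) le_rfl).trans ?_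
  have h4 := h3 n 0 n
  have h5 := ((nn_prod (s := range n) fun j => nn_exs (h0 0) j).mul (nn_exs (h1 0) n)).mul
    (g := C q * X ^ (n + 1)) (fun k => by rw [coeff_C_mul, coeff_X_pow]; split_ifs <;> positivity) n
  simp only [zero_add] at h4
  rw [mul_sub, ← mul_assoc, h2 0, one_mul, map_sub, mul_one, coeff_exs] at h4
  have h6 : lw q q 0 n = q ^ n := by cases n <;> simp [lw, pow_succ']
  have h7 : ∀ P : ℝ⟦X⟧, P = P * exs n (lw q q 0) - P * exs n (lw q q 0) * (C q * X ^ (n + 1)) :=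
    fun P => by linear_combination -P * h2 n
  rw [h7 (∏ _ ∈ _, _), map_sub]
  simp only [zero_add, one_dvd, if_true, Nat.div_one, h6] at h4
  exact (sub_le_self _ h5).trans (sub_nonneg.1 h4)

theorem Zp_small {w q : ℝ} (hw : 0 ≤ w) (hq : 0 ≤ q) : Zp (lw w q) 1 ≤ w ∧
    Zp (lw w q) 2 ≤ w * (q + 1) ∧ Zp (lw w q) 3 ≤ w * (q ^ 2 + w + 1) := by
  refine ⟨?_, ?_, ?_⟩ <;> refine (Zp_le (lw_nonneg hw hq) (fun _ => if_pos rfl) le_rfl).trans
    (le_of_eq ?_) <;> simp [prod_range_succ, coeff_mul, Nat.antidiagonal_succ, coeff_exs, lw] <;> ring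

theorem Bd.step_gu {q x : ℝ} (h : Bd q g B) (hq : 0 < q) (hB : 0 ≤ B) (h0 : 0 < x) (hx : 1 ≤ x * q)
    (h1 : x < 1) {j : ℕ} (hj : j ≠ 0) :
    Bd q (g * exs j (lw (q + 1) q 0)) (B * (1 + x ^ (j + 1)) / (1 - x ^ j)) :=
  (h.mul_one_add hq hB zero_le_one (i := j + 1) (y := x ^ (j + 1)) (by
    rw [← mul_pow]; exact one_le_pow₀ hx)).of_mul hq (by positivity) hq.le j.succ_pos (by
      rw [pow_succ, ← mul_assoc, ← mul_pow]
      exact le_mul_of_one_le_left hq.le (one_le_pow₀ hx)) (pow_lt_one₀ h0.le h1 hj) (by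
        rw [mul_assoc, exs_lw, add_sub_cancel_left])

theorem bd_gu {q x : ℝ} (hq : 0 < q) (h0 : 0 < x) (hx : 1 ≤ x * q) :
    Bd q (exs 0 (lw (q + 1) q 0)) (1 + x) := fun n => by
  obtain _ | n := n <;> simp [coeff_exs, lw, h0.le, pow_succ']
  nlinarith [pow_pos hq n]

theorem Zp_gu {q x β D : ℝ} (hq : 0 < q) (h0 : 0 < x) (hx : 1 ≤ x * q) (h1 : x < 1)
    (hβ : 1 + x ≤ β * (1 - x)) {k : ℕ} (hk : 0 ≤ 1 - β * x ^ (k + 1)) (hD : 0 ≤ D)
    (h : Bd q (∏ i ∈ range (k + 1), exs i (lw (q + 1) q 0)) (D * (1 - β * x ^ (k + 1)))) (n : ℕ) :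
    Zp (lw (q + 1) q) n ≤ D * q ^ n := by
  have hb : 0 ≤ β := (mul_nonneg_iff_of_pos_right (sub_pos.2 h1)).1 (by linarith)
  have h2 := Bd.prod (f := 1) (b := fun j => D * (1 - β * x ^ j)) (by rwa [one_mul]) (fun g j hj h => ?_)
    (Nat.le_add_left _ n) n
  · rw [one_mul] at h2
    exact (Zp_le (lw_nonneg (by positivity) hq.le) (fun _ => if_pos rfl) (Nat.le_add_right _ _)).trans
      (h2.trans (by gcongr; exact mul_le_of_le_one_right hD (sub_le_self _ (by positivity))))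
  have h3 : x ^ j ≤ x ^ (k + 1) := pow_le_pow_of_le_one h0.le h1.le hj
  refine (h.step_gu hq (mul_nonneg hD (hk.trans (by gcongr))) h0 hx h1 (by omega)).mono hq ?_
  rw [div_le_iff₀ (sub_pos.2 (pow_lt_one₀ h0.le h1 (by omega))), mul_assoc, mul_assoc, pow_succ]
  refine mul_le_mul_of_nonneg_left ?_ hD
  have h6 : 0 < x ^ j := by positivity
  nlinarith [mul_le_mul_of_nonneg_left hβ h6.le, mul_pos (mul_pos h6 h6) h0,
    mul_nonneg hb (mul_pos (mul_pos h6 h6) h0).le]

end Bd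

section Num

/-- the bound for `w` times the class number of `SL` or `SU` -/
noncomputable def Kb (w : ℕ) (q : ℝ) (m : ℕ) : ℝ :=
  Zp (lw w q) m + ∑ d ∈ (m.gcd w).divisors.erase 1, ((d : ℝ) ^ 2 - 1) * Zp (lw w q) (m / d)

theorem Kb_le {w m : ℕ} {q : ℝ} (hq : 0 ≤ q) (hw : 0 < w) {S : Finset ℕ} {t : ℕ → ℝ}
    (hS : ∀ d, 2 ≤ d → d ∣ m → d ∣ w → d ∈ S) (h0 : ∀ d ∈ S, 0 ≤ t d) (ht : ∀ d, 2 ≤ d → d ≤ w →
      d ∣ m → d ∣ w → ((d : ℝ) ^ 2 - 1) * Zp (lw w q) (m / d) ≤ t d) :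
    Kb w q m ≤ Zp (lw w q) m + ∑ d ∈ S, t d := by
  have h : ∀ d ∈ (m.gcd w).divisors.erase 1, 2 ≤ d ∧ d ∣ m ∧ d ∣ w := fun d hd => by
    have := Nat.pos_of_mem_divisors (mem_of_mem_erase hd)
    have := ne_of_mem_erase hd
    exact ⟨by omega, Nat.dvd_gcd_iff.1 (Nat.dvd_of_mem_divisors (mem_of_mem_erase hd))⟩
  exact add_le_add le_rfl (sum_le_of_injOn id (Set.injOn_id _) (fun d hd => hS d (h d hd).1
    (h d hd).2.1 (h d hd).2.2) (fun d hd => ht d (h d hd).1 (Nat.le_of_dvd hw (h d hd).2.2)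
      (h d hd).2.1 (h d hd).2.2) h0)

theorem Zp_gl' (w n : ℕ) : Zp (lw w (w + 1)) n ≤ (w + 1) ^ n := by
  simpa using Zp_gl (q := w + 1) (by simp) n

variable {w : ℕ} (hw : 0 < w)
include hw

theorem Kb_gl_two : Kb w (w + 1) 1 ≤ w ∧ Kb w (w + 1) 2 ≤ w * (w + 5) ∧
    2 * Kb w (w + 1) 2 ≤ w * (5 * (w + 1)) := by
  obtain ⟨h1, h2, -⟩ := Zp_small (w := w) (q := w + 1) (by positivity) (by positivity)
  have h3 := Kb_le (m := 2) (q := w + 1) (by positivity) hw (S := {2})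
    (t := fun _ => if 2 ≤ w then 3 * w else 0) (fun d h h' _ => by
      simpa using le_antisymm (Nat.le_of_dvd two_pos h') h) (fun _ _ => by positivity) fun d h h' h'' _ => by
        obtain rfl := le_antisymm (Nat.le_of_dvd two_pos h'') h
        norm_num [h']; linarith
  refine ⟨by simpa [Kb] using h1, ?_⟩
  rw [sum_singleton] at h3
  have : (1 : ℝ) ≤ w := by exact_mod_cast hw
  split_ifs at h3 with h
  · have : (2 : ℝ) ≤ w := by exact_mod_cast h
    constructor <;> nlinarith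
  · constructor <;> nlinarith

theorem Kb_gl (n : ℕ) : Kb w (w + 1) (n + 3) ≤ w * ((w + 1) ^ (n + 2) + 3 * (w + 1) ^ (n + 1)) := by
  obtain ⟨h1, -, h2⟩ := Zp_small (w := w) (q := w + 1) (by positivity) (by positivity)
  have h0 : (1 : ℝ) ≤ w := by exact_mod_cast hw
  have h3 := Zp_gl' w
  obtain _ | _ | n := n
  · have h := Kb_le (m := 3) (q := w + 1) (by positivity) hw (S := {3})
      (t := fun _ => if 3 ≤ w then 8 * w else 0) (fun d h h' _ => by
        simpa using (Nat.prime_three.eq_one_or_self_of_dvd d h').resolve_left (by omega))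
      (fun _ _ => by positivity) fun d h h' h'' _ => by
        obtain rfl := (Nat.prime_three.eq_one_or_self_of_dvd d h'').resolve_left (by omega)
        norm_num [h']; linarith
    rw [sum_singleton] at h
    simp only [zero_add]
    split_ifs at h with h4
    · have : (3 : ℝ) ≤ w := by exact_mod_cast h4
      nlinarith
    · nlinarith
  · have h5 : ∀ d, 2 ≤ d → d ∣ 4 → d = 2 ∨ d = 4 := fun d h h' => by
      have := Nat.le_of_dvd four_pos h'
      interval_cases d <;> simp_all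
    have h := Kb_le (m := 4) (q := w + 1) (by positivity) hw (S := {2, 4})
      (t := fun d => if d ≤ w then (d ^ 2 - 1) * (w + 1) ^ (4 / d) else 0) (fun d h h' _ => by
        simpa using h5 d h h') (fun d hd => by
          rcases mem_insert.1 hd with rfl | hd
          · norm_num; positivity
          · rw [mem_singleton.1 hd]; norm_num; positivity) fun d h h' h'' _ => by
        rw [if_pos h']
        exact mul_le_mul_of_nonneg_left (h3 _) (sub_nonneg.2 (one_le_pow₀ (by norm_cast; omega)))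
    have h4 := h3 4
    rw [sum_pair (by simp)] at h
    norm_num at h ⊢
    split_ifs at h with h6 h7 h7
    · have : (4 : ℝ) ≤ w := by exact_mod_cast h7
      nlinarith [mul_le_mul_of_nonneg_right this (sq_nonneg (w : ℝ))]
    · have : (2 : ℝ) ≤ w := by exact_mod_cast h6
      nlinarith [mul_le_mul_of_nonneg_right this (sq_nonneg (w + 1 : ℝ))]
    · omega
    · nlinarith [mul_le_mul_of_nonneg_right h0 (sq_nonneg (w + 1 : ℝ))]
  · have h := Kb_le (m := n + 5) (q := w + 1) (by positivity) hw (S := Icc 2 w)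
      (t := fun _ => (w + 1) ^ (n + 3)) (fun d h _ h' => mem_Icc.2 ⟨h, Nat.le_of_dvd hw h'⟩)
      (fun _ _ => by positivity) fun d h h' _ _ => by
        have h4 : (d : ℝ) ≤ w := by exact_mod_cast h'
        refine (mul_le_mul_of_nonneg_left (h3 _)
          (sub_nonneg.2 (one_le_pow₀ (by norm_cast; omega)))).trans ?_
        obtain rfl | h := h.eq_or_lt
        · rw [pow_succ' _ (n + 2)]
          gcongr
          · simp only [Nat.cast_ofNat] at h4 ⊢; linarith
          · linarith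
          · omega
        · rw [show n + 3 = 2 + (n + 1) by ring, pow_add]
          gcongr
          · nlinarith
          · linarith
          · exact (Nat.div_le_div_left (show 3 ≤ d from h) (by norm_num)).trans (by omega)
    have h4 := h3 (n + 5)
    rw [sum_const, Nat.card_Icc, nsmul_eq_mul, show w + 1 - 2 = w - 1 by omega, Nat.cast_pred hw] at h
    have h5 : (0 : ℝ) < (w + 1) ^ (n + 3) := by positivity
    rw [show n + 5 = n + 3 + 2 by ring, pow_add] at h4
    rw [show n + 1 + 1 + 2 = n + 3 + 1 by ring, pow_succ, show n + 1 + 1 + 1 = n + 3 by ring]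
    nlinarith

theorem Kb_gl' {m : ℕ} (hm : 0 < m) : 2 * Kb w (w + 1) m ≤ w * (5 * (w + 1) ^ (m - 1)) := by
  obtain ⟨h1, -, h2⟩ := Kb_gl_two hw
  have h0 : (1 : ℝ) ≤ w := by exact_mod_cast hw
  obtain _ | _ | _ | n := m
  · omega
  · simp; linarith
  · simpa using h2
  · have := Kb_gl hw n
    have h5 : (0 : ℝ) < w * (w + 1) ^ (n + 1) := by positivity
    rw [show n + 1 + 1 + 1 - 1 = n + 2 by omega]
    rw [pow_succ] at this ⊢
    nlinarith

omit hw in
theorem Kb_gu {q n : ℕ} (hq : 2 ≤ q) (hn : 0 < n) :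
    100 * Kb (q + 1) q n ≤ (q + 1) * (826 * q ^ (n - 1)) := by
  have h0 : (2 : ℝ) ≤ q := by exact_mod_cast hq
  have h1 : ∀ D : ℝ, 0 ≤ D → (∀ m, Zp (lw (q + 1) q) m ≤ D * q ^ m) → Kb (q + 1) q n ≤ D * q ^ n *
      (1 + ∑ d ∈ (q + 1).divisors.erase 1, ((d : ℝ) ^ 2 - 1) / q ^ (d - 1)) := fun D hD h => by
    rw [mul_add, mul_one, mul_sum]
    refine (Kb_le (by positivity) q.succ_pos (fun d h _ h' => mem_erase.2 ⟨by omega,
      Nat.mem_divisors.2 ⟨h', by omega⟩⟩) (fun d hd => ?_) fun d h1 _ h2 _ => ?_).trans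
      (add_le_add (by simpa using h n) le_rfl)
    · have : (1 : ℝ) ≤ d ^ 2 := one_le_pow₀ (by
        exact_mod_cast Nat.pos_of_mem_divisors (mem_of_mem_erase hd))
      have := sub_nonneg.2 this
      positivity
    · obtain ⟨m, rfl⟩ := h2
      obtain ⟨d, rfl⟩ := Nat.exists_eq_add_of_le' h1
      obtain ⟨m, rfl⟩ := Nat.exists_eq_add_one_of_ne_zero (show m ≠ 0 by rintro rfl; simp at hn)
      rw [Nat.mul_div_cancel_left _ (by omega), mul_div_assoc', le_div_iff₀ (by positivity), mul_assoc,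
        mul_comm]
      refine mul_le_mul_of_nonneg_right ?_ (sub_nonneg.2 (one_le_pow₀ (by norm_cast; omega)))
      refine (mul_le_mul_of_nonneg_right (by simpa using h (m + 1)) (by positivity)).trans ?_
      rw [mul_assoc, ← pow_add]
      gcongr
      · linarith
      · simp only [Nat.add_one_sub_one]; nlinarith
  obtain ⟨n, rfl⟩ := Nat.exists_eq_add_one_of_ne_zero hn.ne'
  rw [Nat.add_sub_cancel]
  have h2 : (0 : ℝ) < q ^ n := by positivity
  obtain rfl | h3 := hq.eq_or_lt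
  · have h4 := Zp_gu (q := 2) (x := 1 / 2) (β := 3) (D := 9) (k := 2) (by norm_num) (by norm_num)
      (by norm_num) (by norm_num) (by norm_num) (by norm_num) (by norm_num) (by
        rw [prod_range_succ, prod_range_succ, prod_range_one]
        exact ((((bd_gu (x := 1 / 2) two_pos (by norm_num) (by norm_num)).step_gu (x := 1 / 2) two_pos
          (by norm_num) (by norm_num) (by norm_num) (by norm_num) one_ne_zero).step_gu (x := 1 / 2)
          two_pos (by norm_num) (by norm_num) (by norm_num) (by norm_num) two_ne_zero)).mono two_pos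
          (by norm_num))
    obtain ⟨h5, h6, -⟩ := Zp_small (w := 3) (q := 2) (by norm_num) (by norm_num)
    have h := Kb_le (m := n + 1) (q := 2) (w := 3) (by norm_num) (by norm_num) (S := {3})
      (t := fun _ => 6 * 2 ^ n) (fun d h _ h' => by
        simpa using (Nat.prime_three.eq_one_or_self_of_dvd d h').resolve_left (by omega))
      (fun _ _ => by positivity) fun d h _ ⟨m, hm⟩ h' => by
        have h7 := h4 m
        norm_num at h7
        obtain rfl := (Nat.prime_three.eq_one_or_self_of_dvd d h').resolve_left (by omega)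
        rw [hm, Nat.mul_div_cancel_left _ (by norm_num)]
        obtain _ | _ | _ | m := m
        · omega
        · obtain rfl : n = 2 := by omega
          norm_num; linarith
        · obtain rfl : n = 5 := by omega
          norm_num; linarith
        · have : (2 : ℝ) ^ (m + 3 + 4) ≤ 2 ^ n := by gcongr <;> [norm_num; omega]
          rw [pow_add] at this
          norm_num at this ⊢; linarith [pow_pos (two_pos (α := ℝ)) (m + 3)]
    have := h4 (n + 1)
    norm_num [pow_succ] at this h ⊢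
    linarith [pow_pos (two_pos (α := ℝ)) n]
  obtain rfl | h3 := (show 3 ≤ q from h3).eq_or_lt
  · have := h1 4 (by norm_num) (Zp_gu (x := 1 / 3) (β := 2) (k := 0) (by norm_num) (by norm_num)
      (by norm_num) (by norm_num) (by norm_num) (by norm_num) (by norm_num) (by
        rw [prod_range_one]
        exact (bd_gu (x := 1 / 3) (by norm_num) (by norm_num) (by norm_num)).mono (by norm_num)
          (by norm_num)))
    rw [show (3 + 1 : ℕ).divisors.erase 1 = {2, 4} by decide, sum_pair (by simp)] at this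
    norm_num [pow_succ] at this ⊢
    linarith [pow_pos (three_pos (α := ℝ)) n]
  have h4 : (4 : ℝ) ≤ q := by exact_mod_cast h3
  have := h1 (15 / 7) (by norm_num) (Zp_gu (x := 1 / 4) (β := 5 / 3) (k := 0) (by positivity)
    (by norm_num) (by linarith) (by norm_num) (by norm_num) (by norm_num) (by norm_num) (by
      rw [prod_range_one]
      exact (bd_gu (x := 1 / 4) (by positivity) (by norm_num) (by linarith)).mono (by positivity)
        (by norm_num)))
  have h5 : ∑ d ∈ (q + 1).divisors.erase 1, ((d : ℝ) ^ 2 - 1) / q ^ (d - 1) ≤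
      ∑ d ∈ Ico 2 (q + 2), 4 * (1 / 2 : ℝ) ^ d := sum_le_of_injOn id (Set.injOn_id _)
    (fun d hd => by
      have := Nat.pos_of_mem_divisors (mem_of_mem_erase hd)
      have := ne_of_mem_erase hd
      have := Nat.divisor_le (mem_of_mem_erase hd)
      exact mem_Ico.2 ⟨by simp; omega, by simp; omega⟩) (fun d hd => by
      obtain ⟨d, rfl⟩ := Nat.exists_eq_add_one_of_ne_zero
        (Nat.pos_of_mem_divisors (mem_of_mem_erase hd)).ne'
      have h6 : ∀ k : ℕ, ((k + 1 : ℕ) : ℝ) ^ 2 - 1 ≤ 2 ^ (k + 1) := fun k => by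
        induction k with
        | zero => norm_num
        | succ k ih =>
          obtain _ | _ | _ | k := k
          iterate 3 norm_num
          push_cast at ih ⊢
          nlinarith [sq_nonneg (k : ℝ), k.cast_nonneg (α := ℝ), pow_succ (2 : ℝ) (k + 1 + 1 + 1 + 1)]
      rw [div_le_iff₀ (by positivity), Nat.add_sub_cancel]
      calc _ ≤ _ := h6 d
        _ = 4 * (1 / 2) ^ (d + 1) * 4 ^ d := by
          rw [show (4 : ℝ) ^ d = 2 ^ d * 2 ^ d by rw [← mul_pow]; norm_num, one_div_pow]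
          field_simp; ring
        _ ≤ _ := by dsimp only [id]; gcongr) fun _ _ => by positivity
  rw [← mul_sum] at h5
  have h6 := geom_sum_Ico_le_of_lt_one (x := (1 / 2 : ℝ)) (m := 2) (n := q + 2) (by norm_num) (by norm_num)
  have h7 := mul_le_mul_of_nonneg_left (h5.trans (mul_le_mul_of_nonneg_left h6 (by norm_num)))
    (show (0 : ℝ) ≤ 15 / 7 * q ^ (n + 1) by positivity)
  norm_num [pow_succ] at this h7 ⊢
  nlinarith

end Num
end H11
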