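import Cfsg.Agent.H11.Cls
import Cfsg.Agent.H10.SL
import Cfsg.Agent.H11.Reg
/-! Counting monic polynomials with coefficient conditions (`card_monic_coeff`, `card_dual_monic`),
counting levels of Jordan data, and upper bounds for the class numbers of `GL`, `SL`, `SU`
(`gl_classes_le`, `sl_classes_le`, `su_classes_le`). -/
namespace H11
open Module Polynomial Finset
open PForm hiding X

universe u v
variable {F : Type u} [Field F] {V : Type*} [AddCommGroup V] [Module F V] {σ : F →+* F}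

theorem card_monic_coeff (d : ℕ) (p : F → (Fin d → F) → Prop) :
    Nat.card {P : F[X] // P.Monic ∧ P.natDegree = d + 1 ∧ p (P.coeff 0) fun i => P.coeff (i + 1)} =
      Nat.card {x : F × (Fin d → F) // p x.1 x.2} := by
  classical
  refine Nat.card_congr (Equiv.ofBijective (fun P => ⟨(_, _), P.2.2.2⟩) ⟨?_, fun ⟨⟨c, v⟩, h⟩ => ?_⟩)
  · rintro ⟨P, h1, h2, _⟩ ⟨Q, h3, h4, _⟩ h
    obtain ⟨h5, h6⟩ := Prod.ext_iff.1 (congrArg Subtype.val h)
    ext (_ | k)
    · exact h5
    obtain h | rfl | h := lt_trichotomy k d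
    · exact congr($h6 ⟨k, h⟩)
    · simp only; rw [← h2, h1.coeff_natDegree, h2, ← h4, h3.coeff_natDegree]
    · simp only; rw [coeff_eq_zero_of_natDegree_lt (by omega), coeff_eq_zero_of_natDegree_lt (by omega)]
  · set P := ofFn (d + 2) (Fin.cons c (Fin.snoc v 1) : Fin (d + 2) → F)
    have h1 := Nat.le_of_lt_succ (ofFn_natDegree_lt (n := d + 2) (by omega) (Fin.cons c (Fin.snoc v 1)))
    have h2 : P.coeff (d + 1) = 1 := (ofFn_coeff_eq_val_of_lt _ (by omega)).trans
      ((Fin.cons_succ _ _ (Fin.last d)).trans (Fin.snoc_last _ _))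
    have h3 : P.coeff 0 = c := ofFn_coeff_eq_val_of_lt _ (d + 1).succ_pos
    have h4 : (fun i : Fin d => P.coeff (i + 1)) = v := funext fun i => (ofFn_coeff_eq_val_of_lt _
      (by omega)).trans ((Fin.cons_succ _ _ i.castSucc).trans (Fin.snoc_castSucc _ _ _))
    exact ⟨⟨P, monic_of_natDegree_le_of_coeff_eq_one _ h1 h2, natDegree_eq_of_le_of_coeff_ne_zero h1
      (h2 ▸ one_ne_zero), by rwa [h3, h4]⟩, Subtype.ext (Prod.ext h3 h4)⟩

theorem card_monic_coeff' (d : ℕ) (c : F) (p : (Fin d → F) → Prop) :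
    Nat.card {P : F[X] // P.Monic ∧ P.natDegree = d + 1 ∧ P.coeff 0 = c ∧ p fun i => P.coeff (i + 1)} =
      Nat.card {v // p v} :=
  (card_monic_coeff d fun a v => a = c ∧ p v).trans (Nat.card_congr ⟨fun x => ⟨x.1.2, x.2.2⟩,
    fun v => ⟨(c, v.1), rfl, v.2⟩, fun x => Subtype.ext (Prod.ext x.2.1.symm rfl), fun _ => rfl⟩)

theorem card_fix_sq [Finite V] (hσ : ∀ a, σ (σ a) = a) (hne : σ ≠ RingHom.id F) (τ : V →ₛₗ[σ] V)
    (hτ : ∀ v, τ (τ v) = v) : Nat.card {v // τ v = v} ^ 2 = Nat.card V := by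
  obtain ⟨θ, hθ⟩ := exists_σ_ne hne
  have h := sub_ne_zero.2 hθ
  rw [sq, ← Nat.card_prod]
  refine Nat.card_congr (Equiv.ofBijective (fun x => x.1.1 + θ • x.2.1) ⟨?_, fun v => ?_⟩)
  · rintro ⟨⟨a, ha⟩, b, hb⟩ ⟨⟨c, hc⟩, d, hd⟩ e
    have e' := congrArg τ e
    simp only [map_add, map_smulₛₗ, ha, hb, hc, hd] at e e'
    obtain rfl : b = d := smul_right_injective V h (by linear_combination (norm := module) e' - e)
    simpa using e
  · refine ⟨(⟨(σ θ / (σ θ - θ)) • v + τ ((σ θ / (σ θ - θ)) • v), by rw [map_add, hτ, add_comm]⟩,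
      ⟨(θ - σ θ)⁻¹ • v + τ ((θ - σ θ)⁻¹ • v), by rw [map_add, hτ, add_comm]⟩), ?_⟩
    have h' := sub_ne_zero.2 hθ.symm
    simp only [map_smulₛₗ, map_div₀, map_inv₀, map_sub, hσ]
    match_scalars <;> field_simp <;> ring

variable [Finite F]

theorem card_dual_monic (hσ : ∀ a, σ (σ a) = a) (hne : σ ≠ RingHom.id F) {q : ℕ}
    (hF : Nat.card F = q ^ 2) (d : ℕ) {c : F} (hc : σ c * c = 1) : Nat.card {P : F[X] // P.Monic ∧
      P.natDegree = d + 1 ∧ P.coeff 0 = c ∧ dualP σ P = P} = q ^ d := by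
  have h0 : c ≠ 0 := right_ne_zero_of_mul_eq_one hc
  let τ : (Fin d → F) →ₛₗ[σ] (Fin d → F) := ⟨⟨fun v i => c * σ (v i.rev), fun v w => by
    ext; simp [mul_add]⟩, fun a v => by ext; simp [mul_left_comm]⟩
  have h := card_fix_sq hσ hne τ fun v => by
    ext; simp [τ, hσ, ← mul_assoc, (mul_comm c _).trans hc]
  rw [Nat.card_fun, hF, Nat.card_eq_fintype_card (α := Fin d), Fintype.card_fin, ← pow_mul, mul_comm,
    pow_mul] at h
  rw [← Nat.pow_left_injective two_ne_zero h, ← card_monic_coeff' d c]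
  refine Nat.card_congr (Equiv.subtypeEquivRight fun P => and_congr_right fun h1 =>
    and_congr_right fun h2 => and_congr_right fun h3 => ?_)
  rw [dualP_eq_iff (h3 ▸ h0), h2, h3]
  refine ⟨fun h => funext fun i => ?_, fun h i hi => ?_⟩
  · have := h (i + 1) (by omega)
    rw [show d + 1 - (i + 1) = i.rev + 1 by rw [Fin.val_rev]; omega] at this
    simp only [τ, LinearMap.coe_mk, AddHom.coe_mk, this, ← mul_assoc, (mul_comm c _).trans hc,
      one_mul]
  · obtain _ | i := i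
    · rw [Nat.sub_zero, ← h2, h1.coeff_natDegree, map_one, h3, hc]
    obtain rfl | hi := (Nat.le_of_succ_le_succ hi).eq_or_lt
    · rw [Nat.sub_self, h3, ← h2, h1.coeff_natDegree, mul_one]
    · rw [← show _ = P.coeff (i + 1) from congr($h ⟨i, hi⟩), show d + 1 - (i + 1) = (Fin.rev ⟨i, hi⟩ : ℕ) + 1 by
        rw [Fin.val_rev]; simp only; omega]
      simp only [τ, LinearMap.coe_mk, AddHom.coe_mk, ← mul_assoc, hc, one_mul]

/-- stable multisets -/
def Sl {K : Type*} [Field K] (t : ℤ) (M : Multiset K) : Prop := M.map (· ^ t) = M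

theorem St.lev {K : Type*} [Field K] {t : ℤ} {J : Multiset (K × ℕ)} (h : St t J) (i : ℕ) :
    Sl t (lev i J) := by rw [Sl, ← lev_map, h]

theorem Sl.st {K : Type*} [Field K] {t : ℤ} {M : Multiset K} (h : Sl t M) (i : ℕ) :
    St t (M.map (·, i)) := by
  rw [St]
  conv_rhs => rw [← h]
  simp

theorem Sl.prod {K : Type*} [Field K] {t : ℤ} {M : Multiset K} (h : Sl t M) : M.prod ^ t = M.prod := by
  simpa [Multiset.prod_map_zpow] using congrArg Multiset.prod h

theorem Sl.exists_end {M : Multiset (AC F)} (h : Sl (Nat.card F) M) :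
    ∃ f : End F (Fin M.card → F), JD f = M.map (·, 1) ∧ f.charpoly.Monic ∧
      f.charpoly.natDegree = M.card ∧ f.charpoly.map (algebraMap F _) = (M.map (X - C ·)).prod ∧
      algebraMap F _ (f.charpoly.coeff 0) = (-1) ^ M.card * M.prod := by
  obtain ⟨f, hf⟩ := exists_JD (V := Fin M.card → F) (h.st 1) (by simp) (by simp [dm])
  have := JD_charpoly f
  rw [hf, Multiset.map_map] at this
  refine ⟨f, hf, f.charpoly_monic, by simpa using f.charpoly_natDegree, by simpa using this.symm, ?_⟩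
  rw [← coeff_map, ← this, coeff_zero_eq_eval_zero, eval_multiset_prod, ← Multiset.prod_map_neg]
  simp

omit [Finite F] in
theorem card_le_of_poly (S : Finset (Multiset (AC F))) {p : F[X] → Prop} {N : ℕ} (hN : N ≠ 0)
    (h' : Nat.card {P // p P} = N)
    (h : ∀ M ∈ S, ∃ P, p P ∧ P.map (algebraMap F _) = (M.map (X - C ·)).prod) : #S ≤ N := by
  choose φ h1 h2 using h
  have := Nat.finite_of_card_ne_zero (h' ▸ hN)
  rw [← h', ← Nat.card_eq_finsetCard]
  exact Nat.card_le_card_of_injective (fun M => ⟨φ M.1 M.2, h1 _ _⟩) fun M M' e => Subtype.ext (by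
    rw [← roots_multiset_prod_X_sub_C M.1, ← h2 _ M.2, Subtype.mk.inj e, h2,
      roots_multiset_prod_X_sub_C])

theorem card_lev_gl {e d : ℕ} (he : 0 < e) {c : AC F} (hc : IsPrimitiveRoot c e) (b : AC F)
    (S : Finset (Multiset (AC F))) (hS : ∀ M ∈ S, (Sl (Nat.card F) M ∧ M.map (c * ·) = M) ∧
      M.card = e * (d + 1) ∧ M.prod = b) : #S ≤ Nat.card F ^ d := by
  obtain rfl | ⟨M, hM⟩ := S.eq_empty_or_nonempty
  · simp
  obtain ⟨k, hk⟩ := Nat.exists_eq_add_one_of_ne_zero (show e * (d + 1) ≠ 0 by positivity)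
  obtain ⟨f, -, -, -, -, h⟩ := (hS M hM).1.1.exists_end
  have h1 := card_monic_coeff' k (f.charpoly.coeff 0) fun v => ∀ i : Fin k, ¬ e ∣ i + 1 → v i = 0
  refine (card_le_of_poly S (Nat.card_ne_zero.2 ⟨⟨⟨0, by simp⟩⟩, inferInstance⟩) h1
    fun M' hM' => ?_).trans ?_
  · obtain ⟨⟨h2, h3⟩, h4, h5⟩ := hS M' hM'
    obtain ⟨g, -, h6, h7, h8, h9⟩ := h2.exists_end
    refine ⟨_, ⟨h6, by rw [h7, h4, hk], (algebraMap F (AC F)).injective (by
      rw [h, h9, h4, h5, (hS M hM).2.1, (hS M hM).2.2]), fun i hi => ?_⟩, h8⟩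
    have : (M'.map (X - C ·)).prod.comp (C c * X) = (M'.map (X - C ·)).prod := by
      conv_lhs => rw [← h3, multiset_prod_comp, Multiset.map_map, Multiset.map_map]
      simp only [Function.comp_def, sub_comp, X_comp, C_comp, map_mul, ← mul_sub,
        Multiset.prod_map_mul, Multiset.map_const', Multiset.prod_replicate]
      rw [← map_pow, h4, pow_mul, hc.pow_eq_one, one_pow, map_one, one_mul]
    replace this := congrArg (coeff · (i + 1)) this
    simp only [comp_C_mul_X_coeff, ← h8, coeff_map] at this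
    exact by_contra fun h => hi (hc.dvd_of_pow_eq_one _ ((mul_eq_left₀ (by simpa)).1 this))
  · have h2 : ∀ j : Fin d, e * (j + 1) - 1 < k := fun j => by
      have := Nat.mul_le_mul_left e (show j + 1 + 1 ≤ d + 1 by omega)
      have h3 : 0 < e * (j + 1) := by positivity
      rw [mul_add] at this; omega
    rw [show Nat.card F ^ d = Nat.card (Fin d → F) by simp [Nat.card_fun]]
    refine Nat.card_le_card_of_injective (fun v j => v.1 ⟨_, h2 j⟩) fun v w h => Subtype.ext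
      (funext fun i => ?_)
    by_cases hi : e ∣ i + 1
    · obtain ⟨_ | j, hj⟩ := hi
      · simp at hj
      have : j < d := by
        have : e * (j + 1) < e * (d + 1) := by omega
        simpa using Nat.lt_of_mul_lt_mul_left this
      convert congr($h ⟨j, this⟩) <;> simp [← hj]
    · rw [v.2 i hi, w.2 i hi]

theorem exists_img {G X : Type*} [Finite G] (inv : G → X) (p : G → Prop) : ∃ T : Finset X,
    (∀ g, p g → inv g ∈ T) ∧ ∀ {r : X → Prop}, (∀ g, p g → r (inv g)) → ∀ x ∈ T, r x :=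
  ⟨((Set.toFinite {g | p g}).image inv).toFinset, fun g hg => by simpa using ⟨g, hg, rfl⟩,
    fun h x hx => by obtain ⟨g, hg, rfl⟩ := (Set.Finite.mem_toFinset _).1 hx; exact h g hg⟩

section Grp
variable {G A : Type*} [Group G] [Finite G] [CommGroup A] [Finite A] [IsCyclic A]

theorem ker_classes_le {K : Type*} [Field K] {ι : A →* K} (hι : Function.Injective ι) {φ : G →* A}
    (hφ : Function.Surjective φ) {N : Subgroup G} (hN : N = φ.ker) (J : G → Multiset (K × ℕ))
    (h1 : ∀ g g', J g = J g' → IsConj g g') (h2 : ∀ g, ∀ x ∈ J g, ∀ a,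
      ∃ c ∈ Subgroup.centralizer {g}, φ c = a ^ x.2) {e m q : ℕ} (he : 0 < e) (hm : 0 < m)
    {E : Multiset K → Prop} {p : N → Prop} (h3 : ∀ g, p g → (∀ x ∈ J g, 0 < x.2) ∧ dm (J g) = e * m ∧
      pr (J g) = 1 ∧ ∀ i, E (lev i (J g))) (h4 : ∀ M, E M → e ∣ M.card ∧ ∃ b, ι b = M.prod)
    (h5 : ∀ d b (S : Finset (Multiset K)),
      (∀ M ∈ S, E M ∧ M.card = e * (d + 1) ∧ M.prod = ι b) → #S ≤ q ^ d) :
    (Nat.card A : ℝ) * Nat.card {C : ConjClasses N // ∃ g, ConjClasses.mk g = C ∧ p g} ≤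
      Kb (Nat.card A) q m := by
  classical
  subst hN
  obtain ⟨T, h6, h7⟩ := exists_img (fun g : φ.ker => J g) p
  refine le_trans ?_ ((sum_gi_le hι T he (a := 1) (h7 fun g hg => by simpa using h3 g hg) h4 h5).trans
    (sum_gi_sq_le (lw_nonneg (by positivity) (by positivity)) (fun _ => rfl) hm))
  gcongr
  exact_mod_cast card_classes_le _ T _ (fun J => (pw A (J.map Prod.snd).toFinset).index) p h6
    (fun g g' => h1 _ _) fun g _ => by
      rw [index_ker_sup hφ]
      refine Nat.le_of_dvd (Nat.pos_of_ne_zero Subgroup.FiniteIndex.index_ne_zero)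
        (Subgroup.index_dvd_of_le (pw_le fun i hi a => ?_))
      obtain ⟨x, hx, rfl⟩ := Multiset.mem_map.1 (Multiset.mem_toFinset.1 hi)
      exact h2 g x hx a

omit [Finite G] in
theorem classes_le_card [Finite G] {X : Type*} (T : Finset X) (inv : G → X) (p : G → Prop)
    (h1 : ∀ g, p g → inv g ∈ T) (h2 : ∀ g g', p g → p g' → inv g = inv g' → IsConj g g') :
    Nat.card {C : ConjClasses G // ∃ g, ConjClasses.mk g = C ∧ p g} ≤ #T := by
  rw [← Nat.card_eq_finsetCard]
  exact Nat.card_le_card_of_injective (fun C => ⟨inv C.2.choose, h1 _ C.2.choose_spec.2⟩)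
    fun C D e => Subtype.ext (by
      rw [← C.2.choose_spec.1, ← D.2.choose_spec.1, ConjClasses.mk_eq_mk_iff_isConj]
      exact h2 _ _ C.2.choose_spec.2 D.2.choose_spec.2 (congrArg Subtype.val e))

end Grp

theorem Sl.exists_unit {M : Multiset (AC F)} (h : Sl (Nat.card F) M) (h0 : 0 ∉ M) :
    ∃ b : Fˣ, algebraMap F _ b.1 = M.prod := by
  obtain ⟨a, ha⟩ := mem_range_of_pow (zpow_natCast M.prod _ ▸ h.prod)
  exact ⟨.mk0 a fun e => h0 (by simpa [e, eq_comm] using ha), ha⟩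

theorem JD_mem_Pt [FiniteDimensional F V] (f : End F V) : (JD f).map Prod.snd ∈ Pt (finrank F V) :=
  mem_Pt.2 ⟨Multiset.forall_mem_map_iff.2 fun _ => JD_pos, dm_JD f⟩

theorem card_lev_gl' {d : ℕ} (S : Finset (Multiset (AC F))) (hS : ∀ M ∈ S, (Sl (Nat.card F) M ∧ 0 ∉ M) ∧
    M.card = d + 1) : #S ≤ (Nat.card F - 1) * Nat.card F ^ d := by
  classical
  have := Fintype.ofFinite Fˣ
  choose! β hβ using fun M hM => (hS M hM).1.1.exists_unit (hS M hM).1.2
  have := card_le_mul_card_image_of_maps_to (f := β) (fun _ _ => mem_univ _) _ fun b _ =>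
    card_lev_gl one_pos .one (algebraMap F _ b.1) {M ∈ S | β M = b} fun M hM => by
      obtain ⟨h, rfl⟩ := mem_filter.1 hM
      exact ⟨⟨(hS M h).1.1, by simp⟩, by rw [one_mul, (hS M h).2], (hβ M h).symm⟩
  rwa [card_univ, ← Nat.card_eq_fintype_card, Nat.card_units, mul_comm] at this

theorem gl_classes_le (n : ℕ) : Nat.card (ConjClasses (GL (Fin n) F)) ≤ Nat.card F ^ n := by
  obtain ⟨T, h1, h2⟩ := exists_img (fun g : GL (Fin n) F => JD (mE g.1)) fun _ => True
  have h0 : 1 ≤ Nat.card F := Nat.card_pos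
  rw [← card_classes_true]
  refine (classes_le_card T _ _ h1 fun g g' _ _ h => gl_isConj_iff.2 (sim_iff_JD.2 h)).trans
    (Nat.cast_le (α := ℝ).1 ?_)
  simpa using (sum_type_le T (ω := fun _ _ => 1) (by simp) (h2 fun g _ => by
    simpa using JD_mem_Pt (mE g.1)) (E := fun _ M => Sl (Nat.card F) M ∧ 0 ∉ M) (h2 fun g _ i =>
      ⟨(st_JD _).lev i, fun h => ((adm_JD (isUnit_mE_gl g)).ne _ (mem_lev.1 h)).1 rfl⟩) fun i m S hS => by
        simpa [lw, Nat.cast_pred h0] using Nat.cast_le (α := ℝ).2 (card_lev_gl' S hS)).trans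
    (Zp_gl (q := Nat.card F) (by exact_mod_cast h0) n)

theorem sl_classes_le {n e m : ℕ} (he : 0 < e) (hm : 0 < m) (hn : n = e * m) {c : F}
    (hc : IsPrimitiveRoot c e) {p : Matrix.SpecialLinearGroup (Fin n) F → Prop}
    (hp : ∀ g, p g → Sim (c • mE g.1) (mE g.1)) : ((Nat.card F - 1 : ℕ) : ℝ) *
      Nat.card {C // ∃ g, ConjClasses.mk g = C ∧ p g} ≤ Kb (Nat.card F - 1) (Nat.card F) m := by
  have : NeZero n := ⟨by rw [hn]; positivity⟩
  have h0 := hc.map_of_injective (algebraMap F (AC F)).injective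
  rw [card_classes_equiv H10.SLEquivKerDet (q := fun g => p (H10.SLEquivKerDet.symm g)) (by simp),
    ← Nat.card_units]
  exact ker_classes_le (ι := (algebraMap F (AC F)).toMonoidHom.comp (Units.coeHom F))
    ((algebraMap F _).injective.comp Units.val_injective) Matrix.GeneralLinearGroup.det_surjective rfl
    (fun g => JD (mE g.1)) (fun g g' h => gl_isConj_iff.2 (sim_iff_JD.2 h)) (fun g x hx a => by
      obtain ⟨k, h1, h2⟩ := DetC.exists_gl (a := a ^ x.2) (detC_of_mem_JD (isUnit_mE_gl g) hx a)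
      exact ⟨k, Subgroup.mem_centralizer_singleton_iff.2 (Units.ext h1), h2⟩) he hm
    (E := fun M => (Sl (Nat.card F) M ∧ M.map (algebraMap F _ c * ·) = M) ∧ 0 ∉ M) (fun g hg => ⟨fun _ =>
      JD_pos, by simp [dm_JD, hn], det_eq_one_iff_JD.1 ((det_mE _).trans (congrArg Units.val g.2)),
      fun i => ⟨⟨(st_JD _).lev i, by
        obtain ⟨g, rfl⟩ := H10.SLEquivKerDet.surjective g
        have := sim_iff_JD.1 (hp _ hg)
        rw [JD_smul _ (hc.ne_zero he.ne'), MulEquiv.symm_apply_apply] at this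
        exact (lev_map _).symm.trans (congrArg _ this)⟩,
      fun h => ((adm_JD (isUnit_mE_gl g.1)).ne _ (mem_lev.1 h)).1 rfl⟩⟩)
    (fun M h => ⟨h0.dvd_of_pow_eq_one _ ((mul_eq_right₀ (Multiset.prod_ne_zero h.2)).1 (by
      simpa [Multiset.prod_map_mul (f := fun _ => _)] using congrArg Multiset.prod h.1.2)), h.1.1.exists_unit h.2⟩)
    fun d b S hS => card_lev_gl he h0 _ S fun M hM => ⟨(hS M hM).1.1, (hS M hM).2⟩

theorem sl_fix_le {n : ℕ} (hn : 0 < n) (z : Subgroup.center (Matrix.SpecialLinearGroup (Fin n) F))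
    (hz : z ≠ 1) : ∃ m, 0 < m ∧ 2 * m ≤ n ∧ ((Nat.card F - 1 : ℕ) : ℝ) * Nat.card {C // ∃ g,
      ConjClasses.mk g = C ∧ IsConj (z.1 * g) g} ≤ Kb (Nat.card F - 1) (Nat.card F) m := by
  obtain ⟨r, h1, h2⟩ := Matrix.SpecialLinearGroup.mem_center_iff.1 z.2
  obtain ⟨m, hm⟩ := orderOf_dvd_of_pow_eq_one h1
  rw [Fintype.card_fin] at hm
  have h3 : orderOf r ≠ 1 := fun h => hz (Subtype.ext (Subtype.ext (by
    rw [← h2, orderOf_eq_one_iff.1 h, map_one]; rfl)))
  have h4 : orderOf r * m ≠ 0 := hm ▸ hn.ne'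
  have h5 := Nat.pos_of_ne_zero (left_ne_zero_of_mul h4)
  have h6 := Nat.pos_of_ne_zero (right_ne_zero_of_mul h4)
  refine ⟨m, h6, hm ▸ Nat.mul_le_mul_right _ (by omega), sl_classes_le h5 h6 hm (.orderOf r) fun g h => ?_⟩
  simpa [← h2, ← mE_smul, Matrix.smul_eq_diagonal_mul] using sl_sim_of_isConj h

omit [Finite F] in
theorem sl_reg {n : ℕ} (hn : 0 < n) : ∃ g : Matrix.SpecialLinearGroup (Fin n) F, Reg (mE g.1) := by
  obtain ⟨f, h1, h2⟩ := exists_JT (F := F) (V := Fin n → F) (μ := {n}) (by simpa) (by simp)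
  exact (exists_sl_sim h1.det (by simp)).imp fun _ h => h.symm.reg ⟨h1, by simpa⟩

omit [Finite F] in
theorem Reg.not_coprime [FiniteDimensional F V] (p : ℕ) [hp : Fact p.Prime] [CharP F p] {f : End F V}
    (h : Reg f) (hV : 2 ≤ finrank F V) : ¬ (orderOf f).Coprime p := fun h' => by
  obtain ⟨_ | j, hj⟩ := (unip_iff_orderOf p).1 h.unip
  · exact h.pow_ne (by rw [orderOf_eq_one_iff.1 hj, sub_self, zero_pow (by omega)])
  · simp [hj, hp.out.ne_one] at h'

theorem PForm.Nondeg.unit_classes_le [FiniteDimensional F V] {hσ : ∀ a, σ (σ a) = a}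
    (hne : σ ≠ RingHom.id F) {S : PForm (unitP σ hσ) V} (hS : S.Nondeg) {q : ℕ} (hF : Nat.card F = q ^ 2)
    (hV : 0 < finrank F V) :
    ((q + 1 : ℕ) : ℝ) * Nat.card (ConjClasses S.SIsom) ≤ Kb (q + 1) q (finrank F V) := by
  have h0 := frob_unit hF (unit_σ_eq hσ hne hF)
  have h1 : ∀ {M : Multiset (AC F)}, Sl (-q) M → Sl (Nat.card F) M := fun {M} h => by
    rw [Sl, hF]
    conv_rhs => rw [← h, ← h]
    simp [zpow_mul, sq]
  have h2 : 0 < q := Nat.pos_of_ne_zero fun e => by simpa [e, hF] using Nat.card_pos (α := F)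
  have := Module.finite_of_finite F (M := V)
  have := Module.nontrivial_of_finrank_pos hV
  have h3 := fun g : S.Isom => ((hS.unit_JD hne hF _).1 ⟨g, rfl⟩).1
  rw [← card_classes_true, ← card_normOne_unit hσ hne hF]
  refine ker_classes_le (ι := ((algebraMap F (AC F)).toMonoidHom.comp (Units.coeHom F)).comp
    (normOne σ).subtype) (((algebraMap F _).injective.comp Units.val_injective).comp Subtype.val_injective)
    (φ := S.detHom.codRestrict _ hS.det_mem_normOne) (fun a => ?_) (MonoidHom.ker_codRestrict ..).symm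
    (fun g => JD (iE g)) (fun g g' h => isim_iff_isConj.1 (unit_isim hne hS hS (sim_iff_JD.2 h)))
    (fun g x hx a => (hS.unit_exists_det hne hx a).imp fun _ h => ⟨h.1, Subtype.ext h.2⟩) one_pos hV
    (E := fun M => Sl (-q) M ∧ 0 ∉ M) (fun g _ => ⟨fun _ => JD_pos, by rw [dm_JD, one_mul],
      det_eq_one_iff_JD.1 ((det_iE _).trans (congrArg Units.val g.2)), fun i => ⟨(h3 g).st.lev i,
        fun h => ((h3 g).ne _ (mem_lev.1 h)).1 rfl⟩⟩) (fun M h => ⟨one_dvd _, ?_⟩) fun d b T hT =>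
    card_le_of_poly T (by positivity) (card_dual_monic hσ hne hF d (c := (-1) ^ (d + 1) * b.1.1) (by
      have := b.2
      rw [mem_normOne] at this
      rw [map_mul, mul_mul_mul_comm, this]; simp [← mul_pow])) fun M hM => ?_
  · obtain ⟨v, hv⟩ := hS.unit_exists_h_ne hne
    obtain ⟨g, -, h, -⟩ := exists_det_eq_of_ne hv a
    exact ⟨g, Subtype.ext h⟩
  · obtain ⟨b, hb⟩ := (h1 h.1).exists_unit h.2
    refine ⟨⟨b, (algebraMap F (AC F)).injective ?_⟩, hb⟩
    have := h.1.prod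
    rw [zpow_neg, zpow_natCast, inv_eq_iff_eq_inv] at this
    rw [h0.1, map_mul, map_pow, hb, this, map_one, inv_mul_cancel₀ (Multiset.prod_ne_zero h.2)]
  · obtain ⟨⟨h4, h5⟩, h6, h7⟩ := hT M hM
    obtain ⟨f, e, h8, h9, h10, h11⟩ := (h1 h4).exists_end
    exact ⟨_, ⟨h8, by rw [h9, h6, one_mul], (algebraMap F (AC F)).injective (by simp [h11, h6, h7]),
      ((dl_iff_JD hσ h0 (isUnit_iff_JD.2 (e ▸ Multiset.forall_mem_map_iff.2 fun a ha e =>
        h5 (e ▸ ha)))).2 (e ▸ h4.st 1)).charpoly hσ⟩, h10⟩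

end H11
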