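import Cfsg.Agent.H11.Cls2
/-! Power series bounds for class numbers of symplectic and orthogonal groups: weighted coefficient bounds
`BW`, level bounds `LB`, `sum_LB`, and the numerical bounds `bw_symp`, `bw_orth`, `bw_zero`, `bw_qt`. -/
namespace H11
open Finset PowerSeries

section BW
variable {q B c y κ : ℝ} {f g : ℝ⟦X⟧} {i N : ℕ}

/-- the weight `q ^ (n / 2)`, times `12 / 7` for odd `n` -/
noncomputable def ww (q : ℝ) (n : ℕ) : ℝ := q ^ (n / 2) * if Even n then 1 else 12 / 7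

/-- `1 / (1 - q X ^ 2)` -/
noncomputable def Pe (q : ℝ) : ℝ⟦X⟧ := mk fun n => if Even n then q ^ (n / 2) else 0

/-- `1 / (1 - q X ^ (2 i + 2))` -/
noncomputable def Gs (q : ℝ) (i : ℕ) : ℝ⟦X⟧ := expand (i + 1) i.succ_ne_zero (Pe q)

/-- coefficients are bounded by `B * ww q n` -/
def BW (q : ℝ) (f : ℝ⟦X⟧) (B : ℝ) : Prop := ∀ n, coeff n f ≤ B * ww q n

theorem ww_two (n : ℕ) : ww q (n + 2) = q * ww q n := by simp [ww, pow_succ', mul_assoc, parity_simps]

theorem pe_two (n : ℕ) : coeff (n + 2) (Pe q) = q * coeff n (Pe q) := by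
  simp [Pe, pow_succ', parity_simps]

theorem coeff_succ_one_add (n : ℕ) : coeff (n + 1) (f * (1 + X)) = coeff (n + 1) f + coeff n f := by
  simp [mul_add, coeff_succ_mul_X]

theorem pe_mul : Pe q * (1 - C q * X ^ 2) = 1 := by
  ext (_ | _ | n) <;> simp [mul_sub, mul_left_comm _ (C q), coeff_mul_X_pow', pe_two, coeff_one] <;>
    simp [Pe]

theorem gs_mul (i : ℕ) : Gs q i * (1 - C q * X ^ (2 * (i + 1))) = 1 := by
  simpa [Gs, expand_C, ← pow_mul, mul_comm 2] using congrArg (expand (i + 1) i.succ_ne_zero) (pe_mul (q := q))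

theorem ww_add (j n : ℕ) : ww q (2 * j + n) = q ^ j * ww q n := by
  induction j with
  | zero => simp
  | succ j ih => rw [show 2 * (j + 1) + n = 2 * j + n + 2 by ring, ww_two, ih]; ring

variable (hq : 3 ≤ q)
include hq

theorem ww_pos (n : ℕ) : 0 < ww q n := by unfold ww; split_ifs <;> positivity

theorem nn_pe : NN (Pe q) := fun n => by rw [Pe, coeff_mk]; split_ifs <;> positivity

theorem ww_succ (n : ℕ) : ww q n ≤ 7 / 12 * ww q (n + 1) := by
  obtain ⟨j, rfl | rfl⟩ := n.even_or_odd'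
  · rw [← add_zero (2 * j), add_assoc, ww_add, ww_add]; simp [ww]; linarith
  · rw [add_assoc, ww_add, ww_add]; simp [ww]; nlinarith [pow_pos (show 0 < q by linarith) j]

theorem ww_le (j n : ℕ) : ww q n ≤ 1 / 3 ^ j * ww q (2 * j + n) := by
  rw [ww_add, ← mul_assoc, one_div, inv_mul_eq_div, ← div_pow]
  exact le_mul_of_one_le_left (ww_pos hq n).le (one_le_pow₀ (by linarith))

theorem BW.mono (h : BW q f B) {B' : ℝ} (h' : B ≤ B') : BW q f B' := fun n =>
  (h n).trans (mul_le_mul_of_nonneg_right h' (ww_pos hq n).le)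

theorem BW.one_add (h : BW q f B) (hB : 0 ≤ B) (h0 : 0 ≤ y) (hy : ∀ n, ww q n ≤ y * ww q (i + n)) :
    BW q (f * (1 + X ^ i)) (B * (1 + y)) := fun n => by
  have := ww_pos hq n
  rw [mul_add, mul_one, map_add, coeff_mul_X_pow', mul_add, add_mul, mul_one]
  refine add_le_add (h n) ?_
  split_ifs with hn
  · obtain ⟨k, rfl⟩ := Nat.exists_eq_add_of_le hn
    rw [Nat.add_sub_cancel_left, mul_assoc]
    exact (h k).trans (mul_le_mul_of_nonneg_left (hy k) hB)
  · positivity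

theorem bw_of_mul (hi : 0 < i) (hg : g * (1 - C q * X ^ i) = f)
    (h : ∀ n, coeff n f + q * (if i ≤ n then B * ww q (n - i) else 0) ≤ B * ww q n) : BW q g B := by
  intro n
  induction n using Nat.strong_induction_on with | _ n ih =>
  refine le_trans ?_ (h n)
  rw [← hg, mul_sub, mul_one, mul_left_comm, map_sub, coeff_C_mul, coeff_mul_X_pow', sub_add,
    le_sub_self_iff, sub_nonpos]
  refine mul_le_mul_of_nonneg_left ?_ (by linarith)
  split_ifs with hn
  exacts [ih _ (by omega), le_rfl]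

theorem BW.gs (h : BW q f B) (hB : 0 ≤ B) (h1 : y < 1) (hy : 1 / 3 ^ i ≤ y) :
    BW q (f * Gs q i) (B / (1 - y)) := by
  have h2 := sub_pos.2 h1
  have h0 : 0 ≤ y := le_trans (by positivity) hy
  refine bw_of_mul hq (i := 2 * (i + 1)) (Nat.succ_pos _) (by rw [mul_assoc, gs_mul, mul_one])
    fun n => ?_
  have := ww_pos hq n
  rw [show B / (1 - y) * ww q n = B * ww q n + B / (1 - y) * (y * ww q n) by field_simp; ring]
  refine add_le_add (h n) ?_
  split_ifs with hn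
  · obtain ⟨k, rfl⟩ := Nat.exists_eq_add_of_le hn
    rw [Nat.add_sub_cancel_left, mul_left_comm, ← ww_two, show 2 * (i + 1) + k = 2 * i + (k + 2) by omega]
    exact mul_le_mul_of_nonneg_left ((ww_le hq i _).trans (mul_le_mul_of_nonneg_right hy (ww_pos hq _).le))
      (by positivity)
  · rw [mul_zero]; positivity

theorem BW.tail {A : ℕ → ℝ⟦X⟧} (h0 : 0 ≤ κ) (h1 : κ < 2 / 3)
    (hA : ∀ j g B, 0 ≤ B → BW q g B → BW q (g * A j) (B / (1 - κ / 3 ^ j))) (h : BW q f B) (hB : 0 ≤ B)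
    (N : ℕ) : BW q (f * ∏ j ∈ range N, A j) (B / (1 - 3 / 2 * κ)) := by
  have h2 : 0 < 1 - 3 / 2 * κ := by linarith
  have h3 : ∀ N : ℕ, 0 ≤ κ / 3 ^ N ∧ κ / 3 ^ N ≤ κ := fun N =>
    ⟨by positivity, div_le_self h0 (one_le_pow₀ (by norm_num))⟩
  refine BW.mono hq (B := B / (1 - 3 / 2 * κ) * (1 - 3 / 2 * (κ / 3 ^ N))) ?_
    (mul_le_of_le_one_right (by positivity) (by linarith [h3 N]))
  induction N with
  | zero => simpa [h2.ne'] using h
  | succ N ih =>
    rw [prod_range_succ, ← mul_assoc]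
    refine (hA _ _ _ (mul_nonneg (by positivity) (by linarith [h3 N])) ih).mono hq ?_
    rw [mul_div_assoc, pow_succ, ← div_div]
    refine mul_le_mul_of_nonneg_left ((div_le_iff₀ (by linarith [h3 N])).2 ?_) (by positivity)
    nlinarith [h3 N]

theorem BW.prodG (h : BW q f B) (hB : 0 ≤ B) {k : ℕ} (hk : 1 / 3 ^ k ≤ κ) (h1 : κ < 1) (hN : 2 ≤ N) :
    BW q (f * ∏ i ∈ range N, Gs q (i + k)) (B / (1 - κ) / (1 - κ / 3) / (1 - κ / 6)) := by
  obtain ⟨N, rfl⟩ := Nat.exists_eq_add_of_le' hN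
  have h0 : 0 ≤ κ := le_trans (by positivity) hk
  have h2 : ∀ j, 1 / 3 ^ (j + k) ≤ κ / 3 ^ j := fun j => by
    rw [pow_add, ← div_div, div_right_comm]; gcongr
  have h3 := sub_pos.2 h1
  have h4 : 0 < 1 - κ / 3 := by linarith
  convert (((h.gs hq hB h1 hk).gs hq (by positivity) (by linarith) (pow_one (3 : ℝ) ▸ h2 1)).tail hq
    (κ := κ / 9) (A := fun j => Gs q (j + 2 + k)) (by positivity) (by linarith) (fun j g B hB h => h.gs hq hB
      ((div_le_self (by positivity) (one_le_pow₀ (by norm_num))).trans_lt (by linarith))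
      ((h2 _).trans_eq (by ring))) (by positivity) N) using 1
  · rw [prod_range_succ', prod_range_succ', zero_add, zero_add]; ring
  · ring

theorem BW.prodB (h : BW q f B) (hB : 0 ≤ B) (h0 : 0 ≤ κ) (h1 : κ < 1) {a : ℕ}
    (hk : ∀ n, ww q n ≤ κ * ww q (a + n)) (hN : 3 ≤ N) : BW q (f * ∏ j ∈ range N, (1 + X ^ (2 * j + a)))
      (B * ((1 + κ) * (1 + κ / 3) * (1 + κ / 9) / (1 - κ / 18))) := by
  obtain ⟨N, rfl⟩ := Nat.exists_eq_add_of_le' hN
  have h2 : ∀ j {g B}, 0 ≤ B → BW q g B → BW q (g * (1 + X ^ (2 * j + a))) (B * (1 + κ / 3 ^ j)) :=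
    fun j g B hB h => h.one_add hq hB (by positivity) fun n => (hk n).trans (by
      rw [add_assoc, div_eq_mul_one_div, mul_assoc]; exact mul_le_mul_of_nonneg_left (ww_le hq _ _) h0)
  convert (h2 2 (by positivity) (h2 1 (by positivity) (h2 0 hB h))).tail hq (κ := κ / 27)
    (A := fun j => 1 + X ^ (2 * (j + 3) + a)) (by positivity) (by linarith) (fun j g B hB h =>
      (h2 _ hB h).mono hq ?_) (by positivity) N using 1
  · rw [prod_range_succ', prod_range_succ', prod_range_succ']; ring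
  · ring
  have h3 : κ / 27 / 3 ^ j < 1 := (div_le_self (by positivity) (one_le_pow₀ (by norm_num))).trans_lt (by linarith)
  rw [le_div_iff₀ (by linarith), show κ / 3 ^ (j + 3) = κ / 27 / 3 ^ j by ring, mul_assoc]
  exact mul_le_of_le_one_right hB (by nlinarith [sq_nonneg (κ / 27 / 3 ^ j)])

theorem BW.prodB_pow (h : BW q f B) (hB : 0 ≤ B) (h0 : 0 ≤ κ) (h1 : κ < 1) {a : ℕ}
    (hk : ∀ n, ww q n ≤ κ * ww q (a + n)) (hN : 3 ≤ N) (m : ℕ) :
    BW q (f * (∏ j ∈ range N, (1 + X ^ (2 * j + a))) ^ m)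
      (B * ((1 + κ) * (1 + κ / 3) * (1 + κ / 9) / (1 - κ / 18)) ^ m) := by
  have : 0 < 1 - κ / 18 := by linarith
  induction m with
  | zero => simpa
  | succ m ih => simpa only [pow_succ, mul_assoc] using ih.prodB hq (by positivity) h0 h1 hk hN

theorem bw_pe : BW q (Pe q) 1 := fun n => by
  have := ww_pos hq n
  rw [Pe, coeff_mk]; split_ifs with h <;> simp [ww, h]; positivity

theorem bw_pe_four : BW q (Pe q * (1 + X) ^ 4) (28 / 9) := fun n => by
  have h0 : constantCoeff (Pe q) = 1 := by simp [Pe]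
  have h1 : coeff 1 (Pe q) = 0 := by simp [Pe]
  rw [show Pe q * (1 + X) ^ 4 = Pe q * (1 + X) * (1 + X) * (1 + X) * (1 + X) by ring]
  obtain _ | _ | _ | _ | n := n
  iterate 4 simp [coeff_succ_one_add, pe_two, h1, h0, ww, show ¬ Even 3 by decide]; linarith
  simp only [coeff_succ_one_add, add_assoc, Nat.reduceAdd]
  rw [show n + 4 = n + 2 + 2 by ring, show n + 3 = n + 1 + 2 by ring]
  simp only [pe_two, ww_two]
  have h2 : 0 < q ^ (n / 2) := by positivity
  rcases n.even_or_odd with h | h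
  · simp [Pe, ww, h, parity_simps]
    nlinarith [mul_nonneg h2.le (mul_nonneg (sub_nonneg.2 hq) (show 0 ≤ 19 * q + 3 by positivity))]
  · simp [Pe, ww, Nat.not_even_iff_odd.2 h, h.add_one, Nat.succ_div, h.add_one.two_dvd, pow_succ]
    nlinarith [mul_nonneg h2.le (mul_nonneg (sub_nonneg.2 hq) (show 0 ≤ q by positivity))]

theorem bw_gs_two : BW q (Gs q 1 * (1 + X) ^ 2) (7 / 6) := by
  refine bw_of_mul hq (i := 4) (by simp) (by rw [mul_right_comm, gs_mul 1, one_mul]) fun n => ?_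
  rw [show (1 + X : ℝ⟦X⟧) ^ 2 = 1 * (1 + X) * (1 + X) by ring]
  obtain _ | _ | _ | _ | n := n
  iterate 4 simp [coeff_succ_one_add, coeff_one, coeff_X, ww, show ¬ Even 3 by decide] <;> linarith
  simp only [coeff_succ_one_add, add_assoc, Nat.reduceAdd]
  rw [show n + 4 = n + 2 + 2 by ring, ww_two, ww_two]
  simp [coeff_one]
  nlinarith [mul_pos (show 0 < q by linarith) (ww_pos hq n)]

omit hq in
theorem prod_range_two_mul' {M : Type*} [CommMonoid M] (f : ℕ → M) (N : ℕ) :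
    ∏ i ∈ range (2 * N), f i = (∏ j ∈ range N, f (2 * j)) * ∏ j ∈ range N, f (2 * j + 1) := by
  induction N with
  | zero => simp
  | succ N ih => simp only [mul_add_one, prod_range_succ, ih]; ac_rfl

variable {A : ℕ → ℝ⟦X⟧}

theorem bw_zero (N : ℕ) : BW q (∏ i ∈ range (N + 3), expand (i + 1) i.succ_ne_zero (Pe q)) (243 / 136) := by
  convert (bw_pe hq).prodG hq zero_le_one (k := 1) (κ := 1 / 3) (by norm_num) (by norm_num)
    (Nat.le_add_left 2 N) using 1
  · rw [prod_range_succ', mul_comm]; simp [Gs]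
  · norm_num

theorem bw_symp (N : ℕ) (h1 : ∀ j, A (2 * j + 1) = Pe q) (h2 : ∀ j, A (2 * j + 2) = Pe q * (1 + X) ^ 4) :
    BW q (∏ i ∈ range (2 * (N + 3)), expand (i + 1) i.succ_ne_zero (A (i + 1))) (54 / 5) := by
  convert ((bw_zero hq (2 * N + 3)).prodB_pow hq (by norm_num) (κ := 1 / 3) (by norm_num) (by norm_num)
    (a := 2) (by simpa using ww_le hq 1) (Nat.le_add_left 3 N) 4).mono hq (B' := 54 / 5) (by norm_num) using 1
  rw [show 2 * N + 3 + 3 = 2 * (N + 3) by ring, prod_range_two_mul', prod_range_two_mul']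
  simp [h1, h2, add_assoc, prod_mul_distrib, prod_pow, mul_assoc]

theorem ww_three (n : ℕ) : ww q n ≤ 7 / 36 * ww q (3 + n) := by
  have := ww_succ hq n
  have := ww_le hq 1 (n + 1)
  rw [show 3 + n = 2 * 1 + (n + 1) by ring]; linarith

theorem bw_orth (N : ℕ) (h1 : ∀ j, A (2 * j + 1) = Pe q * (1 + X) ^ 4) (h2 : ∀ j, A (2 * j + 2) = Pe q) :
    BW q (∏ i ∈ range (2 * (N + 4)), expand (i + 1) i.succ_ne_zero (A (i + 1))) (1655 / 100) := by
  convert (((bw_pe_four hq).prodG hq (by norm_num) (k := 1) (κ := 1 / 3) (by norm_num) (by norm_num)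
    (Nat.le_add_left 2 (2 * N + 5))).prodB_pow hq (by norm_num) (κ := 7 / 36) (by norm_num) (by norm_num)
    (ww_three hq) (Nat.le_add_left 3 N) 4).mono hq (B' := 1655 / 100) (by norm_num) using 1
  have := prod_range_succ' (Gs q) (2 * N + 5 + 2)
  rw [show 2 * N + 5 + 2 + 1 = 2 * (N + 4) by ring, prod_range_two_mul'] at this
  rw [prod_range_two_mul', mul_right_comm (Pe q), mul_comm (Pe q), show Pe q = Gs q 0 by simp [Gs], ← this]
  simp only [h1, h2, add_assoc, prod_mul_distrib, prod_pow, map_mul, map_pow, map_add, map_one, expand_X,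
    Nat.reduceAdd, Gs]
  rw [prod_range_succ' (fun j => (1 + X ^ (2 * j + 1) : ℝ⟦X⟧))]
  simp only [mul_add_one, add_assoc, Nat.reduceAdd]; ring

theorem bw_qt (N : ℕ) (h0 : A 1 = (1 + X) ^ 2) (h1 : ∀ j, A (2 * j + 3) = Pe q * (1 + X) ^ 2)
    (h2 : ∀ j, A (2 * j + 2) = Pe q) :
    BW q (∏ i ∈ range (2 * (N + 3) + 1), expand (i + 1) i.succ_ne_zero (A (i + 1))) (12 / 5) := by
  convert (((bw_gs_two hq).prodG hq (by norm_num) (k := 2) (κ := 1 / 9) (by norm_num) (by norm_num)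
    (Nat.le_add_left 2 (2 * N + 3))).prodB_pow hq (by norm_num) (κ := 7 / 36) (by norm_num) (by norm_num)
    (ww_three hq) (Nat.le_add_left 3 N) 2).mono hq (B' := 12 / 5) (by norm_num) using 1
  have := prod_range_succ' (fun i => Gs q (i + 1)) (2 * N + 3 + 2)
  rw [show 2 * N + 3 + 2 + 1 = 2 * (N + 3) by ring, prod_range_two_mul'] at this
  rw [prod_range_succ', prod_range_two_mul', mul_right_comm (Gs q 1), mul_comm (Gs q 1), ← this]
  simp only [h0, h1, h2, add_assoc, prod_mul_distrib, prod_pow, map_mul, map_pow, map_add, map_one, expand_X,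
    Nat.reduceAdd, Gs, zero_add]
  ring

end BW

section LB
variable {K : Type*} {E E' : Multiset K → Prop} {ω ω' : Multiset K → ℝ} {A : ℝ⟦X⟧}

/-- weighted counts of multisets are bounded by the coefficients of `A` -/
def LB (E : Multiset K → Prop) (ω : Multiset K → ℝ) (A : ℝ⟦X⟧) : Prop :=
  ∀ m (S : Finset (Multiset K)), (∀ M ∈ S, E M ∧ M.card = m) → ∑ M ∈ S, ω M ≤ coeff m A

theorem LB.mono (h : LB E ω A) (h' : ∀ M, E' M → E M ∧ ω' M ≤ ω M) : LB E' ω' A := fun m S hS =>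
  (sum_le_sum fun M hM => (h' M (hS M hM).1).2).trans (h m S fun M hM => ⟨(h' M (hS M hM).1).1, (hS M hM).2⟩)

theorem LB.nn (h : LB E ω A) : NN A := fun m => by simpa using h m ∅ (by simp)

theorem LB.step [DecidableEq K] (h : LB E ω A) (c : K) (hE : ∀ M, E (c ::ₘ M) → E M)
    (h' : ∀ M, E M → ω' M ≤ ω M + if c ∈ M then ω (M.erase c) else 0) : LB E ω' (A * (1 + X)) := by
  intro m S hS
  refine (sum_le_sum fun M hM => h' M (hS M hM).1).trans ?_
  rw [sum_add_distrib, ← sum_filter]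
  obtain _ | m := m
  · rw [filter_eq_empty_iff.2 fun M hM => by simp [Multiset.card_eq_zero.1 (hS M hM).2]]
    simpa using h 0 S hS
  rw [coeff_succ_one_add, ← sum_image (s := {M ∈ S | c ∈ M}) (g := (·.erase c)) (f := ω) fun M hM N hN e => by
    rw [← Multiset.cons_erase (mem_filter.1 hM).2, show M.erase c = _ from e, Multiset.cons_erase (mem_filter.1 hN).2]]
  refine add_le_add (h _ S hS) (h _ _ (forall_mem_image.2 fun M hM => ?_))
  obtain ⟨hM, hc⟩ := mem_filter.1 hM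
  exact ⟨hE _ ((Multiset.cons_erase hc).symm ▸ (hS M hM).1), by
    rw [Multiset.card_erase_of_mem hc, (hS M hM).2]; rfl⟩

theorem sum_LB (T : Finset (Multiset (K × ℕ))) {n N : ℕ} (hN : n ≤ N) {ω : ℕ → Multiset K → ℝ}
    (hω : ∀ i M, 0 ≤ ω i M) (h : ∀ J ∈ T, J.map Prod.snd ∈ Pt n) {E : ℕ → Multiset K → Prop}
    (hE : ∀ J ∈ T, ∀ i, E i (lev i J)) {A : ℕ → ℝ⟦X⟧} (hA : ∀ i, LB (E i) (ω i) (A i))
    (h0 : ∀ i, coeff 0 (A i) = 1) : ∑ J ∈ T, ∏ i ∈ (J.map Prod.snd).toFinset, ω i (lev i J) ≤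
      coeff n (∏ i ∈ range N, expand (i + 1) i.succ_ne_zero (A (i + 1))) := by
  refine (sum_type_le T hω h hE (f := fun i m => coeff m (A i)) fun i m => hA i _).trans
    ((Zp_le (fun i => (hA i).nn) h0 hN).trans_eq ?_)
  congr 2; ext i : 1; rw [exs]; congr 1; ext; simp

end LB
end H11
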