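import Cfsg.Agent.H11.Uni
import Mathlib.NumberTheory.LegendreSymbol.Complex
/-! Exact number of unipotent classes with given Jordan type (`card_UJ`), via Gauss sums of the top
forms; classes of `Sp` as a subset of `Mo` (`symp_card`). -/
namespace H11
open Module Polynomial Pointwise
open PForm hiding X

universe u
variable {F : Type u} [Field F] [Finite F] {P : FParam (RingHom.id F)} {d : ℕ} (ψ : AddChar F ℂ)

omit [Finite F] in
theorem gs_ne_zero (h2 : (2 : F) ≠ 0) {V : Type*} [AddCommGroup V] [Module F V] [Fintype V]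
    (B : V →ₗ[F] V →ₗ[F] F) : ∑ w, ψ (B w w) ≠ 0 := fun h => by
  classical
  have h1 : ∑ u, ∑ v, (ψ.compAddMonoidHom ((2 : F) • (B u + B.flip u)).toAddMonoidHom) v =
      (∑ w, ψ (B w w)) * ∑ w, ψ (-B w w) := by
    rw [Finset.sum_mul_sum, ← Fintype.sum_prod_type', ← Fintype.sum_prod_type']
    refine Fintype.sum_bijective (fun x => (x.1 + x.2, x.1 - x.2))
      (Finite.injective_iff_bijective.1 fun x y e => ?_) _ _ fun x => ?_
    · obtain ⟨e1, e2⟩ := Prod.ext_iff.1 e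
      exact Prod.ext (smul_right_injective V h2 (by linear_combination (norm := module) e1 + e2))
        (smul_right_injective V h2 (by linear_combination (norm := module) e1 - e2))
    · rw [← AddChar.map_add_eq_mul]; simp; ring_nf
  simp only [h, zero_mul, AddChar.sum_eq_ite] at h1
  rw [← Finset.sum_filter, Finset.sum_const, nsmul_eq_mul, mul_eq_zero] at h1
  refine h1.elim (Nat.cast_ne_zero.2 (Finset.card_ne_zero.2 ⟨0, ?_⟩)) (Nat.cast_ne_zero.2 Fintype.card_ne_zero)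
  simp only [Finset.mem_filter, Finset.mem_univ, true_and]
  ext; simp

omit [Finite F] in
theorem gs_add [Fintype F] (h2 : (2 : F) ≠ 0) (hψ : ψ ≠ 1) {δ : F} (hδ : ¬ IsSquare δ) :
    ∑ a, ψ (1 * a * a) + ∑ a, ψ (δ * a * a) = 0 := by
  classical
  have h0 : δ ≠ 0 := fun e => hδ (e ▸ IsSquare.zero)
  have h : ∀ t : F, t ≠ 0 → ∑ a, ψ (t * a * a) = ∑ b, ((quadraticChar F (t⁻¹ * b) : ℂ) + 1) * ψ b :=
    fun t ht => by
      rw [← Finset.sum_fiberwise Finset.univ fun a => t * a * a]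
      refine Finset.sum_congr rfl fun b _ => ?_
      rw [Finset.sum_congr rfl fun a ha => by rw [(Finset.mem_filter.1 ha).2], Finset.sum_const,
        nsmul_eq_mul]
      congr 1
      have := quadraticChar_card_sqrts (fun e => h2 (by
        simpa [e] using ringChar.Nat.cast_ringChar (R := F))) (t⁻¹ * b)
      simp only [Set.toFinset_setOf, eq_inv_mul_iff_mul_eq₀ ht, sq, ← mul_assoc] at this
      exact_mod_cast this
  rw [h _ one_ne_zero, h _ h0, ← Finset.sum_add_distrib, ← mul_zero 2, ← AddChar.sum_eq_zero_of_ne_one hψ,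
    Finset.mul_sum]
  refine Finset.sum_congr rfl fun b _ => ?_
  rw [map_mul, map_mul, inv_one, map_one, (quadraticChar_neg_one_iff_not_isSquare (a := δ⁻¹)).2 (by simpa)]
  push_cast; ring

/-- Gauss sum of the top form -/
noncomputable def Mo.gs (d : ℕ) : Mo P → ℂ :=
  Quotient.lift (fun x => ∑ᶠ w, ψ (x.S.h w (((iE x.g - 1) ^ d) w))) fun _ y ⟨e, he, h⟩ =>
    finsum_eq_of_bijective e e.bijective fun w => by
      have := aeval_intertwine (e := e.toLinearMap) (g := iE y.g) h ((X - 1) ^ d) w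
      simp only [map_pow, map_sub, aeval_X, map_one] at this
      rw [← he.h_eq]; exact congrArg (ψ <| y.S.h _ ·) this

theorem Mo.gs_add (x y : Mo P) : (x + y).gs ψ d = x.gs ψ d * y.gs ψ d := by
  obtain ⟨x⟩ := x
  obtain ⟨y⟩ := y
  have := (Module.finite_of_finite F : Finite x.V)
  have := (Module.finite_of_finite F : Finite y.V)
  have := Fintype.ofFinite x.V
  have := Fintype.ofFinite y.V
  have := aeval_prodMap (iE x.g) (iE y.g) ((X - 1) ^ d)
  simp only [map_pow, map_sub, aeval_X, map_one] at this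
  change ∑ᶠ w : x.V × y.V, ψ _ = (∑ᶠ w : x.V, ψ _) * ∑ᶠ w : y.V, ψ _
  simp [finsum_eq_sum_of_fintype, Finset.sum_mul_sum, Fintype.sum_prod_type, iE_prodI, this,
    AddChar.map_add_eq_mul]

theorem Mo.gs_ne (h2 : (2 : F) ≠ 0) (x : Mo P) : x.gs ψ d ≠ 0 := by
  obtain ⟨x⟩ := x
  have := (Module.finite_of_finite F : Finite x.V)
  have := Fintype.ofFinite x.V
  exact fun h => gs_ne_zero ψ h2 (x.S.h.compl₂ ((iE x.g - 1) ^ d)) ((finsum_eq_sum_of_fintype _).symm.trans h)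

theorem UJ.gs {ν : Multiset ℕ} (h : ∀ k ∈ ν, k ≤ d) {x : Mo P} (hx : x ∈ UJ P ν) :
    x.gs ψ d = Nat.card F ^ ν.sum := by
  obtain ⟨x⟩ := x
  have := (Module.finite_of_finite F : Finite x.V)
  have := Fintype.ofFinite x.V
  change ∑ᶠ w : x.V, ψ _ = _
  rw [(UJ.pow hx).2 h, ← (unip_of_JD hx).2, JT_sum, ← Nat.cast_pow, ← Module.natCard_eq_pow_finrank]
  simp [finsum_eq_sum_of_fintype]

theorem Rs.gs (h2 : (2 : F) ≠ 0) (hψ : ψ ≠ 1) {δ : F} (hδ : ¬ IsSquare δ) {r r' : Mo P}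
    (h : r ∈ Rs P d 1) (h' : r' ∈ Rs P d δ) : r.gs ψ d ≠ r'.gs ψ d := fun e => by
  have := Fintype.ofFinite F
  have h1 : ∀ {t r}, r ∈ Rs P d t → r.gs ψ d = ∑ _ : Fin d → F, ∑ a, ψ (t * a * a) := by
    rintro t _ ⟨S, hS, k, rfl, e, h⟩
    change ∑ᶠ w, ψ (S.h w (((iE k - 1) ^ d) w)) = _
    simp only [e, h, finsum_eq_sum_of_fintype]
    rw [← (Fin.snocEquiv fun _ => F).sum_comp, Fintype.sum_prod_type_right]
    simp
  have h3 : r.gs ψ d + r'.gs ψ d = 0 := by
    rw [h1 h, h1 h', ← Finset.sum_add_distrib, gs_add ψ h2 hψ hδ, Finset.sum_const_zero]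
  exact r.gs_ne ψ h2 (by linear_combination (h3 + e) / 2)

theorem Md.uj {μ : Multiset ℕ} (h : Md P μ) : (UJ P μ).Nonempty := by
  obtain ⟨V, _, _, _, S, g, hS, h1, rfl⟩ := h
  exact ⟨cls hS g, h1.JD_eq⟩

theorem UJ.add {μ ν : Multiset ℕ} {x y : Mo P} (h : x ∈ UJ P μ) (h' : y ∈ UJ P ν) :
    x + y ∈ UJ P (μ + ν) := by
  change _ = _; rw [Mo.JD_add, h, h', Multiset.map_add]

open Classical in
theorem card_UJ (h2 : (2 : F) ≠ 0) (hm : ∀ d, gd P (d + 1) → Md P {d + 1}) (μ : Multiset ℕ)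
    (hμ : ∀ k ∈ μ, 0 < k) (he : ∀ i, ¬ gd P i → Even (μ.count i)) :
    (UJ P μ).encard = 2 ^ (μ.toFinset.filter (gd P)).card := by
  refine le_antisymm ?_ ?_
  · refine (hb_all h2 (P := P) (χ := 1) (c := False) (by simp) (by simp) (by simp) (μ.map (1, ·))).1.trans_eq
      (congrArg _ ?_)
    have h0 : (1 : AC F) ≠ -1 := fun e => h2 ((algebraMap F (AC F)).injective (by
      rw [map_ofNat, map_zero]; linear_combination e))
    have h1 : na P (-1) (μ.map (1, ·)) = 0 := by simp [na, h0]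
    rw [h1, add_zero, na]; congr 1; ext; simp; tauto
  obtain ⟨δ, h0, hδ⟩ := exists_not_isSquare h2
  set ψ := AddChar.FiniteField.primitiveChar_to_Complex F
  have hψ : ψ ≠ 1 := by
    simpa using AddChar.FiniteField.primitiveChar_to_Complex_isPrimitive F one_ne_zero
  suffices ∃ A ⊆ UJ P μ, 2 ^ (μ.toFinset.filter (gd P)).card ≤ A.encard ∧
      A.InjOn fun x d => x.gs ψ d from this.elim fun A h => h.2.1.trans (Set.encard_le_encard h.1)
  induction μ using Multiset.strongInductionOn with | _ μ ih =>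
  rcases eq_or_ne μ 0 with rfl | h1
  · obtain ⟨x, hx⟩ := (md_dbl P (μ := 0) (by simp)).uj
    exact ⟨{x}, by simpa using hx, by simp, by simp⟩
  obtain ⟨d, ν, rfl, hν⟩ := exists_max_cons h1 hμ
  have h3 : ∀ {A : Set (Mo P)} (r), (A.InjOn fun x d => x.gs ψ d) → ((r + ·) '' A).encard = A.encard ∧
      ((r + ·) '' A).InjOn fun x d => x.gs ψ d := fun {A} r h => by
    have : A.InjOn ((fun x d => x.gs ψ d) ∘ (r + ·)) := fun x hx y hy e => h hx hy (funext fun d =>
      mul_left_cancel₀ (r.gs_ne ψ h2) (by simpa [Mo.gs_add] using congrFun e d))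
    exact ⟨this.of_comp.encard_image, this.image_of_comp⟩
  by_cases hd : gd P (d + 1)
  · obtain ⟨A, h4, h5, h6⟩ := ih ν (Multiset.lt_cons_self _ _) (fun k hk => hμ k (Multiset.mem_cons_of_mem hk))
      fun i hi => by simpa [show i ≠ d + 1 by rintro rfl; exact hi hd] using he i hi
    have h7 : ∀ t ≠ 0, ∃ r ∈ Rs P d t, (r + ·) '' A ⊆ UJ P ((d + 1) ::ₘ ν) := fun t ht => by
      obtain ⟨x, hx⟩ := (hm d hd).uj
      obtain ⟨s, hs, h⟩ := exists_vl h2 (by simp) hd hx (by simp)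
      obtain ⟨r, hr, -⟩ := peelG h2 (ν := 0) (by simp) hx h hs
      obtain ⟨_, _, _, _, _, _, h⟩ := Rs.sc h2 hs ht hr
      exact ⟨_, h, by rintro _ ⟨a, ha, rfl⟩; exact UJ.add (μ := {d + 1}) (Rs.JD h) (h4 ha)⟩
    obtain ⟨r, hr, h8⟩ := h7 1 one_ne_zero
    by_cases h9 : d + 1 ∈ ν
    · rw [Multiset.toFinset_cons, Finset.insert_eq_of_mem (Multiset.mem_toFinset.2 h9)]
      exact ⟨_, h8, (h3 r h6).1 ▸ h5, (h3 r h6).2⟩
    obtain ⟨r', hr', h8'⟩ := h7 δ h0
    have h10 : ∀ x ∈ (r + ·) '' A, ∀ y ∈ (r' + ·) '' A, x.gs ψ d ≠ y.gs ψ d := by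
      have : ∀ k ∈ ν, k ≤ d := fun k hk => Nat.le_of_lt_succ ((hν k hk).lt_of_ne fun e => h9 (e ▸ hk))
      rintro _ ⟨a, ha, rfl⟩ _ ⟨b, hb, rfl⟩ e
      rw [Mo.gs_add, Mo.gs_add, UJ.gs ψ this (h4 hb), ← UJ.gs ψ this (h4 ha)] at e
      exact Rs.gs ψ h2 hψ hδ hr hr' (mul_right_cancel₀ (a.gs_ne ψ h2) e)
    have h11 := Set.disjoint_left.2 fun x hx hx' => h10 x hx x hx' rfl
    refine ⟨_, Set.union_subset h8 h8', ?_, (Set.injOn_union h11).2 ⟨(h3 r h6).2, (h3 r' h6).2,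
      fun x hx y hy e => h10 x hx y hy (congrFun e d)⟩⟩
    rw [Multiset.toFinset_cons, Finset.filter_insert, if_pos hd, Finset.card_insert_of_notMem
      (by simp [h9]), Set.encard_union_eq h11, (h3 r h6).1, (h3 r' h6).1, pow_succ, mul_two]
    exact add_le_add h5 h5
  obtain ⟨ν, rfl⟩ := Multiset.exists_cons_of_mem (show d + 1 ∈ ν from by_contra fun h => by
    simpa [Multiset.count_eq_zero.2 h] using he _ hd)
  obtain ⟨A, h4, h5, h6⟩ := ih ν ((Multiset.lt_cons_self _ _).trans (Multiset.lt_cons_self _ _))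
    (fun k hk => hμ k (by simp [hk])) fun i hi => by
      have := he i hi
      rw [Multiset.count_cons, Multiset.count_cons, add_assoc] at this
      exact (Nat.even_add.1 this).2 ⟨_, rfl⟩
  obtain ⟨r, hr⟩ := (md_dbl P (μ := {d + 1}) (by simp)).uj
  refine ⟨_, by rintro _ ⟨a, ha, rfl⟩; simpa using UJ.add hr (h4 ha), ?_, (h3 r h6).2⟩
  simpa [Finset.filter_insert, hd, (h3 r h6).1] using h5

theorem symp_card {m : ℕ} (p : Matrix.symplecticGroup (Fin m) F → Prop) {A : Set (Mo (sympP F))}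
    (h : ∀ g, p g ↔ cls (stdSymp_nondeg m) (spEquiv m F g) ∈ A) (hA : ∀ x ∈ A, dm x.JD = 2 * m) :
    Nat.card {C // ∃ g, ConjClasses.mk g = C ∧ p g} = A.ncard := by
  rw [card_classes p (fun g => cls (stdSymp_nondeg m) (spEquiv m F g)) fun g g' _ _ => by
    rw [cls_eq, isim_iff_isConj, isConj_equiv_iff]]
  refine Nat.card_congr (Equiv.subtypeEquivRight fun x => ⟨?_, fun hx => ?_⟩)
  · rintro ⟨g, hg, rfl⟩; exact (h g).1 hg
  obtain ⟨x⟩ := x
  obtain ⟨k, hk⟩ := (symp_eqv _ x.nd (stdSymp_nondeg m) ((dm_JD _).symm.trans (hA _ hx))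
    (by simp [two_mul])).exists_isim x.g
  obtain ⟨g, rfl⟩ := (spEquiv m F).surjective k
  have := ((cls_eq x.nd (stdSymp_nondeg m)).2 hk).symm
  exact ⟨g, (h g).2 (this ▸ hx), this⟩

open Classical in
theorem symp_UJ (h2 : (2 : F) ≠ 0) {μ : Multiset ℕ} (hμ : ∀ k ∈ μ, 0 < k)
    (he : ∀ i, Odd i → Even (μ.count i)) :
    (UJ (sympP F) μ).encard = (2 ^ (μ.toFinset.filter Even).card : ℕ) := by
  have h : ∀ i ∈ μ, gd (sympP F) i ↔ Even i := fun i hi => by
    obtain ⟨d, rfl⟩ := Nat.exists_eq_add_one_of_ne_zero (hμ i hi).ne'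
    rw [gd_symp h2, Nat.even_add_one, Nat.not_even_iff_odd]
  rw [card_UJ h2 (fun d hd => md_symp (by simp) fun k hk => ?_) μ hμ fun i hi => ?_,
    Finset.filter_congr fun i hi => h i (Multiset.mem_toFinset.1 hi)]
  · simp
  · rw [Multiset.count_eq_zero.2 fun e => ?_]
    · simp
    · exact Nat.not_even_iff_odd.2 hk (Multiset.mem_singleton.1 e ▸ ((gd_symp h2).1 hd).add_one)
  · by_cases e : i ∈ μ
    · exact he i (Nat.not_even_iff_odd.1 (mt (h i e).2 hi))
    · simp [Multiset.count_eq_zero.2 e]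

end H11
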