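import Cfsg.Agent.H11.Cls3
import Cfsg.Agent.H11.Uni2
/-! Palindromic polynomials (`card_pal`), level bounds for symplectic and orthogonal Jordan data, existence
of classes with given Jordan data (`exists_Mo`), the bounds `sum_na_le`, `card_na_le`. -/
namespace H11
open Module Polynomial Finset
open PForm hiding X

universe u
section Ms
variable {K : Type*} [Field K] {t : ℤ} {M N : Multiset K}

theorem Sl.of_add (h : Sl t (M + N)) (h' : Sl t M) : Sl t N := by
  rw [Sl, Multiset.map_add, h'] at h; exact add_left_cancel h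

theorem sl_replicate {c : K} (h : c ^ t = c) (a : ℕ) : Sl t (Multiset.replicate a c) := by simp [Sl, h]

theorem Sl.pair (h : Sl (-1) M) (h1 : ∀ z ∈ M, z ≠ 0 ∧ z ^ 2 ≠ 1) : Even M.card ∧ M.prod = 1 := by
  induction M using Multiset.strongInductionOn with | _ M ih =>
  rcases M.empty_or_exists_mem with rfl | ⟨z, hz⟩
  · simp
  obtain ⟨M, rfl⟩ := Multiset.exists_cons_of_mem hz
  have h2 := h1 z hz
  obtain ⟨M, rfl⟩ := Multiset.exists_cons_of_mem (show z⁻¹ ∈ M from (Multiset.mem_cons.1 (by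
    rw [← h]; simp)).resolve_left fun e => h2.2 (by rw [sq]; nth_rw 1 [← e]; simp [h2.1]))
  have := ih M ((Multiset.lt_cons_self _ _).trans (Multiset.lt_cons_self _ _))
    (Sl.of_add (M := {z, z⁻¹}) (by simpa) (by simpa [Sl] using Multiset.pair_comm _ _)) fun z hz => h1 z (by simp [hz])
  simp [this, h2.1, parity_simps]

theorem exists_dec (M : Multiset K) : ∃ a b N, M = .replicate a 1 + (.replicate b (-1) + N) ∧
    (∀ z ∈ N, z ^ 2 ≠ 1) ∧ ((-1 : K) = 1 → b = 0) := by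
  classical
  refine ⟨_, _, (M.filter (· ≠ 1)).filter (· ≠ -1), by
    rw [← Multiset.filter_eq', ← Multiset.filter_eq', Multiset.filter_add_not, Multiset.filter_add_not],
    by simp +contextual, fun h => by simp [h]⟩

theorem count_lev {K : Type*} [DecidableEq K] {J : Multiset (K × ℕ)} (z : K) (i : ℕ) :
    (lev i J).count z = J.count (z, i) := by
  induction J using Multiset.induction_on with
  | empty => rfl
  | cons x J ih =>
    rw [← Multiset.singleton_add, lev_add, Multiset.count_add, Multiset.count_add, ih]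
    by_cases h : x.2 = i <;> simp [lev, Multiset.filter_singleton, h, Multiset.count_singleton, Prod.ext_iff]
    omega
end Ms

variable {F : Type u} [Field F] [Finite F] {P : FParam (RingHom.id F)} {M : Multiset (AC F)}

/-- palindromic polynomials of degree `2 n` -/
def Pal (n : ℕ) (p : F[X]) : Prop := p.Monic ∧ p.natDegree = 2 * n ∧ p.coeff 0 = 1 ∧ dualP (RingHom.id F) p = p

omit [Finite F] in
theorem pal_iff {n : ℕ} {p : F[X]} : Pal n p ↔ p.natDegree = 2 * n ∧ p.coeff 0 = 1 ∧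
    ∀ i ≤ 2 * n, p.coeff (2 * n - i) = p.coeff i :=
  ⟨fun ⟨_, h1, h2, h3⟩ => ⟨h1, h2, by simpa [h1, h2] using (dualP_eq_iff (by simp [h2])).1 h3⟩,
    fun ⟨h1, h2, h3⟩ => ⟨by simpa [Monic, leadingCoeff, h1, h2] using h3 0 (by simp), h1, h2,
      (dualP_eq_iff (by simp [h2])).2 (by simpa [h1, h2] using h3)⟩⟩

omit [Finite F] in
theorem card_pal (n : ℕ) : Nat.card {p : F[X] // Pal n p} = Nat.card F ^ n := by
  rw [show Nat.card F ^ n = Nat.card (Fin n → F) by simp [Nat.card_fun]]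
  refine Nat.card_congr (.ofBijective (fun p i => p.1.coeff (i + 1)) ⟨fun p p' e => ?_, fun v => ?_⟩)
  · obtain ⟨h1, h2, h3⟩ := pal_iff.1 p.2
    obtain ⟨h1', h2', h3'⟩ := pal_iff.1 p'.2
    have h : ∀ i ≤ n, p.1.coeff i = p'.1.coeff i := by
      rintro (_ | i) hi
      exacts [h2.trans h2'.symm, congrFun e ⟨i, hi⟩]
    refine Subtype.ext ((ext_iff_natDegree_le h1.le h1'.le).2 fun i hi => ?_)
    rcases le_total i n with h4 | h4
    · exact h i h4
    · rw [← h3 i hi, ← h3' i hi, h _ (by omega)]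
  · let c : ℕ → F := fun i => if h : min i (2 * n - i) ≤ n then
      Fin.cons (α := fun _ => F) 1 v ⟨_, Nat.lt_succ_of_le h⟩ else 0
    have h : ∀ i, (∑ j ∈ range (2 * n + 1), monomial j (c j)).coeff i = if i ≤ 2 * n then c i else 0 :=
      fun i => by simp [coeff_monomial, Nat.lt_succ_iff]
    refine ⟨⟨_, pal_iff.2 ⟨natDegree_eq_of_le_of_coeff_ne_zero (natDegree_le_iff_coeff_eq_zero.2
      fun i hi => by rw [h, if_neg hi.not_ge]) (by rw [h]; simp [c]), by rw [h]; simp [c], fun i hi => ?_⟩⟩,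
        funext fun i => ?_⟩
    · rw [h, h, if_pos hi, if_pos (Nat.sub_le _ _)]; simp only [c, Nat.sub_sub_self hi, min_comm]
    · simp only [h, c, show i + 1 ≤ 2 * n by omega, show min (i.1 + 1) (2 * n - (i + 1)) = i + 1 by omega]
      exact (dif_pos (Nat.succ_le_of_lt i.2)).trans rfl

/-- admissible levels -/
structure El (M : Multiset (AC F)) : Prop where
  sl : Sl (Nat.card F) M
  inv : Sl (-1) M
  ne : 0 ∉ M

theorem neg_one_zpow_card : (-1 : AC F) ^ (Nat.card F : ℤ) = -1 := by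
  simpa using pow_card_algebraMap (-1 : F)

theorem El.of_add {N : Multiset (AC F)} {c : AC F} {a : ℕ} (h : El (.replicate a c + N)) (hc : c = 1 ∨ c = -1) :
    El N := ⟨h.1.of_add (sl_replicate (by rcases hc with rfl | rfl; exacts [one_zpow _, neg_one_zpow_card]) _),
  h.2.of_add (sl_replicate (by rcases hc with rfl | rfl <;> simp) _), fun e => h.3 (by simp [e])⟩

theorem El.exists_pal (h : El M) {n : ℕ} (h1 : M.card = 2 * n) (h2 : M.prod = 1) :
    ∃ p, Pal n p ∧ p.map (algebraMap F _) = (M.map (X - C ·)).prod := by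
  obtain ⟨f, h3, h4, h5, h6, h7⟩ := h.1.exists_end
  have h8 : IsUnit f := isUnit_iff_JD.2 (by simpa [h3] using fun a ha (e : a = 0) => h.3 (e ▸ ha))
  exact ⟨_, ⟨h4, h5.trans h1, (algebraMap F (AC F)).injective (by simp [h7, h1, h2]),
    Dl.charpoly (fun _ => rfl) ((dl_iff_JD (fun _ => rfl) frob_id h8).2 (h3 ▸ h.2.st 1))⟩, h6⟩

theorem Mo.el (x : Mo P) (i : ℕ) : El (lev i x.JD) :=
  ⟨x.adm.1.st.lev i, x.adm.2.lev i, fun h => (x.adm.1.ne _ (mem_lev.1 h)).1 rfl⟩

theorem exists_Mo₀ (P : FParam (RingHom.id F)) {J : Multiset (AC F × ℕ)} (h : Adm (Nat.card F) J)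
    (h' : St (-1) J) (h1 : ∀ x ∈ J, x.1 ^ 2 ≠ 1) : ∃ x : Mo P, x.JD = J := by
  obtain ⟨f, h2, e⟩ := h.exists_JD (V := Fin (dm J) → F) (by simp)
  obtain ⟨T, hT, g, rfl⟩ := ((dl_iff_JD (fun _ => rfl) frob_id h2).2 (by rwa [e])).exists_isom P
    (isUnit_sq_iff_JD.2 (by rwa [e]))
  exact ⟨cls hT g, e⟩

theorem El.exists_Mo {a b : ℕ} {N : Multiset (AC F)} (h : El (.replicate a 1 + (.replicate b (-1) + N)))
    (h1 : ∀ z ∈ N, z ^ 2 ≠ 1) {x y : Mo P} (hx : x ∈ UJ P (.replicate a 1)) (hy : y ∈ UJ P (.replicate b 1)) :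
    ∃ z : Mo P, (x + (y.ng + z)).JD = (.replicate a 1 + (.replicate b (-1) + N) : Multiset _).map (·, 1) := by
  have h2 := (h.of_add (.inl rfl)).of_add (.inr rfl)
  obtain ⟨z, hz⟩ := exists_Mo₀ P (J := N.map (·, 1)) ⟨h2.1.st 1, by simpa using fun a ha (e : a = 0) => h2.3 (e ▸ ha)⟩
    (h2.2.st 1) (by simpa using h1)
  exact ⟨z, by simp [Mo.JD_add, Mo.JD_ng, hz, show x.JD = _ from hx, show y.JD = _ from hy, scl]⟩

theorem exists_el {n : ℕ} {p : F[X]} (h : Pal n p) : ∃ a b N, El (.replicate a 1 + (.replicate b (-1) + N)) ∧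
    (∀ z ∈ N, z ^ 2 ≠ 1) ∧ Even a ∧ Even b ∧ ∀ x : Ob P, JD (iE x.g) = Multiset.map (·, 1)
      (.replicate a 1 + (.replicate b (-1) + N)) → SS (iE x.g) ∧ (iE x.g).charpoly = p := by
  obtain ⟨f, h1, rfl⟩ := exists_ss_charpoly (V := Fin (2 * n) → F) h.1 (by simp [h.2.1])
  have h2 : IsUnit f := isUnit_iff_charpoly.2 (by simp [h.2.2.1])
  have h3 : JD f = (lev 1 (JD f)).map (·, 1) := by
    simpa using eq_sum_lev (J := JD f) (s := {1}) fun x hx => by
      obtain ⟨π, h3, hx⟩ := Multiset.mem_bind.1 hx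
      simpa using ((mem_jd (h1 π h3) (e := 0)).1 (by simpa)).2
  have h4 : El (lev 1 (JD f)) := ⟨(st_JD f).lev 1, ((dl_iff_JD (fun _ => rfl) frob_id h2).1
    (h1.dl_of_charpoly (fun _ => rfl) h2 h.2.2.2)).lev 1, fun e => ((adm_JD h2).ne _ (mem_lev.1 e)).1 rfl⟩
  have h5 := dm_JD f
  have h6 := pr_JD f
  rw [LinearMap.det_eq_sign_charpoly_coeff, h.2.2.1, finrank_fin_fun] at h6
  rw [finrank_fin_fun] at h5
  obtain ⟨a, b, N, e, h7, h8⟩ := exists_dec (lev 1 (JD f))
  rw [e] at h3 h4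
  have h9 := ((h4.of_add (.inl rfl)).of_add (.inr rfl)).2.pair fun z hz =>
    ⟨fun e => h4.3 (by simp [← e, hz]), h7 z hz⟩
  have hb : Even b := by
    by_cases e : (-1 : AC F) = 1
    · simp [h8 e]
    · rw [h3] at h6; simpa [pr, h9.2, neg_one_pow_eq_one_iff_even e] using h6
  refine ⟨a, b, N, h4, h7, ?_, hb, fun x hx => ?_⟩
  · rw [h3] at h5
    simpa [dm, parity_simps, hb, h9.1] using congrArg Even h5
  · have := sim_iff_JD.2 (h3.trans hx.symm)
    exact ⟨this.ss h1, this.charpoly.symm⟩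

theorem symp_ss_card {V : Type u} [AddCommGroup V] [Module F V] [FiniteDimensional F V]
    {S : PForm (sympP F) V} (hS : S.Nondeg) {n : ℕ} (hV : finrank F V = 2 * n) :
    Nat.card {C // ∃ g : S.Isom, ConjClasses.mk g = C ∧ SS (iE g)} = Nat.card F ^ n := by
  rw [card_classes _ (fun g => (iE g).charpoly) fun g g' h h' => ⟨fun e => (sim_of_isConj e).charpoly,
    fun e => isim_iff_isConj.1 (symp_isim hS hS (h.sim_of_charpoly h' e) h)⟩, ← card_pal]
  refine Nat.card_congr (Equiv.subtypeEquivRight fun p => ⟨?_, fun h => ?_⟩)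
  · rintro ⟨g, -, rfl⟩
    refine ⟨LinearMap.charpoly_monic _, (LinearMap.charpoly_natDegree _).trans hV, ?_, (hS.dl g).charpoly fun _ => rfl⟩
    simpa [hV, det_iE, show S.detHom g = 1 from E_le_SIsom (hS.symp_E_eq_top ▸ Subgroup.mem_top g)] using
      (LinearMap.det_eq_sign_charpoly_coeff (iE g)).symm
  obtain ⟨a, b, N, h1, h2, ha, hb, h3⟩ := exists_el (P := sympP F) h
  have h4 : ∀ a, Even a → (UJ (sympP F) (.replicate a 1)).Nonempty := fun a ha =>
    (md_symp (fun k hk => by simp [Multiset.eq_of_mem_replicate hk]) fun k _ => by rw [Multiset.count_replicate]; split_ifs <;> simp [ha]).uj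
  obtain ⟨z, hz⟩ := h1.exists_Mo h2 (h4 a ha).choose_spec (h4 b hb).choose_spec
  obtain ⟨x, hx⟩ := Quotient.exists_rep (_ + (_ + z))
  obtain ⟨h5, rfl⟩ := h3 x ((congrArg Mo.JD hx).trans hz)
  obtain ⟨k, hk⟩ := (symp_eqv _ x.nd hS ((LinearMap.charpoly_natDegree _).symm.trans h.2.1) hV).exists_isim x.g
  exact ⟨k, hk.sim.ss h5, hk.sim.charpoly.symm⟩

variable (h2 : (2 : F) ≠ 0)
include h2

omit [Finite F] in
theorem neg_one_ne : (-1 : AC F) ≠ 1 := fun e => h2 ((algebraMap F (AC F)).injective (by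
  rw [map_ofNat, map_zero]; linear_combination -e))

open Classical in
theorem lb_pe : LB (El (F := F)) (fun M => if Even (M.count 1) ∧ Even (M.count (-1)) then 1 else 0)
    (Pe (Nat.card F)) := fun m S hS => by
  have h : ∀ M ∈ {M ∈ S | Even (M.count 1) ∧ Even (M.count (-1))}, Even m ∧ M.prod = 1 := fun M hM => by
    obtain ⟨hM, h1, h3⟩ := mem_filter.1 hM
    obtain ⟨h4, rfl⟩ := hS M hM
    obtain ⟨a, b, N, rfl, h5, -⟩ := exists_dec M
    have := ((h4.of_add (.inl rfl)).of_add (.inr rfl)).2.pair fun z hz =>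
      ⟨fun e => h4.3 (by simp [← e, hz]), h5 z hz⟩
    have h6 : 1 ∉ N := fun e => h5 _ e (by simp)
    have h7 : -1 ∉ N := fun e => h5 _ e (by simp)
    simp [Multiset.count_replicate, neg_one_ne h2, (neg_one_ne h2).symm, h6, h7] at h1 h3
    simp [this, h1, h3, parity_simps]
  rw [sum_boole, Pe, PowerSeries.coeff_mk]
  split_ifs with hm
  · obtain ⟨n, rfl⟩ := hm.two_dvd
    rw [Nat.mul_div_cancel_left _ two_pos]
    exact_mod_cast card_le_of_poly _ (pow_ne_zero _ Nat.card_pos.ne') (card_pal n) fun M hM =>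
      (hS M (mem_filter.1 hM).1).1.exists_pal (hS M (mem_filter.1 hM).1).2 (h M hM).2
  · simpa using fun M h1 h3 h4 => hm (h M (mem_filter.2 ⟨h1, h3, h4⟩)).1

open Classical in
theorem LB.two {E : Multiset (AC F) → Prop} (hE : ∀ c M, c = 1 ∨ c = -1 → E (c ::ₘ M) → E M)
    {φ ψ : ℕ → ℝ} (h0 : ∀ a, 0 ≤ φ a) (h0' : ∀ a, 0 ≤ ψ a) (h1 : ψ 0 ≤ φ 0)
    (h3 : ∀ a, ψ (a + 1) ≤ φ (a + 1) + φ a) {A : PowerSeries ℝ}
    (h : LB E (fun M => φ (M.count 1) * φ (M.count (-1))) A) :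
    LB E (fun M => ψ (M.count 1) * ψ (M.count (-1))) (A * (1 + .X) ^ 2) := by
  have h4 : ∀ (c : AC F) (M : Multiset (AC F)) (t : ℝ), 0 ≤ t → ψ (M.count c) * t ≤ φ (M.count c) * t +
      if c ∈ M then φ ((M.erase c).count c) * t else 0 := fun c M t ht => by
    split_ifs with hc
    · obtain ⟨M, rfl⟩ := Multiset.exists_cons_of_mem hc
      simpa [← add_mul] using mul_le_mul_of_nonneg_right (h3 _) ht
    · simpa [hc] using mul_le_mul_of_nonneg_right h1 ht
  rw [sq, ← mul_assoc]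
  refine (h.step (ω' := fun M => ψ (M.count 1) * φ (M.count (-1))) 1 (fun M => hE _ M (.inl rfl))
    fun M _ => ?_).step (-1) (fun M => hE _ M (.inr rfl)) fun M _ => ?_
  · simpa [Multiset.count_erase_of_ne (neg_one_ne h2)] using h4 1 M _ (h0 _)
  · simpa [Multiset.count_erase_of_ne (neg_one_ne h2).symm, mul_comm] using h4 (-1) M _ (h0' _)

open Classical in
theorem lb_two : LB (El (F := F)) (fun _ => 1) (Pe (Nat.card F) * (1 + .X) ^ 2) := by
  simpa using LB.two h2 (E := El) (fun c M hc h => El.of_add (a := 1) h hc) (φ := fun a => if Even a then 1 else 0)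
    (ψ := fun _ => 1) (fun _ => by positivity) (by simp) (by simp) (fun a => by
      by_cases h : Even a <;> simp [h, parity_simps]) (by simpa only [ite_zero_mul_ite_zero, mul_one] using lb_pe h2)

open Classical in
theorem lb_four : LB (El (F := F)) (fun M => (if 1 ∈ M then 2 else 1) * if -1 ∈ M then 2 else 1)
    (Pe (Nat.card F) * (1 + .X) ^ 4) := by
  rw [show 4 = 2 + 2 from rfl, pow_add, ← mul_assoc]
  simpa only [Multiset.count_pos] using LB.two h2 (E := El) (fun c M hc h => El.of_add (a := 1) h hc) (φ := fun _ => 1)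
    (ψ := fun a => if 0 < a then 2 else 1) (by simp) (fun _ => by positivity) (by simp)
      (by simp [one_add_one_eq_two]) (by simpa using lb_two h2)

open Classical in
theorem lb_one : LB (fun M : Multiset (AC F) => (∀ z ∈ M, z ^ 2 = 1) ∧ M.count 1 ≤ 1 ∧ M.count (-1) ≤ 1)
    (fun _ => 1) ((1 + .X) ^ 2) := by
  rw [← one_mul (_ ^ 2)]
  refine (LB.two h2 (E := fun M => ∀ z ∈ M, z ^ 2 = 1) (fun c M _ h z hz => h z (by simp [hz]))
    (φ := fun a => if a = 0 then 1 else 0) (ψ := fun a => if a ≤ 1 then 1 else 0) (fun _ => by positivity)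
    (fun _ => by positivity) (by simp) (fun a => by by_cases h : a = 0 <;> simp [h]) (A := 1)
    fun m S hS => ?_).mono fun M h => ⟨h.1, by simp [h.2]⟩
  rw [sum_congr rfl (g := fun M => if M = 0 then 1 else 0) fun M hM => ?_, sum_ite_eq', PowerSeries.coeff_one]
  · by_cases h : 0 ∈ S
    · simp [h, ← (hS _ h).2]
    · rw [if_neg h]; positivity
  by_cases h : M = 0
  · simp [h]
  obtain ⟨z, hz⟩ := Multiset.exists_mem_of_ne_zero h
  rcases sq_eq_one_iff.1 ((hS M hM).1 z hz) with rfl | rfl <;> simp [h, hz]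

theorem three_le_card : (3 : ℝ) ≤ Nat.card F := by
  have := odd_card h2
  have := Finite.one_lt_card (α := F)
  exact_mod_cast show 3 ≤ Nat.card F by grind

variable {n : ℕ} (T : Finset (Multiset (AC F × ℕ)))

open Classical in
/-- the level series -/
noncomputable def Aw (P : FParam (RingHom.id F)) (i : ℕ) : PowerSeries ℝ :=
  if gd P i then Pe (Nat.card F) * (1 + .X) ^ 4 else Pe (Nat.card F)

open Classical in
theorem sum_na_le (hT : ∀ J ∈ T, ∃ x : Mo P, x.JD = J ∧ dm J = n) {N : ℕ} (hN : n ≤ N) {B : ℝ}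
    (hB : BW (Nat.card F) (∏ i ∈ range N, PowerSeries.expand (i + 1) i.succ_ne_zero (Aw P (i + 1))) B) :
    ((∑ J ∈ T, 2 ^ (na P 1 J + na P (-1) J) : ℕ) : ℝ) ≤ B * ww (Nat.card F) n := by
  refine le_trans (le_of_eq ?_) ((sum_LB T hN (ω := fun i M => if gd P i then (if 1 ∈ M then 2 else 1) *
    (if -1 ∈ M then 2 else 1) else 1) (fun _ _ => by positivity) (fun J hJ => ?_) (E := fun i M => El M ∧
      (¬ gd P i → Even (M.count 1) ∧ Even (M.count (-1)))) (fun J hJ i => ?_) (A := Aw P) (fun i => ?_)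
        fun i => by rw [Aw]; split_ifs <;> simp [Pe]).trans (hB n))
  · rw [Nat.cast_sum]
    refine sum_congr rfl fun J _ => ?_
    simp only [na, card_filter, ← sum_add_distrib, ← prod_pow_eq_pow_sum, Nat.cast_prod, mem_lev]
    exact prod_congr rfl fun i _ => by split_ifs <;> simp_all <;> norm_num
  · obtain ⟨⟨x⟩, rfl, rfl⟩ := hT J hJ
    exact dm_JD (iE x.g) ▸ JD_mem_Pt _
  · obtain ⟨x, rfl, -⟩ := hT J hJ
    exact ⟨x.el i, fun h => by simpa only [count_lev] using x.even h2 h⟩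
  · by_cases h : gd P i
    · simpa [h, Aw] using (lb_four h2).mono fun M h => ⟨h, le_rfl⟩
    · simpa [h, Aw] using (lb_pe h2).mono fun M h => ⟨h.1, by simp [h.2]⟩

theorem sum_symp_le (hT : ∀ J ∈ T, ∃ x : Mo (sympP F), x.JD = J ∧ dm J = n) :
    ((∑ J ∈ T, 2 ^ (na (sympP F) 1 J + na (sympP F) (-1) J) : ℕ) : ℝ) ≤ 54 / 5 * ww (Nat.card F) n :=
  sum_na_le h2 T hT (by omega) <| bw_symp (three_le_card h2) n
    (fun j => by simp [Aw, gd_symp h2]) fun j => by simp [Aw, gd_symp h2 (d := 2 * j + 1)]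

theorem sum_orth_le (hT : ∀ J ∈ T, ∃ x : Mo (orthP F), x.JD = J ∧ dm J = n) :
    ((∑ J ∈ T, 2 ^ (na (orthP F) 1 J + na (orthP F) (-1) J) : ℕ) : ℝ) ≤ 1655 / 100 * ww (Nat.card F) n :=
  sum_na_le h2 T hT (by omega) <| bw_orth (three_le_card h2) n
    (fun j => by simp [Aw, gd_orth h2]) fun j => by simp [Aw, gd_orth h2 (d := 2 * j + 1)]

open Classical in
theorem card_na_le (hT : ∀ J ∈ T, ∃ x : Mo P, x.JD = J ∧ dm J = n ∧ na P 1 J + na P (-1) J = 0) :
    (#T : ℝ) ≤ 243 / 136 * ww (Nat.card F) n := by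
  refine le_trans (by simp) <| (sum_LB T (Nat.le_add_right n 3) (ω := fun _ _ => 1) (by simp) (fun J hJ => ?_)
    (E := fun _ M => El M ∧ Even (M.count 1) ∧ Even (M.count (-1))) (fun J hJ i => ?_)
    (A := fun _ => Pe (Nat.card F)) (fun i => (lb_pe h2).mono fun M h => ⟨h.1, by simp [h.2]⟩)
    fun i => by simp [Pe]).trans (bw_zero (three_le_card h2) n n)
  · obtain ⟨⟨x⟩, rfl, rfl, -⟩ := hT J hJ
    exact dm_JD (iE x.g) ▸ JD_mem_Pt _
  obtain ⟨x, rfl, -, h⟩ := hT J hJ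
  refine ⟨x.el i, ?_⟩
  simp only [count_lev]
  by_cases hi : gd P i
  · simp only [na, Nat.add_eq_zero_iff, card_eq_zero, filter_eq_empty_iff] at h
    have : ∀ z, (∀ ⦃i⦄, i ∈ (x.JD.map Prod.snd).toFinset → ¬ (gd P i ∧ (z, i) ∈ x.JD)) →
        Even (x.JD.count (z, i)) := fun z h => by
      rw [Multiset.count_eq_zero.2 fun e => h (by simpa using ⟨z, e⟩) ⟨hi, e⟩]; simp
    exact ⟨this _ h.1, this _ h.2⟩
  · exact x.even h2 hi

variable {V : Type u} [AddCommGroup V] [Module F V] [FiniteDimensional F V]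

theorem symp_classes_le {S : PForm (sympP F) V} (hS : S.Nondeg) :
    (Nat.card (ConjClasses S.Isom) : ℝ) ≤ 54 / 5 * ww (Nat.card F) (finrank F V) := by
  have := finite_isom (S := S)
  obtain ⟨T, h1, h3⟩ := exists_img (fun g : S.Isom => JD (iE g)) fun _ => True
  rw [← card_classes_true]
  refine le_trans (Nat.cast_le.2 (classes_le_sum hS _ T h1 (Q := fun _ => True) (by simp) fun J => ?_))
    (sum_symp_le h2 T (h3 fun g _ => ⟨cls hS g, rfl, dm_JD _⟩))
  simpa using (hb_all h2 (χ := 1) (c := False) (by simp) (by simp) (by simp) J).1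

theorem orth_classes_le {S : PForm (orthP F) V} (hS : S.Nondeg) : 2 * (Nat.card (ConjClasses S.Isom) : ℝ) ≤
    (1655 / 100 + 243 / 136) * ww (Nat.card F) (finrank F V) := by
  classical
  have := finite_isom (S := S)
  obtain ⟨T, h1, h3⟩ := exists_img (fun g : S.Isom => JD (iE g)) fun _ => True
  have h4 := classes_le_sum hS _ T h1 (Q := fun x => x.disc = hS.disc) (fun _ _ => rfl)
    (w := fun J => 2 ^ (na (orthP F) 1 J + na (orthP F) (-1) J - 1)) fun J => by
    simpa using (hb_all h2 (c := True) Mo.disc_add Mo.disc_ng (fun _ d δ => Rs.disc_ne h2) J).2 trivial hS.disc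
  rw [card_classes_true] at h4
  rw [add_mul]
  refine le_trans ?_ (add_le_add (sum_orth_le h2 T (h3 fun g _ => ⟨cls hS g, rfl, dm_JD _⟩))
    (card_na_le h2 (P := orthP F) {J ∈ T | na (orthP F) 1 J + na (orthP F) (-1) J = 0} fun J hJ =>
      (h3 (r := fun J => ∃ x : Mo (orthP F), x.JD = J ∧ dm J = _) (fun g _ => ⟨cls hS g, rfl, dm_JD _⟩) J
        (mem_filter.1 hJ).1).imp fun _ h => ⟨h.1, h.2, (mem_filter.1 hJ).2⟩))
  rw [← Nat.cast_add, ← Nat.cast_two, ← Nat.cast_mul, Nat.cast_le, card_filter, ← sum_add_distrib]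
  refine (Nat.mul_le_mul_left 2 h4).trans (mul_sum T _ 2 ▸ sum_le_sum fun J _ => ?_)
  have : ∀ k, 2 * 2 ^ (k - 1) ≤ 2 ^ k + if k = 0 then 1 else 0 := fun k => by cases k <;> simp [pow_succ']
  exact this _

end H11
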