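import Cfsg.Agent.H11.PSLn
import Cfsg.Agent.H11.Mat
import Cfsg.Agent.H11.Symp

/-! Two-element generation of `SL_n(q)` and `Sp_{2m}(q)`: `sl_top_of_cyc`, `sl_gen_big`, `sl_gen_small`, `sl_gen2`,
`sp_gen2`. -/

set_option autoImplicit false

namespace H11
open Subgroup PForm Matrix
open scoped MatrixGroups

variable {F : Type*} [Field F] {n : ℕ}

theorem Gen.all [Finite F] {H : Type*} [Group H] {X : F → H} (hX : Add1 X) {ξ d : F} (hξ : Gen ξ) (hd : d ≠ 0) {K : Subgroup H}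
    (h : ∀ i : ℕ, X (ξ ^ i * d) ∈ K) (a : F) : X a ∈ K := by
  rw [← div_mul_cancel₀ a hd]
  exact hξ.ind (P := fun a => X (a * d) ∈ K) (by simp [hX.zero]) (fun a b h1 h2 => by
    simpa [add_mul, hX.add] using mul_mem h1 h2) h _

theorem cyc_conj {w : SL(n + 1, F)} (hw : w.1 = Matrix.of fun i j =>
    if j.val = i.val + 1 then 1 else if i.val = n ∧ j.val = 0 then (-1) ^ n else 0) (A B : SL(n + 1, F))
    (h : ∀ p q, (if p.val = n then (-1) ^ n else 1) * A.1 (p + 1) (q + 1) = B.1 p q * if q.val = n then (-1) ^ n else 1) :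
    w * A * w⁻¹ = B := by
  have e : ∀ p q, w.1 p q = if q = p + 1 then (if p.val = n then (-1) ^ n else 1) else 0 := fun p q => by
    have := p.2; have := q.2
    simp only [hw, of_apply, Fin.ext_iff, Fin.val_add_one, Fin.val_last]
    split_ifs <;> first | rfl | omega
  rw [mul_inv_eq_iff_eq_mul]
  ext p q
  obtain ⟨q, rfl⟩ := (Equiv.addRight 1).surjective q
  simpa [Matrix.mul_apply, e] using h p q

theorem sl_top_of_cyc (hn : 1 ≤ n) {w : SL(n + 1, F)} (hw : w.1 = Matrix.of fun i j =>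
    if j.val = i.val + 1 then 1 else if i.val = n ∧ j.val = 0 then (-1) ^ n else 0) {K : Subgroup SL(n + 1, F)} (h1 : w ∈ K)
    (h2 : ∀ t, trv 0 1 t ∈ K) : K = ⊤ := by
  obtain ⟨n, rfl⟩ : ∃ m, n = m + 1 := ⟨n - 1, by omega⟩
  have a1 : ∀ i, (∀ t, trv i (i + 1) t ∈ K) → ∀ t, trv (i + 1) (i + 1 + 1) t ∈ K := fun i h t => by
    let s : Fin (n + 2) → F := fun p => if p.val = n + 1 then (-1) ^ (n + 1) else 1
    have hs : ∀ p, s p ≠ 0 := fun p => by simp only [s]; split_ifs <;> simp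
    have := cyc_conj hw (trv (i + 1) (i + 1 + 1) t) (trv i (i + 1) (s i * t / s (i + 1))) fun p q => by
      change s p * _ = _ * s q
      simp only [coe_trv, ne_eq, left_eq_add, one_ne_zero, not_false_eq_true, Matrix.add_apply, one_apply, single_apply, add_left_inj]
      by_cases h : i = p ∧ i + 1 = q
      · obtain ⟨rfl, rfl⟩ := h; simp [hs]
      · by_cases h' : p = q
        · subst h'; simp [h]
        · simp [h, h']
    simpa [← this, h1, mul_mem_cancel_left, mul_mem_cancel_right] using h (s i * t / s (i + 1))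
  have a2 : ∀ i t, trv i (i + 1) t ∈ K := fun i => by
    induction i using Fin.induction with
    | zero => simpa using h2
    | succ i ih => simpa using a1 _ ih
  have a3 : ∀ (d : ℕ) (hd : d < n + 1) i t, trv i (i + Fin.succ ⟨d, hd⟩) t ∈ K := fun d => by
    induction d with
    | zero => exact fun _ => a2
    | succ d ih =>
      intro hd i t
      have e : i + Fin.succ ⟨d + 1, hd⟩ = i + Fin.succ ⟨d, by omega⟩ + 1 := by
        rw [add_assoc i]; congr 1; ext; simp [Fin.val_add, Nat.mod_eq_of_lt (show d + 1 + 1 < n + 1 + 1 by omega)]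
      have := trv_chain (i := i) (j := i + Fin.succ ⟨d, by omega⟩) (l := i + Fin.succ ⟨d, by omega⟩ + 1)
        (by simp [Fin.succ_ne_zero]) (by simp) (by rw [← e]; simp [Fin.succ_ne_zero]) t 1
      rw [e, ← mul_one t, ← this]
      exact mul_mem (mul_mem (mul_mem (ih _ _ _) (a2 _ _)) (inv_mem (ih _ _ _))) (inv_mem (a2 _ _))
  refine eq_top_iff.2 fun g _ => trv_top (by omega) (fun i j e t => ?_) g
  obtain ⟨⟨d, hd⟩, h⟩ := Fin.exists_succ_eq.2 (sub_ne_zero.2 e.symm)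
  simpa [h] using a3 d hd i t

theorem sl_gen_big [Finite F] (hF : 3 < Nat.card F) (hn : 1 ≤ n) {k : Fˣ} (hk : orderOf k = Nat.card F - 1) {w : SL(n + 1, F)}
    (hw : w.1 = Matrix.of fun i j => if j.val = i.val + 1 then 1 else if i.val = n ∧ j.val = 0 then (-1) ^ n else 0) :
    closure {dgl k 0 1, trv 0 1 1 * w} = ⊤ := by
  obtain ⟨n, rfl⟩ : ∃ m, n = m + 1 := ⟨n - 1, by omega⟩
  have k2 : (k : F) ^ 2 ≠ 1 := fun e => by
    have := orderOf_le_of_pow_eq_one (x := k) two_pos (Units.ext e); omega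
  have k1 : (k : F) ≠ 1 := fun e => k2 (by simp [e])
  have a0 : (0 : Fin (n + 2)) ≠ 1 := by simp
  have a1 : ∀ t : F, dgl k 0 1 * trv 0 1 t * (dgl k 0 1)⁻¹ = trv (0 : Fin (n + 2)) 1 (k ^ 2 * t) := fun t => by
    simp [dgl_trv _ _ _ a0, ev, sq]
  have a2 : w * dgl k 0 1 * w⁻¹ = dgl k (-1) 0 := cyc_conj hw _ _ fun p q => by
    by_cases e : p = q <;> simp [coe_dgl, diagonal_apply, ev, add_eq_zero_iff_eq_neg, e, mul_comm, -mul_ite, -ite_mul]
  obtain ⟨c, hc, a3⟩ : ∃ c : Fˣ, (c : F) ≠ 1 ∧ ∀ t : F, dgl k (-1) 0 * trv 0 1 t * (dgl k (-1) 0)⁻¹ =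
      trv (0 : Fin (n + 2)) 1 (c * t) := by
    refine ⟨_, ?_, dgl_trv _ _ _ a0⟩
    have : (0 : Fin (n + 2)) ≠ -1 := by simp
    by_cases e : (1 : Fin (n + 2)) = -1
    · simpa [ev, this, ← e, ← mul_inv, ← sq] using k2
    · simpa [ev, this, e] using k1
  have ad := trv_add (F := F) a0
  have cm : Commute (dgl k (-1) 0) (dgl k (0 : Fin (n + 2)) 1) := dgl_comm k (-1) 0 0 1
  suffices ∀ K : Subgroup SL(n + 2, F), dgl k 0 1 ∈ K → trv 0 1 1 * w ∈ K → K = ⊤ from
    this _ (subset_closure (by simp)) (subset_closure (by simp))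
  intro K h1 h2
  set X := trv (F := F) (0 : Fin (n + 2)) 1
  have a4 : X ((k ^ 2 - 1) * (1 - c)) ∈ K := by
    have := mul_mem (mul_mem h2 h1) (inv_mem h2)
    refine Set.mem_of_eq_of_mem (Eq.symm ?_) (mul_mem (mul_mem (mul_mem h1 this) (inv_mem h1)) (inv_mem this))
    have e : X 1 * w * dgl k 0 1 * (X 1 * w)⁻¹ = X (1 - c) * dgl k (-1) 0 := by
      rw [sub_eq_add_neg, ad.add, ← mul_neg_one, ← a3, ← a2, ad.neg]; group
    rw [e, ← mul_assoc, mul_assoc _ (dgl k (-1) 0), cm.inv_right.eq, ← mul_assoc, a1,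
      _root_.mul_inv_rev, mul_assoc, mul_inv_cancel_left, ← ad.neg, ← ad.add]
    exact congrArg _ (by ring)
  have a5 := (gen_pow hk (m := 2) (by simp)).all ad (mul_ne_zero (sub_ne_zero.2 k2) (sub_ne_zero.2 hc.symm)) (K := K)
    fun i => by
      induction i with
      | zero => simpa using a4
      | succ i ih => rw [pow_succ', mul_assoc, ← a1]; exact mul_mem (mul_mem h1 ih) (inv_mem h1)
  exact sl_top_of_cyc hn hw (by simpa using mul_mem (inv_mem (a5 1)) h2) a5

theorem sl_gen_small [Finite F] (hF : Nat.card F ≤ 3) (hn : 1 ≤ n) {w : SL(n + 1, F)}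
    (hw : w.1 = Matrix.of fun i j => if j.val = i.val + 1 then 1 else if i.val = n ∧ j.val = 0 then (-1) ^ n else 0) :
    closure {trv 0 1 1, w} = ⊤ := by
  obtain ⟨ζ, hζ, -⟩ := exists_prim F
  have := Finite.one_lt_card (α := F)
  have e : (ζ : F) ^ 2 = 1 := by
    obtain e | e : orderOf ζ = 1 ∨ orderOf ζ = 2 := by omega
    · simp [orderOf_eq_one_iff.1 e]
    · simpa [e] using congrArg Units.val (pow_orderOf_eq_one ζ)
  exact sl_top_of_cyc hn hw (subset_closure (by simp)) ((e ▸ gen_pow hζ (m := 2) (by simp)).all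
    (trv_add (by obtain ⟨n, rfl⟩ : ∃ m, n = m + 1 := ⟨n - 1, by omega⟩; simp)) one_ne_zero fun i => subset_closure (by simp))

theorem sl_gen2 [Finite F] (n : ℕ) : ∃ a b : SL(n, F), closure {a, b} = ⊤ := by
  rcases n with _ | _ | n
  · exact ⟨1, 1, Subsingleton.elim _ _⟩
  · exact ⟨1, 1, eq_top_iff.2 fun g _ => by rw [show g = 1 from Subtype.ext (by
      ext i j; fin_cases i; fin_cases j; simpa using g.2)]; exact one_mem _⟩
  obtain ⟨w, hw⟩ : ∃ w : SL(n + 1 + 1, F), w.1 = Matrix.of fun i j : Fin (n + 1 + 1) =>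
      if j.val = i.val + 1 then 1 else if i.val = n + 1 ∧ j.val = 0 then (-1) ^ (n + 1) else 0 := by
    refine ⟨⟨_, ?_⟩, rfl⟩
    rw [det_succ_column_zero, Fin.sum_univ_castSucc, Finset.sum_eq_zero fun i _ => by simp [i.2.ne], zero_add]
    convert_to (-1) ^ (n + 1) * (-1) ^ (n + 1) * det (1 : Matrix (Fin (n + 1)) _ F) = _
    · congr 2; · simp
      ext i j
      simp only [submatrix_apply, of_apply, Fin.succAbove_last, Fin.val_succ, Fin.val_castSucc, one_apply, Fin.ext_iff]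
      have := i.2
      split_ifs <;> first | rfl | omega
    simp [← mul_pow]
  by_cases h : Nat.card F ≤ 3
  · exact ⟨_, _, sl_gen_small h (by omega) hw⟩
  · obtain ⟨ζ, hζ, -⟩ := exists_prim F
    exact ⟨_, _, sl_gen_big (by omega) (by omega) hζ hw⟩

theorem PrG.two {G : Type*} [Group G] {ι : Type} {g : ι → G} {r : ℕ} (h : PrG g r) (top : closure (Set.range g) = ⊤)
    (h2 : ∃ a b : G, closure {a, b} = ⊤) : ∃ g : Fin 2 → G, PrG g (r + 2) ∧ closure (Set.range g) = ⊤ := by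
  obtain ⟨a, b, e⟩ := h2
  have e' : closure (Set.range ![a, b]) = ⊤ := by simpa [Set.pair_comm] using e
  exact ⟨_, h.change' (e'.trans top.symm), e'⟩

theorem gen2_of_surj {G H : Type*} [Group G] [Group H] (f : G →* H) (hf : Function.Surjective f)
    (h : ∃ a b : G, closure {a, b} = ⊤) : ∃ a b : H, closure {a, b} = ⊤ := by
  obtain ⟨a, b, h⟩ := h
  exact ⟨f a, f b, by rw [← Set.image_pair, ← MonoidHom.map_closure, h, map_top_of_surjective _ hf]⟩

theorem symp_top_of {V : Type*} [AddCommGroup V] [Module F V] [FiniteDimensional F V] {S : PForm (sympP F) V} (hS : S.Nondeg)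
    {U W : Submodule F V} (hU : ∀ x ∈ U, ∀ y ∈ U, S.h x y = 0) (hW : ∀ x ∈ W, ∀ y ∈ W, S.h x y = 0) (h : U ⊔ W = ⊤)
    {K : Subgroup S.Isom} (h1 : ∀ u ∈ U, ∀ c, S.eich u 0 c ∈ K) (h2 : ∀ u ∈ W, ∀ c, S.eich u 0 c ∈ K) : K = ⊤ := by
  have mv : ∀ u ∈ U, ∀ s v, (∀ c, S.eich v 0 c ∈ K) → ∀ c, S.eich (v + (s * S.h u v) • u) 0 c ∈ K := fun u hu s v hv c => by
    simpa [conj_eich, symp_transv_apply] using mul_mem (mul_mem (h1 u hu s) (hv c)) (inv_mem (h1 u hu s))
  have a : ∀ u ∈ U, ∀ w ∈ W, S.h u w ≠ 0 → ∀ c, S.eich (w + u) 0 c ∈ K := fun u hu w hw e => by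
    simpa [e] using mv u hu (S.h u w)⁻¹ w (h2 w hw)
  rw [eq_top_iff, ← hS.symp_T_eq_top, T_le_iff]
  intro v c _ _ _
  obtain ⟨w, hw, u, hu, rfl⟩ := Submodule.mem_sup.1 ((sup_comm U W ▸ h).ge (Submodule.mem_top (x := v)))
  by_cases e : S.h u w = 0; swap; · exact a u hu w hw e c
  by_cases w0 : w = 0; · simpa [w0] using h1 u hu c
  obtain ⟨u', hu', e'⟩ : ∃ u' ∈ U, S.h u' w ≠ 0 := by
    by_contra! e'
    refine w0 (hS.eq_zero' fun x => ?_)
    obtain ⟨x, hx, y, hy, rfl⟩ := Submodule.mem_sup.1 (h.ge (Submodule.mem_top (x := x)))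
    simp [e' x hx, hW y hy w hw]
  simpa [hU u' hu' u hu, symp_h_self, e', add_assoc] using
    mv u' hu' (S.h u' w)⁻¹ _ (a _ (sub_mem hu hu') w hw (by simpa [e])) c

theorem sp_gen2 [Finite F] {m : ℕ} (hm : 2 ≤ m) : ∃ a b : symplecticGroup (Fin m) F, closure {a, b} = ⊤ := by
  obtain ⟨p, hp⟩ := CharP.exists F
  have := Fact.mk (CharP.char_is_prime F p)
  have : NeZero m := ⟨by omega⟩
  let L := FiniteField.Extension F p m
  have hL : Module.finrank F L = m := FiniteField.finrank_extension F p m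
  have : Finite L := Module.finite_of_finite F
  let B : LinearMap.BilinForm F (L × L) := ((Algebra.traceForm F L).compl₁₂ (.fst F L L) (.snd F L L)) -
    (Algebra.traceForm F L).compl₁₂ (.snd F L L) (.fst F L L)
  let S := sympS B fun x => by simp [B, mul_comm]
  have hS : ∀ x y, S.h x y = Algebra.trace F L (x.1 * y.2) - Algebra.trace F L (x.2 * y.1) := fun _ _ => rfl
  have nd := (traceForm_nondegenerate F L).1
  have hN : S.Nondeg := fun x h => Prod.ext (nd _ fun y => by simpa [hS] using h (0, y)) (nd _ fun y => by simpa [hS] using h (y, 0))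
  suffices ∃ a b : S.Isom, closure {a, b} = ⊤ by
    obtain ⟨a, b, h⟩ := this
    let e := (symp_eqv (2 * m) hN (stdSymp_nondeg m) (by simp [hL, two_mul]) (finrank_sum_fun m)).nonempty_mulEquiv.some.trans
      (spEquiv m F).symm
    exact ⟨e a, e b, by rw [← Set.image_pair, ← e.coe_toMonoidHom, ← MonoidHom.map_closure, h,
      map_top_of_surjective _ e.surjective]⟩
  obtain ⟨α, -, hα⟩ := exists_prim L
  obtain ⟨ζ, hζ, -⟩ := exists_prim F
  obtain ⟨σ, h0⟩ : ∃ σ : S.Isom, ∀ x, σ.1 x = (α * x.1, (α⁻¹ : Lˣ) * x.2) :=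
    ⟨⟨(α.mulLeftLinearEquiv F L).prodCongr (α⁻¹.mulLeftLinearEquiv F L), symp_isIsom fun x y => by
      change S.h (α * x.1, (α⁻¹ : Lˣ) * x.2) (α * y.1, (α⁻¹ : Lˣ) * y.2) = _
      simp only [hS, mul_mul_mul_comm (_ : L) x.1, mul_mul_mul_comm (_ : L) x.2]; simp⟩, fun _ => rfl⟩
  have hσ : ∀ (i : ℕ) x, (σ ^ i).1 x = (α ^ i * x.1, ((α : L) ^ i)⁻¹ * x.2) := fun i => by
    induction i with
    | zero => simp
    | succ i ih => intro x; rw [pow_succ', Subgroup.coe_mul, LinearEquiv.mul_apply, ih, h0]; simp [pow_succ', mul_assoc, mul_left_comm]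
  obtain ⟨y, hy⟩ := Algebra.trace_surjective F L 1
  obtain ⟨x, hx, x0⟩ := (LinearMap.ker (Algebra.trace F L)).exists_mem_ne_zero_of_ne_bot fun e => by
    have := LinearMap.finrank_le_finrank_of_injective (LinearMap.ker_eq_bot.1 e); simp [hL] at this; omega
  obtain ⟨b, k, b0, k0, hk⟩ : ∃ (b : F) (k : ℕ), b ≠ 0 ∧ (k : F) ≠ 0 ∧
      (S.eich (0, 1) 0 b * S.eich (y, 0) 0 1) ^ k = 1 := by
    have e1 : ∀ z, S.h (y, 0) z = Algebra.trace F L (y * z.2) := by simp [hS]
    have e2 : ∀ z, S.h (0, 1) z = -Algebra.trace F L z.1 := by simp [hS]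
    by_cases h3 : (3 : F) = 0
    · refine ⟨-1, 4, by simp, fun e => one_ne_zero (α := F) (by push_cast at e; linear_combination e - h3), isom_ext fun z => ?_⟩
      simp [pow_succ, symp_transv_apply, e1, e2, mul_add, hy]
      ext <;> simp <;> match_scalars <;> grind
    · refine ⟨3, 3, h3, h3, isom_ext fun z => ?_⟩
      simp [pow_succ, symp_transv_apply, e1, e2, mul_add, hy]
      ext <;> simp <;> module
  set g := S.eich (0, 1) 0 b * S.eich (y, 0) 0 1 with hg
  refine ⟨σ, S.eich (x, 0) 0 1 * g, ?_⟩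
  set K := closure {σ, S.eich (x, 0) 0 1 * g}
  have h1 : σ ∈ K := subset_closure (by simp)
  have h2 : S.eich (x, 0) 0 1 * g ∈ K := subset_closure (by simp)
  have ad : ∀ v, Add1 (S.eich v 0) := fun v => ⟨fun a b => (transv_mul (symp_sing _ _) trivial trivial).symm⟩
  have cj : ∀ g ∈ K, ∀ v c, S.eich v 0 c ∈ K → S.eich (g.1 v) 0 c ∈ K := fun g hg v c h => by
    simpa [conj_eich] using mul_mem (mul_mem hg h) (inv_mem hg)
  have h3 : S.eich (x, 0) 0 k ∈ K := by
    have : Commute (S.eich (x, 0) 0 1) g := (mul_inv_eq_iff_eq_mul.1 (by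
      rw [conj_eich]; simp [hg, symp_transv_apply, hS, show Algebra.trace F L x = 0 from hx])).symm
    simpa [this.mul_pow, hk, (ad _).pow] using pow_mem h2 k
  have h4 : ∀ u c, S.eich (u, 0) 0 c ∈ K := fun u => by
    have : ∀ u, S.eich (u, 0) 0 k ∈ K := fun u => by
      by_cases u0 : u = 0
      · simp [u0, show ((0 : L), (0 : L)) = 0 from rfl, eich_zero_left]
      obtain ⟨i, hi⟩ := hα (Units.mk0 u u0 / Units.mk0 x x0)
      have := cj _ (pow_mem h1 i) _ _ h3
      rw [hσ] at this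
      simpa [← Units.val_pow_eq_pow_val, hi, div_mul_cancel₀ _ x0] using this
    refine (gen_pow hζ (m := 2) (by simp)).all (ad _) k0 fun i => ?_
    have := this (((ζ : F) ^ i) • u)
    rw [show (((ζ : F) ^ i) • u, (0 : L)) = ((ζ : F) ^ i) • (u, 0) by simp, transv_smul (symp_sing _ _) trivial] at this
    convert this using 2; simp; ring
  have h5 : ∀ c, S.eich (0, -b • 1) 0 c ∈ K := fun c => by
    simpa [hg, symp_transv_apply, hS, hy, b0, mul_neg y] using
      cj _ (h4 y b⁻¹) _ _ (cj _ (mul_mem (inv_mem (h4 x 1)) h2) _ _ (h4 y c))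
  refine symp_top_of hN (U := LinearMap.range (.inl F L L)) (W := LinearMap.range (.inr F L L))
    (by rintro _ ⟨x, rfl⟩ _ ⟨y, rfl⟩; simp [hS]) (by rintro _ ⟨x, rfl⟩ _ ⟨y, rfl⟩; simp [hS]) LinearMap.sup_range_inl_inr
    (by rintro _ ⟨u, rfl⟩; exact h4 u) ?_
  rintro _ ⟨u, rfl⟩ c
  by_cases u0 : u = 0
  · simp [u0, show ((0 : L), (0 : L)) = 0 from rfl, eich_zero_left]
  obtain ⟨i, hi⟩ := hα (Units.mk0 (-b • 1) (by simpa) / Units.mk0 u u0)
  have := cj _ (pow_mem h1 i) _ _ (h5 c)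
  rw [hσ, ← Units.val_pow_eq_pow_val, hi] at this
  convert this using 2
  simp [Algebra.smul_def, b0]
end H11
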