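import Mathlib

/-! Jacobi–Trudi identity `jt` for complete homogeneous polynomials `hS`, and the orthogonality `orth` of the alternating sums
of the numbers `NM α β` of `ℕ`-matrices with given row and column sums. -/

set_option autoImplicit false

namespace H11
open Finset Matrix MvPolynomial Equiv

variable {n : ℕ}

noncomputable def hS (n m : ℕ) : MvPolynomial (Fin n) ℤ := PowerSeries.coeff m (∏ j, PowerSeries.mk fun k => X j ^ k)

theorem hS_eq (m : ℕ) : hS n m = ∑ l ∈ finsuppAntidiag univ m, monomial l 1 := by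
  simp [hS, PowerSeries.coeff_prod, monomial_eq, Finsupp.prod_fintype]

theorem geom_ps {R : Type*} [CommRing R] (a : R) : (PowerSeries.mk fun k => a ^ k) * (1 - PowerSeries.C a * PowerSeries.X) = 1 := by
  ext (_ | m) <;> simp [mul_sub, ← mul_assoc, PowerSeries.coeff_succ_mul_X, pow_succ, PowerSeries.coeff_one]

theorem hS_mul : ∃ E : Matrix (Fin n) (Fin n) (MvPolynomial (Fin n) ℤ), ∀ l : Fin n → ℕ,
    (of fun i (r : Fin n) => if r ≤ l i then hS n (l i - r) else 0) * E = of fun i j => X j ^ l i := by
  let P : Fin n → Polynomial (MvPolynomial (Fin n) ℤ) := fun j => ∏ i ∈ univ.erase j, (1 - Polynomial.C (X i) * Polynomial.X)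
  refine ⟨of fun r j => (P j).coeff r, fun l => ?_⟩
  ext1 i j
  have h1 : (P j).natDegree < n := by
    refine (Polynomial.natDegree_prod_le _ _).trans_lt ((sum_le_card_nsmul _ _ 1 fun i _ => by compute_degree).trans_lt ?_)
    have := j.pos; simp; omega
  have h2 : (∏ j, PowerSeries.mk fun k => X j ^ k) * (P j : PowerSeries (MvPolynomial (Fin n) ℤ)) =
      PowerSeries.mk fun k => X j ^ k := by
    rw [← mul_prod_erase _ _ (mem_univ j), mul_assoc, ← Polynomial.coeToPowerSeries.ringHom_apply, map_prod, ← prod_mul_distrib,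
      prod_eq_one fun i _ => by simpa using geom_ps _, mul_one]
  have h3 := congrArg (PowerSeries.coeff (l i)) h2
  rw [PowerSeries.coeff_mk, mul_comm, PowerSeries.coeff_mul, Nat.sum_antidiagonal_eq_sum_range_succ_mk] at h3
  simp only [mul_apply, of_apply, ← h3, Polynomial.coeff_coe]
  rw [Fin.sum_univ_eq_sum_range (fun r => (if r ≤ l i then hS n (l i - r) else 0) * (P j).coeff r)]
  simp only [ite_mul, zero_mul, ← sum_filter, mul_comm]
  refine sum_subset (by simp +contextual [subset_iff]) fun r h h' => ?_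
  rw [Polynomial.coeff_eq_zero_of_natDegree_lt (by simp at h h'; omega), mul_zero]

theorem jt (l : Fin n → ℕ) : det (of fun i (r : Fin n) => if r ≤ l i then hS n (l i - r) else 0) *
    det (of fun (i : Fin n) j => X j ^ i.1) = det (of fun i j => X j ^ l i) := by
  obtain ⟨E, h⟩ := hS_mul (n := n)
  rw [← h l, ← h Fin.val, det_mul, det_mul, det_of_lowerTriangular (of fun i r : Fin n => if r.1 ≤ i.1 then hS n (i - r) else 0)
    fun i j (h : i < j) => if_neg (not_le.2 h)]
  simp [hS]

noncomputable def NM (α β : Fin n → ℕ) : ℕ :=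
  Nat.card {M : Fin n → Fin n → ℕ // (∀ s, ∑ t, M s t = α s) ∧ ∀ t, ∑ s, M s t = β t}

theorem coeff_prod_hS (α : Fin n → ℕ) (β : Fin n →₀ ℕ) : coeff β (∏ i, hS n (α i)) = NM α β := by
  simp only [hS_eq, prod_univ_sum, ← monomial_sum_one, coeff_sum, coeff_monomial, sum_boole, Nat.cast_inj, NM]
  rw [← Fintype.card_coe, ← Nat.card_eq_fintype_card]
  exact Nat.card_congr ((Equiv.piCongrRight fun _ => Finsupp.equivFunOnFinite).subtypeEquiv fun M => by
    simp [Finsupp.ext_iff, Finsupp.finset_sum_apply])

theorem det_pow (l : Fin n → ℕ) : det (of fun i j => (X j : MvPolynomial (Fin n) ℤ) ^ l i) =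
    ∑ κ : Perm (Fin n), monomial (Finsupp.equivFunOnFinite.symm fun j => l (κ j)) (Perm.sign κ : ℤ) := by
  simp [det_apply', monomial_eq, Finsupp.prod_fintype]

theorem orth {l l' : Fin n → ℕ} (h : StrictMono l) (h' : StrictMono l') :
    (∑ κ : Perm (Fin n), ∑ κ' : Perm (Fin n), if (∀ i, κ i ≤ l i) ∧ ∀ i, κ' i ≤ l' i then
      (Perm.sign κ : ℤ) * Perm.sign κ' * NM (fun i => l i - κ i) (fun i => l' i - κ' i) else 0) = if l = l' then 1 else 0 := by
  have := congrArg (coeff (Finsupp.equivFunOnFinite.symm l')) (jt l)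
  rw [det_pow, det_pow, ← det_transpose, det_apply', sum_mul_sum] at this
  simp only [coeff_sum, coeff_mul_monomial', coeff_monomial, EmbeddingLike.apply_eq_iff_eq] at this
  convert this using 1
  · refine sum_congr rfl fun κ _ => sum_congr rfl fun κ' _ => ?_
    simp only [transpose_apply, of_apply, Finsupp.le_def, Finsupp.equivFunOnFinite_symm_apply_apply]
    by_cases a : ∀ i, κ i ≤ l i
    · simp only [a, if_true, true_and, implies_true, ← map_intCast (C : ℤ →+* MvPolynomial (Fin n) ℤ), coeff_C_mul, coeff_prod_hS]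
      rw [mul_right_comm]; rfl
    · obtain ⟨i, hi⟩ := not_forall.1 a
      rw [prod_eq_zero (mem_univ i) (if_neg hi)]; simp [a]
  · rw [sum_eq_single 1 (fun κ _ e => if_neg fun e' => e ?_) (by simp)]; · simp
    have : StrictMono κ := fun a b e => h.lt_iff_lt.1 (by simpa [← e'] using h' e)
    exact Equiv.ext fun x => DFunLike.congr_fun (Subsingleton.elim (this.orderIsoOfSurjective κ κ.surjective) (.refl _)) x
end H11
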