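import Mathlib

/-! Systems of full transvection subgroups (`TvS B R`), blocks (`TBlk`), and McLaughlin's argument: a non-symplectic triangle lies
in a closed block (`TvS.exists_blk`). -/

set_option autoImplicit false

namespace H11
open Module Matrix

variable {F V V' : Type*} [Field F] [AddCommGroup V] [Module F V] [AddCommGroup V'] [Module F V']

structure TvS (B : V' →ₗ[F] V →ₗ[F] F) (R : V → V' → Prop) : Prop where
  orth : ∀ {x φ}, R x φ → B φ x = 0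
  zl : ∀ φ, R 0 φ
  zr : ∀ x, R x 0
  sl : ∀ {x φ} (c : F), R x φ → R (c • x) φ
  sr : ∀ {x φ} (c : F), R x φ → R x (c • φ)
  al : ∀ {x y φ}, R x φ → R y φ → R (x + y) φ
  ar : ∀ {x φ ψ}, R x φ → R x ψ → R x (φ + ψ)
  conj : ∀ {x φ y ψ}, R x φ → R y ψ → R (y + B φ y • x) (ψ - B ψ x • φ)

variable {B : V' →ₗ[F] V →ₗ[F] F} {R : V → V' → Prop} {W : Submodule F V} {Φ : Submodule F V'}

def TBlk (B : V' →ₗ[F] V →ₗ[F] F) (R : V → V' → Prop) (W : Submodule F V) (Φ : Submodule F V') : Prop :=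
  ∀ w ∈ W, ∀ φ ∈ Φ, B φ w = 0 → R w φ

def Rk (B : V' →ₗ[F] V →ₗ[F] F) (W : Submodule F V) (Φ : Submodule F V') : Prop :=
  (∀ χ ψ, ∃ w ∈ W, ∃ φ ∈ Φ, B χ w = 0 ∧ B ψ w = 0 ∧ B φ w ≠ 0) ∧ ∀ y z, ∃ φ ∈ Φ, ∃ w ∈ W, B φ y = 0 ∧ B φ z = 0 ∧ B φ w ≠ 0

theorem Rk.mono (h : Rk B W Φ) {W' : Submodule F V} {Φ' : Submodule F V'} (h1 : W ≤ W') (h2 : Φ ≤ Φ') : Rk B W' Φ' :=
  ⟨fun y ψ => let ⟨w, a, φ, b, c⟩ := h.1 y ψ; ⟨w, h1 a, φ, h2 b, c⟩, fun y ψ => let ⟨w, a, φ, b, c⟩ := h.2 y ψ; ⟨w, h2 a, φ, h1 b, c⟩⟩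

theorem Rk.dual (h : Rk B W Φ) : Rk (-B.flip) Φ W := ⟨by simpa using h.2, by simpa using h.1⟩

theorem rk_half {x : Fin 3 → V} {φ : Fin 3 → V'} (hd : (of fun i j => B (φ i) (x j)).det ≠ 0) (χ ψ : V') :
    ∃ w ∈ Submodule.span F (Set.range x), ∃ η ∈ Submodule.span F (Set.range φ), B χ w = 0 ∧ B ψ w = 0 ∧ B η w ≠ 0 := by
  obtain ⟨s, h1, h2⟩ := (exists_mulVec_eq_zero_iff (M := of fun i j => B (![χ, ψ, 0] i) (x j))).2
    (det_eq_zero_of_row_eq_zero 2 (by simp))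
  obtain ⟨i, hi⟩ := Function.ne_iff.1 (mt (eq_zero_of_mulVec_eq_zero hd) h1)
  have e : ∀ η, B η (∑ j, s j • x j) = (fun j => B η (x j)) ⬝ᵥ s := by simp [dotProduct, mul_comm]
  exact ⟨∑ j, s j • x j, (Submodule.mem_span_range_iff_exists_fun F).2 ⟨s, rfl⟩, φ i, Submodule.subset_span ⟨i, rfl⟩,
    (e _).trans (congrFun h2 0), (e _).trans (congrFun h2 1), fun h => hi ((e _).symm.trans h)⟩

theorem rk_tri {x : Fin 3 → V} {φ : Fin 3 → V'} (hd : (of fun i j => B (φ i) (x j)).det ≠ 0) :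
    Rk B (.span F (Set.range x)) (.span F (Set.range φ)) :=
  ⟨rk_half hd, rk_half (B := B.flip) (by rwa [← det_transpose])⟩

namespace TvS
variable (h : TvS B R)
include h

theorem dual : TvS (-B.flip) fun φ x => R x φ :=
  ⟨fun a => by simp [h.orth a], h.zr, h.zl, h.sr, h.sl, h.ar, h.al, fun a b => by simpa [sub_eq_add_neg] using h.conj a b⟩

theorem subl {x y : V} {φ : V'} (a : R x φ) (b : R y φ) : R (x - y) φ := by simpa [sub_eq_add_neg] using h.al a (h.sl (-1) b)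

theorem comm {x y : V} {φ ψ : V'} (a : R x φ) (b : R y ψ) (c : B ψ x = 0) (d : B φ y ≠ 0) : R x ψ := by
  have := h.subl (h.conj a b) (by simpa [c] using b)
  rw [add_sub_cancel_left] at this
  simpa [c, d, smul_smul] using h.sl (B φ y)⁻¹ this

theorem ext_right (hb : TBlk B R W Φ) (hr : Rk B W Φ) {y : V} {ψ φ₁ : V'} (a : R y ψ) (h1 : φ₁ ∈ Φ) (h2 : B φ₁ y ≠ 0) :
    TBlk B R W (Φ ⊔ F ∙ ψ) := by
  have s1 : ∀ w ∈ W, B ψ w = 0 → R w ψ := fun w hw e => by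
    obtain ⟨w₀, b1, φ₀, b2, b3, b4, b5⟩ : ∃ w ∈ W, ∃ φ ∈ Φ, B ψ w = 0 ∧ B φ y = 0 ∧ B φ w ≠ 0 :=
      let ⟨w, b1, φ, b2, b3, b4, b5⟩ := hr.1 ψ φ₁
      ⟨w, b1, B φ₁ y • φ - B φ y • φ₁, sub_mem (Φ.smul_mem _ b2) (Φ.smul_mem _ h1), b3, by simp [mul_comm], by simp [b4, b5, h2]⟩
    have g : ∀ w ∈ W, B ψ w = 0 → B φ₀ w ≠ 0 → R w ψ := fun w hw e e' =>
      h.comm (hb w hw (φ₁ - (B φ₁ w / B φ₀ w) • φ₀) (sub_mem h1 (Φ.smul_mem _ b2)) (by simp [e'])) a e (by simpa [b4])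
    by_cases e' : B φ₀ w = 0
    · simpa using h.subl (g _ (add_mem hw b1) (by simp [e, b3]) (by simpa [e'])) (g _ b1 b3 b5)
    · exact g w hw e e'
  intro w hw η hη e
  obtain ⟨φ, hφ, _, hc, rfl⟩ := Submodule.mem_sup.1 hη
  obtain ⟨c, rfl⟩ := Submodule.mem_span_singleton.1 hc
  obtain ⟨w₀, b1, φ₀, b2, b3, b4, b5⟩ := hr.1 φ ψ
  have g : R w₀ (φ + c • ψ) := h.ar (hb _ b1 _ hφ b3) (h.sr c (s1 _ b1 b4))
  have := h.dual.comm g (hb (w - (B φ₀ w / B φ₀ w₀) • w₀) (sub_mem hw (W.smul_mem _ b1)) φ₀ b2 (by simp [b5]))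
    (by simpa [b3, b4, -neg_add_rev] using e) (by simpa)
  simpa using h.al this (h.sl (B φ₀ w / B φ₀ w₀) g)

theorem exists_closed [FiniteDimensional F V] [FiniteDimensional F V'] (hb : TBlk B R W Φ) (hr : Rk B W Φ) :
    ∃ W' Φ', W ≤ W' ∧ Φ ≤ Φ' ∧ TBlk B R W' Φ' ∧ (∀ y ψ, R y ψ → ∀ w ∈ W', B ψ w ≠ 0 → y ∈ W') ∧
      ∀ y ψ, R y ψ → ∀ φ ∈ Φ', B φ y ≠ 0 → ψ ∈ Φ' := by
  obtain ⟨⟨W', Φ'⟩, ⟨h1, h2, h3⟩, h4⟩ := exists_maximal_of_wellFoundedGT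
    (fun p : Submodule F V × Submodule F V' => W ≤ p.1 ∧ Φ ≤ p.2 ∧ TBlk B R p.1 p.2) ⟨(W, Φ), le_rfl, le_rfl, hb⟩
  refine ⟨W', Φ', h1, h2, h3, fun y ψ a w b c => ?_, fun y ψ a φ b c => ?_⟩
  · have := h.dual.ext_right (fun φ a w b c => h3 w b φ a (by simpa using c)) (hr.mono h1 h2).dual a b (by simpa)
    exact (h4 (y := (W' ⊔ F ∙ y, Φ')) ⟨le_sup_of_le_left h1, h2, fun w b φ a c => this φ a w b (by simpa)⟩
      ⟨le_sup_left, le_rfl⟩).1 (Submodule.mem_sup_right (Submodule.mem_span_singleton_self y))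
  · exact (h4 (y := (W', Φ' ⊔ F ∙ ψ)) ⟨h1, le_sup_of_le_left h2, h.ext_right h3 (hr.mono h1 h2) a b c⟩
      ⟨le_rfl, le_sup_left⟩).2 (Submodule.mem_sup_right (Submodule.mem_span_singleton_self ψ))

theorem blk_tri {x : Fin 3 → V} {φ : Fin 3 → V'} (a : ∀ i, R (x i) (φ i)) (hd : (of fun i j => B (φ i) (x j)).det ≠ 0) :
    TBlk B R (.span F (Set.range x)) (.span F (Set.range φ)) := by
  wlog h1 : B (φ 1) (x 2) ≠ 0 ∧ B (φ 2) (x 0) ≠ 0 generalizing x φ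
  · have := this (x := x ∘ Equiv.swap 1 2) (φ := φ ∘ Equiv.swap 1 2) (fun _ => a _)
      (by rwa [← det_submatrix_equiv_self (Equiv.swap 1 2)] at hd) (by
        by_contra h2
        change ¬ (B (φ 2) (x 1) ≠ 0 ∧ B (φ 1) (x 0) ≠ 0) at h2
        simp only [det_fin_three, of_apply, h.orth (a _)] at hd
        grind)
    rwa [EquivLike.range_comp, EquivLike.range_comp] at this
  set Φ := Submodule.span F (Set.range φ)
  have m : ∀ i, φ i ∈ Φ := fun i => Submodule.subset_span ⟨i, rfl⟩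
  let S := fun w => ∀ η ∈ Φ, B η w = 0 → R w η
  have s1 : ∀ w z χ, S w → R z χ → χ ∈ Φ → S (w + B χ w • z) := fun w z χ b c d η e f => by
    simpa [h.orth c] using h.conj c (b (η + B η z • χ) (add_mem e (Φ.smul_mem _ d)) (by simpa [mul_comm] using f))
  have s2 : ∀ (c : F) w, S w → S (c • w) := fun c w b η e f => by
    by_cases h0 : c = 0
    · simpa [h0] using h.zl η
    · exact h.sl c (b η e (by simpa [h0] using f))
  have s3 : ∀ w ∈ Submodule.span F (Set.range x), ∀ w' ∈ Submodule.span F (Set.range x), S w → S w' → S (w' + w) :=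
    fun w b1 w' b2 b3 b4 => by
      by_cases e : ∃ η ∈ Φ, B η w = 0 ∧ B η w' ≠ 0
      · obtain ⟨η, e1, e2, e3⟩ := e
        simpa [smul_smul, e3] using s1 w' _ η b4 (h.sl (B η w')⁻¹ (b3 η e1 e2)) e1
      push Not at e
      suffices ∃ c : F, w' = c • w by
        obtain ⟨c, rfl⟩ := this
        simpa [add_smul] using s2 (c + 1) w b3
      obtain ⟨c, hc⟩ : ∃ c : F, ∀ i, B (φ i) (w' - c • w) = 0 := by
        by_cases e' : ∃ i, B (φ i) w ≠ 0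
        · obtain ⟨i, e'⟩ := e'
          exact ⟨B (φ i) w' / B (φ i) w, fun j => by
            have := e (φ j - (B (φ j) w / B (φ i) w) • φ i) (sub_mem (m j) (Φ.smul_mem _ (m i))) (by simp [e'])
            simp at this ⊢; grind⟩
        · push Not at e'; exact ⟨0, fun i => by simpa using e _ (m i) (e' i)⟩
      obtain ⟨s, hs⟩ := (Submodule.mem_span_range_iff_exists_fun F).1 (sub_mem b2 (Submodule.smul_mem _ c b1))
      obtain rfl : s = 0 := eq_zero_of_mulVec_eq_zero hd (funext fun i => by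
        simpa [← hs, mulVec, dotProduct, mul_comm] using hc i)
      exact ⟨c, sub_eq_zero.1 (by simpa using hs.symm)⟩
  have mx : ∀ i, x i ∈ Submodule.span F (Set.range x) := fun i => Submodule.subset_span ⟨i, rfl⟩
  have s4 : ∀ i j, S (x i) → B (φ j) (x i) ≠ 0 → S (x j) := fun i j b c => by
    have := s3 _ (neg_mem (mx i)) _ (add_mem (mx i) (Submodule.smul_mem _ _ (mx j))) (by simpa using s2 (-1) _ b)
      (s1 _ _ _ b (a j) (m j))
    rw [add_neg_cancel_comm] at this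
    simpa [smul_smul, c] using s2 (B (φ j) (x i))⁻¹ _ this
  have s5 : S (x 0) := fun η b c => by
    obtain ⟨t, rfl⟩ := (Submodule.mem_span_range_iff_exists_fun F).1 b
    simp only [det_fin_three, of_apply, h.orth (a _)] at hd
    have := h.comm (a 0) (h.conj (h.sl (B (φ 1) (x 0) / (B (φ 1) (x 2) * B (φ 2) (x 0))) (a 2)) (a 1))
      (by simp; grind) (by simp; grind)
    convert h.ar (h.sr (t 0) (a 0)) (h.sr (t 1) this) using 1
    simp [Fin.sum_univ_three, h.orth (a _)] at c ⊢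
    match_scalars <;> grind
  intro w hw
  induction hw using Submodule.span_induction with
  | mem _ e => obtain ⟨i, rfl⟩ := e; fin_cases i; exacts [s5, s4 2 1 (s4 0 2 s5 h1.2) h1.1, s4 0 2 s5 h1.2]
  | zero => exact fun η _ _ => h.zl η
  | add y z b c d e => exact s3 z c y b e d
  | smul c y _ d => exact s2 c y d

theorem exists_blk [FiniteDimensional F V] [FiniteDimensional F V'] {x : Fin 3 → V} {φ : Fin 3 → V'} (a : ∀ i, R (x i) (φ i))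
    (hd : (of fun i j => B (φ i) (x j)).det ≠ 0) : ∃ W Φ, (∀ i, x i ∈ W) ∧ (∀ i, φ i ∈ Φ) ∧ TBlk B R W Φ ∧
      (∀ y ψ, R y ψ → ∀ w ∈ W, B ψ w ≠ 0 → y ∈ W) ∧ ∀ y ψ, R y ψ → ∀ φ ∈ Φ, B φ y ≠ 0 → ψ ∈ Φ :=
  let ⟨W, Φ, h1, h2, h3⟩ := h.exists_closed (h.blk_tri a hd) (rk_tri hd)
  ⟨W, Φ, fun i => h1 (Submodule.subset_span ⟨i, rfl⟩), fun i => h2 (Submodule.subset_span ⟨i, rfl⟩), h3⟩
end TvS
end H11
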