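import Cfsg.Agent.H8.Cod

/-! Sums of squares of `p'`-degrees in a subgroup of `p'`-index (`H11.OdI.pIE`). -/

set_option autoImplicit false
open Cfsg H5 H6 H8

namespace H11.OdI

theorem comb {α β : Type*} [Fintype α] [Fintype β] [DecidableEq β] (a : α → ℕ) (b : β → ℕ)
    (f : α → β) (ha : ∀ x, 0 < a x)
    (h : ∀ y, ∑ x ∈ Finset.univ.filter (fun x => f x = y), a x ≤ b y) :
    ∑ x, a x ^ 2 ≤ ∑ y, b y ^ 2 ∧ (∑ x, a x ^ 2 = ∑ y, b y ^ 2 → ∀ x, a x = b (f x)) := by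
  have h1 : ∀ x ∈ (Finset.univ : Finset α), a x ^ 2 ≤ a x * b (f x) := fun x _ => by
    rw [sq]
    refine Nat.mul_le_mul_left _ (le_trans ?_ (h (f x)))
    exact Finset.single_le_sum (f := a) (fun _ _ => Nat.zero_le _) (by simp)
  have h2 : ∑ x, a x * b (f x) ≤ ∑ y, b y ^ 2 := by
    rw [← Finset.sum_fiberwise Finset.univ f]
    refine Finset.sum_le_sum fun y _ => ?_
    rw [Finset.sum_congr rfl (g := fun x => a x * b y) fun x hx => by
      rw [(Finset.mem_filter.1 hx).2], ← Finset.sum_mul, sq]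
    exact Nat.mul_le_mul_right _ (h y)
  have h3 := Finset.sum_le_sum h1
  refine ⟨h3.trans h2, fun e x => ?_⟩
  have h4 := (Finset.sum_eq_sum_iff_of_le h1).1 (le_antisymm h3 (e ▸ h2)) x (Finset.mem_univ x)
  rw [sq] at h4
  exact Nat.eq_of_mul_eq_mul_left (ha x) h4

theorem pIE {G : Type*} [Group G] [Finite G] (p : ℕ) [hp : Fact p.Prime] (H : Subgroup G)
    (hi : ¬ p ∣ H.index) :
    (∑ᶠ η : {η : IrrCharacter H // ¬ p ∣ charDegree (η : H → ℂ)}, charDegree (η.1 : H → ℂ) ^ 2) ≤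
      (∑ᶠ χ : {χ : IrrCharacter G // ¬ p ∣ charDegree (χ : G → ℂ)}, charDegree (χ.1 : G → ℂ) ^ 2) ∧
    ((∑ᶠ η : {η : IrrCharacter H // ¬ p ∣ charDegree (η : H → ℂ)}, charDegree (η.1 : H → ℂ) ^ 2) =
      (∑ᶠ χ : {χ : IrrCharacter G // ¬ p ∣ charDegree (χ : G → ℂ)}, charDegree (χ.1 : G → ℂ) ^ 2) →
      ∀ θ : IrrCharacter H, ¬ p ∣ charDegree (θ : H → ℂ) →
        ∃ χ : IrrCharacter G, ∀ x : H, (χ : G → ℂ) x = (θ : H → ℂ) x) := by
  classical
  have := Fintype.ofFinite G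
  have := Fintype.ofFinite H
  have hex : ∀ η : {η : IrrCharacter H // ¬ p ∣ charDegree (η : H → ℂ)},
      ∃ χ : {χ : IrrCharacter G // ¬ p ∣ charDegree (χ : G → ℂ)},
        classInner (fun x : H => χ.1.1 x) η.1.1 ≠ 0 := fun η => by
    obtain ⟨χ, h1, h2⟩ := exists_constituent_not_dvd (isCharacter_ind H η.1.2.isCharacter)
      (n := p) (by
        rw [deg_ind η.1.2.isCharacter]
        exact Nat.Prime.not_dvd_mul hp.out hi η.2)
    rw [inner_ind_left _ _ χ.2.isClassFunction, Ne, classInner_eq_zero_comm] at h1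
    exact ⟨⟨χ, h2⟩, h1⟩
  choose f hf using hex
  have hc := comb (fun η : {η : IrrCharacter H // ¬ p ∣ charDegree (η : H → ℂ)} =>
      charDegree (η.1 : H → ℂ))
    (fun χ : {χ : IrrCharacter G // ¬ p ∣ charDegree (χ : G → ℂ)} => charDegree (χ.1 : G → ℂ)) f
    (fun η => η.1.2.charDegree_pos) (fun χ => by
      obtain ⟨m, h1, h2⟩ := deg_eq_sum (χ.1.2.isCharacter.restrict H)
      rw [charDegree_congr (χ := χ.1.1) (ψ := fun x : H => χ.1.1 x) rfl, h2]
      calc _ ≤ ∑ η ∈ Finset.univ.filter (fun η => f η = χ), m η.1 * charDegree η.1.1 :=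
            Finset.sum_le_sum fun η hη => Nat.le_mul_of_pos_left _ (Nat.pos_of_ne_zero fun e => by
              have h3 := hf η
              rw [(Finset.mem_filter.1 hη).2, h1, e] at h3
              simp at h3)
        _ = ∑ η ∈ (Finset.univ.filter (fun η => f η = χ)).map (Function.Embedding.subtype _),
              m η * charDegree η.1 := by rw [Finset.sum_map]; rfl
        _ ≤ _ := Finset.sum_le_sum_of_subset (Finset.subset_univ _))
  rw [finsum_eq_sum_of_fintype, finsum_eq_sum_of_fintype]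
  refine ⟨hc.1, fun e θ hθ => ⟨(f ⟨θ, hθ⟩).1, fun x => ?_⟩⟩
  have h4 := hc.2 e ⟨θ, hθ⟩
  have h5 := eq_of_constituent_of_apply_one ((f ⟨θ, hθ⟩).1.2.isCharacter.restrict H) θ.2
    (hf ⟨θ, hθ⟩) (by
      change (f ⟨θ, hθ⟩).1.1 1 = θ.1 1
      rw [← (f ⟨θ, hθ⟩).1.2.coe_charDegree, ← θ.2.coe_charDegree]
      exact congrArg Nat.cast h4.symm)
  exact congrFun h5 x

end H11.OdI
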