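import Cfsg.Agent.H11.Bor
import Cfsg.Agent.H24.Rank1

/-! Presentations of `SL₂(q)` with three generators and eight (five for even `q`) relators: `sl2_core`,
`exists_pres_sl2`, `exists_pres_sl2_even`, `PrG.quot_center`. -/

set_option autoImplicit false

namespace H11
open Subgroup H24
open FreeGroup (of lift)
open scoped MatrixGroups

variable {H G : Type*} [Group H] [Group G] {F : Type*} [Field F] {κ : Type}

theorem PrG.quot_center [IsCyclic (center G)] {g : κ → G} {r : ℕ} (h : PrG g r) (top : closure (Set.range g) = ⊤) :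
    PrG (QuotientGroup.mk' (center G) ∘ g) (r + 1) := by
  obtain ⟨z, hz⟩ := IsCyclic.exists_generator (α := center G)
  refine h.quot top _ [z.1] ?_
  rw [QuotientGroup.ker_mk']
  refine le_antisymm (fun a ha => ?_) (normalClosure_le_normal (by simp))
  obtain ⟨k, hk⟩ := hz ⟨a, ha⟩
  rw [show a = z.1 ^ k from (congrArg Subtype.val hk).symm]
  exact zpow_mem (subset_normalClosure (by simp)) k

theorem PrG.iso_quot [IsCyclic (center G)] {g : κ → G} {r : ℕ} (h : PrG g r) (top : closure (Set.range g) = ⊤) :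
    ∃ rels : Finset (FreeGroup κ), rels.card ≤ r + 1 ∧
      Nonempty (PresentedGroup (↑rels : Set (FreeGroup κ)) ≃* G ⧸ center G) :=
  (h.quot_center top).iso' (closure_range_comp top _ (QuotientGroup.mk'_surjective _))

instance isCyclic_center_SL {n : Type*} [Fintype n] [DecidableEq n] [Finite F] :
    IsCyclic (center (Matrix.SpecialLinearGroup n F)) := by
  cases isEmpty_or_nonempty n
  · exact isCyclic_of_subsingleton
  · exact isCyclic_of_surjective _ (Matrix.SpecialLinearGroup.center_equiv_rootsOfUnity' (Classical.arbitrary n)).symm.surjective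

theorem sl2_core {X : F → H} (hX : Add1 X) {t h : H} {ζ : Fˣ} (hζ : ∀ a : Fˣ, ∃ i : ℕ, ζ ^ i = a)
    (hh : ∀ a, h * X a * h⁻¹ = X (ζ ^ 2 * a)) (ht : t * h * t⁻¹ = h⁻¹) (hb : X 1 * (t * X 1 * t⁻¹) * X 1 = t)
    (hc : X ζ * (t * X (ζ⁻¹ : Fˣ) * t⁻¹) * X ζ = h * t ∨ ∃ m, h ^ (2 * m + 1) = 1 ∧ ζ ^ (2 * m + 1) = 1) :
    ∃ S : R1 F H, S.x = X ∧ (∀ a, S.y a = t * X (-a) * t⁻¹) ∧ t ∈ S.T ∧ h ∈ S.T := by
  let N : Fˣ → H := fun τ => X τ * (t * X (τ⁻¹ : Fˣ) * t⁻¹) * X τ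
  have hi : ∀ a, h⁻¹ * X a * h = X ((ζ⁻¹ : Fˣ) ^ 2 * a) := fun a => by
    have := hh ((ζ⁻¹ : Fˣ) ^ 2 * a)
    rw [← mul_assoc, ← mul_pow, Units.mul_inv, one_pow, one_mul] at this
    rw [← this]; group
  have ht' : h * t = t * h⁻¹ :=
    calc _ = (t * h * t⁻¹)⁻¹ * t := by rw [ht, inv_inv]
      _ = _ := by group
  have hy : ∀ a, h * (t * X a * t⁻¹) * h⁻¹ = t * X ((ζ⁻¹ : Fˣ) ^ 2 * a) * t⁻¹ := fun a =>
    calc _ = h * t * X a * (h * t)⁻¹ := by group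
      _ = _ := by rw [ht', ← hi]; group
  have hN : ∀ τ, N (ζ ^ 2 * τ) = h * N τ * h⁻¹ := fun τ => by
    simp only [N]; rw [← conj_mul, ← conj_mul, hy, hh]; simp [mul_comm]
  have hQ : ∀ τ : Fˣ, (∀ u, N τ * X u * (N τ)⁻¹ = t * X ((τ⁻¹ : Fˣ) ^ 2 * u) * t⁻¹) → ∀ j : ℕ, ∀ u,
      N (ζ ^ (2 * j) * τ) * X u * (N (ζ ^ (2 * j) * τ))⁻¹ = t * X (((ζ ^ (2 * j) * τ)⁻¹ : Fˣ) ^ 2 * u) * t⁻¹ :=
    fun τ h0 j => by
      induction j with
      | zero => simpa using h0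
      | succ j ih =>
        intro u
        rw [mul_add, add_comm, pow_add, mul_one, mul_assoc (ζ ^ 2), hN]
        calc _ = h * (N (ζ ^ (2 * j) * τ) * (h⁻¹ * X u * h) * (N (ζ ^ (2 * j) * τ))⁻¹) * h⁻¹ := by group
          _ = _ := by rw [hi, ih, hy]; congr 3; simp; ring
  have h1 : N 1 = t := by simpa [N] using hb
  have hA : ∀ (τ : Fˣ) u, N τ * X u * (N τ)⁻¹ = t * X ((τ⁻¹ : Fˣ) ^ 2 * u) * t⁻¹ := fun τ => by
    obtain ⟨i, rfl⟩ := hζ τ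
    have e1 := hQ 1 (by simp [h1])
    rcases i.even_or_odd' with ⟨j, rfl | rfl⟩
    · simpa using e1 j
    rcases hc with hc | ⟨m, -, hm⟩
    · exact pow_succ ζ _ ▸ hQ ζ (fun u => by
        rw [show N ζ = h * t from hc, ht', ← hi]; group) j
    · have := e1 (j + m + 1)
      rwa [mul_one, show 2 * (j + m + 1) = 2 * j + 1 + (2 * m + 1) by ring, pow_add, hm, mul_one] at this
  let S : R1 F H := ⟨X, fun a => t * X (-a) * t⁻¹, hX.add, fun a b => by rw [neg_add, hX.add, conj_mul], fun τ u => by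
    simpa [N] using hA τ u⟩
  have hT : ∀ τ, N τ ∈ S.T := fun τ => mul_mem (mul_mem (subset_closure (.inl ⟨_, rfl⟩))
    (subset_closure (.inr ⟨-(τ⁻¹ : Fˣ), by simp [S]⟩))) (subset_closure (.inl ⟨_, rfl⟩))
  refine ⟨S, rfl, fun _ => rfl, h1 ▸ hT 1, ?_⟩
  rcases hc with hc | ⟨m, hm, -⟩
  · simpa only [mul_inv_cancel_right] using mul_mem (hc ▸ hT ζ : h * t ∈ S.T) (inv_mem (h1 ▸ hT 1 : t ∈ S.T))
  · have := mul_mem (hT (ζ ^ 2 * 1)) (inv_mem (hT 1))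
    rw [hN, h1, mul_assoc h, ← ht', mul_assoc, mul_inv_cancel_right, ← sq] at this
    have := inv_mem (pow_mem this m)
    rwa [← pow_mul, inv_eq_of_mul_eq_one_right (pow_succ h _ ▸ hm)] at this

variable [Finite F]

theorem sl2_top {ζ : Fˣ} (hζ : orderOf ζ = Nat.card F - 1) :
    closure (Set.range ![(sl2R F).x 1, (sl2R F).n 1, (sl2R F).h ζ]) = ⊤ := by
  have hx : RS _ ((sl2R F).h ζ) ((ζ : F) ^ 2) (sl2R F).x :=
    ⟨⟨(sl2R F).x_add⟩, rfl, fun a => by rw [R1.h_x, mul_inv_cancel_right]⟩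
  have h := hx.mem (gen_pow hζ (by simp)) (K := closure (Set.range ![(sl2R F).x 1, (sl2R F).n 1, (sl2R F).h ζ]))
    (subset_closure ⟨0, rfl⟩) (subset_closure ⟨2, rfl⟩)
  have h1 : (sl2R F).n 1 ∈ closure (Set.range ![(sl2R F).x 1, (sl2R F).n 1, (sl2R F).h ζ]) := subset_closure ⟨1, rfl⟩
  rw [eq_top_iff, ← sl2R_T, R1.T, closure_le]
  rintro _ (⟨a, rfl⟩ | ⟨a, rfl⟩)
  · exact h a
  · have := mul_mem (mul_mem h1 (h (-a))) (inv_mem h1)
    simpa [R1.n_x] using this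

theorem sl2_fin {ζ : Fˣ} (hζ : ∀ a : Fˣ, ∃ i : ℕ, ζ ^ i = a) {r : ℕ} {P : _ → Prop}
    (hP : Enf ![(sl2R F).x 1, (sl2R F).n 1, (sl2R F).h ζ] r P)
    (h : ∀ C, P C → ∃ X : F → C.H, Add1 X ∧ X 1 = C.φ (of 0) ∧ (∀ a, C.π (X a) = (sl2R F).x a) ∧
      (∀ a, C.φ (of 2) * X a * (C.φ (of 2))⁻¹ = X (ζ ^ 2 * a)) ∧
      (X ζ * (C.φ (of 1) * X (ζ⁻¹ : Fˣ) * (C.φ (of 1))⁻¹) * X ζ = C.φ (of 2) * C.φ (of 1) ∨
        ∃ m, C.φ (of 2) ^ (2 * m + 1) = 1 ∧ ζ ^ (2 * m + 1) = 1)) :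
    PrG ![(sl2R F).x 1, (sl2R F).n 1, (sl2R F).h ζ] (r + 2) := by
  refine ((hP.and (Enf.rel (of 1 * of 2 * (of 1)⁻¹) (of 2)⁻¹ ?_)).and
    (Enf.rel (of 0 * (of 1 * of 0 * (of 1)⁻¹) * of 0) (of 1) ?_)).mono le_rfl fun C ⟨⟨c1, c2⟩, c3⟩ => ?_
  · simp [R1.n_mul_h, mul_inv_eq_iff_eq_mul, ← R1.h_inv, R1.h_mul_n]
  · simp [R1.n_x]; simp [R1.n]
  obtain ⟨X, h1, h2, h3, h4, h5⟩ := h C c1
  simp only [map_mul, map_inv] at c2 c3
  obtain ⟨S, s1, s2, s3, s4⟩ := sl2_core h1 hζ h4 c2 (h2 ▸ c3) h5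
  refine fun x => S.inj_of_sl2 C.π (s1 ▸ h3) (fun a => ?_) (C.top (fun j => ?_) x)
  · simp [s2, h3, R1.n_x]
  · fin_cases j
    exacts [h2 ▸ s1 ▸ subset_closure (.inl ⟨1, rfl⟩), s3, s4]

theorem h_pow_x (ζ : Fˣ) (l : ℕ) (a : F) :
    (sl2R F).h ζ ^ l * (sl2R F).x a * ((sl2R F).h ζ ^ l)⁻¹ = (sl2R F).x ((ζ ^ l) ^ 2 * a) := by
  have hx : RS _ ((sl2R F).h ζ) ((ζ : F) ^ 2) (sl2R F).x :=
    ⟨⟨(sl2R F).x_add⟩, rfl, fun a => by rw [R1.h_x, mul_inv_cancel_right]⟩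
  rw [hx.act_pow, ← pow_mul, ← pow_mul, mul_comm l]

theorem exists_pres_sl2_even [CharP F 2] : ∃ g : Fin 3 → SL(2, F), PrG g 5 ∧ closure (Set.range g) = ⊤ := by
  obtain ⟨ζ, h1, h2⟩ := exists_prim F
  have hξ := gen_pow h1 (m := 2) (by simp)
  obtain ⟨k, hk⟩ : ∃ k : ℕ, Nat.card F ≤ 2 ∨ (ζ : F) ^ k = 1 + ζ := by
    by_cases h : 1 + (ζ : F) = 0
    · rw [CharTwo.add_eq_zero, eq_comm, Units.val_eq_one] at h
      rw [h, orderOf_one] at h1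
      exact ⟨0, .inl (by omega)⟩
    · obtain ⟨k, hk⟩ := h2 (Units.mk0 _ h)
      exact ⟨k, .inr (by simpa using congrArg Units.val hk)⟩
  have hx : RS (lift ![(sl2R F).x 1, (sl2R F).n 1, (sl2R F).h ζ] (of 0))
      (lift ![(sl2R F).x 1, (sl2R F).n 1, (sl2R F).h ζ] (of 2)) ((ζ : F) ^ 2) (sl2R F).x :=
    ⟨⟨(sl2R F).x_add⟩, by simp, fun a => by simp [R1.h_x]⟩
  obtain ⟨m, hm⟩ : Odd (orderOf ζ) := by
    have := Fintype.ofFinite F
    obtain ⟨n, -, hn⟩ := FiniteField.card F 2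
    rw [h1, Nat.card_eq_fintype_card, hn]
    exact Nat.Even.sub_odd Nat.one_le_two_pow (by simp [parity_simps]) odd_one
  refine ⟨_, sl2_fin h2 (borel_two (t := of 2 ^ k) hξ hx (hk.imp_right fun h => by
    simp [h_pow_x, h, CharTwo.add_sq]) (of 2 ^ orderOf ζ) ?_) fun C h => ?_, sl2_top h1⟩
  · have : ∀ i, (sl2R F).h ζ ^ i = (sl2R F).h (ζ ^ i) := fun i => by
      induction i with
      | zero => simp
      | succ i ih => rw [pow_succ, ih, pow_succ, R1.h_mul]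
    simp [this]
  · obtain ⟨⟨X, hX⟩, h3⟩ := h (by simp) (by simp)
    exact ⟨X, hX.toAdd1, hX.one, hX.map hξ _ (by simpa using hx), hX.act,
      .inr ⟨m, by simpa [hm] using h3, hm ▸ pow_orderOf_eq_one ζ⟩⟩

theorem exists_pres_sl2 : ∃ g : Fin 3 → SL(2, F), PrG g 8 ∧ closure (Set.range g) = ⊤ := by
  obtain ⟨p, hp⟩ := CharP.exists F
  rcases eq_or_ne p 2 with rfl | p2
  · exact exists_pres_sl2_even.imp fun g h => ⟨h.1.mono (by omega), h.2⟩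
  have h0 : (2 : F) ≠ 0 := Ring.two_ne_zero (by rwa [ringChar.eq F p])
  obtain ⟨ζ, h1, h2⟩ := exists_prim F
  set g := ![(sl2R F).x 1, (sl2R F).n 1, (sl2R F).h ζ] with hg
  have hx : ∀ l, RS (lift g (of 0)) (lift g (of 2 ^ l)) (((ζ : F) ^ l) ^ 2) (sl2R F).x := fun l =>
    ⟨⟨(sl2R F).x_add⟩, by simp [g], fun a => by simp [g, h_pow_x]⟩
  obtain ⟨l, hξ, hE⟩ : ∃ l, Gen (((ζ : F) ^ l) ^ 2) ∧
      Enf g 4 fun C => ∃ X, RS (C.φ (of 0)) (C.φ (of 2 ^ l)) (((ζ : F) ^ l) ^ 2) X := by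
    by_cases hq : Nat.card F ≤ p ^ 2
    · have := gen_pow h1 (m := 2) (by simp)
      rw [← pow_one (ζ : F)] at this
      exact ⟨1, this, (borel_le_two p this (hx 1) le_rfl hq).mono (by omega) fun _ h => h⟩
    have p3 : 9 ≤ p ^ 2 := by have := (CharP.char_is_prime F p).two_le; nlinarith [lt_of_le_of_ne this p2.symm]
    have h4 : (ζ : F) ^ 4 ≠ 1 := fun e => by
      have := Nat.le_of_dvd (by omega) (orderOf_dvd_of_pow_eq_one (x := ζ) (n := 4) (Units.ext e)); omega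
    have z0 := ζ.ne_zero
    obtain ⟨l, hl⟩ := h2 (Units.mk0 ((ζ - (ζ : F)⁻¹) / 2) fun e => h4 (by
      field_simp at e; linear_combination (ζ ^ 2 + 1) * e))
    obtain ⟨k, hk⟩ := h2 (Units.mk0 ((ζ + (ζ : F)⁻¹) / 2) fun e => h4 (by
      field_simp at e; linear_combination (ζ ^ 2 - 1) * e))
    replace hl : (ζ : F) ^ l = (ζ - (ζ : F)⁻¹) / 2 := by simpa using congrArg Units.val hl
    replace hk : (ζ : F) ^ k = (ζ + (ζ : F)⁻¹) / 2 := by simpa using congrArg Units.val hk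
    have hξ : Gen (((ζ : F) ^ l) ^ 2) := by
      by_contra h
      obtain ⟨k, φ, a1, a2, a3, a4⟩ := exists_of_not_gen h
      have a5 := a4 _ (Subring.subset_closure rfl)
      have f0 : φ ζ ≠ 0 := by simp
      rw [hl, map_pow, map_div₀, map_sub, map_inv₀, map_ofNat] at a5
      field_simp at a5
      have a6 : (φ ζ ^ 2 - ζ ^ 2) * (φ ζ ^ 2 * ζ ^ 2 - 1) = 0 := by linear_combination a5
      have a7 : orderOf ζ ≤ 2 * (k + 1) := by
        rcases mul_eq_zero.1 a6 with e | e <;> rw [a3, sub_eq_zero, ← pow_mul] at e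
        · obtain ⟨k, rfl⟩ : ∃ l, k = l + 1 := ⟨k - 1, by omega⟩
          rw [add_mul, pow_add, one_mul, mul_eq_right₀ (by simp)] at e
          exact (orderOf_le_of_pow_eq_one (n := k * 2) (by omega) (Units.ext (by simpa using e))).trans (by omega)
        · rw [← pow_add] at e
          exact (orderOf_le_of_pow_eq_one (n := k * 2 + 2) (by omega) (Units.ext (by simpa using e))).trans (by omega)
      have : k ≤ 3 := by by_contra; nlinarith [show Nat.card F ≤ 2 * (k + 1) + 1 by omega]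
      omega
    exact ⟨l, hξ, (borel (t := of 2 ^ k) hξ (hx l) (.inr (by
      simp only [g, map_pow, FreeGroup.lift_apply_of, Matrix.cons_val, h_pow_x, hl, hk]
      congr 1; field_simp; ring)) 1 1 (by simp) (by simp)).mono le_rfl fun C h => (h (by simp) (by simp) (by simp)).1⟩
  obtain ⟨w, w1, w2⟩ := exists_wd hξ (hx l)
  refine ⟨g, sl2_fin h2 ((hE.and (Enf.rel (of 2 * of 0 * (of 2)⁻¹) (w (ζ ^ 2)) (by simp [w1, g, R1.h_x]))).and
    (Enf.rel (w ζ * (of 1 * w (ζ⁻¹ : Fˣ) * (of 1)⁻¹) * w ζ) (of 2 * of 1) (by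
      simp [w1, g, R1.n_x, R1.h_mul_n]; simp [R1.n]))) fun C ⟨⟨⟨X, hX⟩, c1⟩, c2⟩ => ?_, sl2_top h1⟩
  simp only [map_mul, map_inv, w2 C X hX] at c1 c2
  exact ⟨X, hX.toAdd1, hX.one, hX.map hξ _ (by simpa only [C.comp] using hx l),
    hX.conj hξ hX.toAdd1 hX.act (by rw [map_pow]; group) c1, .inl c2⟩
end H11
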