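import Cfsg.Agent.H11.Pres2
import Cfsg.Agent.H11.PSL2
import Cfsg.Agent.H10.SL
import Cfsg.Agent.S2401

/-! Bounded presentations of `SL_n(q)`, `n ≥ 3`: `sl_hom` (Steinberg relations give a homomorphism), `sl_core`,
`pres_SL`, `exists_pres_sl3` (4 generators, 14 relators), `exists_pres_sl45` (4, 19), `exists_pres_sln` (5, 22). -/

set_option autoImplicit false

namespace H11
open Subgroup Equiv Equiv.Perm
open FreeGroup (of lift)
open scoped MatrixGroups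

variable {H G : Type*} [Group H] [Group G] {F : Type*} [Field F] {n : ℕ}

/-- elementary transvections -/
def trv (i j : Fin n) (a : F) : SL(n, F) := if h : i ≠ j then Matrix.SpecialLinearGroup.transvection h a else 1

theorem coe_trv {i j : Fin n} (h : i ≠ j) (a : F) : (trv i j a).1 = 1 + Matrix.single i j a := by
  rw [trv, dif_pos h]; rfl

theorem trv_top {K : Subgroup SL(n, F)} (hn : 2 ≤ n) (h : ∀ i j, i ≠ j → ∀ a, trv i j a ∈ K) (g : SL(n, F)) : g ∈ K := by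
  have := Fin.nontrivial_iff_two_le.2 hn
  exact H10.SL_transvection_induction (· ∈ K) (fun i j e c => by simpa [trv, e] using h i j e c) (fun _ _ => mul_mem) g

theorem sl_hom [Finite F] (hn : 3 ≤ n) (x : Fin n → Fin n → F → H) (h1 : ∀ i j, i ≠ j → Add1 (x i j))
    (h2 : ∀ i j k l, i ≠ j → k ≠ l → i ≠ l → j ≠ k → ∀ a b, Commute (x i j a) (x k l b))
    (h3 : ∀ i j l, i ≠ j → j ≠ l → i ≠ l → ∀ a b, x i j a * x j l b * (x i j a)⁻¹ * (x j l b)⁻¹ = x i l (a * b)) :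
    ∃ θ : SL(n, F) →* H, ∀ i j, i ≠ j → ∀ a, θ (trv i j a) = x i j a := by
  obtain ⟨e, he⟩ := Cfsg.Agent.S2401.result (K := F) n hn
  refine ⟨(PresentedGroup.toGroup (f := fun p => x p.1.1.1 p.1.1.2 p.2) ?_).comp e.symm.toMonoidHom, fun i j h a => ?_⟩
  · rintro _ ((⟨a, t, u, rfl⟩ | ⟨a, b, t, u, e1, e2, rfl⟩) | ⟨⟨⟨i, j⟩, a⟩, ⟨⟨k, l⟩, b⟩, e1, t, u, rfl, rfl⟩)
    · simp [(h1 _ _ a.2).add]
    · simp [(h2 _ _ _ _ a.2 b.2 e1 e2 t u).eq]
    · simp [h3 _ _ _ a b e1]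
  · rw [show trv i j a = e (PresentedGroup.of (⟨(i, j), h⟩, a)) from Subtype.ext ((coe_trv h a).trans (he ⟨(i, j), h⟩ a).symm)]
    simp

/-- conjugates of `y` indexed by pairs -/
def cj {K Ω : Type*} (ψ : K → H) (κ : Ω → Ω → K) (y : H) (i j : Ω) : H := ψ (κ i j) * y * (ψ (κ i j))⁻¹

theorem map_cj {K Ω : Type*} (φ : G →* H) {w : K → G} {ψ : K → H} (h : ∀ k, φ (w k) = ψ k) (κ : Ω → Ω → K) (y : G) (i j : Ω) :
    φ (cj w κ y i j) = cj ψ κ (φ y) i j := by simp [cj, h]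

theorem cj_equi {Ω : Type*} {K : Subgroup (Perm Ω)} (ψ : K →* H) {κ : Ω → Ω → K} {a b : Ω}
    (hκ : ∀ i j, i ≠ j → (κ i j).1 a = i ∧ (κ i j).1 b = j) {y : H}
    (hy : ∀ k : K, k.1 a = a → k.1 b = b → ψ k * y * (ψ k)⁻¹ = y) (k : K) {i j : Ω} (h : i ≠ j) :
    MulAut.conj (ψ k) (cj ψ κ y i j) = cj ψ κ y (k.1 i) (k.1 j) := by
  have h' := hκ _ _ (k.1.injective.ne h)
  have := hy ((κ (k.1 i) (k.1 j))⁻¹ * k * κ i j) (by simp [hκ i j h, symm_apply_eq, h'])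
    (by simp [hκ i j h, symm_apply_eq, h'])
  rw [cj, cj]
  nth_rw 2 [← this]
  simp [mul_assoc]

/-- the character value `ζ ^ δ_{ia}` -/
def ev (ζ : Fˣ) (i a : Fin n) : Fˣ := if a = i then ζ else 1

def emb3 {i j l : Fin n} (h1 : i ≠ j) (h2 : j ≠ l) (h3 : i ≠ l) : Fin 3 ↪ Fin n :=
  ⟨![i, j, l], fun x y => by fin_cases x <;> fin_cases y <;> simp [*, h1.symm, h2.symm, h3.symm]⟩

def emb4 {i j k l : Fin n} (h1 : i ≠ j) (h2 : i ≠ k) (h3 : i ≠ l) (h4 : j ≠ k) (h5 : j ≠ l) (h6 : k ≠ l) : Fin 4 ↪ Fin n :=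
  ⟨![i, j, k, l], fun x y => by
    fin_cases x <;> fin_cases y <;> simp [*, h1.symm, h2.symm, h3.symm, h4.symm, h5.symm, h6.symm]⟩

theorem exists_third (hn : 3 ≤ n) (i j : Fin n) : ∃ l, l ≠ i ∧ l ≠ j := by
  obtain ⟨l, -, h⟩ := Finset.exists_mem_notMem_of_card_lt_card (s := {i, j}) (t := Finset.univ)
    (Finset.card_le_two.trans_lt (by simpa))
  exact ⟨l, by simpa using h⟩

theorem exists_fourth (hn : 4 ≤ n) (i j k : Fin n) : ∃ l, l ≠ i ∧ l ≠ j ∧ l ≠ k := by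
  obtain ⟨l, -, h⟩ := Finset.exists_mem_notMem_of_card_lt_card (s := {i, j, k}) (t := Finset.univ)
    (Finset.card_le_three.trans_lt (by simpa))
  exact ⟨l, by simpa using h⟩

theorem torus_rel (hn : 3 ≤ n) {h : Fin n → Fin n → H} (h0 : ∀ i, h i i = 1)
    (h1 : ∀ i j l, i ≠ j → j ≠ l → i ≠ l → h i j * h j l = h i l ∧ Commute (h i j) (h i l)) :
    (∀ i j l, h i j * h j l = h i l) ∧ ∀ i j k l, Commute (h i j) (h k l) := by
  have c : ∀ i j l, Commute (h i j) (h i l) := fun i j l => by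
    by_cases a : i = j; · simp [a, h0]
    by_cases b : i = l; · simp [b, h0]
    by_cases c : j = l; · simp [c]
    exact (h1 i j l a c b).2
  have a : ∀ i j l, h i j * h j l = h i l := fun i j l => by
    by_cases a : i = j; · simp [a, h0]
    by_cases b : j = l; · simp [b, h0]
    by_cases c' : i = l; swap; · exact (h1 i j l a b c').1
    subst c'
    obtain ⟨m, m1, m2⟩ := exists_third hn i j
    rw [← inv_mul_eq_iff_eq_mul.2 (h1 m i j m1 a m2).1.symm, ← inv_mul_eq_iff_eq_mul.2 (h1 m j i m2 b m1).1.symm, h0,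
      mul_assoc, mul_inv_cancel_left, inv_mul_cancel]
  refine ⟨a, fun i j k l => ?_⟩
  rw [← inv_mul_eq_iff_eq_mul.2 (a i k l).symm]
  exact (c i j k).inv_right.mul_right (c i j l)

theorem sl_rel [Finite F] (hn : 3 ≤ n) {ζ : Fˣ} (z1 : orderOf ζ = Nat.card F - 1) (z2 : ∀ a : Fˣ, ∃ i : ℕ, ζ ^ i = a)
    {h : Fin n → Fin n → H} {x : Fin n → Fin n → F → H} (h1 : ∀ i j l, h i j * h j l = h i l)
    (hx : ∀ i j, i ≠ j → Add1 (x i j))
    (t1 : ∀ i j l, i ≠ j → j ≠ l → i ≠ l → ∀ a, h i l * x i j a * (h i l)⁻¹ = x i j (ζ * a))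
    (t2 : ∀ i j l, i ≠ j → j ≠ l → i ≠ l → ∀ a, h l j * x i j a * (h l j)⁻¹ = x i j (ζ * a))
    (t3 : ∀ e : Fin 4 ↪ Fin n, ∀ a, h (e 2) (e 3) * x (e 0) (e 1) a * (h (e 2) (e 3))⁻¹ = x (e 0) (e 1) a)
    (c4 : ∀ e : Fin 4 ↪ Fin n, Commute (x (e 0) (e 1) 1) (x (e 2) (e 3) 1)) {m : ℕ} (hm : m = 3 ∨ 4 ≤ n ∧ m = 1)
    (c3 : ∀ i j l, i ≠ j → j ≠ l → i ≠ l → ∀ s < m,
      x i j 1 * x j l (ζ ^ s) * (x i j 1)⁻¹ * (x j l (ζ ^ s))⁻¹ = x i l (ζ ^ s)) :
    (∀ k l i j, i ≠ j → ∃ c : Fˣ, ∀ a, h k l * x i j a * (h k l)⁻¹ = x i j (c * a)) ∧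
      ∃ θ : SL(n, F) →* H, ∀ i j, i ≠ j → ∀ a, θ (trv i j a) = x i j a := by
  have h0 : ∀ i, h i i = 1 := fun i => by simpa using h1 i i i
  have hi : ∀ i j, h i j = (h j i)⁻¹ := fun i j => eq_inv_of_mul_eq_one_left (by rw [h1, h0])
  have mul : ∀ {g g' : H} {X : F → H} {c c' : Fˣ}, (∀ a, g * X a * g⁻¹ = X (c * a)) → (∀ a, g' * X a * g'⁻¹ = X (c' * a)) →
      ∀ a, g * g' * X a * (g * g')⁻¹ = X ((c * c' : Fˣ) * a) := fun e1 e2 a => by
    rw [Units.val_mul, mul_assoc _ _ a, ← e1, ← e2]; group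
  have inv : ∀ {g : H} {X : F → H} {c : Fˣ}, (∀ a, g * X a * g⁻¹ = X (c * a)) →
      ∀ a, g⁻¹ * X a * g⁻¹⁻¹ = X ((c⁻¹ : Fˣ) * a) := fun {g X c} e1 a => by
    rw [← c.mul_inv_cancel_left a, ← e1, c.mul_inv_cancel_left]; group
  have act : ∀ k l i j, i ≠ j → ∀ a, h k l * x i j a * (h k l)⁻¹ =
      x i j ((ev ζ i k * (ev ζ j k)⁻¹ * (ev ζ i l * (ev ζ j l)⁻¹)⁻¹ : Fˣ) * a) := fun k l i j e => by
    obtain ⟨p, p1, p2⟩ := exists_third hn i j
    have : ∀ k a, h k p * x i j a * (h k p)⁻¹ = x i j ((ev ζ i k * (ev ζ j k)⁻¹ : Fˣ) * a) := fun k => by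
      by_cases a : k = i; · simpa [a, ev, e] using t1 i j p e p2.symm p1.symm
      by_cases b : k = j; · simpa [a, b, ev, e.symm, hi j] using inv (t2 i j p e p2.symm p1.symm)
      by_cases c : k = p; · simp [a, b, c, h0, ev, p1, p2]
      simp only [a, b, ev, if_false, inv_one, mul_one, Units.val_one, one_mul]
      exact t3 (emb4 e (Ne.symm a) p1.symm (Ne.symm b) p2.symm c)
    rw [← h1 k p l, hi p]
    exact mul (this k) (inv (this l))
  have ch : ∀ i j l, i ≠ j → j ≠ l → i ≠ l → ∀ a b, x i j a * x j l b * (x i j a)⁻¹ * (x j l b)⁻¹ = x i l (a * b) := by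
    intro i j l e1 e2 e3
    let R : F → F → Prop := fun a b => x i j a * x j l b * (x i j a)⁻¹ * (x j l b)⁻¹ = x i l (a * b)
    have mv : ∀ {g : H} {c d : Fˣ}, (∀ a, g * x i j a * g⁻¹ = x i j (c * a)) → (∀ a, g * x j l a * g⁻¹ = x j l (d * a)) →
        (∀ a, g * x i l a * g⁻¹ = x i l ((c * d : Fˣ) * a)) → ∀ a b, R a b → R (c * a) (d * b) := fun f1 f2 f3 a b r => by
      simp only [R]; rw [mul_mul_mul_comm, ← Units.val_mul, ← f1, ← f2, ← f3, ← r]; group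
    have m1 : ∀ a b, R a b → R (ζ * a) (ζ * b) := by
      simpa [ev, e1, e2, e3, e1.symm, e2.symm, e3.symm] using mv (act i l i j e1) (act i l j l e2) (by
        simpa [ev, e1, e2, e3, e1.symm, e2.symm, e3.symm] using act i l i l e3)
    have m2 : ∀ a b, R a b → R a (ζ ^ m * b) := by
      rcases hm with rfl | ⟨h4, rfl⟩
      · have := mv (act j l i j e1) (act j l j l e2) (by
          simpa [ev, e1, e2, e3, e1.symm, e2.symm, e3.symm] using act j l i l e3)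
        intro a b r
        simpa [ev, e1, e2, e3, e1.symm, e2.symm, e3.symm, pow_succ, mul_assoc] using this _ _ (m1 a b r)
      · obtain ⟨p, p1, p2, p3⟩ := exists_fourth h4 i j l
        simpa [ev, e1, e2, e3, e1.symm, e2.symm, e3.symm, p1, p2, p3] using mv (act p l i j e1) (act p l j l e2) (by
          simpa [ev, e1, e2, e3, e1.symm, e2.symm, e3.symm, p1, p2, p3] using act p l i l e3)
    have m3 : ∀ s : ℕ, R 1 (ζ ^ s) := fun s => by
      induction s using Nat.strong_induction_on with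
      | _ s ih =>
        by_cases hs : s < m
        · simpa [R] using c3 i j l e1 e2 e3 s hs
        · have := m2 _ _ (ih (s - m) (by omega))
          rwa [← pow_add, Nat.add_sub_cancel' (not_lt.1 hs)] at this
    intro a b
    by_cases a0 : a = 0; · simp [a0, (hx _ _ e1).zero, (hx _ _ e3).zero]
    by_cases b0 : b = 0; · simp [b0, (hx _ _ e2).zero, (hx _ _ e3).zero]
    obtain ⟨s, hs⟩ := z2 (Units.mk0 a a0)
    obtain ⟨t, ht⟩ := z2 (Units.mk0 b b0 / Units.mk0 a a0)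
    have : ∀ s : ℕ, R (ζ ^ s) (ζ ^ s * ζ ^ t) := fun s => by
      induction s with
      | zero => simpa using m3 t
      | succ s ih => simpa [pow_succ', mul_assoc] using m1 _ _ ih
    have := this s
    rwa [← Units.val_pow_eq_pow_val, ← Units.val_pow_eq_pow_val, ← Units.val_mul, hs, ht, mul_div_cancel] at this
  refine ⟨fun k l i j e => ⟨_, act k l i j e⟩, sl_hom hn x hx (fun i j k l e1 e2 e3 e4 a b => ?_) ch⟩
  by_cases p : i = k
  · subst p
    by_cases q : j = l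
    · subst q; exact (hx _ _ e1).comm a b
    · exact chain_left (hx _ _ e1) (hx _ _ e2) (fun a => by simpa using ch i j l e1 q e2 a 1) a b
  by_cases q : j = l
  · subst q
    exact (chain_right (hx _ _ e2) (hx _ _ e1) (fun a => by simpa using ch i k j p e2 e1 1 a) b a).symm
  have z := gen_pow z1 (m := 2) (by simp)
  have f : ∀ {i j : Fin n}, i ≠ j → ∀ a, h i j * x i j a * (h i j)⁻¹ = x i j (ζ ^ 2 * a) := fun {i j} e a => by
    simpa [ev, e, e.symm, sq] using act i j i j e a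
  refine (comm_of_gen z (hx _ _ e2) (f e2) (mul_inv_eq_iff_eq_mul.1 (t3 (emb4 e1 p e3 e4 q e2) a)) (Commute.symm ?_) b).symm
  exact comm_of_gen z (hx _ _ e1) (f e1) (mul_inv_eq_iff_eq_mul.1 (t3 (emb4 e2 (Ne.symm p) e4.symm e3.symm (Ne.symm q) e1) 1))
    (c4 (emb4 e1 p e3 e4 q e2)) a

/-- diagonal generators -/
def dgl (ζ : Fˣ) (i j : Fin n) : SL(n, F) := ⟨Matrix.diagonal fun a => (ev ζ i a * (ev ζ j a)⁻¹ : Fˣ), by
  rw [Matrix.det_diagonal, ← Units.coe_prod, Finset.prod_mul_distrib]; simp [ev]⟩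

theorem coe_dgl (ζ : Fˣ) (i j : Fin n) :
    (dgl ζ i j).1 = Matrix.diagonal fun a => ((ev ζ i a * (ev ζ j a)⁻¹ : Fˣ) : F) := rfl

theorem dgl_mul (ζ : Fˣ) (i j l : Fin n) : dgl ζ i j * dgl ζ j l = dgl ζ i l := Subtype.ext (by simp [coe_dgl, mul_assoc])

theorem dgl_self (ζ : Fˣ) (i : Fin n) : dgl ζ i i = 1 := Subtype.ext (by simp [coe_dgl])

theorem dgl_comm (ζ : Fˣ) (i j k l : Fin n) : dgl ζ i j * dgl ζ k l = dgl ζ k l * dgl ζ i j :=
  Subtype.ext (by simp [coe_dgl, mul_comm])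

theorem dgl_trv (ζ : Fˣ) (k l : Fin n) {i j : Fin n} (e : i ≠ j) (a : F) : dgl ζ k l * trv i j a * (dgl ζ k l)⁻¹ =
    trv i j ((ev ζ k i * (ev ζ l i)⁻¹ * (ev ζ k j * (ev ζ l j)⁻¹)⁻¹ : Fˣ) * a) := by
  rw [mul_inv_eq_iff_eq_mul]
  ext p q
  simp [coe_dgl, coe_trv e, mul_add, add_mul, Matrix.single_apply, Matrix.one_apply]
  split_ifs with h h' <;> simp_all [mul_assoc, mul_left_comm a, mul_comm a]

theorem trv_add {i j : Fin n} (e : i ≠ j) : Add1 (trv (F := F) i j) :=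
  ⟨fun a b => by simp [trv, e, Matrix.SpecialLinearGroup.transvection_add]⟩

theorem trv_comm {i j k l : Fin n} (e1 : i ≠ j) (e2 : k ≠ l) (e3 : i ≠ l) (e4 : j ≠ k) (a b : F) :
    trv i j a * trv k l b = trv k l b * trv i j a :=
  Subtype.ext (by simp [coe_trv e1, coe_trv e2, mul_add, add_mul, e3.symm, e4]; abel)

theorem trv_chain {i j l : Fin n} (e1 : i ≠ j) (e2 : j ≠ l) (e3 : i ≠ l) (a b : F) :
    trv i j a * trv j l b * (trv i j a)⁻¹ * (trv j l b)⁻¹ = trv i l (a * b) := by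
  simpa [trv, e1, e2, e3, commutatorElement_def] using H10.commutator_transvection e3 e1 e2 a b

/-- signed permutation matrices -/
def spm (F : Type*) [Field F] (K : Subgroup (Perm (Fin n))) (hK : ∀ k ∈ K, sign k ^ (n + 1) = 1) : K →* SL(n, F) :=
  MonoidHom.mk' (fun k => ⟨((sign k.1 : ℤ) : F) • k.1⁻¹.permMatrix F, by
    simpa [pow_succ] using congrArg (fun u : ℤˣ => ((u : ℤ) : F)) (hK _ k.2)⟩)
    fun k l => Subtype.ext (show _ = (_ • _) * (_ • _) by simp [smul_smul, mul_comm])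

theorem coe_spm {K : Subgroup (Perm (Fin n))} (hK : ∀ k ∈ K, sign k ^ (n + 1) = 1) (k : K) :
    (spm F K hK k).1 = ((sign k.1 : ℤ) : F) • k.1⁻¹.permMatrix F := rfl

theorem spm_conj {K : Subgroup (Perm (Fin n))} (hK : ∀ k ∈ K, sign k ^ (n + 1) = 1) (k : K) {A B : SL(n, F)}
    (h : ∀ p q, B.1 (k.1 p) (k.1 q) = A.1 p q) : spm F K hK k * A * (spm F K hK k)⁻¹ = B := by
  rw [mul_inv_eq_iff_eq_mul]
  ext p q
  simp [coe_spm, PEquiv.toMatrix_toPEquiv_mul, PEquiv.mul_toMatrix_toPEquiv, ← h, Perm.inv_def]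

theorem spm_trv {K : Subgroup (Perm (Fin n))} (hK : ∀ k ∈ K, sign k ^ (n + 1) = 1) (k : K) {i j : Fin n} (e : i ≠ j) (a : F) :
    spm F K hK k * trv i j a * (spm F K hK k)⁻¹ = trv (k.1 i) (k.1 j) a :=
  spm_conj hK k fun p q => by simp [coe_trv e, coe_trv (k.1.injective.ne e), Matrix.one_apply, Matrix.single_apply]

theorem spm_dgl {K : Subgroup (Perm (Fin n))} (hK : ∀ k ∈ K, sign k ^ (n + 1) = 1) (k : K) (ζ : Fˣ) (i j : Fin n) :
    spm F K hK k * dgl ζ i j * (spm F K hK k)⁻¹ = dgl ζ (k.1 i) (k.1 j) :=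
  spm_conj hK k fun p q => by simp [coe_dgl, ev, Matrix.diagonal_apply]

theorem pres_SL [Finite F] (hn : 3 ≤ n) {K : Subgroup (Perm (Fin n))} (hK : ∀ k ∈ K, sign k ^ (n + 1) = 1) {ι : Type}
    {kg : ι → K} {r : ℕ} (hr : PrG kg r) (top : closure (Set.range kg) = ⊤) {a b : Fin n} (ab : a ≠ b)
    (tr : ∀ i j, i ≠ j → ∃ k : K, k.1 a = i ∧ k.1 b = j) (S : List K) (hS : ∀ s ∈ S, s.1 a = a ∧ s.1 b = b)
    (hS' : ∀ k : K, k.1 a = a → k.1 b = b → k ∈ closure {s | s ∈ S}) (L3 : List (Fin 3 ↪ Fin n))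
    (h3 : ∀ e : Fin 3 ↪ Fin n, ∃ t ∈ L3, ∃ k : K, ∀ i, k.1 (t i) = e i) (L4 : List (Fin 4 ↪ Fin n))
    (h4 : ∀ e : Fin 4 ↪ Fin n, ∃ t ∈ L4, ∃ k : K, ∀ i, k.1 (t i) = e i) {m : ℕ} (hm : m = 3 ∨ 4 ≤ n ∧ m = 1) {k₀ : K}
    (h0 : normalClosure {k₀} = ⊤) : ∃ g : ι ⊕ Fin 2 → SL(n, F),
      PrG g (r + 2 * S.length + (2 + m) * L3.length + 2 * L4.length + 6) ∧ closure (Set.range g) = ⊤ := by
  classical
  obtain ⟨ζ, z1, z2⟩ := exists_prim F
  have hζ : Gen (ζ : F) := by simpa using gen_pow z1 (m := 1) (by simp)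
  obtain ⟨c, ca, cb⟩ := exists_third hn a b
  choose! κ hκ using tr
  let ρ := spm F K hK
  let g : ι ⊕ Fin 2 → SL(n, F) := Sum.elim (ρ ∘ kg) ![trv a b 1, dgl ζ a b]
  obtain ⟨w, w1, E0⟩ := hr.hom top ρ (g := g) (fun i => of (.inl i)) (by simp [g])
  let u : FreeGroup (ι ⊕ Fin 2) := of (.inr 0)
  let h : FreeGroup (ι ⊕ Fin 2) := of (.inr 1)
  have gu : lift g u = trv a b 1 := by simp [g, u]
  have gh : lift g h = dgl ζ a b := by simp [g, h]
  have gt : ∀ {i j}, i ≠ j → ∀ t, cj ρ κ (trv a b t) i j = trv i j t := fun e t => by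
    rw [cj, spm_trv hK _ ab, (hκ _ _ e).1, (hκ _ _ e).2]
  have gd : ∀ {i j}, i ≠ j → lift g (cj w κ h i j) = dgl ζ i j := fun e => by
    rw [map_cj _ w1, gh, cj, spm_dgl, (hκ _ _ e).1, (hκ _ _ e).2]
  have gs : ∀ t : F, dgl ζ a c * trv a b t * (dgl ζ a c)⁻¹ = trv a b (ζ * t) := fun t => by
    simp [dgl_trv _ _ _ ab, ev, ab.symm, ca.symm, cb.symm]
  have hx : RS (lift g u) (lift g (cj w κ h a c)) (ζ : F) (trv a b) := ⟨trv_add ab, gu.symm, gd ca.symm ▸ gs⟩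
  obtain ⟨wd, d1, d2⟩ := exists_wd hζ hx
  have gx : ∀ {i j}, i ≠ j → ∀ t, lift g (cj w κ (wd t) i j) = trv i j t := fun e t => by rw [map_cj _ w1, d1, gt e]
  have gu' : ∀ {i j}, i ≠ j → lift g (cj w κ u i j) = trv i j 1 := fun e => by rw [map_cj _ w1, gu, gt e]
  obtain ⟨k, hk⟩ : ∃ k : ℕ, (Nat.card F).Prime ∨ (ζ : F) ^ k = 1 + ζ := by
    by_cases e : 1 + (ζ : F) = 0
    · have := orderOf_le_of_pow_eq_one (x := ζ) two_pos (Units.ext (by push_cast; linear_combination (ζ - 1) * e))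
      have := Finite.one_lt_card (α := F)
      exact ⟨0, .inl (by obtain e | e : Nat.card F = 2 ∨ Nat.card F = 3 := by omega
                         all_goals rw [e]; norm_num)⟩
    · obtain ⟨k, hk⟩ := z2 (Units.mk0 _ e)
      exact ⟨k, .inr (by simpa using congrArg Units.val hk)⟩
  obtain ⟨v, v1, v2⟩ : ρ k₀ * dgl ζ a b ∈ (closure {y | ∃ i j t, i ≠ j ∧ y = cj w κ (wd t) i j}).map (lift g) :=
    trv_top (by omega) (fun i j e t => gx e t ▸ mem_map_of_mem _ (subset_closure ⟨i, j, t, e, rfl⟩)) _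
  have t01 : ∀ t : Fin 3 ↪ Fin n, t 0 ≠ t 1 ∧ t 1 ≠ t 2 ∧ t 0 ≠ t 2 := by simp
  have t4 : ∀ t : Fin 4 ↪ Fin n, t 0 ≠ t 1 ∧ t 2 ≠ t 3 ∧ t 0 ≠ t 2 ∧ t 0 ≠ t 3 ∧ t 1 ≠ t 2 ∧ t 1 ≠ t 3 := by simp
  refine ⟨g, ((((((((((E0.and (Enf.list S (fun s => w s * u * (w s)⁻¹) (fun _ => u) fun s hs => ?_)).and
    (Enf.list S (fun s => w s * h * (w s)⁻¹) (fun _ => h) fun s hs => ?_)).and
    (Enf.list L3 (fun t => cj w κ h (t 0) (t 1) * cj w κ h (t 1) (t 2)) (fun t => cj w κ h (t 0) (t 2)) fun t _ => ?_)).and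
    (Enf.list L3 (fun t => cj w κ h (t 0) (t 1) * cj w κ h (t 0) (t 2))
      (fun t => cj w κ h (t 0) (t 2) * cj w κ h (t 0) (t 1)) fun t _ => ?_)).and
    (borel (t := cj w κ h a c ^ k) hζ hx (hk.imp_right fun e => ?_) 1 1 (by simp) (by simp))).and
    (Enf.rel (cj w κ h c b * u * (cj w κ h c b)⁻¹) (wd ζ) ?_)).and
    (Enf.list L4 (fun t => cj w κ h (t 2) (t 3) * cj w κ u (t 0) (t 1))
      (fun t => cj w κ u (t 0) (t 1) * cj w κ h (t 2) (t 3)) fun t _ => ?_)).and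
    (Enf.list L4 (fun t => cj w κ u (t 0) (t 1) * cj w κ u (t 2) (t 3))
      (fun t => cj w κ u (t 2) (t 3) * cj w κ u (t 0) (t 1)) fun t _ => ?_)).and
    (Enf.list (L3 ×ˢ List.range m) (fun t => cj w κ u (t.1 0) (t.1 1) * cj w κ (wd (ζ ^ t.2)) (t.1 1) (t.1 2) *
      (cj w κ u (t.1 0) (t.1 1))⁻¹ * (cj w κ (wd (ζ ^ t.2)) (t.1 1) (t.1 2))⁻¹)
      (fun t => cj w κ (wd (ζ ^ t.2)) (t.1 0) (t.1 2)) fun t _ => ?_)).and
    (Enf.rel (w k₀ * h) v (by simp [w1, gh, v2]))).mono (by simp [List.length_product]; linarith)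
      fun C ⟨⟨⟨⟨⟨⟨⟨⟨⟨⟨⟨ψ, p1, p2⟩, e1⟩, e2⟩, e3⟩, e4⟩, e5⟩, e6⟩, e7⟩, e8⟩, e9⟩, e10⟩ => ?_, eq_top_iff.2 fun y _ =>
    trv_top (by omega) (fun i j e t => mem_closure_lift.2 ⟨_, gx e t⟩) y⟩
  · simp [w1, gu, ρ, spm_trv hK _ ab, hS s hs]
  · simp [w1, gh, ρ, spm_dgl, hS s hs]
  · simp [gd, t01, dgl_mul]
  · simp [gd, t01, dgl_comm]
  · rw [map_pow, hx.act_pow, e, mul_one]
  · simp [gd cb, gu, d1, dgl_trv _ _ _ ab, ev, ab, ca.symm, cb.symm]
  · have := t4 t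
    simp only [map_mul, gd this.2.1, gu' this.1, ← mul_inv_eq_iff_eq_mul, dgl_trv _ _ _ this.1]; simp [ev]
  · have := t4 t
    simp only [map_mul, gu' this.2.1, gu' this.1]; exact trv_comm this.1 this.2.1 (by simp) (by simp) _ _
  · simp [gu', gx, t01, trv_chain]
  obtain ⟨⟨X, hX⟩, -⟩ := e5 (by simp) (by simp) (by simp)
  simp only [map_mul, map_inv, map_cj _ p1, p1, d2 C X hX] at e1 e2 e3 e4 e6 e7 e8 e9 e10
  have πX := hX.map hζ C.π (by simpa only [C.comp] using hx)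
  rw [map_cj _ p1] at hX
  set U := C.φ u
  set D := C.φ h
  have qu := cj_equi ψ hκ (y := U) fun k h1 h2 => fix_of_closure ψ e1 (hS' k h1 h2)
  have qd := cj_equi ψ hκ (y := D) fun k h1 h2 => fix_of_closure ψ e2 (hS' k h1 h2)
  have bu : cj ψ κ U a b = U := fix_of_closure ψ e1 (hS' _ (hκ a b ab).1 (hκ a b ab).2)
  have bd : cj ψ κ D a b = D := fix_of_closure ψ e2 (hS' _ (hκ a b ab).1 (hκ a b ab).2)
  let d : Fin n → Fin n → C.H := fun i j => if i = j then 1 else cj ψ κ D i j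
  have dd : ∀ {i j}, i ≠ j → d i j = cj ψ κ D i j := fun e => if_neg e
  have qd' : ∀ k i j, MulAut.conj (ψ k) (d i j) = d (k.1 i) (k.1 j) := fun k i j => by
    by_cases e : i = j
    · simp [d, e]
    · rw [dd e, dd (k.1.injective.ne e), qd k e]
  obtain ⟨r1, r2⟩ := torus_rel hn (h := d) (by simp [d]) fun i j l a1 a2 a3 => by
    obtain ⟨t, ht, k, hk⟩ := h3 (emb3 a1 a2 a3)
    have b1 := congrArg (MulAut.conj (ψ k)) (e3 t ht)
    have b2 := congrArg (MulAut.conj (ψ k)) (e4 t ht)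
    simp only [map_mul, qd, t01, ne_eq, not_false_eq_true, hk] at b1 b2
    rw [dd a1, dd a2, dd a3]
    exact ⟨b1, b2⟩
  have r3 : ∀ e : Fin 4 ↪ Fin n, Commute (d (e 2) (e 3)) (cj ψ κ U (e 0) (e 1)) ∧
      Commute (cj ψ κ U (e 0) (e 1)) (cj ψ κ U (e 2) (e 3)) := fun e => by
    obtain ⟨t, ht, k, hk⟩ := h4 e
    have b1 := congrArg (MulAut.conj (ψ k)) (e7 t ht)
    have b2 := congrArg (MulAut.conj (ψ k)) (e8 t ht)
    simp only [map_mul, qd, qu, t4, ne_eq, not_false_eq_true, hk] at b1 b2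
    rw [dd (t4 e).2.1]
    exact ⟨b1, b2⟩
  rw [← dd ca.symm] at hX
  have s0 : ∀ l m, l ≠ a → l ≠ b → m ≠ a → m ≠ b → ∀ t, d l m * X t * (d l m)⁻¹ = X t := fun l m a1 a2 a3 a4 t => by
    by_cases e : l = m; · simp [d, e]
    have := (r3 (emb4 ab a1.symm a3.symm a2.symm a4.symm e)).1
    exact mul_inv_eq_iff_eq_mul.2 (comm_of_gen hζ hX.toAdd1 hX.act (r2 ..) (hX.one ▸ bu ▸ this.symm) t).symm
  have s1 : ∀ l, l ≠ a → l ≠ b → ∀ t, d a l * X t * (d a l)⁻¹ = X (ζ * t) := fun l a1 a2 t => by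
    rw [← r1 a c l, ← hX.act, ← s0 c l ca cb a1 a2 t, s0 c l ca cb a1 a2 t]
    nth_rw 2 [← s0 c l ca cb a1 a2 t]; group
  have s2 : ∀ l, l ≠ a → l ≠ b → ∀ t, d l b * X t * (d l b)⁻¹ = X (ζ * t) := fun l a1 a2 t => by
    rw [← r1 l c b, ← s0 l c a1 a2 ca cb (ζ * t), ← hX.conj hζ hX.toAdd1 hX.act (mul_inv_eq_iff_eq_mul.2 (r2 c b a c))
      (dd cb ▸ e6)]; group
  have qx := fun t => cj_equi ψ hκ (y := X t) fun k h1 h2 => by
    have := hX.conj hζ hX.toAdd1 (g := ψ k) (c := 1) (s1 (k.1 c) (h1 ▸ k.1.injective.ne ca) (h2 ▸ k.1.injective.ne cb))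
      (by simpa [h1] using qd' k a c) (by rw [hX.one]; exact fix_of_closure ψ e1 (hS' k h1 h2)) t
    rwa [one_mul] at this
  let x : Fin n → Fin n → F → C.H := fun i j t => cj ψ κ (X t) i j
  have mv : ∀ {i j l m l' m' : Fin n} {c : F}, i ≠ j → (∀ t, d l m * X t * (d l m)⁻¹ = X (c * t)) → (κ i j).1 l = l' →
      (κ i j).1 m = m' → ∀ t, d l' m' * x i j t * (d l' m')⁻¹ = x i j (c * t) := fun {i j l m l' m' c} e f f1 f2 t => by
    rw [← f1, ← f2, ← qd']; simp only [x, cj, ← f, MulAut.conj_apply]; group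
  have ne : ∀ {i j l : Fin n}, i ≠ j → l ≠ i → l ≠ j → (κ i j).1.symm l ≠ a ∧ (κ i j).1.symm l ≠ b := fun e f1 f2 => by
    simp [symm_apply_eq, hκ _ _ e, f1, f2]
  obtain ⟨n1, θ, hθ⟩ := sl_rel hn z1 z2 (x := x) r1 (fun i j _ => ⟨fun s t => by simp [x, cj, hX.add]⟩)
    (fun i j l a1 a2 a3 => mv a1 (s1 _ (ne a1 a3.symm a2.symm).1 (ne a1 a3.symm a2.symm).2) (hκ _ _ a1).1 (by simp))
    (fun i j l a1 a2 a3 => mv a1 (s2 _ (ne a1 a3.symm a2.symm).1 (ne a1 a3.symm a2.symm).2) (by simp) (hκ _ _ a1).2)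
    (fun e t => by
      have a1 := ne (l := e 2) (t4 e).1 (by simp) (by simp)
      have a2 := ne (l := e 3) (t4 e).1 (by simp) (by simp)
      simpa using mv (c := 1) (t4 e).1 (by simpa using s0 _ _ a1.1 a1.2 a2.1 a2.2) (apply_symm_apply ..)
        (apply_symm_apply ..) t)
    (fun e => by simpa only [x, hX.one] using (r3 e).2) hm fun i j l a1 a2 a3 s hs => by
      obtain ⟨t, ht, k, hk⟩ := h3 (emb3 a1 a2 a3)
      have b1 := congrArg (MulAut.conj (ψ k)) (e9 (t, s) (by simp [ht, hs]))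
      simp only [map_mul, map_inv, qu, qx, t01, ne_eq, not_false_eq_true, hk] at b1
      simp only [x, hX.one]; exact b1
  have πψ : ∀ k, C.π (ψ k) = ρ k := fun k => by rw [← p1, C.comp, w1]
  have πθ : ∀ y, C.π (θ y) = y := trv_top (K := (C.π.comp θ).eqLocus (MonoidHom.id _)) (by omega) fun i j e t => by
    show C.π (θ _) = _
    simp [hθ i j e, x, map_cj _ πψ, πX, gt e]
  have xN : ∀ {i j}, i ≠ j → ∀ t, x i j t ∈ θ.range := fun e t => ⟨_, hθ _ _ e t⟩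
  have nm : ∀ y : C.H, (∀ i j, i ≠ j → ∀ t, y * x i j t * y⁻¹ ∈ θ.range) → ∀ z ∈ θ.range, y * z * y⁻¹ ∈ θ.range := by
    rintro y hy _ ⟨z, rfl⟩
    exact trv_top (K := (θ.range.comap (MulAut.conj y).toMonoidHom).comap θ) (by omega)
      (fun i j e t => by simpa [hθ i j e] using hy i j e t) z
  have nψ : ∀ k, ∀ z ∈ θ.range, ψ k * z * (ψ k)⁻¹ ∈ θ.range := fun k =>
    nm _ fun i j e t => Set.mem_of_eq_of_mem (qx t k e) (xN (k.1.injective.ne e) t)
  have nd : ∀ k l, ∀ z ∈ θ.range, d k l * z * (d k l)⁻¹ ∈ θ.range := fun k l =>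
    nm _ fun i j e t => let ⟨_, f⟩ := n1 k l i j e; (f t).symm ▸ xN e _
  have Dd : D = d a b := by rw [dd ab, bd]
  have uN : U ∈ θ.range := by simpa [x, hX.one, bu] using xN ab 1
  have : θ.range.Normal := normalizer_eq_top_iff.1 (eq_top_iff.2 fun y _ => C.top (fun j => by
    rcases j with j | j
    · rw [p2]; exact mem_normalizer_of (nψ _) (by simpa using nψ (kg j)⁻¹)
    fin_cases j
    · exact le_normalizer uN
    · refine Set.mem_of_eq_of_mem Dd (mem_normalizer_of (nd a b) ?_)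
      simpa [eq_inv_of_mul_eq_one_left (show d b a * d a b = 1 by simp [r1, d])] using nd b a) y)
  let μ := QuotientGroup.mk' θ.range
  have k0 : μ (ψ k₀) = (μ (d a b))⁻¹ := eq_inv_of_mul_eq_one_left (by
    rw [← map_mul, ← Dd, e10]
    refine (QuotientGroup.eq_one_iff _).2 ((closure_le (K := θ.range.comap C.φ)).2 ?_ v1)
    rintro _ ⟨i, j, t, e, rfl⟩
    simpa only [x, SetLike.mem_coe, mem_comap, map_cj _ p1, d2 C X (map_cj _ p1 κ h a c ▸ dd ca.symm ▸ hX)] using xN e t)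
  let M := (centralizer {y | ∃ i j, y = μ (d i j)}).comap (μ.comp ψ)
  have hM : ∀ k, k ∈ M ↔ ∀ i j, μ (d (k.1 i) (k.1 j)) = μ (d i j) := fun k => by
    simp only [M, mem_comap, mem_centralizer_iff, ← qd', MulAut.conj_apply, map_mul, map_inv, mul_inv_eq_iff_eq_mul]
    exact ⟨fun f i j => (f _ ⟨i, j, rfl⟩).symm, by rintro f _ ⟨i, j, rfl⟩; exact (f i j).symm⟩
  have : M.Normal := ⟨fun k hk l => (hM _).2 fun i j => by
    have e : ∀ i j, μ (d (l.1 i) (l.1 j)) = μ (ψ l) * μ (d i j) * (μ (ψ l))⁻¹ := fun i j => by simp [← qd']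
    simpa using (e _ _).trans ((congrArg (_ * · * _) ((hM k).1 hk (l⁻¹.1 i) (l⁻¹.1 j))).trans (e _ _).symm)⟩
  have m1 : ∀ i j, i ≠ j → μ (d i j) = μ (d a b) := fun i j e => by
    rw [← (hM _).1 (eq_top_of_normalClosure h0 (M := M) ?_ (κ i j)) a b, (hκ i j e).1, (hκ i j e).2]
    rintro _ ⟨i, j, rfl⟩
    simpa [k0] using ((r2 i j a b).map μ).inv_right.eq
  have m2 : μ (d a b) = 1 := by simpa [m1 _ _ cb, m1 _ _ ca.symm] using congrArg μ (r1 a c b)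
  have m3 := eq_top_of_normalClosure h0 (M := (μ.comp ψ).ker) (by simp [k0, m2])
  intro y hy
  obtain ⟨z, rfl⟩ : y ∈ θ.range := C.top (fun j => by
    rcases j with j | j
    · rw [p2]; exact (QuotientGroup.eq_one_iff _).1 (m3 _)
    fin_cases j
    exacts [uN, (QuotientGroup.eq_one_iff _).1 ((congrArg μ Dd).trans m2)]) y
  rw [πθ] at hy
  rw [hy, map_one]

theorem exists_pres_sl3 [Finite F] : ∃ g : Fin 2 ⊕ Fin 2 → SL(3, F), PrG g 14 ∧ closure (Set.range g) = ⊤ := by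
  obtain ⟨g, h1, h2, h3⟩ := pres_S3
  refine pres_SL le_rfl (fun k _ => ?_) h1 h2 (a := 0) (b := 1) (by simp)
    (by simp only [Subtype.exists, mem_top, exists_const]; decide) [] (by simp) (fun k e1 e2 => ?_) [.refl _]
    (fun e => ⟨_, List.mem_singleton_self _, ⟨e.equivOfFiniteSelfEmbedding, trivial⟩, fun _ => rfl⟩) []
    (fun e => by simpa using Fintype.card_le_of_embedding e) (.inl rfl) h3
  · rcases Int.units_eq_one_or (sign k) with e | e <;> rw [e] <;> rfl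
  · have : ∀ k : Perm (Fin 3), k 0 = 0 → k 1 = 1 → k = 1 := by decide
    rw [show k = 1 from Subtype.ext (this _ e1 e2)]; exact one_mem _

theorem alt_orb {m : ℕ} (hn : 2 ≤ n) (hm : m ≤ n) : ∃ L : List (Fin m ↪ Fin n), L.length = (if m + 2 ≤ n then 1 else 2) ∧
    ∀ e : Fin m ↪ Fin n, ∃ t ∈ L, ∃ k : alternatingGroup (Fin n), ∀ i, k.1 (t i) = e i := by
  let t := Fin.castLEEmb hm
  split_ifs with h
  · have := alternatingGroup.isMultiplyPretransitive (Fin n)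
    have := MulAction.isMultiplyPretransitive_of_le (G := alternatingGroup (Fin n)) (α := Fin n) (m := m)
      (n := Nat.card (Fin n) - 2) (by simp; omega) (Nat.sub_le _ _)
    refine ⟨[t], rfl, fun e => ⟨t, by simp, ?_⟩⟩
    obtain ⟨k, rfl⟩ := MulAction.exists_smul_eq (alternatingGroup (Fin n)) t e
    exact ⟨k, fun _ => rfl⟩
  have := Fin.nontrivial_iff_two_le.2 hn
  obtain ⟨a, b, ab⟩ := exists_pair_ne (Fin n)
  refine ⟨[t, swap a b • t], rfl, fun e => ?_⟩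
  have := Equiv.Perm.isMultiplyPretransitive (Fin n) m
  obtain ⟨k, rfl⟩ := MulAction.exists_smul_eq (Perm (Fin n)) t e
  rcases Int.units_eq_one_or (sign k) with e | e
  · exact ⟨t, by simp, ⟨k, e⟩, fun _ => rfl⟩
  · exact ⟨swap a b • t, by simp, ⟨k * swap a b, by simp [e, ab]⟩, fun _ => by simp [Function.Embedding.smul_apply]⟩

theorem pres_SL_alt [Finite F] (hn : 4 ≤ n) {ι : Type} {kg : ι → alternatingGroup (Fin n)} {r : ℕ} (hr : PrG kg r)
    (top : closure (Set.range kg) = ⊤) {a b : Fin n} (ab : a ≠ b) (S : List (alternatingGroup (Fin n)))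
    (hS : ∀ s ∈ S, s.1 a = a ∧ s.1 b = b)
    (hS' : ∀ k : alternatingGroup (Fin n), k.1 a = a → k.1 b = b → k ∈ closure {s | s ∈ S}) {k₀ : alternatingGroup (Fin n)}
    (h0 : normalClosure {k₀} = ⊤) : ∃ g : ι ⊕ Fin 2 → SL(n, F), PrG g (r + 2 * S.length + 3 * (if 5 ≤ n then 1 else 2) +
      2 * (if 6 ≤ n then 1 else 2) + 6) ∧ closure (Set.range g) = ⊤ := by
  obtain ⟨L3, a3, b3⟩ := alt_orb (n := n) (m := 3) (by omega) (by omega)
  obtain ⟨L4, a4, b4⟩ := alt_orb (n := n) (m := 4) (by omega) (by omega)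
  refine a3 ▸ a4 ▸ pres_SL (by omega) (fun k hk => by simp [mem_alternatingGroup.1 hk]) hr top ab (fun i j e => ?_) S hS hS'
    L3 b3 L4 b4 (.inr ⟨hn, rfl⟩) h0
  have := alternatingGroup.isMultiplyPretransitive (Fin n)
  have := MulAction.isMultiplyPretransitive_of_le (G := alternatingGroup (Fin n)) (α := Fin n) (m := 2)
    (n := Nat.card (Fin n) - 2) (by simp; omega) (Nat.sub_le _ _)
  exact MulAction.is_two_pretransitive_iff.1 this ab e

theorem mem_closure_sub {K : Subgroup G} {S : List K} {k : K} (h : k.1 ∈ closure (K.subtype '' {s | s ∈ S})) :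
    k ∈ closure {s | s ∈ S} := by
  rwa [← MonoidHom.map_closure, ← coe_subtype, mem_map_iff_mem K.subtype_injective] at h

theorem alt_normalClosure (hn : 5 ≤ n) : ∃ k : alternatingGroup (Fin n), normalClosure {k} = ⊤ := by
  have := alternatingGroup.isSimpleGroup (α := Fin n) (by simpa)
  obtain ⟨k, hk⟩ := exists_ne (1 : alternatingGroup (Fin n))
  exact ⟨k, (normalClosure_normal.eq_bot_or_eq_top).resolve_left fun e => hk (e.le (subset_normalClosure rfl))⟩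

theorem exists_pres_sl45 [Finite F] (hn : n = 4 ∨ n = 5) :
    ∃ g : Fin 2 ⊕ Fin 2 → SL(n, F), PrG g 19 ∧ closure (Set.range g) = ⊤ := by
  rcases hn with rfl | rfl
  · obtain ⟨g, h1, h2, h3⟩ := pres_A4
    refine pres_SL_alt le_rfl h1 h2 (a := 0) (b := 1) (by simp) [] (by simp) (fun k e1 e2 => ?_) h3
    have : ∀ k : Perm (Fin 4), sign k = 1 → k 0 = 0 → k 1 = 1 → k = 1 := by decide
    rw [show k = 1 from Subtype.ext (this _ k.2 e1 e2)]; exact one_mem _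
  obtain ⟨g, h1, h2⟩ := pres_A5
  obtain ⟨k, h3⟩ := alt_normalClosure (n := 5) le_rfl
  obtain ⟨α, β, f, P, all⟩ := pts_fin 3
  have n : ∀ i < 3, ∀ j < 3, i ≠ j → f i ≠ f j := fun i hi j hj e e' => e (P.inj i hi j hj e')
  refine pres_SL_alt (by omega) h1 h2 (a := f 1) (b := f 2) (n _ (by omega) _ (by omega) (by omega))
    [⟨_, sign_cy P.ab (P.a 0 (by omega))⟩] ?_ (fun k e1 e2 => mem_closure_sub ?_) h3
  · simp [cy_apply _ _ _ _ P.ab (P.a 0 (by omega)) (P.b 0 (by omega)), P.a, P.b, n]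
  · refine W_le (fun i hi => subset_closure (by simp [show i = 0 by omega])) (mem_W_cy (P.mono (k := 1) (by omega)) k.2
      fun t ha hb ht => ?_)
    obtain ⟨i, hi, rfl⟩ := all t ha hb
    interval_cases i
    exacts [(ht 0 one_pos rfl).elim, e1, e2]

theorem exists_pres_sln [Finite F] (hn : 6 ≤ n) :
    ∃ g : Fin 3 ⊕ Fin 2 → SL(n, F), PrG g 22 ∧ closure (Set.range g) = ⊤ := by
  obtain ⟨g, h1, h2, -⟩ := exists_pres_alt n (by omega)
  obtain ⟨k, h3⟩ := alt_normalClosure (n := n) (by omega)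
  obtain ⟨m, rfl⟩ : ∃ m, n = m + 3 + 2 := ⟨n - 5, by omega⟩
  obtain ⟨α, β, f, P, all⟩ := pts_fin (m + 3)
  have n : ∀ i < m + 3, ∀ j < m + 3, i ≠ j → f i ≠ f j := fun i hi j hj e e' => e (P.inj i hi j hj e')
  obtain ⟨y, y1, y2, y3⟩ := (P.mono (k := m + 1) (by omega)).stab_gen
  have := pres_SL_alt (F := F) (by omega) h1 h2 (a := f (m + 1)) (b := f (m + 2)) (n _ (by omega) _ (by omega) (by omega))
    [⟨_, sign_cy P.ab (P.a 0 (by omega))⟩, ⟨y, y1⟩] ?_ (fun k e1 e2 => mem_closure_sub ?_) h3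
  · simpa [hn, show 5 ≤ m + 3 + 2 by omega] using this
  · simp [cy_apply _ _ _ _ P.ab (P.a 0 (by omega)) (P.b 0 (by omega)), P.a, P.b, n]
    constructor <;> exact y2 _ (P.a _ (by omega)) (P.b _ (by omega)) fun i hi => n _ (by omega) _ (by omega) (by omega)
  · refine closure_mono (by simp [Set.insert_subset_iff]) (y3 _ k.2 fun t ha hb ht => ?_)
    obtain ⟨i, hi, rfl⟩ := all t ha hb
    by_cases e : i < m + 1
    · exact (ht i e rfl).elim
    · obtain rfl | rfl : i = m + 1 ∨ i = m + 2 := by omega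
      exacts [e1, e2]

theorem exists_pres_sl [Finite F] (hn : 3 ≤ n) : ∃ g : Fin 5 → SL(n, F), PrG g 22 ∧ closure (Set.range g) = ⊤ := by
  by_cases h3 : n = 3
  · obtain ⟨g, h1, h2⟩ := exists_pres_sl3 (F := F)
    exact h3 ▸ (h1.pad h2 (m := 5) (by simp)).imp fun g h => ⟨h.1.mono (by simp), h.2⟩
  by_cases h6 : 6 ≤ n
  · obtain ⟨g, h1, h2⟩ := exists_pres_sln (F := F) h6
    exact h1.pad h2 (m := 5) (by simp)
  · obtain ⟨g, h1, h2⟩ := exists_pres_sl45 (F := F) (n := n) (by omega)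
    exact (h1.pad h2 (m := 5) (by simp)).imp fun g h => ⟨h.1.mono (by simp), h.2⟩
end H11
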