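import Cfsg.Agent.H11.Bor
import Cfsg.Agent.H11.GK

/-! More tools for bounded presentations: `PrG.hom` (a presented subgroup gives a homomorphism into every cover),
`PrG.pad`, `exists_equivar`, commutator consequences `chain_left`, `chain_right`, `kill_top`, small presentations
`pres_S3`, `pres_A4`, `pres_A5`, generators of point stabilisers `Pts.stab_gen`. -/

set_option autoImplicit false

namespace H11
open Subgroup Equiv Equiv.Perm
open FreeGroup (of lift)

variable {H G K : Type*} [Group H] [Group G] [Group K] {F : Type*} [Field F] {ι κ : Type}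

theorem PrG.hom {kg : ι → K} {r : ℕ} (h : PrG kg r) (top : closure (Set.range kg) = ⊤) (ρ : K →* G) {g : κ → G}
    (θ : ι → FreeGroup κ) (hθ : ∀ i, lift g (θ i) = ρ (kg i)) : ∃ w : K → FreeGroup κ, (∀ k, lift g (w k) = ρ k) ∧
      Enf g r fun C => ∃ ψ : K →* C.H, (∀ k, C.φ (w k) = ψ k) ∧ ∀ i, C.φ (θ i) = ψ (kg i) := by
  obtain ⟨R, h1, h2⟩ := PrG_iff.1 h
  choose β hβ using fun x => mem_closure_lift.1 (top.ge (mem_top x))
  have e : ∀ w, lift g (lift θ w) = ρ (lift kg w) := fun w => by rw [lift_lift hθ, ← lift_comp]; rfl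
  refine ⟨fun k => lift θ (β k), fun k => by rw [e, hβ], R.map (lift θ), by simpa, fun w hw => ?_, fun C hC => ?_⟩
  · obtain ⟨v, hv, rfl⟩ := List.mem_map.1 hw
    rw [e, show lift kg v = 1 from h2.ge (subset_normalClosure hv), map_one]
  · let ψ := (lift kg).liftOfRightInverse β hβ ⟨C.φ.comp (lift θ), h2.le.trans
      (normalClosure_le_normal fun v hv => hC _ (List.mem_map_of_mem hv))⟩
    have e' : ∀ w, ψ (lift kg w) = C.φ (lift θ w) := fun w => MonoidHom.liftOfRightInverse_comp_apply _ _ _ _ w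
    exact ⟨ψ, fun k => by rw [← e', hβ], fun i => by simpa using (e' (of i)).symm⟩

theorem PrG.pad [Fintype κ] {g : κ → G} {r : ℕ} (h : PrG g r) (top : closure (Set.range g) = ⊤) {m : ℕ}
    (hm : Fintype.card κ ≤ m) : ∃ g' : Fin m → G, PrG g' (r + (m - Fintype.card κ)) ∧ closure (Set.range g') = ⊤ := by
  classical
  obtain ⟨e⟩ : Nonempty (κ ↪ Fin m) := Function.Embedding.nonempty_of_card_le (by simpa)
  have he := e.injective.extend_apply g 1
  refine ⟨Function.extend e g 1, ?_, eq_top_iff.2 (top.ge.trans (closure_mono ?_))⟩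
  · simpa [Finset.card_sdiff] using h.change (g' := Function.extend e g 1) (fun i => of (e i)) (fun i => by simp [he])
      (Finset.univ \ Finset.univ.map e).toList (fun j _ => top.ge trivial) fun j hj => by
        simp at hj; obtain ⟨i, rfl⟩ := hj; exact subset_closure ⟨i, rfl⟩
  · rintro _ ⟨i, rfl⟩; exact ⟨e i, he i⟩

theorem exists_equivar {P α : Type*} [MulAction K P] (ψ : K →* H) (p : P) (Y : α → H)
    (h : ∀ k : K, k • p = p → ∀ a, ψ k * Y a * (ψ k)⁻¹ = Y a) :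
    ∃ Z : P → α → H, ∀ (k : K) a, Z (k • p) a = ψ k * Y a * (ψ k)⁻¹ := by
  classical
  refine ⟨fun q a => if h : ∃ k : K, k • p = q then ψ h.choose * Y a * (ψ h.choose)⁻¹ else 1, fun k a => ?_⟩
  have h1 : ∃ k' : K, k' • p = k • p := ⟨k, rfl⟩
  beta_reduce
  rw [dif_pos h1]
  nth_rw 1 [← h (h1.choose⁻¹ * k) (by rw [mul_smul, inv_smul_eq_iff, h1.choose_spec]) a]
  simp [mul_assoc]

theorem fix_of_closure (ψ : K →* H) {S : List K} {y : H} (h : ∀ s ∈ S, ψ s * y * (ψ s)⁻¹ = y) {k : K}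
    (hk : k ∈ closure {s | s ∈ S}) : ψ k * y * (ψ k)⁻¹ = y :=
  mul_inv_eq_iff_eq_mul.2 (mem_centralizer_singleton_iff.1 ((closure_le (K := (centralizer {y}).comap ψ)).2
    (fun s hs => mem_centralizer_singleton_iff.2 (mul_inv_eq_iff_eq_mul.1 (h s hs))) hk))

theorem chain_left {X Z : F → H} {y : H} (hX : Add1 X) (hZ : Add1 Z) (h : ∀ a, X a * y * (X a)⁻¹ * y⁻¹ = Z a)
    (a b : F) : Commute (X a) (Z b) := by
  have := h (a + b)
  rw [hX.add, add_comm, hZ.add, show X a * X b * y * (X a * X b)⁻¹ * y⁻¹ =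
    X a * (X b * y * (X b)⁻¹ * y⁻¹) * (X a)⁻¹ * (X a * y * (X a)⁻¹ * y⁻¹) by group, h, h] at this
  exact mul_inv_eq_iff_eq_mul.1 (mul_right_cancel this)

theorem chain_right {Y Z : F → H} {x : H} (hY : Add1 Y) (hZ : Add1 Z) (h : ∀ a, x * Y a * x⁻¹ * (Y a)⁻¹ = Z a)
    (a b : F) : Commute (Y a) (Z b) := by
  have := h (a + b)
  rw [hY.add, hZ.add, show x * (Y a * Y b) * x⁻¹ * (Y a * Y b)⁻¹ =
    x * Y a * x⁻¹ * (Y a)⁻¹ * (Y a * (x * Y b * x⁻¹ * (Y b)⁻¹) * (Y a)⁻¹) by group, h, h] at this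
  exact mul_inv_eq_iff_eq_mul.1 (mul_left_cancel this)

theorem comm_of_gen [Finite F] {X : F → H} {y s : H} {ξ : F} (hξ : Gen ξ) (hX : Add1 X)
    (hs : ∀ a, s * X a * s⁻¹ = X (ξ * a)) (hy : Commute s y) (h : Commute (X 1) y) (a : F) : Commute (X a) y := by
  have := RS.conj (g := y) (c := 1) ⟨hX, rfl, hs⟩ hξ hX hs (by rw [← hy.eq]; simp) (by rw [← h.eq]; simp) a
  rw [one_mul] at this
  exact (mul_inv_eq_iff_eq_mul.1 this).symm

theorem mem_normalizer_of {N : Subgroup H} {g : H} (h1 : ∀ x ∈ N, g * x * g⁻¹ ∈ N) (h2 : ∀ x ∈ N, g⁻¹ * x * g ∈ N) :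
    g ∈ normalizer (N : Set H) := mem_normalizer_iff.2 fun x => ⟨h1 x, fun hx => by simpa [mul_assoc] using h2 _ hx⟩

theorem conj_mem_closure {s : Set H} {g : H} (h : ∀ y ∈ s, g * y * g⁻¹ ∈ closure s) : ∀ x ∈ closure s, g * x * g⁻¹ ∈ closure s :=
  fun _ hx => (closure_le (K := (closure s).comap (MulAut.conj g).toMonoidHom)).2 h hx

theorem eq_top_of_normalClosure {k : K} (hk : normalClosure {k} = ⊤) {M : Subgroup K} [M.Normal] (h : k ∈ M) (a : K) :
    a ∈ M := normalClosure_le_normal (by simpa) (hk.ge trivial)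

variable {Ω : Type*} [DecidableEq Ω] [Fintype Ω] {α β : Ω} {f : ℕ → Ω} {k : ℕ}

theorem Pts.stab_gen (P : Pts α β f (k + 1)) : ∃ y, sign y = 1 ∧ (∀ t, t ≠ α → t ≠ β → (∀ i < k + 1, f i ≠ t) → y t = t) ∧
    ∀ σ, sign σ = 1 → (∀ t, t ≠ α → t ≠ β → (∀ i < k + 1, f i ≠ t) → σ t = t) → σ ∈ closure {cy α β (f 0), y} := by
  have ra := P.rot_a (j := 0) (m := k + 1) (by omega)
  have rb := P.rot_b (j := 0) (m := k + 1) (by omega)
  have sr := P.sign_rot (j := 0) (m := k) (by omega)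
  obtain ⟨y, y1, y2⟩ : ∃ y, sign y = 1 ∧ (y = rot f 0 (k + 1) ∨ y = swap β α * rot f 0 (k + 1)) := by
    rcases k.even_or_odd with hk | hk
    · exact ⟨_, sr.trans hk.neg_one_pow, .inl rfl⟩
    · exact ⟨_, by rw [map_mul, sr, sign_swap P.ab.symm, hk.neg_one_pow]; simp, .inr rfl⟩
  refine ⟨y, y1, fun t ha hb ht => ?_, fun σ h1 h2 => W_le (fun i hi => ?_) (mem_W_cy P h1 h2)⟩
  · have : rot f 0 (k + 1) t = t := rot_fix fun i _ hi => ht i (by omega)
    rcases y2 with rfl | rfl <;> simp [this, swap_apply_of_ne_of_ne, ha, hb]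
  have hy : y ∈ closure {cy α β (f 0), y} := subset_closure (by simp)
  have h0 : cy α β (f 0) ∈ closure {cy α β (f 0), y} := subset_closure (by simp)
  generalize closure {cy α β (f 0), y} = M at hy h0
  induction i with
  | zero => exact h0
  | succ i ih =>
    have := mul_mem (mul_mem hy (ih (by omega))) (inv_mem hy)
    rcases y2 with rfl | rfl
    · rwa [conj_cy ra rb, P.rot_up le_rfl hi] at this
    · rwa [P.conj_cy' (by simp [ra]) (by simp [rb]) hi (by
        simp [P.rot_up le_rfl hi, swap_apply_of_ne_of_ne (P.b _ hi) (P.a _ hi)]), inv_mem_iff] at this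

theorem sym_rel {u v : H} (h : u * v * u = v⁻¹) : v * u * v = u⁻¹ :=
  calc _ = v * (u * v * u) * u⁻¹ := by group
    _ = _ := by rw [h]; group

theorem pres_S3 : ∃ g : Fin 2 → (⊤ : Subgroup (Perm (Fin 3))), PrG g 3 ∧ closure (Set.range g) = ⊤ ∧
    normalClosure {g 1} = ⊤ := by
  obtain ⟨α, β, f, P, all⟩ := pts_fin 1
  have h : closure (Set.range ![cy α β (f 0), swap β α]) = ⊤ := eq_top_of_alt_le (P.gen all (subset_closure ⟨0, rfl⟩)
    (.inl (one_mem _))) (subset_closure ⟨1, rfl⟩) (sign_swap P.ab.symm)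
  refine ⟨fun i => ⟨![cy α β (f 0), swap β α] i, trivial⟩, (PrG.comp_iff _ (subtype_injective _)).1
    (show PrG ![cy α β (f 0), swap β α] 3 from ?_), closure_range_sub h, ?_⟩
  · refine (((Enf.rel (of 0)⁻¹ (of 0 * of 0) (by simpa using P.car.c3 0 (by omega))).and
      (Enf.rel (of 1 * of 1) 1 (by simp))).and (Enf.rel (of 1 * of 0 * (of 1)⁻¹) (of 0)⁻¹ (by
        simpa using swap_cy P.ab (P.a 0 (by omega)) (P.b 0 (by omega))))).mono le_rfl fun C ⟨⟨e1, e2⟩, e3⟩ => ?_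
    simp only [map_mul, map_inv, map_one] at e1 e2 e3
    have hx : Car (fun _ => C.φ (of 0)) 1 := ⟨fun _ _ => e1, fun i _ j _ h => by omega⟩
    have hπ : ∀ i < 1, C.π (C.φ (of 0)) = cy α β (f i) := fun i hi => by simp [show i = 0 by omega]
    have hz := mem_W (x := fun _ => C.φ (of 0)) one_pos
    have h4 : ∀ w ∈ W (fun _ => C.φ (of 0)) 1, C.φ (of 1) * w * (C.φ (of 1))⁻¹ ∈ W (fun _ => C.φ (of 0)) 1 :=
      conj_mem_closure (by rintro _ ⟨i, -, rfl⟩; exact e3 ▸ inv_mem hz)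
    have t3 : (C.φ (of 1))⁻¹ = C.φ (of 1) := inv_eq_of_mul_eq_one_left e2
    have : (W (fun _ => C.φ (of 0)) 1).Normal := normalizer_eq_top_iff.1 (eq_top_iff.2 fun x _ => C.top (fun j => by
      fin_cases j; exacts [le_normalizer hz, mem_normalizer_of h4 (by simpa [t3] using h4)]) x)
    exact fin_inj C.π (fun w => hx.inj P C.π hπ) (fun w hw => sign_W P (map_W C.π hπ ▸ mem_map_of_mem _ hw))
      (g := C.φ (of 1)) (.inr ⟨e2 ▸ one_mem _, by simp [sign_swap P.ab.symm]⟩) fun K hK hg => C.top fun j => by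
        fin_cases j; exacts [hK hz, hg]
  · rw [eq_top_iff, ← closure_range_sub (K := ⊤) (g := fun i => ⟨![cy α β (f 0), swap β α] i, trivial⟩) h, closure_le]
    have h1 := subset_normalClosure (s := {(⟨swap β α, trivial⟩ : (⊤ : Subgroup (Perm (Fin 3))))}) rfl
    rintro _ ⟨i, rfl⟩
    fin_cases i
    · refine Set.mem_of_eq_of_mem (Subtype.ext (Eq.symm ?_))
        (mul_mem h1 (normalClosure_normal.conj_mem _ h1 ⟨swap β (f 0), trivial⟩))
      show swap β α * (swap β (f 0) * swap β α * (swap β (f 0))⁻¹) = cy α β (f 0)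
      rw [← swap_apply_apply]
      simp [cy, swap_apply_of_ne_of_ne P.ab (P.a 0 one_pos).symm, swap_comm α]
    · exact h1

theorem alt_top {ι : Type} {k : ℕ} {α β : Fin (k + 2)} {f : ℕ → Fin (k + 2)} (P : Pts α β f k)
    (all : ∀ t, t ≠ α → t ≠ β → ∃ i < k, f i = t) (e : ι → alternatingGroup (Fin (k + 2)))
    (h : ∀ i < k, cy α β (f i) ∈ closure (Set.range (Subgroup.subtype _ ∘ e))) : closure (Set.range e) = ⊤ :=
  closure_range_sub (le_antisymm ((closure_le _).2 fun _ ⟨i, h⟩ => h ▸ (e i).2) fun σ hσ => W_le h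
    (mem_W_cy P hσ fun t ha hb ht => by obtain ⟨i, hi, e⟩ := all t ha hb; exact (ht i hi e).elim))

theorem pres_A4 : ∃ g : Fin 2 → alternatingGroup (Fin 4), PrG g 3 ∧ closure (Set.range g) = ⊤ ∧
    normalClosure {g 1} = ⊤ := by
  obtain ⟨α, β, f, P, all⟩ := pts_fin 2
  let g : Fin 2 → alternatingGroup (Fin 4) := fun i => ⟨_, sign_cy P.ab (P.a i i.2)⟩
  have h := alt_top P all g fun i hi => subset_closure ⟨⟨i, hi⟩, rfl⟩
  refine ⟨g, (PrG.comp_iff _ (subtype_injective _)).1 (show PrG (fun i : Fin 2 => cy α β (f i)) 3 from ?_), h, ?_⟩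
  · refine (((Enf.rel (of 0)⁻¹ (of 0 * of 0) (by simpa using P.car.c3 0 (by omega))).and
      (Enf.rel (of 1)⁻¹ (of 1 * of 1) (by simpa using P.car.c3 1 (by omega)))).and (Enf.rel (of 0 * of 1 * of 0) (of 1)⁻¹
        (by simpa using P.car.c2 0 (by omega) 1 (by omega) (by omega)))).mono le_rfl fun C ⟨⟨e1, e2⟩, e3⟩ x => ?_
    simp only [map_mul, map_inv] at e1 e2 e3
    have hx : Car (fun i => C.φ (of (Fin.ofNat 2 i))) 2 := ⟨fun i _ => by interval_cases i <;> assumption,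
      fun i _ j _ h => by interval_cases i <;> interval_cases j <;> first | omega | exact e3 | exact sym_rel e3⟩
    exact hx.inj P C.π (fun i _ => by interval_cases i <;> simp) (C.top (fun j => by
      fin_cases j; exacts [mem_W (x := fun i => C.φ (of (Fin.ofNat 2 i))) (i := 0) two_pos,
        mem_W (x := fun i => C.φ (of (Fin.ofNat 2 i))) (i := 1) one_lt_two]) x)
  · rw [eq_top_iff, ← h, closure_le]
    have h1 := subset_normalClosure (s := {g 1}) rfl
    rintro _ ⟨i, rfl⟩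
    fin_cases i
    · have n : f 0 ≠ f 1 := fun e => by have := P.inj 0 two_pos 1 one_lt_two e; omega
      refine Set.mem_of_eq_of_mem (Subtype.ext (Eq.symm ?_))
        (inv_mem (normalClosure_normal.conj_mem _ h1 ⟨swap β α * swap (f 0) (f 1), by simp [n, P.ab.symm]⟩))
      have := P.a 0 two_pos; have := P.a 1 one_lt_two; have := P.b 0 two_pos; have := P.b 1 one_lt_two
      show (swap β α * swap (f 0) (f 1) * cy α β (f 1) * (swap β α * swap (f 0) (f 1))⁻¹)⁻¹ = cy α β (f 0)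
      rw [P.conj_cy' (i := 1) (j := 0) ?_ ?_ two_pos ?_, inv_inv] <;> simp [swap_apply_def, *] <;> grind
    · exact h1

theorem pres_A5 : ∃ g : Fin 2 → alternatingGroup (Fin 5), PrG g 4 ∧ closure (Set.range g) = ⊤ := by
  obtain ⟨α, β, f, P, all⟩ := pts_fin 3
  have hs := P.sign_rot (j := 0) (m := 2) (by omega)
  let g : Fin 2 → alternatingGroup (Fin 5) := ![⟨_, hs⟩, ⟨_, sign_cy P.ab (P.a 0 (by omega))⟩]
  refine ⟨g, (PrG.comp_iff _ (subtype_injective _)).1 ?_, alt_top P all g fun i hi => by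
    rw [← P.xs_rot le_rfl hi]
    have h0 : rot f 0 3 ∈ closure (Set.range (Subgroup.subtype _ ∘ g)) := subset_closure ⟨0, rfl⟩
    exact mul_mem (mul_mem (pow_mem h0 _) (subset_closure ⟨1, rfl⟩)) (inv_mem (pow_mem h0 _))⟩
  set g' := Subgroup.subtype _ ∘ g
  have g0 : g' 0 = rot f 0 3 := rfl
  have g1 : g' 1 = cy α β (f 0) := rfl
  obtain ⟨w, hw, e⟩ : rot f 0 3 ∈ (W (xs (of (0 : Fin 2)) (of 1)) 3).map (lift g') := by
    rw [map_W (y := fun i => cy α β (f i)) _ fun i hi => by simp [map_xs, g0, g1, P.xs_rot le_rfl hi]]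
    exact mem_W_cy P hs fun t _ _ ht => rot_fix fun i _ hi => ht i hi
  have c := P.car
  have x1 := P.xs_rot (i := 1) le_rfl (by omega)
  have x2 := P.xs_rot (i := 2) le_rfl (by omega)
  refine ((((Enf.rel (of 1)⁻¹ (of 1 * of 1) (by simpa [g1] using c.c3 0 (by omega))).and
    (Enf.rel (of 1 * xs (of 0) (of 1) 1 * of 1) (xs (of 0) (of 1) 1)⁻¹ (by
      simpa [g0, g1, map_xs, x1] using c.c2 0 (by omega) 1 (by omega) (by omega)))).and
    (Enf.rel (of 1 * xs (of 0) (of 1) 2 * of 1) (xs (of 0) (of 1) 2)⁻¹ (by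
      simpa [g0, g1, map_xs, x2] using c.c2 0 (by omega) 2 (by omega) (by omega)))).and
    (Enf.rel (of 0) w (by simp [e, g0]))).mono le_rfl fun C ⟨⟨⟨e1, e2⟩, e3⟩, e4⟩ x => ?_
  simp only [map_mul, map_inv, map_xs] at e1 e2 e3
  have e8 := congrArg (fun w => C.φ (of 0) * w * (C.φ (of 0))⁻¹) e2
  simp only [← conj_mul, ← conj_inv, xs_succ] at e8
  rw [← xs_zero (C.φ (of 0)) (C.φ (of 1)), xs_succ, xs_zero] at e8
  have hx : Car (xs (C.φ (of 0)) (C.φ (of 1))) 3 := ⟨fun i _ => by rw [xs, conj_inv, e1, conj_mul], fun i hi j hj h => by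
    interval_cases i <;> interval_cases j <;>
      first | omega | ((try simp only [xs_zero]); first | assumption | (apply sym_rel; assumption))⟩
  exact hx.inj P C.π (fun i hi => by rw [map_xs, C.π_of, C.π_of]; exact P.xs_rot le_rfl hi) (C.top (fun j => by
    fin_cases j
    · have := mem_map_of_mem C.φ hw
      rwa [map_W C.φ (fun i _ => map_xs _ _ _ i), ← e4] at this
    · simpa using mem_W (x := xs _ (C.φ (of 1))) (i := 0) (by omega)) x)
end H11
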