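import Cfsg.Agent.H24.ClC
import Cfsg.Agent.H24.CT
import Cfsg.Agent.H11.Pres2

/-! Explicit Steinberg relations for `Sp_{2l}`: `spY` (root elements), `sp_hom` (a family satisfying the relations in a
cover of `Sp_{2l}` gives a splitting), the block embeddings `spι`, `spρ`, `spP`. -/

set_option autoImplicit false

namespace H11
open Subgroup H24 H12 Cfsg.Lie PForm Matrix
open scoped commutatorElement MatrixGroups

variable {H : Type*} [Group H] {F : Type*} [Field F] {l : ℕ}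

/-- the root element of the root `ω_a + ω_b` -/
noncomputable def spY (a b : Fin l ⊕ Fin l) (t : F) : (stdSymp l F).Isom :=
  if a = b then (stdSymp l F).eich (Pi.single a 1) 0 t else (stdSymp l F).eich (Pi.single a 1) (t • Pi.single b 1) 0

theorem sp_hom [Finite F] (h : 2 ≤ l) (h3 : 3 ≤ l ∨ ∃ x : F, x ≠ 0 ∧ x ≠ 1) (π : H →* (stdSymp l F).Isom)
    (Y : Fin l ⊕ Fin l → Fin l ⊕ Fin l → F → H) (hπ : ∀ a b, b ≠ a.swap → ∀ t, π (Y a b t) = spY a b t)
    (add : ∀ a b, b ≠ a.swap → Add1 (Y a b)) (symm : ∀ a b, b ≠ a.swap → Y a b = Y b a)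
    (c0 : ∀ a b c d, b ≠ a.swap → d ≠ c.swap → c ≠ a.swap → c ≠ b.swap → d ≠ a.swap → d ≠ b.swap →
      ∀ t u, Commute (Y a b t) (Y c d u))
    (c1 : ∀ a d, d ≠ a → d ≠ a.swap → ∀ t u, ∃ v w, ⁅Y a a t, Y a.swap d u⁆ = Y a d v * Y d d w)
    (c2 : ∀ a b d, b ≠ a → b ≠ a.swap → d ≠ a → d ≠ a.swap → d ≠ b.swap → ∀ t u, ∃ v, ⁅Y a b t, Y a.swap d u⁆ = Y b d v) :
    ∃ θ : (stdSymp l F).Isom →* H, (∀ g, π (θ g) = g) ∧ ∀ a b, b ≠ a.swap → ∀ t, Y a b t ∈ θ.range := by
  obtain ⟨e₀, he⟩ := exists_isoC h F h3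
  let e := e₀.trans (spEquiv l F)
  have sw : ∀ {a b : Fin l ⊕ Fin l}, b ≠ a.swap → a ≠ b.swap := fun e e' => e (by simp [e'])
  have key : ∀ r, ∃ a b, ∃ ε : F, b ≠ a.swap ∧ ε * ε = 1 ∧ (msC l h).ρ r = ωS l a + ωS l b ∧
      ∀ t, e ((stS _ F).x r t) = spY a b (ε * t) := fun r => by
    obtain ⟨a, b, e1, rfl⟩ := exists_rC h r
    by_cases e' : b = a.swap
    · subst e'
      obtain ⟨ε, h1, h2⟩ := repC_long (F := F) h a
      exact ⟨a, a, ε, ne_swap a, h1, by simp [ρ_rC, ωS_swap], fun t => isom_ext fun x => by simp [e, spY, he, h2]⟩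
    · obtain ⟨ε, h1, h2⟩ := repC_short (F := F) h e1 e'
      exact ⟨a, b.swap, ε, Sum.swap_leftInverse.injective.ne e1.symm, h1, by simp [ρ_rC, ωS_swap, sub_eq_add_neg],
        fun t => isom_ext fun x => by simp [e, spY, he, h2, sw e']⟩
  choose α β ε k1 k2 k3 k4 using key
  let A : RF (msC l h).D F H := ⟨r3_ad.lift.comp (e.symm.toMonoidHom.comp π), fun r t => Y (α r) (β r) (ε r * t),
    fun r t => by simp [hπ _ _ (k1 r), ← k4, cov_st.map], fun r t u => by rw [mul_add, (add _ _ (k1 r)).add]⟩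
  have mem : ∀ {c d}, d ≠ c.swap → ∀ t, ∃ k u, (msC l h).ρ k = ωS l c + ωS l d ∧ Y c d t = A.y k u := fun {c d} e t => by
    let k := rC h c d.swap (sw e)
    have hk : (msC l h).ρ k = ωS l c + ωS l d := by simp [k, ρ_rC, ωS_swap]
    refine ⟨k, ε k * t, hk, ?_⟩
    obtain ⟨e1, e2⟩ | ⟨e1, e2⟩ := (fmC l).pair (sw e) (x := α k) (y := (β k).swap) (by
      simp only [fmC, ωS_swap]; linear_combination (exp := 1) hk - k3 k)
    · simp only [A, ← mul_assoc, k2, one_mul, e1, Sum.swap_leftInverse.injective e2]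
    · simp only [A, ← mul_assoc, k2, one_mul, e1, Sum.swap_leftInverse.injective e2, fmC, Sum.swap_swap, symm c d e]
  have pair : ∀ (P : Subgroup H) a b c d, b ≠ a.swap → d ≠ c.swap → ωS l a + ωS l b + (ωS l c + ωS l d) ≠ 0 →
      (∀ x y (i j : ℕ), y ≠ x.swap → 0 < i → 0 < j → ωS l x + ωS l y = (i : ℤ) • (ωS l a + ωS l b) + (j : ℤ) • (ωS l c + ωS l d) →
        ∀ t, Y x y t ∈ P) → ∀ t u, ⁅Y a b t, Y c d u⁆ ∈ P := by
    have p1 : ∀ (P : Subgroup H) a b d, b ≠ a.swap → d ≠ a → d ≠ b.swap → (∀ x y (i j : ℕ), y ≠ x.swap → 0 < i → 0 < j →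
        ωS l x + ωS l y = (i : ℤ) • (ωS l a + ωS l b) + (j : ℤ) • (ωS l a.swap + ωS l d) → ∀ t, Y x y t ∈ P) →
        ∀ t u, ⁅Y a b t, Y a.swap d u⁆ ∈ P := fun P a b d e1 e2 e3 hP t u => by
      by_cases p : b = a
      · subst p
        obtain ⟨v, w, e⟩ := c1 b d e2 e3 t u
        exact e ▸ mul_mem (hP _ _ 1 1 e3 one_pos one_pos (by simp [ωS_swap]) _)
          (hP _ _ 1 2 (ne_swap d) one_pos two_pos (by simp only [ωS_swap]; module) _)
      by_cases q : d = a.swap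
      · subst q
        obtain ⟨v, w, e⟩ := c1 a.swap b e1 (by simpa) u t
        rw [← inv_mem_iff, commutatorElement_inv, ← a.swap_swap, a.swap.swap_swap, e]
        exact mul_mem (hP _ _ 1 1 (by simpa) one_pos one_pos (by simp only [ωS_swap]; module) _)
          (hP _ _ 2 1 (ne_swap b) two_pos one_pos (by simp only [ωS_swap]; module) _)
      · obtain ⟨v, e⟩ := c2 a b d p e1 e2 q e3 t u
        exact e ▸ hP _ _ 1 1 e3 one_pos one_pos (by simp only [ωS_swap]; module) _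
    intro P a b c d e1 e2 e3 hP t u
    by_cases q1 : c = a.swap
    · subst q1; exact p1 P a b d e1 (by simpa using e2) (by rintro rfl; exact e3 (by simp only [ωS_swap]; abel)) hP t u
    by_cases q2 : c = b.swap
    · subst q2; rw [symm a b e1]
      exact p1 P b a d (sw e1) (by simpa using e2) (by rintro rfl; exact e3 (by simp only [ωS_swap]; abel)) (add_comm (ωS l a) _ ▸ hP) t u
    by_cases q3 : d = a.swap
    · subst q3; rw [symm c _ e2]
      exact p1 P a b c e1 (by simpa using (sw e2)) q2 (add_comm (ωS l c) _ ▸ hP) t u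
    by_cases q4 : d = b.swap
    · subst q4; rw [symm c _ e2, symm a b e1]
      exact p1 P b a c (sw e1) (by simpa using (sw e2)) q1 (add_comm (ωS l c) _ ▸ add_comm (ωS l a) _ ▸ hP) t u
    exact (commutatorElement_eq_one_iff_commute.2 (c0 a b c d e1 e2 q1 q2 q3 q4 t u)).symm ▸ one_mem _
  have hA : A.Rel Set.univ := fun r _ s _ e t u => pair _ _ _ _ _ (k1 r) (k1 s) (k3 r ▸ k3 s ▸ MS.ne_ng_iff.1 e)
    (fun x y i j e1 hi hj e2 t => by
      obtain ⟨k, u, e3, e4⟩ := mem e1 t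
      exact e4 ▸ A.y_mem (show PosComb r s k from ⟨i, j, hi, hj, MS.wt_comb.2 (by rw [e3, e2, k3, k3])⟩) u) _ _
  let θ := (r3_of_finite hA.sys).lift
  have hθ : ∀ r t, θ ((stS _ F).x r t) = A.y r t := fun r t => (r3_of_finite hA.sys).lift_x r t
  refine ⟨θ.comp e.symm.toMonoidHom, fun g => ?_, fun a b e1 t => ?_⟩
  · obtain ⟨g, rfl⟩ := e.surjective g
    simpa using DFunLike.congr_fun (hom_ext_T stS_T (f := π.comp θ) (g := e.toMonoidHom) fun r t => by
      simp [hθ, A, hπ _ _ (k1 r), k4]) g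
  · obtain ⟨k, u, -, e4⟩ := mem e1 t
    exact ⟨e ((stS _ F).x k u), by simp [hθ, e4]⟩

/-- the symplectic form of the plane -/
def ω2 (x y : Fin 2 → F) : F := x 1 * y 0 - x 0 * y 1

/-- transvections of the plane -/
def τ2 (x : Fin 2 → F) (t : F) : SL(2, F) :=
  ⟨!![1 + t * x 0 * x 1, -(t * x 0 ^ 2); t * x 1 ^ 2, 1 - t * x 0 * x 1], by simp [det_fin_two]; ring⟩

theorem sl2_smul (g : SL(2, F)) (x : Fin 2 → F) : g • x = ![g.1 0 0 * x 0 + g.1 0 1 * x 1, g.1 1 0 * x 0 + g.1 1 1 * x 1] := by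
  ext i; change (g.1 *ᵥ x) i = _; fin_cases i <;> simp [mulVec, dotProduct]

theorem τ2_smul (x : Fin 2 → F) (t : F) (z : Fin 2 → F) : τ2 x t • z = z + (t * ω2 x z) • x := by
  rw [sl2_smul]; ext i; fin_cases i <;> simp [τ2, ω2] <;> ring

theorem ω2_smul (g : SL(2, F)) (x y : Fin 2 → F) : ω2 (g • x) (g • y) = ω2 x y := by
  have := g.det_coe; rw [det_fin_two] at this
  simp [sl2_smul, ω2]; linear_combination (x 1 * y 0 - x 0 * y 1) * this

theorem sl2_ext {g g' : SL(2, F)} (h : ∀ x : Fin 2 → F, g • x = g' • x) : g = g' :=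
  Subtype.ext (matrix_ext_mulVec h)

theorem conj_τ2 (g : SL(2, F)) (x : Fin 2 → F) (t : F) : g * τ2 x t * g⁻¹ = τ2 (g • x) t := sl2_ext fun z => by
  rw [mul_smul, mul_smul, τ2_smul, τ2_smul, smul_add, smul_inv_smul, smul_comm g, ← ω2_smul g, smul_inv_smul]

theorem τ2_add (x : Fin 2 → F) : Add1 (τ2 x) :=
  ⟨fun a b => sl2_ext fun z => by simp only [mul_smul, τ2_smul]; ext i; simp [ω2]; ring⟩

theorem τ2_scal (x : Fin 2 → F) (c t : F) : τ2 (c • x) t = τ2 x (c ^ 2 * t) :=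
  sl2_ext fun z => by simp only [τ2_smul]; ext i; simp [ω2]; ring

theorem exists_sl2 {x y : Fin 2 → F} {c : F} (h0 : c ≠ 0) (h : ω2 x y = -c) :
    ∃ g : SL(2, F), g • (![1, 0] : Fin 2 → F) = x ∧ g • (![0, c] : Fin 2 → F) = y :=
  ⟨⟨!![x 0, y 0 / c; x 1, y 1 / c], by simp [det_fin_two]; field_simp; rw [ω2] at h; linear_combination -h⟩,
    (sl2_smul _ _).trans (by ext i; fin_cases i <;> simp), (sl2_smul _ _).trans (by ext i; fin_cases i <;> simp [h0])⟩

theorem exists_ω2 {x : Fin 2 → F} (h : x ≠ 0) : ∃ y, ω2 x y ≠ 0 := by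
  by_contra! e
  exact h (funext fun i => by fin_cases i; exacts [by simpa [ω2] using e ![0, 1], by simpa [ω2] using e ![1, 0]])

theorem exists_sl2' {x : Fin 2 → F} (h : x ≠ 0) : ∃ g : SL(2, F), g • (![1, 0] : Fin 2 → F) = x := by
  obtain ⟨y, e⟩ := exists_ω2 h
  exact (exists_sl2 (neg_ne_zero.2 e) (neg_neg _).symm).imp fun _ h => h.1

theorem eq_τ2 {g : SL(2, F)} (h : g • (![1, 0] : Fin 2 → F) = ![1, 0]) : ∃ t, g = τ2 ![1, 0] t := by
  have := g.det_coe; rw [det_fin_two] at this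
  simp [sl2_smul] at h
  exact ⟨-g.1 0 1, by ext i j; fin_cases i <;> fin_cases j <;> simp_all [τ2]⟩

theorem heis {X : F → H} (hX : Add1 X) {f : (Fin 2 → F) → H} (f0 : f 0 = 1) (hc : ∀ y w, Commute (f y) (X w))
    (h : ∀ y y', ω2 y y' ≠ 0 → ∃ w, f (y + y') = f y * f y' * X w) (y y' : Fin 2 → F) :
    ∃ w, f (y + y') = f y * f y' * X w := by
  by_cases e : ω2 y y' = 0; swap; · exact h y y' e
  by_cases y0 : y = 0; · exact ⟨0, by simp [y0, f0, hX.zero]⟩
  by_cases y1 : y' = 0; · exact ⟨0, by simp [y1, f0, hX.zero]⟩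
  obtain ⟨c, hc'⟩ := exists_ω2 y0
  have col : ∀ z, ω2 y z = 0 → ω2 z c = 0 → z = 0 := fun z e1 e2 => funext fun i => by
    simp only [ω2] at e1 e2 hc'
    fin_cases i <;> refine (mul_eq_zero.1 ?_).resolve_left hc'
    exacts [show _ * z 0 = 0 by linear_combination c 0 * e1 + y 0 * e2,
      show _ * z 1 = 0 by linear_combination c 1 * e1 + y 1 * e2]
  obtain ⟨w1, e1⟩ := h y (y' + c) (by simp only [ω2, Pi.add_apply] at *; intro e'; exact hc' (by linear_combination e' - e))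
  obtain ⟨w2, e2⟩ := h y' c (mt (col _ e) y1)
  obtain ⟨w3, e3⟩ : ∃ w, f (y + y' + c) = f (y + y') * f c * X w := by
    by_cases z : y + y' = 0
    · exact ⟨0, by simp [z, f0, hX.zero]⟩
    · exact h _ _ (mt (col _ (by simp only [ω2, Pi.add_apply] at *; linear_combination e)) z)
  refine ⟨w2 + w1 + -w3, mul_right_cancel (b := f c * X w3) ?_⟩
  rw [← mul_assoc, ← e3, add_assoc y, e1, e2, mul_assoc _ (X _), ← mul_assoc (X _), ← (hc c _).eq, mul_assoc (f c), ← hX.add]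
  simp [hX.add, mul_assoc]

variable (F) in
/-- the `i`-th hyperbolic plane -/
def spι (i : Fin l) : (Fin 2 → F) →ₗ[F] (Fin l ⊕ Fin l → F) where
  toFun x := Pi.single (.inl i) (x 0) + Pi.single (.inr i) (x 1)
  map_add' x y := by simp [Pi.single_add]; abel
  map_smul' c x := by simp [← Pi.single_smul]

/-- the coordinates in the `i`-th hyperbolic plane -/
def sppr (i : Fin l) (z : Fin l ⊕ Fin l → F) : Fin 2 → F := ![z (.inl i), z (.inr i)]

theorem sppr_ι (i j : Fin l) (x : Fin 2 → F) : sppr i (spι F j x) = if i = j then x else 0 := by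
  ext k; fin_cases k <;> by_cases h : i = j <;> simp [sppr, spι, h]

theorem h_spι (i : Fin l) (x : Fin 2 → F) (z) : (stdSymp l F).h (spι F i x) z = ω2 x (sppr i z) := by
  have e : spι F i x = x 0 • Pi.single (.inl i) 1 + x 1 • Pi.single (.inr i) 1 := by simp [spι, ← Pi.single_smul]
  simp [e, stdSymp_single_inl, stdSymp_single_inr, ω2, sppr]; ring

theorem h_spι_ne {i j : Fin l} (h : i ≠ j) (x y : Fin 2 → F) : (stdSymp l F).h (spι F i x) (spι F j y) = 0 := by
  simp [h_spι, sppr_ι, h, ω2]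

theorem sp_ext {g g' : (stdSymp l F).Isom} (h : ∀ i x, g.1 (spι F i x) = g'.1 (spι F i x)) : g = g' :=
  Subtype.ext (LinearEquiv.toLinearMap_injective ((Pi.basisFun F _).ext fun a => by
    rcases a with a | a
    · simpa [spι] using h a ![1, 0]
    · simpa [spι] using h a ![0, 1]))

theorem exists_spρ (F : Type*) [Field F] (l : ℕ) : ∃ ρ : Fin l → SL(2, F) →* (stdSymp l F).Isom,
    ∀ i g j x, (ρ i g).1 (spι F j x) = spι F j (if i = j then g • x else x) := by
  let L : Fin l → SL(2, F) → Module.End F (Fin l ⊕ Fin l → F) := fun i g => 1 + spι F i ∘ₗ (toLin' g.1 - 1) ∘ₗ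
    LinearMap.funLeft F F ![.inl i, .inr i]
  have h1 : ∀ i g j x, L i g (spι F j x) = spι F j (if i = j then g • x else x) := fun i g j x => by
    have : LinearMap.funLeft F F ![.inl i, .inr i] (spι F j x) = sppr i (spι F j x) := by ext k; fin_cases k <;> rfl
    simp only [L, LinearMap.add_apply, LinearMap.comp_apply, this, sppr_ι]
    split_ifs with h
    · rw [h, LinearMap.sub_apply, map_sub]; exact add_sub_cancel _ _
    · simp
  have ex : ∀ {A B : Module.End F (Fin l ⊕ Fin l → F)}, (∀ i x, A (spι F i x) = B (spι F i x)) → A = B := fun h =>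
    (Pi.basisFun F _).ext fun a => by
      rcases a with a | a
      · simpa [spι] using h a ![1, 0]
      · simpa [spι] using h a ![0, 1]
  have h2 : ∀ i g g', L i (g * g') = L i g * L i g' := fun i g g' => ex fun j x => by
    simp only [Module.End.mul_apply, h1]; split_ifs <;> simp [mul_smul]
  have h3 : ∀ i, L i 1 = 1 := fun i => ex fun j x => by simp [h1]
  have h4 : ∀ a : Fin l ⊕ Fin l, ∃ i x, Pi.basisFun F _ a = spι F i x := by
    rintro (a | a); exacts [⟨a, ![1, 0], by simp [spι]⟩, ⟨a, ![0, 1], by simp [spι]⟩]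
  refine ⟨fun i => MonoidHom.mk' (fun g => ⟨LinearEquiv.ofLinear (L i g) (L i g⁻¹) (by rw [← Module.End.mul_eq_comp, ← h2]; simp [h3]; rfl)
    (by rw [← Module.End.mul_eq_comp, ← h2]; simp [h3]; rfl), isIsom_of_basis (Pi.basisFun F _) (L i g) (fun a b => ?_)
      fun _ => trivial⟩) fun g g' => isom_ext fun z => LinearMap.congr_fun (h2 i g g') z, h1⟩
  obtain ⟨j, x, e⟩ := h4 a
  obtain ⟨k, y, e'⟩ := h4 b
  simp only [e, e', h1, h_spι, sppr_ι]
  split_ifs <;> simp_all [ω2_smul] <;> simp [ω2]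

theorem exists_spP (F : Type*) [Field F] (l : ℕ) : ∃ P : Equiv.Perm (Fin l) →* (stdSymp l F).Isom,
    ∀ s j x, (P s).1 (spι F j x) = spι F (s j) x :=
  ⟨MonoidHom.mk' (fun s => ⟨LinearEquiv.funCongrLeft F F (s.symm.sumCongr s.symm), symp_isIsom fun x y => by
    simp only [stdSymp_h, sympForm_eq]; exact Fintype.sum_equiv s.symm _ _ fun _ => rfl⟩) fun _ _ => isom_ext fun x => by
      ext (a | a) <;> rfl, fun s j x => by ext (a | a) <;> simp [spι, Pi.single_apply, Equiv.symm_apply_eq]⟩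

section
variable {V : Type*} [AddCommGroup V] [Module F V] {S : PForm (sympP F) V} {u v u' v' : V}
theorem sp_eich_apply (h : S.h u v = 0) (x : V) : (S.eich u v 0).1 x = x + S.h u x • v + S.h v x • u := by
  rw [eich_apply ⟨symp_sing _ _, h, trivial⟩]; simp [sympP]

theorem sp_eich_symm (h : S.h u v = 0) : S.eich u v 0 = S.eich v u 0 := isom_ext fun x => by
  rw [sp_eich_apply h, sp_eich_apply (S.h_swap_zero h)]; abel

theorem sp_eich_smul (h : S.h u v = 0) (c : F) : S.eich (c • u) v 0 = S.eich u (c • v) 0 := by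
  simpa using eich_smul (S := S) (a := 0) ⟨symp_sing _ _, h, trivial⟩ c

theorem sp_eich_comm (h1 : S.h u u' = 0) (h2 : S.h u v' = 0) (h3 : S.h v u' = 0) (h4 : S.h v v' = 0) :
    S.eich u v 0 * S.eich u' v' 0 = S.eich u' v' 0 * S.eich u v 0 := by
  rw [← mul_inv_eq_iff_eq_mul, conj_eich, eich_apply_of_perp_perp h1 h3, eich_apply_of_perp_perp h2 h4]

theorem sp_eich_chain (h : S.h u v = 0) (h' : S.h u' v' = 0) (h2 : S.h u v' = 0) (h3 : S.h v u' = 0) (h4 : S.h v v' = 0) :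
    ⁅S.eich u v 0, S.eich u' v' 0⁆ = S.eich v (S.h u u' • v') 0 := by
  have a1 := S.h_swap_zero h'
  have a2 := S.h_swap_zero h4
  rw [commutatorElement_def, conj_eich, eich_apply_of_perp_perp h2 h4, sp_eich_apply h, h3, mul_inv_eq_iff_eq_mul,
    sp_eich_symm (by simp [h', h4]), sp_eich_symm h', ← sp_eich_smul h4, sp_eich_symm (u := _ • v) (by simp [h4]),
    eich_mul ⟨symp_sing _ _, by simp [a2], trivial⟩ ⟨symp_sing _ _, a1, trivial⟩]
  simp [h3, add_comm]
end
end H11
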