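import Cfsg.Agent.H11.U3B

/-! Simple connectivity of the orthogonality graph on unit vectors of a unitary space of dimension `≥ 4`: a cocycle `Coc`
(triangles, inverses, squares over nondegenerate lines) satisfying `Q0`, `Q3` (automatic for `q ≥ 3`, `q ≥ 4`) is a
coboundary (`Coc.exists_pot`). -/

set_option autoImplicit false

namespace H11
open Subgroup Module
variable {F : Type*} [Field F] {σ : F →+* F} {hσ : ∀ a, σ (σ a) = a} {H : Type*} [Group H]

theorem norm_add_top [Finite F] (hσ : ∀ a, σ (σ a) = a) {q : ℕ} (hF : Nat.card F = q ^ 2) (hq : ∀ x, σ x = x ^ q) (A : AddSubgroup F)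
    (h : ∀ μ, σ μ * μ = 1 → μ ∈ A) (x : F) : x ∈ A := by
  obtain ⟨ζ, hζ⟩ := IsCyclic.exists_ofOrder_eq_natCard (α := Fˣ)
  have hg := gen_rho hF hq (hζ.trans (Nat.card_units F)) (m := 1) (.inl rfl)
  have hx : x ∈ Subring.closure {((ζ : F) / σ ζ) ^ 1} := hg ▸ Subring.mem_top x
  refine (AddSubgroup.closure_le A).2 (fun μ hμ => h μ ?_) (Subring.mem_closure_iff.1 hx)
  obtain ⟨n, rfl⟩ := Submonoid.mem_closure_singleton.1 hμ
  rw [pow_one, map_pow, ← mul_pow, map_div₀, hσ, div_mul_div_comm, mul_comm, div_self (by simp), one_pow]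

namespace PForm
variable {V : Type*} [AddCommGroup V] [Module F V] {S : PForm (unitP σ hσ) V}

section
variable [Finite F] [FiniteDimensional F V] (hne : σ ≠ RingHom.id F) (hS : S.Nondeg)
include hne hS

theorem Nondeg.unit_perp {U : Submodule F V} (h : ¬ S.perp U ≤ U) : ∃ t ∈ S.perp U, S.h t t = 1 := by
  by_contra hc
  have h0 : ∀ t ∈ S.perp U, S.h t t = 0 := fun t ht => by
    by_contra h0
    obtain ⟨c, hc'⟩ := unit_exists_smul_norm hne h0 (map_one σ)
    exact hc ⟨_, Submodule.smul_mem _ c ht, hc'⟩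
  refine h fun y hy => hS.perp_perp U ▸ fun x hx => ?_
  by_contra hxy
  obtain ⟨θ, hθ⟩ := exists_trace_one hσ hne
  have := h0 _ (Submodule.add_mem _ hx (Submodule.smul_mem _ (θ / S.h x y) hy))
  simp only [map_add, LinearMap.add_apply, h_smul_left, h_smul_right, h0 x hx, h0 y hy, S.unit_symm x y] at this
  rw [div_mul_cancel₀ _ hxy, ← map_mul, div_mul_cancel₀ _ hxy] at this
  exact one_ne_zero (by linear_combination this - hθ)

theorem Nondeg.unit_perp' {A : Submodule F V} (hA : ∀ a ∈ A, a ∈ S.perp A → a = 0) {s : V} (hs : s ∈ S.perp A) {k : ℕ}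
    (hk : finrank F A ≤ k) (h : k + 3 ≤ finrank F V ∨ k + 2 ≤ finrank F V ∧ (S.h s s ≠ 0 ∨ s = 0)) :
    ∃ t ∈ S.perp A, S.h t t = 1 ∧ S.h s t = 0 := by
  have : ¬ S.perp (A ⊔ F ∙ s) ≤ A ⊔ F ∙ s := fun hc => by
    have h1 : ∀ t ∈ S.perp (A ⊔ F ∙ s), ∃ c : F, c • s = t := fun t ht => by
      obtain ⟨a, ha, _, hb, rfl⟩ := Submodule.mem_sup.1 (hc ht)
      obtain ⟨c, rfl⟩ := Submodule.mem_span_singleton.1 hb
      have := hA a ha (by simpa using Submodule.sub_mem _ (S.perp_anti le_sup_left ht) (Submodule.smul_mem _ c hs))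
      exact ⟨c, by rw [this, zero_add]⟩
    have h2 := hS.finrank_perp (A ⊔ F ∙ s)
    have h3 := Submodule.finrank_add_le_finrank_add_finrank A (F ∙ s)
    have h4 : finrank F (F ∙ s) ≤ 1 := by simpa using finrank_span_le_card (R := F) ({s} : Set V)
    rcases h with h | ⟨h, h'⟩
    · have := Submodule.finrank_mono (show S.perp (A ⊔ F ∙ s) ≤ F ∙ s from fun t ht => Submodule.mem_span_singleton.2 (h1 t ht))
      omega
    · have : S.perp (A ⊔ F ∙ s) = ⊥ := eq_bot_iff.2 fun t ht => by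
        obtain ⟨c, rfl⟩ := h1 t ht
        have := ht s (Submodule.mem_sup_right (Submodule.mem_span_singleton_self s))
        rcases h' with h' | rfl
        · rw [h_smul_right, mul_eq_zero] at this
          simp [this.resolve_right h']
        · simp
      rw [this, finrank_bot] at h2; omega
  obtain ⟨t, ht, h1⟩ := hS.unit_perp hne this
  exact ⟨t, S.perp_anti le_sup_left ht, h1, ht s (Submodule.mem_sup_right (Submodule.mem_span_singleton_self s))⟩

theorem Nondeg.unit_perp2 (h4 : 4 ≤ finrank F V) {x : V} (xx : S.h x x = 1) (s : V) :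
    ∃ t, S.h t t = 1 ∧ S.h x t = 0 ∧ S.h s t = 0 := by
  obtain ⟨t, h1, h2, h3⟩ := hS.unit_perp' hne (A := F ∙ x) (s := s - S.h x s • x) (k := 1) (fun a ha ha' => by
    obtain ⟨c, rfl⟩ := Submodule.mem_span_singleton.1 ha
    have := S.mem_perp_singleton.1 ha'
    rw [h_smul_right, xx, mul_one] at this; simp [this]) (S.mem_perp_singleton.2 (by simp [xx]))
    (by simpa using finrank_span_le_card (R := F) ({x} : Set V)) (.inl h4)
  have := S.mem_perp_singleton.1 h1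
  exact ⟨t, h2, this, by simpa [this] using h3⟩

theorem Nondeg.unit_perp3 (h4 : 4 ≤ finrank F V) {x y : V} (xx : S.h x x = 1) (yy : S.h y y = 1) (xy : S.h x y = 0) {s : V}
    (h : 5 ≤ finrank F V ∨ S.h s s ≠ σ (S.h x s) * S.h x s + σ (S.h y s) * S.h y s ∨ s = S.h x s • x + S.h y s • y) :
    ∃ t, S.h t t = 1 ∧ S.h x t = 0 ∧ S.h y t = 0 ∧ S.h s t = 0 := by
  have yx := S.h_swap_zero xy
  obtain ⟨t, h1, h2, h3⟩ := hS.unit_perp' hne (A := Submodule.span F {x, y}) (s := s - (S.h x s • x + S.h y s • y)) (k := 2)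
    (fun a ha ha' => by
      obtain ⟨c, d, rfl⟩ := Submodule.mem_span_pair.1 ha
      have := S.mem_perp_pair.1 ha'
      simp [xx, yy, xy, yx] at this; simp [this]) (S.mem_perp_pair.2 (by simp [xx, yy, xy, yx]))
    (by classical exact (finrank_span_le_card (R := F) ({x, y} : Set V)).trans (by simpa using Finset.card_le_two))
    (h.imp id fun h => ⟨h4, h.imp (fun h h' => h (by
      simp [xx, yy, xy, yx, S.unit_symm x s, S.unit_symm y s] at h'; linear_combination h')) sub_eq_zero.2⟩)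
  have := S.mem_perp_pair.1 h1
  exact ⟨t, h2, this.1, this.2, by simpa [this] using h3⟩

omit hne [Finite F] in
theorem Nondeg.partner3 {x y : V} (xx : S.h x x = 1) (yy : S.h y y = 1) (xy : S.h x y = 0) {z z' : V} (xz : S.h x z = 0)
    (yz : S.h y z = 0) (xz' : S.h x z' = 0) (yz' : S.h y z' = 0) (zz' : S.h z z' = 0) (h0 : S.h z' z' = 0) (h : z' ∉ F ∙ z) :
    ∃ f, S.h f f = 0 ∧ S.h z' f = 1 ∧ S.h x f = 0 ∧ S.h y f = 0 ∧ S.h z f = 0 := by
  have yx := S.h_swap_zero xy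
  obtain ⟨f, h1, h2, h3⟩ := hS.exists_partner (Submodule.span F {x, y, z}) ((S.unit_sing z').2 h0) (fun h' => by
    obtain ⟨a, b, c, rfl⟩ := Submodule.mem_span_triple.1 h'
    simp [xx, yy, xy, yx, xz, yz] at xz' yz'
    exact h (by simp [xz', yz', Submodule.smul_mem])) (S.mem_perp_span.2 (by simp [xz', yz', zz']))
  have := S.mem_perp_span.1 h1
  exact ⟨f, (S.unit_sing f).1 h2, h3, this x (by simp), this y (by simp), this z (by simp)⟩

end

variable (S) in
/-- squares in the orthogonality graph on unit vectors -/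
structure Sq (p r p' r' : V) : Prop where
  pp : S.h p p = 1
  rr : S.h r r = 1
  pp' : S.h p' p' = 1
  rr' : S.h r' r' = 1
  pr : S.h p r = 0
  pr' : S.h p r' = 0
  p'r : S.h p' r = 0
  p'r' : S.h p' r' = 0

theorem Sq.symm {p r p' r' : V} (h : S.Sq p r p' r') : S.Sq r p r' p' :=
  ⟨h.rr, h.pp, h.rr', h.pp', S.h_swap_zero h.pr, S.h_swap_zero h.p'r, S.h_swap_zero h.pr', S.h_swap_zero h.p'r'⟩

/-- the square commutes -/
def Qd (c : V → V → H) (p r p' r' : V) : Prop := c p r * c r p' = c p r' * c r' p'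

variable (S) in
/-- cocycles -/
structure Coc (c : V → V → H) : Prop where
  tri : ∀ x y z, S.h x x = 1 → S.h y y = 1 → S.h z z = 1 → S.h x y = 0 → S.h y z = 0 → S.h x z = 0 → c x y * c y z = c x z
  inv : ∀ x y, S.h x x = 1 → S.h y y = 1 → S.h x y = 0 → c x y * c y x = 1
  q1 : ∀ p r p' r', S.Sq p r p' r' → σ (S.h p p') * S.h p p' ≠ 1 → Qd c p r p' r'

variable (S) in
/-- squares with two vertices in a nondegenerate plane orthogonal to the two others -/
def Q0 (c : V → V → H) : Prop := ∀ p r p' z f (β : F), S.Sq p r p' (β • r + z) → S.h z z = 0 → S.h f f = 0 → S.h z f = 1 →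
  S.h r z = 0 → S.h r f = 0 → S.h p f = 0 → S.h p' f = 0 → Qd c p r p' (β • r + z)

variable (S) in
/-- elementary squares in a degenerate plane -/
def Q3 (c : V → V → H) : Prop := ∀ p r z, S.Sq p r (p + z) (r + z) → S.h z z = 0 → S.h p z = 0 → S.h r z = 0 → z ≠ 0 →
  Qd c p r (p + z) (r + z)

namespace Coc
variable {c : V → V → H} (C : S.Coc c) {p r p' r' : V}
include C

theorem symm (h : S.Sq p r p' r') (e : Qd c r p r' p') : Qd c p r p' r' := by
  have h1 := C.inv p r h.pp h.rr h.pr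
  have h2 := C.inv p' r' h.pp' h.rr' h.p'r'
  unfold Qd at *
  calc _ = c p r * (c r p' * c p' r') * c r' p' := by rw [mul_assoc, mul_assoc, h2, mul_one]
    _ = _ := by rw [← e, ← mul_assoc, h1, one_mul]

theorem of_orth (h : S.Sq p r p' r') (e : S.h r r' = 0) : Qd c p r p' r' := by
  unfold Qd
  rw [← C.tri p r' r h.pp h.rr' h.rr h.pr' (S.h_swap_zero e) h.pr, mul_assoc,
    C.tri r' r p' h.rr' h.rr h.pp' (S.h_swap_zero e) (S.h_swap_zero h.p'r) (S.h_swap_zero h.p'r')]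

theorem of_t (h : S.Sq p r p' r') {t : V} (tt : S.h t t = 1) (h1 : S.h p t = 0) (h2 : S.h p' t = 0) (h3 : S.h r t = 0)
    (h4 : S.h r' t = 0) : Qd c p r p' r' :=
  (C.of_orth ⟨h.pp, h.rr, h.pp', tt, h.pr, h1, h.p'r, h2⟩ h3).trans
    (C.of_orth ⟨h.pp, h.rr', h.pp', tt, h.pr', h1, h.p'r', h2⟩ h4).symm

variable [Finite F] (hne : σ ≠ RingHom.id F)
include hne

theorem q0 {ν : F} (hν : σ ν = ν) (h0 : ν ≠ 0) (h1 : ν ≠ 1) : S.Q0 c := by
  intro p r p' z f β h zz ff zf rz rf pf p'f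
  obtain ⟨θ, hθ⟩ := exists_trace_one hσ hne
  have fz : S.h f z = 1 := by rw [S.unit_symm, zf, map_one]
  have pz : S.h p z = 0 := by simpa [h.pr] using h.pr'
  have p'z : S.h p' z = 0 := by simpa [h.p'r] using h.p'r'
  have hs : S.h ((ν * θ) • z + f) ((ν * θ) • z + f) = ν := by simp [zz, ff, zf, fz, hν]; linear_combination ν * hθ
  obtain ⟨κ, hκ⟩ := unit_exists_smul_norm hne (hs ▸ h0) (map_one σ)
  have h3 : S.Sq p (κ • ((ν * θ) • z + f)) p' (β • r + z) :=
    ⟨h.pp, hκ, h.pp', h.rr', by simp [pz, pf], h.pr', by simp [p'z, p'f], h.p'r'⟩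
  refine (C.of_orth ⟨h.pp, h.rr, h.pp', hκ, h.pr, h3.pr, h.p'r, h3.p'r⟩ (by simp [rz, rf])).trans
    (C.symm h3 (C.q1 _ _ _ _ h3.symm fun e => h1 ?_))
  rw [h_smul_left, h_smul_right, hs] at hκ
  simp [zz, fz, S.h_swap_zero rz, S.h_swap_zero rf, hσ] at e
  linear_combination hκ - ν * e

variable [FiniteDimensional F V] (hS : S.Nondeg) (h4 : 4 ≤ finrank F V)
include hS h4

theorem q3 (h : 5 ≤ finrank F V ∨ ∃ ν : F, σ ν = ν ∧ ν ≠ 0 ∧ ν ≠ 1 ∧ ν ≠ 2) : S.Q3 c := by
  intro p r z hs zz pz rz z0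
  rcases h with h | ⟨ν, hν, h0, h1, h2⟩
  · obtain ⟨t, tt, h1, h2, h3⟩ := hS.unit_perp3 hne h4 hs.pp hs.rr hs.pr (s := z) (.inl h)
    exact C.of_t hs tt h1 (by simp [h1, h3]) h2 (by simp [h2, h3])
  obtain ⟨f, ff, zf, pf, rf, -⟩ := hS.partner3 hs.pp hs.rr hs.pr (z := 0) (by simp) (by simp) pz rz (by simp) zz (by simpa)
  obtain ⟨θ, hθ⟩ := exists_trace_one hσ hne
  have fz : S.h f z = 1 := by rw [S.unit_symm, zf, map_one]
  have hs' : S.h ((ν * θ) • z + f) ((ν * θ) • z + f) = ν := by simp [zz, ff, zf, fz, hν]; linear_combination ν * hθ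
  obtain ⟨κ, ss⟩ := unit_exists_smul_norm hne (hs' ▸ h0) (map_one σ)
  have hκ := ss
  rw [h_smul_left, h_smul_right, hs'] at hκ
  have ps : S.h p (κ • ((ν * θ) • z + f)) = 0 := by simp [pz, pf]
  have rs : S.h r (κ • ((ν * θ) • z + f)) = 0 := by simp [rz, rf]
  have zs : S.h z (κ • ((ν * θ) • z + f)) = κ := by simp [zz, zf]
  generalize κ • ((ν * θ) • z + f) = s at ss ps rs zs
  have sz : S.h s z = σ κ := by rw [S.unit_symm, zs]
  obtain ⟨t, tt, h5, h6, h7⟩ := hS.unit_perp3 hne h4 hs.pp' hs.rr' hs.p'r' (s := s) (.inr (.inl fun e => h2 (by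
    simp [ss, ps, rs, zs] at e; linear_combination 2 * hκ + ν * e)))
  have e1 := C.q1 s r (p + z) t ⟨ss, hs.rr, hs.pp', tt, S.h_swap_zero rs, h7, hs.p'r, h5⟩ fun e => h1 (by
    simp [sz, S.h_swap_zero ps, hσ] at e; linear_combination hκ - ν * e)
  have e2 := C.q1 s p (r + z) t ⟨ss, hs.pp, hs.rr', tt, S.h_swap_zero ps, h7, S.h_swap_zero hs.pr', h6⟩ fun e => h1 (by
    simp [sz, S.h_swap_zero rs, hσ] at e; linear_combination hκ - ν * e)
  unfold Qd at *
  rw [← C.tri p s r hs.pp ss hs.rr ps (S.h_swap_zero rs) hs.pr, mul_assoc, e1,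
    ← C.tri t (r + z) (p + z) tt hs.rr' hs.pp' (S.h_swap_zero h6) (S.h_swap_zero hs.p'r') (S.h_swap_zero h5), ← mul_assoc (c s t), ← e2,
    ← mul_assoc, ← mul_assoc, C.inv p s hs.pp ss ps, one_mul]

variable (h0 : S.Q0 c)
include h0

omit [Finite F] hne h4 in
theorem q_ne (h : S.Sq p r p' r') (hz : r' - S.h r r' • r ∉ F ∙ (p' - S.h p p' • p)) : Qd c p r p' r' := by
  by_cases e : σ (S.h r r') * S.h r r' = 1
  swap
  · exact C.symm h (C.q1 _ _ _ _ h.symm e)
  have zz : S.h (r' - S.h r r' • r) (r' - S.h r r' • r) = 0 := by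
    simp [h.rr, h.rr', S.unit_symm r r']; linear_combination -e
  obtain ⟨f, ff, zf, pf, rf, zf'⟩ := hS.partner3 h.pp h.rr h.pr (by simp [h.pp]) (by simp [S.h_swap_zero h.pr, S.h_swap_zero h.p'r])
    (by simp [h.pr, h.pr']) (by simp [h.rr]) (by simp [h.pr, h.pr', h.p'r, h.p'r']) zz hz
  have := h0 p r p' (r' - S.h r r' • r) f (S.h r r') (by simpa using h) zz ff zf (by simp [h.rr]) rf pf (by simpa [pf] using zf')
  simpa using this

theorem q_par {ε : F} (h : S.Sq p r p' (ε • r)) : Qd c p r p' (ε • r) := by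
  by_cases e : p' = S.h p p' • p
  · obtain ⟨t, tt, h1, h2⟩ := hS.unit_perp2 hne h4 h.pp r
    exact C.of_t h tt h1 (by rw [e]; simp [h1]) h2 (by simp [h2])
  · exact C.symm h (C.q_ne hS h0 h.symm (by simpa [h.rr, sub_eq_zero] using e))

variable (h3 : S.Q3 c) {q : ℕ} (hF : Nat.card F = q ^ 2) (hq : ∀ x, σ x = x ^ q)
include h3 hF hq

theorem qall (h : S.Sq p r p' r') : Qd c p r p' r' := by
  by_cases e : σ (S.h p p') * S.h p p' = 1
  swap
  · exact C.q1 _ _ _ _ h e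
  by_cases hz : r' - S.h r r' • r ∈ F ∙ (p' - S.h p p' • p)
  swap
  · exact C.q_ne hS h0 h hz
  obtain ⟨μ, hμ⟩ := Submodule.mem_span_singleton.1 hz
  have zz : S.h (p' - S.h p p' • p) (p' - S.h p p' • p) = 0 := by
    simp [h.pp, h.pp', S.unit_symm p p']; linear_combination -e
  have pz : S.h p (p' - S.h p p' • p) = 0 := by simp [h.pp]
  have p'z : S.h p' (p' - S.h p p' • p) = 0 := by simp [h.pp', S.unit_symm p p']; linear_combination -e
  have rz : ∀ r, S.h p r = 0 → S.h p' r = 0 → S.h (p' - S.h p p' • p) r = 0 := fun r h1 h2 => by simp [h1, h2]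
  have ez : p' = S.h p p' • p + (p' - S.h p p' • p) := by simp
  generalize p' - S.h p p' • p = z at *
  generalize S.h p p' = α at *
  have sq : ∀ (μ : F) r, S.h r r = 1 → S.h p r = 0 → S.h p' r = 0 → S.Sq p r p' (r + μ • z) := fun μ r h1 h2 h3 =>
    ⟨h.pp, h1, h.pp', by simp [h1, zz, rz r h2 h3, S.h_swap_zero (rz r h2 h3)], h2, by simp [h2, pz], h3, by simp [h3, p'z]⟩
  let A : AddSubgroup F :=
    { carrier := {μ | ∀ r, S.h r r = 1 → S.h p r = 0 → S.h p' r = 0 → Qd c p r p' (r + μ • z)}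
      add_mem' := fun {a b} ha hb r h1 h2 h3 => by
        have := sq a r h1 h2 h3
        rw [add_smul, ← add_assoc]
        exact (ha r h1 h2 h3).trans (hb _ this.rr' this.pr' this.p'r')
      zero_mem' := fun r _ _ _ => by simp [Qd]
      neg_mem' := fun {a} ha r h1 h2 h3 => by
        have := sq (-a) r h1 h2 h3
        have := ha _ this.rr' this.pr' this.p'r'
        rw [add_assoc, ← add_smul, neg_add_cancel, zero_smul, add_zero] at this
        exact this.symm }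
  have hA := norm_add_top hσ hF hq A (fun μ hμ r h1 h2 h5 => by
    by_cases z0 : z = 0
    · simp [z0, Qd]
    have s := sq μ r h1 h2 h5
    have s1 : S.Sq ((μ * α) • p) r (μ • p') (r + μ • z) := ⟨by simp [h.pp]; linear_combination σ μ * μ * e + hμ, h1,
      by simp [h.pp']; linear_combination hμ, s.rr', by simp [h2], by rw [h_smul_left, s.pr', mul_zero], by simp [h5],
      by rw [h_smul_left, s.p'r', mul_zero]⟩
    have e1 : μ • p' = (μ * α) • p + μ • z := by rw [ez, smul_add, smul_smul]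
    have e2 := h3 _ r (μ • z) (e1 ▸ s1) (by simp [zz]) (by simp [pz]) (by simp [S.h_swap_zero (rz r h2 h5)])
      (smul_ne_zero (fun h => by simp [h] at hμ) z0)
    rw [← e1] at e2
    have s2 := s.symm
    have s3 := s1.symm
    refine C.symm s ((C.q_par hne hS h4 h0 ⟨s2.pp, s2.rr, s2.pp', s3.rr, s2.pr, s3.pr, s2.p'r, s3.p'r⟩).trans
      ((C.symm s3 e2).trans (C.q_par hne hS h4 h0 ⟨s2.pp, s2.rr', s2.pp', s3.rr', s2.pr', s3.pr', s2.p'r', s3.p'r'⟩).symm))) μ
  have er : r' = S.h r r' • r + μ • z := by rw [hμ]; simp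
  have s : S.Sq p r p' (S.h r r' • r) := ⟨h.pp, h.rr, h.pp', by
    have := h.rr'
    rw [er] at this
    simp [zz, rz r h.pr h.p'r, S.h_swap_zero (rz r h.pr h.p'r)] at this ⊢
    linear_combination this, h.pr, by simp [h.pr], h.p'r, by simp [h.p'r]⟩
  have := hA _ s.rr' s.pr' s.p'r'
  rw [← er] at this
  exact (C.q_par hne hS h4 h0 s).trans this

theorem pent {v v' : V} (pp : S.h p p = 1) (vv : S.h v v = 1) (vv' : S.h v' v' = 1) (o : S.h v v' = 0) (rr : S.h r r = 1)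
    (rr' : S.h r' r' = 1) (pr : S.h p r = 0) (vr : S.h v r = 0) (pr' : S.h p r' = 0) (vr' : S.h v' r' = 0) :
    c p r * c r v * c v v' = c p r' * c r' v' := by
  have Q : ∀ {p r p' r' : V}, S.Sq p r p' r' → c p r * c r p' = c p r' * c r' p' := fun h => C.qall hne hS h4 h0 h3 hF hq h
  have o' := S.h_swap_zero o
  by_cases e : S.h p p ≠ σ (S.h v p) * S.h v p + σ (S.h v' p) * S.h v' p ∨ p = S.h v p • v + S.h v' p • v'
  · obtain ⟨t, tt, h1, h2, h5⟩ := hS.unit_perp3 hne h4 vv vv' o (.inr e)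
    rw [Q ⟨pp, rr, vv, tt, pr, h5, vr, h1⟩, Q ⟨pp, rr', vv', tt, pr', h5, vr', h2⟩, mul_assoc,
      C.tri t v v' tt vv vv' (S.h_swap_zero h1) o (S.h_swap_zero h2)]
  by_cases a0 : S.h v p = 0
  · rw [C.tri p r v pp rr vv pr (S.h_swap_zero vr) (S.h_swap_zero a0), Q ⟨pp, rr', vv', vv, pr', S.h_swap_zero a0, vr', o'⟩]
  rw [not_or, not_not, pp] at e
  obtain ⟨f, ff, zf, vf, v'f, -⟩ := hS.partner3 vv vv' o (z := 0) (z' := p - (S.h v p • v + S.h v' p • v')) (by simp) (by simp)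
    (by simp [vv, o]) (by simp [vv', o']) (by simp)
    (by simp [pp, vv, vv', o, o', S.unit_symm v p, S.unit_symm v' p]; linear_combination e.1) (by simpa [sub_eq_zero] using e.2)
  have pf : S.h p f = 1 := by simpa [vf, v'f] using zf
  have pv := S.unit_symm v p
  generalize S.h v p = α at *
  have a1 : σ α ≠ 0 := by simpa
  have hs : S.h ((-(σ α)⁻¹) • v + f) ((-(σ α)⁻¹) • v + f) = (σ α * α)⁻¹ := by
    simp [vv, ff, vf, S.h_swap_zero vf, hσ]
  obtain ⟨κ, ss⟩ := unit_exists_smul_norm hne (hs ▸ (by simp [a0] : (σ α * α)⁻¹ ≠ 0)) (map_one σ)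
  have hκ := ss
  rw [h_smul_left, h_smul_right, hs] at hκ
  have ps : S.h p (κ • ((-(σ α)⁻¹) • v + f)) = 0 := by simp [pv, pf, a1]
  have v's : S.h v' (κ • ((-(σ α)⁻¹) • v + f)) = 0 := by simp [o', v'f]
  have sv : S.h (κ • ((-(σ α)⁻¹) • v + f)) v = -(σ κ * α⁻¹) := by simp [vv, S.h_swap_zero vf, hσ]
  generalize κ • ((-(σ α)⁻¹) • v + f) = s at ss ps v's sv
  obtain ⟨t, tt, h5, h6, h7⟩ := hS.unit_perp3 hne h4 pp ss ps (s := v) (.inr (.inl fun e' => a0 (by
    simp [vv, pv, sv, hσ] at e'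
    field_simp at hκ e'
    have : (σ α * α) ^ 2 = 0 := by linear_combination -e' - hκ
    simpa using this)))
  rw [Q ⟨pp, rr, vv, tt, pr, h5, vr, h7⟩, ← C.tri p s t pp ss tt ps h6 h5, mul_assoc (c p s),
    Q ⟨ss, tt, vv, vv', h6, S.h_swap_zero v's, h7, o⟩, mul_assoc, mul_assoc, C.inv v' v vv' vv o', mul_one,
    Q ⟨pp, ss, vv', rr', ps, pr', v's, vr'⟩]

theorem exists_pot (pp : S.h p p = 1) : ∃ τ : V → H, τ p = 1 ∧
    ∀ v v', S.h v v = 1 → S.h v' v' = 1 → S.h v v' = 0 → τ v * c v v' = τ v' := by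
  choose r h1 h2 h5 using hS.unit_perp2 hne h4 pp
  exact ⟨fun v => c p (r v) * c (r v) v, C.inv _ _ pp (h1 p) (h2 p), fun v v' vv vv' o =>
    C.pent hne hS h4 h0 h3 hF hq pp vv vv' o (h1 v) (h1 v') (h2 v) (h5 v) (h2 v') (h5 v')⟩

end Coc
end PForm
end H11
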