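import Cfsg.Agent.H11.Phan1

/-! The induction step of Phan's theorem: frames `Frm`, generation (`Frm.gen`, `Frm.gen'`), and `Stp.ext`: homomorphisms on the
stabilisers of two orthogonal unit vectors extend to the special unitary group. -/

set_option autoImplicit false

namespace H11
open Subgroup Module

theorem exists_dc {G H : Type*} [Group G] [Group H] {P : Subgroup G} {n : G} {φ : G → H} {ν : H} (hφ : HomOn P φ)
    (ha : ∀ l ∈ P, n * l * n⁻¹ ∈ P → ν * φ l * ν⁻¹ = φ (n * l * n⁻¹)) :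
    ∃ Φ : G → H, ∀ p ∈ P, ∀ p' ∈ P, Φ (p * n * p') = φ p * ν * φ p' := by
  classical
  refine ⟨fun g => if h : ∃ x : G × G, x.1 ∈ P ∧ x.2 ∈ P ∧ g = x.1 * n * x.2 then φ h.choose.1 * ν * φ h.choose.2 else 1,
    fun p hp p' hp' => ?_⟩
  have h : ∃ x : G × G, x.1 ∈ P ∧ x.2 ∈ P ∧ p * n * p' = x.1 * n * x.2 := ⟨(p, p'), hp, hp', rfl⟩
  obtain ⟨h1, h2, h3⟩ := h.choose_spec
  simp only [dif_pos h]
  generalize h.choose.1 = r at *
  generalize h.choose.2 = r' at *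
  have e : n * (p' * r'⁻¹) * n⁻¹ = p⁻¹ * r := by
    rw [show r = p * n * p' * r'⁻¹ * n⁻¹ by rw [h3]; group]; group
  have := ha _ (P.mul_mem hp' (P.inv_mem h2)) (e ▸ P.mul_mem (P.inv_mem hp) h1)
  rw [e, hφ _ hp' _ (P.inv_mem h2), hφ _ (P.inv_mem hp) _ h1, hφ.inv hp, hφ.inv h2] at this
  rw [show φ r = φ p * (ν * (φ p' * (φ r')⁻¹) * ν⁻¹) by rw [this]; group]; group

variable {F : Type*} [Field F] {σ : F →+* F} {hσ : ∀ a, σ (σ a) = a} {H : Type*} [Group H]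
namespace PForm
variable {V : Type*} [AddCommGroup V] [Module F V] {S : PForm (unitP σ hσ) V} [FiniteDimensional F V]

theorem Nondeg.su_fix (hS : S.Nondeg) (B : Submodule F V) {u u' t : V} (hu : u ∉ B) (hu' : u' ∉ B) (hq : S.h u' u' = S.h u u)
    (hh : ∀ x ∈ B, S.h x u' = S.h x u) (tt : S.h t t = 1) (ht : t ∈ S.perp B) (tu : S.h u' t = 0) :
    ∃ g ∈ S.SIsom, g ∈ S.fix B ∧ g.1 u = u' := by
  obtain ⟨g, h1, h2⟩ := hS.witt_fix B hu hu' ((unit_q_congr_iff S S u u').2 hq) hh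
  obtain ⟨k, k1, k2, -⟩ := exists_det_eq_of_ne (S := S) (v := t) (by simp [tt]) (⟨_, hS.det_mem_normOne g⟩ : normOne σ)⁻¹
  refine ⟨k * g, by rw [SIsom, MonoidHom.mem_ker, map_mul, k2]; simp, fun x hx => ?_, ?_⟩
  · rw [isom_mul_apply, h1 x hx, k1 x (S.mem_perp_singleton.2 (S.h_swap_zero (ht x hx)))]
  · rw [isom_mul_apply, h2, k1 _ (S.mem_perp_singleton.2 (S.h_swap_zero tu))]

theorem Nondeg.exists_mid [Finite F] (hne : σ ≠ RingHom.id F) (hS : S.Nondeg) (h4 : 4 ≤ finrank F V)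
    (h : 5 ≤ finrank F V ∨ ∃ ν : F, σ ν = ν ∧ ν ≠ 0 ∧ ν ≠ 1) {v v' t : V} (vv : S.h v v = 1) (vv' : S.h v' v' = 1) (tt : S.h t t = 1)
    (vt : S.h v t = 0) (v't : S.h v' t = 0) : (∃ r, S.h r r = 1 ∧ S.h v r = 0 ∧ S.h t r = 0 ∧ S.h v' r = 0) ∨
      ∃ s r, S.h s s = 1 ∧ S.h v s = 0 ∧ S.h t s = 0 ∧ S.h r r = 1 ∧ S.h s r = 0 ∧ S.h t r = 0 ∧ S.h v' r = 0 := by
  have tv' := S.h_swap_zero v't
  by_cases e : 5 ≤ finrank F V ∨ S.h v' v' ≠ σ (S.h v v') * S.h v v' + σ (S.h t v') * S.h t v' ∨ v' = S.h v v' • v + S.h t v' • t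
  · exact .inl (hS.unit_perp3 hne h4 vv tt vt e)
  simp only [tv', vv', map_zero, mul_zero, add_zero, zero_smul, not_or, not_not] at e
  obtain ⟨ν, hν, h0, h1⟩ := h.resolve_left e.1
  have zz : S.h (v' - S.h v v' • v) (v' - S.h v v' • v) = 0 := by
    simp [vv, vv', S.unit_symm v v']; linear_combination e.2.1
  have vz : S.h v (v' - S.h v v' • v) = 0 := by simp [vv]
  have tz : S.h t (v' - S.h v v' • v) = 0 := by simp [tv', S.h_swap_zero vt]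
  obtain ⟨f, ff, zf, vf, tf, -⟩ := hS.partner3 vv tt vt (z := 0) (by simp) (by simp) vz tz (by simp) zz
    (by simpa [sub_eq_zero] using e.2.2)
  have ez : v' = S.h v v' • v + (v' - S.h v v' • v) := by simp
  generalize v' - S.h v v' • v = z at *
  obtain ⟨θ, hθ⟩ := exists_trace_one hσ hne
  have fz : S.h f z = 1 := by rw [S.unit_symm, zf, map_one]
  have hs : S.h ((ν * θ) • z + f) ((ν * θ) • z + f) = ν := by simp [zz, ff, zf, fz, hν]; linear_combination ν * hθ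
  obtain ⟨κ, ss⟩ := unit_exists_smul_norm hne (hs ▸ h0) (map_one σ)
  have hκ := ss
  rw [h_smul_left, h_smul_right, hs] at hκ
  have ts : S.h t (κ • ((ν * θ) • z + f)) = 0 := by simp [tz, tf]
  have sv : S.h (κ • ((ν * θ) • z + f)) v' = σ κ := by rw [ez]; simp [zz, fz, S.h_swap_zero vz, S.h_swap_zero vf]
  obtain ⟨r, h2⟩ := hS.unit_perp3 hne h4 ss tt (S.h_swap_zero ts) (s := v') (.inr (.inl fun e' => h1 (by
    rw [sv, tv', vv', hσ] at e'; linear_combination ν * e' + hκ)))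
  exact .inr ⟨_, r, ss, by simp [vz, vf], ts, h2⟩

theorem Nondeg.exists_U (hS : S.Nondeg) {a b : V} (aa : S.h a a = 1) (bb : S.h b b = 1) (ab : S.h a b = 0) {x y : F} (h : σ x * x + σ y * y = 1) :
    ∃ u ∈ S.SIsom, u ∈ S.fix (S.perp (Submodule.span F {a, b})) ∧ u.1 a = x • a + y • b := by
  have ba := S.h_swap_zero ab
  have key : ∀ x y : F, x • a + y • b ∈ S.perp (S.perp (Submodule.span F {a, b})) := fun x y =>
    S.le_perp_perp _ (Submodule.mem_span_pair.2 ⟨x, y, rfl⟩)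
  have e : S.h (x • a + y • b) (x • a + y • b) = 1 := by simp [aa, bb, ab, ba]; linear_combination h
  refine hS.su_fix _ (fun h => by simpa [aa] using (S.mem_perp_pair.1 h).1) (fun h => one_ne_zero (e.symm.trans (key x y _ h)))
    (e.trans aa.symm) (fun w hw => ?_) (t := (-σ y) • a + σ x • b) (by simp [aa, bb, ab, ba, hσ]; linear_combination h)
    (key _ _) (by simp [aa, bb, ab, ba]; ring)
  rw [key x y w hw, S.h_swap_zero (S.mem_perp_pair.1 hw).1]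

variable (S) in
/-- frames for the induction step -/
structure Frm (A : Submodule F V) (K P P' : Subgroup S.Isom) (a b c t : V) (n : S.Isom) : Prop where
  hS : S.Nondeg
  hA : (S.restrict A).Nondeg
  h4 : 4 ≤ finrank F (S.perp A)
  hK : ∀ g, g ∈ K ↔ g ∈ S.SIsom ∧ g ∈ S.fix A
  hP : ∀ g, g ∈ P ↔ g ∈ K ∧ g.1 a = a
  hP' : ∀ g, g ∈ P' ↔ g ∈ K ∧ g.1 t = t
  ma : a ∈ S.perp A
  mb : b ∈ S.perp A
  mc : c ∈ S.perp A
  mt : t ∈ S.perp A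
  aa : S.h a a = 1
  bb : S.h b b = 1
  cc : S.h c c = 1
  tt : S.h t t = 1
  ab : S.h a b = 0
  ac : S.h a c = 0
  ta : S.h t a = 0
  bc : S.h b c = 0
  tb : S.h t b = 0
  tc : S.h t c = 0
  n1 : n ∈ S.SIsom
  n2 : n ∈ S.fix (S.perp (Submodule.span F {a, b}))
  n3 : n.1 a = b

namespace Frm
variable {A : Submodule F V} {K P P' : Subgroup S.Isom} {a b c t : V} {n : S.Isom} (D : S.Frm A K P P' a b c t n)
include D

theorem nd : (S.restrict (S.perp A)).Nondeg := D.hS.restrict_perp D.hA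

theorem mem {g : S.Isom} (hg : g ∈ K) {x : V} (hx : x ∈ S.perp A) : g.1 x ∈ S.perp A := fun y hy => by
  rw [← ((D.hK g).1 hg).2 y hy, isom_h]; exact hx y hy

theorem PK {g : S.Isom} (hg : g ∈ P) : g ∈ K := ((D.hP g).1 hg).1
theorem PK' {g : S.Isom} (hg : g ∈ P') : g ∈ K := ((D.hP' g).1 hg).1

theorem UP {u : S.Isom} (h1 : u ∈ S.SIsom) (h2 : u ∈ S.fix (S.perp (Submodule.span F {a, b}))) : u ∈ P' :=
  (D.hP' u).2 ⟨(D.hK u).2 ⟨h1, fun x hx => h2 x (S.mem_perp_pair.2 ⟨S.h_swap_zero (D.ma x hx), S.h_swap_zero (D.mb x hx)⟩)⟩,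
    h2 t (S.mem_perp_pair.2 ⟨S.h_swap_zero D.ta, S.h_swap_zero D.tb⟩)⟩

theorem move' (L : Set V) {u u' s : V} (mu : u ∈ S.perp A) (mu' : u' ∈ S.perp A) (ms : s ∈ S.perp A)
    (hu : u ∉ A ⊔ Submodule.span F L) (hu' : u' ∉ A ⊔ Submodule.span F L) (hq : S.h u' u' = S.h u u) (ss : S.h s s = 1)
    (hL : ∀ x ∈ L, S.h x u' = S.h x u ∧ S.h x s = 0) (us : S.h u' s = 0) : ∃ g ∈ K, (∀ x ∈ L, g.1 x = x) ∧ g.1 u = u' := by
  have key : ∀ w ∈ S.perp A, (∀ x ∈ L, S.h x w = 0) → w ∈ S.perp (A ⊔ Submodule.span F L) := fun w hw h x hx => by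
    obtain ⟨y, hy, z, hz, rfl⟩ := Submodule.mem_sup.1 hx
    simp [hw y hy, S.mem_perp_span.2 h z hz]
  obtain ⟨g, h1, h2, h3⟩ := D.hS.su_fix _ hu hu' hq (fun x hx => by
    simpa [sub_eq_zero] using key (u' - u) (Submodule.sub_mem _ mu' mu) (fun x hx => by simp [(hL x hx).1]) x hx) ss
    (key s ms fun x hx => (hL x hx).2) us
  rw [mem_fix_sup, mem_fix_span] at h2
  exact ⟨g, (D.hK g).2 ⟨h1, h2.1⟩, h2.2, h3⟩

theorem move (L : Set V) {u u' s : V} (mu : u ∈ S.perp A) (mu' : u' ∈ S.perp A) (ms : s ∈ S.perp A)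
    (uu : S.h u u = 1) (uu' : S.h u' u' = 1) (ss : S.h s s = 1) (hL : ∀ x ∈ L, S.h x u = 0 ∧ S.h x u' = 0 ∧ S.h x s = 0)
    (us : S.h u' s = 0) : ∃ g ∈ K, (∀ x ∈ L, g.1 x = x) ∧ g.1 u = u' := by
  have key : ∀ w ∈ S.perp A, S.h w w = 1 → (∀ x ∈ L, S.h x w = 0) → w ∉ A ⊔ Submodule.span F L := fun w hw ww h hx => by
    obtain ⟨y, hy, z, hz, e⟩ := Submodule.mem_sup.1 hx
    rw [← congrArg (S.h · w) e] at ww
    simp [hw y hy, S.mem_perp_span.2 h z hz] at ww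
  exact D.move' L mu mu' ms (key u mu uu fun x hx => (hL x hx).1) (key u' mu' uu' fun x hx => (hL x hx).2.1) (uu'.trans uu.symm) ss
    (fun x hx => ⟨(hL x hx).2.1.trans (hL x hx).1.symm, (hL x hx).2.2⟩) us

theorem fix_b {l : S.Isom} (hl : l ∈ P) (h : n * l * n⁻¹ ∈ P) : l.1 b = b := by
  have h1 : (n⁻¹).1 a ∈ Submodule.span F {a, b} := D.hS.perp_perp (Submodule.span F {a, b}) ▸ fun w hw => by
    rw [← isom_h n, isom_apply_inv_self, D.n2 w hw]; exact S.h_swap_zero (S.mem_perp_pair.1 hw).1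
  obtain ⟨x, y, e⟩ := Submodule.mem_span_pair.1 h1
  have h2 : S.h a (x • a + y • b) = 0 := by rw [e, ← isom_h n, isom_apply_inv_self, D.n3]; exact S.h_swap_zero D.ab
  have h3 : S.h (x • a + y • b) (x • a + y • b) = 1 := by rw [e, isom_h, D.aa]
  obtain rfl : x = 0 := by simpa [D.aa, D.ab] using h2
  have h4 : l.1 ((n⁻¹).1 a) = (n⁻¹).1 a := by simpa using congrArg (n⁻¹).1 ((D.hP _).1 h).2
  rw [← e, zero_smul, zero_add, map_smul] at h4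
  exact smul_right_injective V (by rintro rfl; simp at h3) h4

theorem comm {u k : S.Isom} (hu : u ∈ S.fix (S.perp (Submodule.span F {a, b}))) (h1 : k.1 a = a) (h2 : k.1 b = b) : Commute k u :=
  commute_fix_perp D.hS ((S.restrict_nondeg_iff' _).2 fun x hx h => by
    obtain ⟨y, z, rfl⟩ := Submodule.mem_span_pair.1 hx
    have h1 := h a (Submodule.subset_span (by simp))
    have h2 := h b (Submodule.subset_span (by simp))
    simp [D.aa, D.bb, D.ab, S.h_swap_zero D.ab] at h1 h2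
    simp [h1, h2]) (mem_fix_span.2 (by simp [h1, h2])) hu

variable [Finite F] (hne : σ ≠ RingHom.id F)
include hne

theorem rel2 {x s : V} (mx : x ∈ S.perp A) (ms : s ∈ S.perp A) (xx : S.h x x = 1) :
    ∃ r ∈ S.perp A, S.h r r = 1 ∧ S.h x r = 0 ∧ S.h s r = 0 :=
  let ⟨r, h⟩ := D.nd.unit_perp2 hne D.h4 (x := ⟨x, mx⟩) xx ⟨s, ms⟩; ⟨r, r.2, h⟩

theorem rel3 {x y z : V} (mx : x ∈ S.perp A) (my : y ∈ S.perp A) (mz : z ∈ S.perp A) (xx : S.h x x = 1) (yy : S.h y y = 1)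
    (zz : S.h z z = 1) (xy : S.h x y = 0) (xz : S.h x z = 0) (yz : S.h y z = 0) :
    ∃ r ∈ S.perp A, S.h r r = 1 ∧ S.h x r = 0 ∧ S.h y r = 0 ∧ S.h z r = 0 :=
  let ⟨r, h⟩ := D.nd.unit_perp3 hne D.h4 (x := ⟨x, mx⟩) (y := ⟨y, my⟩) xx yy xy (s := ⟨z, mz⟩) (.inr (.inl (by simp [xz, yz, zz])))
  ⟨r, r.2, h⟩

theorem frame {x y z : V} (mx : x ∈ S.perp A) (my : y ∈ S.perp A) (mz : z ∈ S.perp A) (xx : S.h x x = 1) (yy : S.h y y = 1)
    (zz : S.h z z = 1) (xy : S.h x y = 0) (xz : S.h x z = 0) (yz : S.h y z = 0) : ∃ k ∈ K, k.1 a = x ∧ k.1 b = y ∧ k.1 c = z := by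
  obtain ⟨r, mr, rr, xr, yr, zr⟩ := D.rel3 hne mx my mz xx yy zz xy xz yz
  obtain ⟨k, hk, -, rfl⟩ := D.move ∅ D.ma mx mr D.aa xx rr (by simp) xr
  obtain ⟨l, hl, l1, rfl⟩ := D.move {k.1 a} (D.mem hk D.mb) my mr (by simp [D.bb]) yy rr (by simp [D.ab, xy, xr]) yr
  have l2 := l1 _ rfl
  obtain ⟨m, hm, m1, rfl⟩ := D.move {k.1 a, l.1 (k.1 b)} (D.mem hl (D.mem hk D.mc)) mz mr (by simp [D.cc]) zz rr (by
    simp only [Set.mem_insert_iff, Set.mem_singleton_iff, forall_eq_or_imp, forall_eq, xz, yz, xr, yr, isom_h, D.bc, and_true]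
    rw [← l2]; simp [D.ac]) zr
  exact ⟨m * (l * k), K.mul_mem hm (K.mul_mem hl hk), by simp [l2, m1], by simp [m1], rfl⟩

theorem dec {g : S.Isom} (hg : g ∈ K) (h : S.h a (g.1 a) = 0) : ∃ p ∈ P, ∃ p' ∈ P, g = p * n * p' := by
  obtain ⟨r, mr, rr, h1, h2⟩ := D.rel2 hne D.ma (D.mem hg D.ma) D.aa
  obtain ⟨p, hp, p1, p2⟩ := D.move {a} D.mb (D.mem hg D.ma) mr D.bb (by simp [D.aa]) rr (by simp [D.ab, h, h1]) h2
  exact ⟨p, (D.hP p).2 ⟨hp, p1 _ rfl⟩, (p * n)⁻¹ * g, (D.hP _).2 ⟨K.mul_mem (K.inv_mem (K.mul_mem hp (D.PK' (D.UP D.n1 D.n2)))) hg,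
    by rw [isom_mul_apply, ← p2, ← D.n3, ← isom_mul_apply p, isom_inv_apply_self]⟩, by group⟩

theorem dec' {g : S.Isom} (hg : g ∈ P') (h : S.h a (g.1 a) = 0) : ∃ p ∈ P ⊓ P', ∃ p' ∈ P ⊓ P', g = p * n * p' := by
  obtain ⟨hK, ht⟩ := (D.hP' g).1 hg
  have h3 : S.h t (g.1 a) = 0 := by rw [← ht, isom_h, D.ta]
  obtain ⟨r, mr, rr, h1, h2, h4⟩ := D.rel3 hne D.ma (D.mem hK D.ma) D.mt D.aa (by simp [D.aa]) D.tt h (S.h_swap_zero D.ta)
    (S.h_swap_zero h3)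
  obtain ⟨p, hp, p1, p2⟩ := D.move {a, t} D.mb (D.mem hK D.ma) mr D.bb (by simp [D.aa]) rr (by simp [D.ab, h, h1, h3, h4, D.tb]) h2
  have hp' := (D.hP' p).2 ⟨hp, p1 _ (by simp)⟩
  have := P'.mul_mem (P'.inv_mem (P'.mul_mem hp' (D.UP D.n1 D.n2))) hg
  exact ⟨p, ⟨(D.hP p).2 ⟨hp, p1 _ (by simp)⟩, hp'⟩, (p * n)⁻¹ * g, ⟨(D.hP _).2 ⟨D.PK' this,
    by rw [isom_mul_apply, ← p2, ← D.n3, ← isom_mul_apply p, isom_inv_apply_self]⟩, this⟩, by group⟩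

theorem dec2 {g : S.Isom} (hg : g ∈ K) : ∃ x ∈ K, S.h a (x.1 a) = 0 ∧ S.h a ((x⁻¹ * g).1 a) = 0 := by
  obtain ⟨r, mr, rr, h1, h2⟩ := D.rel2 hne D.ma (D.mem hg D.ma) D.aa
  obtain ⟨x, hx, -, rfl⟩ := D.move ∅ D.ma mr D.ma D.aa rr D.aa (by simp) (S.h_swap_zero h1)
  exact ⟨x, hx, h1, by rw [isom_mul_apply, ← isom_h_left]; exact S.h_swap_zero h2⟩

theorem gen {M : Subgroup S.Isom} (h : P ≤ M) (hn : n ∈ M) : K ≤ M := fun g hg => by
  have key : ∀ g ∈ K, S.h a (g.1 a) = 0 → g ∈ M := fun g hg e => by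
    obtain ⟨p, hp, p', hp', rfl⟩ := D.dec hne hg e
    exact M.mul_mem (M.mul_mem (h hp) hn) (h hp')
  obtain ⟨x, hx, h1, h2⟩ := D.dec2 hne hg
  simpa using M.mul_mem (key x hx h1) (key _ (K.mul_mem (K.inv_mem hx) hg) h2)

theorem gen₀ {M : Subgroup S.Isom} (h : ∀ g ∈ P', S.h a (g.1 a) = 0 → g ∈ M) {x y : S.Isom} (hx : x ∈ P') (hy : y ∈ P') {r : V}
    (mr : r ∈ S.perp A) (rr : S.h r r = 1) (h1 : S.h (x.1 a) r = 0) (h2 : S.h t r = 0) (h3 : S.h (y.1 a) r = 0) : x⁻¹ * y ∈ M := by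
  obtain ⟨w, hw, w1, rfl⟩ := D.move {t} D.ma mr (D.mem (D.PK' hx) D.ma) D.aa rr (by simp [D.aa])
    (by simp only [Set.mem_singleton_iff, forall_eq, D.ta, h2, true_and]; rw [← ((D.hP' x).1 hx).2, isom_h, D.ta]) (S.h_swap_zero h1)
  have hw' := (D.hP' w).2 ⟨hw, w1 _ rfl⟩
  simpa using M.mul_mem (h _ (P'.mul_mem (P'.inv_mem hx) hw') (by rwa [isom_mul_apply, ← isom_h_left]))
    (h _ (P'.mul_mem (P'.inv_mem hw') hy) (by rw [isom_mul_apply, ← isom_h_left]; exact S.h_swap_zero h3))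

theorem gen' (hb : 5 ≤ finrank F (S.perp A) ∨ ∃ ν : F, σ ν = ν ∧ ν ≠ 0 ∧ ν ≠ 1) {M : Subgroup S.Isom}
    (h : ∀ g ∈ P', S.h a (g.1 a) = 0 → g ∈ M) : P' ≤ M := fun g hg => by
  have ht : S.h (g.1 a) t = 0 := by rw [← ((D.hP' g).1 hg).2, isom_h]; exact S.h_swap_zero D.ta
  rcases D.nd.exists_mid hne D.h4 hb (v := ⟨a, D.ma⟩) (v' := ⟨_, D.mem (D.PK' hg) D.ma⟩) (t := ⟨t, D.mt⟩) D.aa (by simp [D.aa]) D.tt
    (S.h_swap_zero D.ta) ht with ⟨r, h1, h2, h3, h4⟩ | ⟨s, r, h1, h2, h3, h4, h5, h6, h7⟩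
  · simpa using D.gen₀ hne h P'.one_mem hg r.2 h1 h2 h3 h4
  · obtain ⟨w, hw, w1, w2⟩ := D.move {t} D.ma s.2 D.ma D.aa h1 D.aa (by simpa [D.ta] using h3) (S.h_swap_zero h2)
    have hw' := (D.hP' w).2 ⟨hw, w1 _ rfl⟩
    simpa using M.mul_mem (h w hw' (w2 ▸ h2)) (D.gen₀ hne h hw' hg r.2 h4 (w2 ▸ h5) h6 h7)

theorem gen'' (hb : 5 ≤ finrank F (S.perp A) ∨ ∃ ν : F, σ ν = ν ∧ ν ≠ 0 ∧ ν ≠ 1) {M : Subgroup S.Isom}
    (h : P ⊓ P' ≤ M) (hn : n ∈ M) : P' ≤ M := D.gen' hne hb fun g hg e => by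
  obtain ⟨p, hp, p', hp', rfl⟩ := D.dec' hne hg e
  exact M.mul_mem (M.mul_mem (h hp) hn) (h hp')

end Frm

variable (S) in
/-- data for the induction step -/
structure Stp (A : Submodule F V) (K P P' : Subgroup S.Isom) (a b c t : V) (n : S.Isom) (φ φ' : S.Isom → H) : Prop
    extends S.Frm A K P P' a b c t n where
  hφ : HomOn P φ
  hφ' : HomOn P' φ'
  agr : ∀ g ∈ P, g ∈ P' → φ g = φ' g
  hU : ∀ u ∈ S.SIsom, u ∈ S.fix (S.perp (Submodule.span F {a, b})) → ∀ k ∈ P, k.1 b = b → Commute (φ k) (φ' u)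

namespace Stp
variable {A : Submodule F V} {K P P' : Subgroup S.Isom} {a b c t : V} {n : S.Isom} {φ φ' : S.Isom → H}
  (D : S.Stp A K P P' a b c t n φ φ')
include D

theorem exΦ : ∃ Φ : S.Isom → H, ∀ p ∈ P, ∀ p' ∈ P, Φ (p * n * p') = φ p * φ' n * φ p' :=
  exists_dc D.hφ fun l hl h => by
    have := D.fix_b hl h
    rw [← (D.hU n D.n1 D.n2 l hl this).eq, ← (D.comm D.n2 ((D.hP l).1 hl).2 this).eq]; simp

/-- the partial homomorphism on the double coset -/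
noncomputable def Φ : S.Isom → H := D.exΦ.choose

theorem Φ_eq {p p' : S.Isom} (hp : p ∈ P) (hp' : p' ∈ P) : D.Φ (p * n * p') = φ p * φ' n * φ p' := D.exΦ.choose_spec p hp p' hp'

variable [Finite F] (hne : σ ≠ RingHom.id F)
include hne

theorem Φ_mul {g p p' : S.Isom} (hg : g ∈ K) (h : S.h a (g.1 a) = 0) (hp : p ∈ P) (hp' : p' ∈ P) :
    D.Φ (p * g * p') = φ p * D.Φ g * φ p' := by
  obtain ⟨r, hr, r', hr', rfl⟩ := D.dec hne hg h
  rw [show p * (r * n * r') * p' = p * r * n * (r' * p') by group, D.Φ_eq (P.mul_mem hp hr) (P.mul_mem hr' hp'), D.Φ_eq hr hr',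
    D.hφ _ hp _ hr, D.hφ _ hr' _ hp']; group

theorem Φ_P' {g : S.Isom} (hg : g ∈ P') (h : S.h a (g.1 a) = 0) : D.Φ g = φ' g := by
  obtain ⟨r, hr, r', hr', rfl⟩ := D.dec' hne hg h
  have := D.UP D.n1 D.n2
  rw [D.Φ_eq hr.1 hr'.1, D.hφ' _ (P'.mul_mem hr.2 this) _ hr'.2, D.hφ' _ hr.2 _ this, D.agr _ hr.1 hr.2, D.agr _ hr'.1 hr'.2]

theorem exgv : ∃ gv : V → S.Isom, ∀ g ∈ K, gv (g.1 a) ∈ K ∧ (gv (g.1 a)).1 a = g.1 a := by
  have : ∀ v, ∃ x, ∀ g ∈ K, g.1 a = v → x ∈ K ∧ x.1 a = v := fun v => by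
    by_cases h : ∃ g ∈ K, g.1 a = v
    · obtain ⟨g, h1, h2⟩ := h
      exact ⟨g, fun _ _ _ => ⟨h1, h2⟩⟩
    · exact ⟨1, fun g h1 h2 => (h ⟨g, h1, h2⟩).elim⟩
  choose gv h using this
  exact ⟨gv, fun g hg => h _ g hg rfl⟩

/-- coset representatives -/
noncomputable def gv : V → S.Isom := (D.exgv hne).choose

theorem gv_mem {g : S.Isom} (hg : g ∈ K) : (D.gv hne (g.1 a))⁻¹ * g ∈ P := by
  obtain ⟨h1, h2⟩ := (D.exgv hne).choose_spec g hg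
  exact (D.hP _).2 ⟨K.mul_mem (K.inv_mem h1) hg, by rw [isom_mul_apply]; exact (congrArg _ h2.symm).trans (isom_inv_apply_self _ _)⟩

/-- the cocycle -/
noncomputable def co (v v' : S.perp A) : H := D.Φ ((D.gv hne v)⁻¹ * D.gv hne v')

theorem co_eq {v v' : S.perp A} {x y : S.Isom} (hx : x ∈ K) (hy : y ∈ K) (h1 : x.1 a = v) (h2 : y.1 a = v') (h : S.h v.1 v'.1 = 0) :
    D.co hne v v' = φ ((D.gv hne v)⁻¹ * x) * D.Φ (x⁻¹ * y) * (φ ((D.gv hne v')⁻¹ * y))⁻¹ := by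
  have h3 := D.gv_mem hne hy
  rw [← D.hφ.inv (h2 ▸ h3), ← D.Φ_mul hne (K.mul_mem (K.inv_mem hx) hy) (by rw [isom_mul_apply, ← isom_h_left, h1, h2, h])
    (h1 ▸ D.gv_mem hne hx) (P.inv_mem (h2 ▸ h3)), co]
  congr 1; group

theorem rep {p r p' r' : S.perp A} (h : (S.restrict (S.perp A)).Sq p r p' r') {x y z w : S.Isom} (hx : x ∈ K) (hy : y ∈ K) (hz : z ∈ K)
    (hw : w ∈ K) (h1 : x.1 a = p) (h2 : y.1 a = r) (h3 : z.1 a = p') (h4 : w.1 a = r')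
    (e : D.Φ (x⁻¹ * y) * D.Φ (y⁻¹ * z) = D.Φ (x⁻¹ * w) * D.Φ (w⁻¹ * z)) : Qd (D.co hne) p r p' r' := by
  unfold Qd
  rw [D.co_eq hne hx hy h1 h2 h.pr, D.co_eq hne hy hz h2 h3 h.symm.pr', D.co_eq hne hx hw h1 h4 h.pr',
    D.co_eq hne hw hz h4 h3 h.symm.p'r']
  calc _ = φ ((D.gv hne p)⁻¹ * x) * (D.Φ (x⁻¹ * y) * D.Φ (y⁻¹ * z)) * (φ ((D.gv hne p')⁻¹ * z))⁻¹ := by group
    _ = _ := by rw [e]; group

theorem qg {p r p' r' : S.perp A} (h : (S.restrict (S.perp A)).Sq p r p' r') {x m u k : S.Isom} (hx : x ∈ K) (hm : m ∈ P')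
    (hu : u ∈ P') (hk : k ∈ P) (hk' : u⁻¹ * k * u ∈ P) (h1 : x.1 a = p) (h2 : x.1 (m.1 a) = r) (h3 : x.1 (u.1 a) = p')
    (h4 : x.1 (k.1 (m.1 a)) = r') (e : φ k * φ' u = φ' u * φ (u⁻¹ * k * u)) : Qd (D.co hne) p r p' r' := by
  have am : S.h a (m.1 a) = 0 := by rw [← isom_h x, h1, h2]; exact h.pr
  have mu : S.h a ((m⁻¹ * u).1 a) = 0 := by rw [isom_mul_apply, ← isom_h_left, ← isom_h x, h2, h3]; exact h.symm.pr'
  have hmu := P'.mul_mem (P'.inv_mem hm) hu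
  refine D.rep hne h hx (K.mul_mem hx (D.PK' hm)) (K.mul_mem hx (D.PK' hu)) (K.mul_mem hx (K.mul_mem (D.PK hk) (D.PK' hm))) h1 h2 h3 h4 ?_
  rw [inv_mul_cancel_left, show (x * m)⁻¹ * (x * u) = m⁻¹ * u by group, show x⁻¹ * (x * (k * m)) = k * m * 1 by group,
    show (x * (k * m))⁻¹ * (x * u) = 1 * (m⁻¹ * u) * (u⁻¹ * k * u)⁻¹ by group, D.Φ_mul hne (D.PK' hm) am hk P.one_mem,
    D.Φ_mul hne (D.PK' hmu) mu P.one_mem (P.inv_mem hk'), D.hφ.one, D.hφ.inv hk', D.Φ_P' hne hm am, D.Φ_P' hne hmu mu,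
    D.hφ' _ (P'.inv_mem hm) _ hu, D.hφ'.inv hm]
  calc _ = φ' u * φ (u⁻¹ * k * u) * (φ (u⁻¹ * k * u))⁻¹ := by group
    _ = _ := by rw [← e]; group

theorem coc : (S.restrict (S.perp A)).Coc (D.co hne) := by
  obtain ⟨m, hm, m1, m2⟩ := D.move {t} D.ma D.mc D.ma D.aa D.cc D.aa (by simp [D.ta, D.tc]) (S.h_swap_zero D.ac)
  replace hm := (D.hP' m).2 ⟨hm, m1 _ rfl⟩
  have hn := D.UP D.n1 D.n2
  have n0 : S.h a (n.1 a) = 0 := by rw [D.n3, D.ab]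
  refine ⟨fun x y z xx yy zz xy yz xz => ?_, fun x y xx yy xy => ?_, fun p r p' r' h e => ?_⟩
  · obtain ⟨k, hk, k1, k2, k3⟩ := D.frame hne x.2 y.2 z.2 xx yy zz xy xz yz
    have h1 := K.mul_mem hk (D.PK' hn)
    have h2 := K.mul_mem hk (D.PK' hm)
    have h3 := P'.mul_mem (P'.inv_mem hn) hm
    have e1 : (k * n).1 a = y := by rw [isom_mul_apply, D.n3, k2]
    have e2 : (k * m).1 a = z := by rw [isom_mul_apply, m2, k3]
    rw [D.co_eq hne hk h1 k1 e1 xy, D.co_eq hne h1 h2 e1 e2 yz, D.co_eq hne hk h2 k1 e2 xz, inv_mul_cancel_left, inv_mul_cancel_left,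
      show (k * n)⁻¹ * (k * m) = n⁻¹ * m by group, D.Φ_P' hne hn n0, D.Φ_P' hne hm (by rw [m2, D.ac]),
      D.Φ_P' hne h3 (by rw [isom_mul_apply, ← isom_h_left, m2, D.n3, D.bc]), D.hφ' _ (P'.inv_mem hn) _ hm, D.hφ'.inv hn]
    group
  · obtain ⟨z, mz, zz, xz, yz⟩ := D.rel2 hne x.2 y.2 xx
    obtain ⟨k, hk, k1, k2, -⟩ := D.frame hne x.2 y.2 mz xx yy zz xy xz yz
    have h1 := K.mul_mem hk (D.PK' hn)
    have e1 : (k * n).1 a = y := by rw [isom_mul_apply, D.n3, k2]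
    rw [D.co_eq hne hk h1 k1 e1 xy, D.co_eq hne h1 hk e1 k1 (S.h_swap_zero xy), inv_mul_cancel_left,
      show (k * n)⁻¹ * k = n⁻¹ by group, D.Φ_P' hne hn n0, D.Φ_P' hne (P'.inv_mem hn) (by
        rw [← isom_h_left, D.n3]; exact S.h_swap_zero D.ab), D.hφ'.inv hn]
    group
  · have pp : S.h p.1 p.1 = 1 := h.pp
    have pp' : S.h p'.1 p'.1 = 1 := h.pp'
    have pr : S.h p.1 r.1 = 0 := h.pr
    have pr' : S.h p.1 r'.1 = 0 := h.pr'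
    have p'r : S.h p'.1 r.1 = 0 := h.p'r
    have p'r' : S.h p'.1 r'.1 = 0 := h.p'r'
    simp only [restrict_h] at e
    obtain ⟨κ, hκ⟩ := unit_exists_smul_norm hne (v := p'.1 - S.h p.1 p'.1 • p.1) (S := S) (fun h => e (by
      simp [pp, pp', S.unit_symm p.1 p'.1] at h; linear_combination -h)) (map_one σ)
    have κ0 : κ ≠ 0 := by rintro rfl; simp at hκ
    obtain ⟨k, hk, k1, k2, k3⟩ := D.frame hne p.2 (Submodule.smul_mem _ κ (Submodule.sub_mem _ p'.2 (Submodule.smul_mem _ _ p.2))) r.2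
      pp hκ h.rr (by simp [pp]) pr (by simp [pr, p'r])
    have e1 : k.1 (S.h p.1 p'.1 • a + κ⁻¹ • b) = p' := by rw [map_add, map_smul, map_smul, k1, k2, inv_smul_smul₀ κ0]; simp
    obtain ⟨u, u1, u2, u3⟩ := D.hS.exists_U D.aa D.bb D.ab (x := S.h p.1 p'.1) (y := κ⁻¹) (by
      rw [← e1, isom_h] at pp'; simp [D.aa, D.bb, D.ab, S.h_swap_zero D.ab] at pp'; simp only [map_inv₀]; linear_combination pp')
    have mw := D.mem (K.inv_mem hk) r'.2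
    have ww : S.h ((k⁻¹).1 r') ((k⁻¹).1 r') = 1 := by rw [isom_h]; exact h.rr'
    have aw : S.h a ((k⁻¹).1 r') = 0 := by rw [← isom_h_left, k1, pr']
    have bw : S.h b ((k⁻¹).1 r') = 0 := by rw [← isom_h_left, k2]; simp [pr', p'r']
    obtain ⟨s, ms, ss, s1, s2, s3⟩ := D.rel3 hne D.ma D.mb mw D.aa D.bb ww D.ab aw bw
    obtain ⟨l, hl, l1, l2⟩ := D.move {a, b} D.mc mw ms D.cc ww ss (by
      simp only [Set.mem_insert_iff, Set.mem_singleton_iff, forall_eq_or_imp, forall_eq, D.ac, D.bc, aw, bw, s1, s2, and_self]) s3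
    have hl' := (D.hP l).2 ⟨hl, l1 _ (by simp)⟩
    have e2 : u⁻¹ * l * u = l := by rw [mul_assoc, (D.comm u2 (l1 _ (by simp)) (l1 _ (by simp))).eq]; simp
    exact D.qg hne h hk hm (D.UP u1 u2) hl' (e2.symm ▸ hl') k1 (by rw [m2, k3]) (by rw [u3, e1]) (by rw [m2, l2]; simp)
      (by rw [e2]; exact (D.hU u u1 u2 l hl' (l1 _ (by simp))).eq)

theorem ext {q : ℕ} (hF : Nat.card F = q ^ 2) (hq : ∀ x, σ x = x ^ q) (h0 : (S.restrict (S.perp A)).Q0 (D.co hne))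
    (h3 : (S.restrict (S.perp A)).Q3 (D.co hne)) :
    ∃ Ψ, HomOn K Ψ ∧ (∀ p ∈ P, Ψ p = φ p) ∧ ∀ g ∈ K, S.h a (g.1 a) = 0 → Ψ g = D.Φ g := by
  classical
  obtain ⟨τ, τ1, hτ⟩ := (D.coc hne).exists_pot hne D.nd D.h4 h0 h3 hF hq (p := ⟨a, D.ma⟩) D.aa
  let Ψ : S.Isom → H := fun g => (φ (D.gv hne a)⁻¹)⁻¹ * (if h : g.1 a ∈ S.perp A then τ ⟨_, h⟩ else 1) * φ ((D.gv hne (g.1 a))⁻¹ * g)
  have h1 : Ψ 1 = 1 := by simp [Ψ, D.ma, τ1]
  have h2 : ∀ g ∈ K, ∀ p ∈ P, Ψ (g * p) = Ψ g * φ p := fun g hg p hp => by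
    simp only [Ψ, isom_mul_apply, ((D.hP p).1 hp).2]
    rw [← mul_assoc _ g, D.hφ _ (D.gv_mem hne hg) _ hp, mul_assoc, mul_assoc, mul_assoc]
  have h4 : ∀ g ∈ K, ∀ s ∈ K, S.h a (s.1 a) = 0 → Ψ (g * s) = Ψ g * D.Φ s := fun g hg s hs e => by
    have hgs := K.mul_mem hg hs
    simp only [Ψ, dif_pos (D.mem hg D.ma), dif_pos (D.mem hgs D.ma)]
    have e' : S.h (g.1 a) ((g * s).1 a) = 0 := by rw [isom_mul_apply, isom_h, e]
    rw [← hτ ⟨_, D.mem hg D.ma⟩ ⟨_, D.mem hgs D.ma⟩ (by simp [D.aa]) (by simp [D.aa]) e',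
      D.co_eq hne (v := ⟨_, D.mem hg D.ma⟩) (v' := ⟨_, D.mem hgs D.ma⟩) hg hgs rfl rfl e', inv_mul_cancel_left]
    group
  refine ⟨Ψ, fun g hg g' hg' => ?_, fun p hp => by simpa [h1] using h2 1 K.one_mem p hp, fun g hg e => by
    simpa [h1] using h4 1 K.one_mem g hg e⟩
  obtain ⟨x, hx, x1, x2⟩ := D.dec2 hne hg'
  have hy := K.mul_mem (K.inv_mem hx) hg'
  have := h4 x hx _ hy x2
  rw [mul_inv_cancel_left] at this
  rw [this, ← one_mul x, h4 1 K.one_mem x hx x1, h1, one_mul, one_mul, ← mul_assoc, ← h4 g hg x hx x1, ← h4 _ (K.mul_mem hg hx) _ hy x2]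
  congr 1; group

theorem ext' {q : ℕ} (hF : Nat.card F = q ^ 2) (hq : ∀ x, σ x = x ^ q) (h0 : (S.restrict (S.perp A)).Q0 (D.co hne))
    (h3 : (S.restrict (S.perp A)).Q3 (D.co hne)) (hb : 5 ≤ finrank F (S.perp A) ∨ ∃ ν : F, σ ν = ν ∧ ν ≠ 0 ∧ ν ≠ 1) :
    ∃ Ψ, HomOn K Ψ ∧ (∀ p ∈ P, Ψ p = φ p) ∧ ∀ g ∈ P', Ψ g = φ' g := by
  obtain ⟨Ψ, h1, h2, h4⟩ := D.ext hne hF hq h0 h3
  exact ⟨Ψ, h1, h2, fun g hg => (D.gen' hne hb (M := h1.eqv D.hφ') (fun g hg e =>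
    ⟨D.PK' hg, hg, (h4 g (D.PK' hg) e).trans (D.Φ_P' hne hg e)⟩) hg).2.2⟩

theorem qd_map {p r p' r' q s q' s' : S.perp A} (h : (S.restrict (S.perp A)).Sq p r p' r') {k : S.Isom} (hk : k ∈ K)
    (h1 : k.1 p = q) (h2 : k.1 r = s) (h3 : k.1 p' = q') (h4 : k.1 r' = s') (e : Qd (D.co hne) p r p' r') : Qd (D.co hne) q s q' s' := by
  have key : ∀ v : S.perp A, S.h v.1 v.1 = 1 → ∃ x ∈ K, x.1 a = v := fun v vv => by
    obtain ⟨r, mr, rr, h1, -⟩ := D.rel2 hne v.2 v.2 vv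
    obtain ⟨x, hx, -, e⟩ := D.move ∅ D.ma v.2 mr D.aa vv rr (by simp) h1
    exact ⟨x, hx, e⟩
  obtain ⟨x, hx, x1⟩ := key p h.pp
  obtain ⟨y, hy, y1⟩ := key r h.rr
  obtain ⟨z, hz, z1⟩ := key p' h.pp'
  obtain ⟨w, hw, w1⟩ := key r' h.rr'
  have o : ∀ {u v u' v' : S.perp A}, k.1 u = u' → k.1 v = v' → S.h u'.1 v'.1 = S.h u.1 v.1 := fun e e' => by rw [← e, ← e', isom_h]
  refine D.rep hne ⟨(o h1 h1).trans h.pp, (o h2 h2).trans h.rr, (o h3 h3).trans h.pp', (o h4 h4).trans h.rr', (o h1 h2).trans h.pr,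
    (o h1 h4).trans h.pr', (o h3 h2).trans h.p'r, (o h3 h4).trans h.p'r'⟩ (K.mul_mem hk hx) (K.mul_mem hk hy) (K.mul_mem hk hz)
    (K.mul_mem hk hw) (by simp [x1, h1]) (by simp [y1, h2]) (by simp [z1, h3]) (by simp [w1, h4]) ?_
  unfold Qd at e
  rw [D.co_eq hne hx hy x1 y1 h.pr, D.co_eq hne hy hz y1 z1 h.symm.pr', D.co_eq hne hx hw x1 w1 h.pr',
    D.co_eq hne hw hz w1 z1 h.symm.p'r'] at e
  simp only [mul_inv_rev, mul_assoc, inv_mul_cancel_left, mul_right_inj] at e ⊢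
  simpa only [← mul_assoc, mul_left_inj] using e

theorem q0' (h1 : 5 ≤ finrank F (S.perp A) ∨ ∀ u ∈ S.SIsom, u ∈ S.fix (S.perp (Submodule.span F {a, b})) → ∀ ε : F, u.1 a = ε • a →
      ∀ k ∈ P, φ k * φ' u = φ' u * φ (u⁻¹ * k * u))
    (h2 : ∀ u ∈ S.SIsom, u ∈ S.fix (S.perp (Submodule.span F {a, b, c})) → ∀ k ∈ P, k.1 b = b → k.1 c = c → Commute (φ k) (φ' u)) :
    (S.restrict (S.perp A)).Q0 (D.co hne) := by
  intro p r p' z f β h zz ff zf rz rf pf p'f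
  have C := D.coc hne
  by_cases e : σ (S.h p.1 p'.1) * S.h p.1 p'.1 = 1
  swap
  · exact C.q1 _ _ _ _ h e
  have pp : S.h p.1 p.1 = 1 := h.pp
  have pp' : S.h p'.1 p'.1 = 1 := h.pp'
  have rr : S.h r.1 r.1 = 1 := h.rr
  have pr : S.h p.1 r.1 = 0 := h.pr
  have p'r : S.h p'.1 r.1 = 0 := h.p'r
  have pz : S.h p.1 z.1 = 0 := by simpa [pr] using h.pr'
  have p'z : S.h p'.1 z.1 = 0 := by simpa [p'r] using h.p'r'
  simp only [restrict_h] at zz ff zf rz rf pf p'f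
  have hβ : σ β * β = 1 := by simpa [rr, zz, rz, S.h_swap_zero rz, mul_comm] using h.rr'
  by_cases e0 : p'.1 = S.h p.1 p'.1 • p.1
  · rcases h1 with h1 | h1
    · obtain ⟨s, ss, s1, s2, s3⟩ := D.nd.unit_perp3 hne D.h4 h.pp h.rr h.pr (s := z) (.inl h1)
      exact C.of_t h ss s1 (by rw [restrict_h, e0]; simp [show S.h p.1 s.1 = 0 from s1]) s2 (by simp only [map_add, LinearMap.add_apply, h_smul_left, s2, s3]; simp)
    obtain ⟨m, hm, m1, m2⟩ := D.move {t} D.ma D.mc D.ma D.aa D.cc D.aa (by simp [D.ta, D.tc]) (S.h_swap_zero D.ac)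
    obtain ⟨y, my, yy, py, ry⟩ := D.rel2 hne p.2 r.2 pp
    obtain ⟨k, hk, k1, -, k3⟩ := D.frame hne p.2 my r.2 pp yy rr py pr (S.h_swap_zero ry)
    obtain ⟨u, u1, u2, u3⟩ := D.hS.exists_U D.aa D.bb D.ab (x := S.h p.1 p'.1) (y := 0) (by simpa)
    rw [zero_smul, add_zero] at u3
    have mw := D.mem (K.inv_mem hk) (β • r + z).2
    have ww : S.h ((k⁻¹).1 (β • r + z).1) ((k⁻¹).1 (β • r + z).1) = 1 := by rw [isom_h]; exact h.rr'
    have aw : S.h a ((k⁻¹).1 (β • r + z).1) = 0 := by rw [← isom_h_left, k1]; exact h.pr'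
    obtain ⟨s, ms, ss, s1, s2⟩ := D.rel2 hne D.ma mw D.aa
    obtain ⟨l, hl, l1, l2⟩ := D.move {a} D.mc mw ms D.cc ww ss (by simp only [Set.mem_singleton_iff, forall_eq, D.ac, aw, s1, and_self]) s2
    have hl' := (D.hP l).2 ⟨hl, l1 _ rfl⟩
    have hu := D.PK' (D.UP u1 u2)
    exact D.qg hne h hk ((D.hP' m).2 ⟨hm, m1 _ rfl⟩) (D.UP u1 u2) hl' ((D.hP _).2 ⟨K.mul_mem (K.mul_mem (K.inv_mem hu) hl) hu, by
      rw [isom_mul_apply, isom_mul_apply, u3, map_smul, l1 _ rfl, ← u3, isom_inv_apply_self]⟩) k1 (by rw [m2, k3])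
      (by rw [u3, map_smul, k1, ← e0]) (by rw [m2, l2]; simp) (h1 u u1 u2 _ u3 l hl')
  obtain ⟨θ, hθ⟩ := exists_trace_one hσ hne
  obtain ⟨κ, hκ⟩ := exists_norm_eq hσ hne (μ := -1) (by simp)
  have κ0 : κ ≠ 0 := by rintro rfl; simp at hκ
  have fz : S.h f.1 z.1 = 1 := by rw [S.unit_symm, zf, map_one]
  obtain ⟨y, ey⟩ : ∃ y : S.perp A, y = p' - S.h p.1 p'.1 • p := ⟨_, rfl⟩
  have yy : S.h y.1 y.1 = 0 := by simp [ey, pp, pp', S.unit_symm p.1 p'.1]; linear_combination -e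
  have py : S.h p.1 y.1 = 0 := by simp [ey, pp]
  have ry : S.h r.1 y.1 = 0 := by simp [ey, S.h_swap_zero pr, S.h_swap_zero p'r]
  have zy : S.h z.1 y.1 = 0 := by simp [ey, S.h_swap_zero pz, S.h_swap_zero p'z]
  have fy : S.h f.1 y.1 = 0 := by simp [ey, S.h_swap_zero pf, S.h_swap_zero p'f]
  obtain ⟨g, g1, g2, yg⟩ := D.nd.exists_partner (Submodule.span F {p, r, z, f}) (d := y) ((unit_sing _ y).2 yy) (fun h' => by
    obtain ⟨x1, _, h', e'⟩ := Submodule.mem_span_insert.1 h'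
    obtain ⟨x2, x3, x4, rfl⟩ := Submodule.mem_span_triple.1 h'
    rw [e'] at py ry zy fy
    simp [pp, pr, pz, pf, rr, rz, rf, zz, zf, fz, ff, S.h_swap_zero pr, S.h_swap_zero pz, S.h_swap_zero pf, S.h_swap_zero rz,
      S.h_swap_zero rf] at py ry zy fy
    exact e0 (sub_eq_zero.1 (by simpa [py, ry, zy, fy, ey] using congrArg Subtype.val e'))) ((mem_perp_span _).2 (by simp [py, ry, zy, fy]))
  have gg : S.h g.1 g.1 = 0 := (unit_sing _ g).1 g2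
  replace g1 := (mem_perp_span _).1 g1
  simp only [Set.mem_insert_iff, Set.mem_singleton_iff, forall_eq_or_imp, forall_eq, restrict_h] at g1 yg
  obtain ⟨pg, rg, zg, fg⟩ := g1
  have gy : S.h g.1 y.1 = 1 := by rw [S.unit_symm, yg, map_one]
  obtain ⟨k, hk, k1, k2, k3⟩ := D.frame hne p.2 (θ • y + g).2 (κ • ((-σ θ) • y + g)).2 pp
    (by simp [yy, gg, yg, gy]; linear_combination hθ) (by simp [yy, gg, yg, gy, hσ]; linear_combination -(κ * σ κ) * hθ - hκ)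
    (by simp [py, pg]) (by simp [py, pg]) (by simp [yy, gg, yg, gy, mul_comm])
  obtain ⟨l, hl, l1, l2⟩ := D.move {k.1 a, k.1 b, k.1 c} (D.mem hk D.mt) (θ • z + f).2 r.2 (by simp [D.tt])
    (by simp [zz, ff, zf, fz]; linear_combination hθ) rr (by
      simp only [Set.mem_insert_iff, Set.mem_singleton_iff, forall_eq_or_imp, forall_eq, isom_h, S.h_swap_zero D.ta, S.h_swap_zero D.tb,
        S.h_swap_zero D.tc, true_and]
      rw [k1, k2, k3]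
      simp [pz, pf, pr, S.h_swap_zero ry, S.h_swap_zero zy, S.h_swap_zero fy, S.h_swap_zero rg, S.h_swap_zero zg, S.h_swap_zero fg])
    (by simp [S.h_swap_zero rz, S.h_swap_zero rf])
  obtain ⟨x, hx, x1, x2, x3, x4⟩ : ∃ x ∈ K, x.1 a = p ∧ x.1 b = (θ • y + g).1 ∧ x.1 c = (κ • ((-σ θ) • y + g)).1 ∧ x.1 t = (θ • z + f).1 :=
    ⟨l * k, K.mul_mem hl hk, by rw [isom_mul_apply, l1 _ (by simp), k1], by rw [isom_mul_apply, l1 _ (by simp), k2],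
      by rw [isom_mul_apply, l1 _ (by simp), k3], l2⟩
  have o : ∀ v w, S.h v ((x⁻¹).1 w) = S.h (x.1 v) w := fun v w => (isom_h_left x v w).symm
  have mi : ∀ w : S.perp A, (x⁻¹).1 w ∈ S.perp A := fun w => D.mem (K.inv_mem hx) w.2
  obtain ⟨m, hm, m1, m2⟩ := D.move {t} D.ma (mi r) D.ma D.aa (by rw [isom_h, rr]) D.aa (by
    simp only [Set.mem_singleton_iff, forall_eq, D.ta, o, x4]; simp [S.h_swap_zero rz, S.h_swap_zero rf])
    (S.h_swap_zero (by rw [o, x1, pr]))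
  obtain ⟨j, hj, j1, j2⟩ := D.move {a, b, c} (mi r) (mi (β • r + z)) (mi ((-β) • r + f)) (by rw [isom_h, rr])
    (by rw [isom_h]; exact h.rr') (by rw [isom_h]; simp [rr, rf, ff, S.h_swap_zero rf]; linear_combination hβ) (by
      simp only [Set.mem_insert_iff, Set.mem_singleton_iff, forall_eq_or_imp, forall_eq, o, x1, x2, x3]
      simp [pz, pf, pr, S.h_swap_zero ry, S.h_swap_zero zy, S.h_swap_zero fy, S.h_swap_zero rg, S.h_swap_zero zg, S.h_swap_zero fg])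
    (by rw [isom_h]; simp [rr, rf, zf, S.h_swap_zero rz]; linear_combination -hβ)
  have key : ∀ x1 x2 x3 : F, x1 • a + x2 • b + x3 • c ∈ S.perp (S.perp (Submodule.span F {a, b, c})) := fun x1 x2 x3 =>
    S.le_perp_perp _ (Submodule.mem_span_triple.2 ⟨x1, x2, x3, rfl⟩)
  have e1 : x.1 (S.h p.1 p'.1 • a + (1 : F) • b + (-κ⁻¹) • c) = p' := by
    rw [map_add, map_add, map_smul, map_smul, map_smul, x1, x2, x3]
    refine Eq.trans ?_ (show y.1 + S.h p.1 p'.1 • p.1 = p'.1 by simp [ey])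
    simp only [Submodule.coe_add, Submodule.coe_smul, smul_smul, neg_mul, inv_mul_cancel₀ κ0]
    match_scalars <;> first | ring1 | linear_combination hθ
  have e2 : x.1 ((-S.h p.1 p'.1) • a + σ θ • b + (θ * κ⁻¹) • c) = (-S.h p.1 p'.1) • p.1 + g.1 := by
    rw [map_add, map_add, map_smul, map_smul, map_smul, x1, x2, x3]
    simp only [Submodule.coe_add, Submodule.coe_smul, smul_smul, inv_mul_cancel_right₀ κ0]
    match_scalars <;> first | ring1 | linear_combination hθ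
  have e3 : S.h (S.h p.1 p'.1 • a + (1 : F) • b + (-κ⁻¹) • c) (S.h p.1 p'.1 • a + (1 : F) • b + (-κ⁻¹) • c) = 1 := by
    rw [← isom_h x, e1, pp']
  obtain ⟨u, u1, u2, u3⟩ := D.hS.su_fix (S.perp (Submodule.span F {a, b, c})) (u := a)
    (fun h => by simpa [D.aa] using S.mem_perp_span.1 h a (by simp)) (fun h => one_ne_zero (e3.symm.trans (key _ _ _ _ h)))
    (e3.trans D.aa.symm) (fun w hw => by rw [key _ _ _ w hw, S.h_swap_zero (S.mem_perp_span.1 hw a (by simp))])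
    (by rw [← isom_h x, e2]; simp [pp, pg, gg, S.h_swap_zero pg]; linear_combination e) (key _ _ _) (by
      rw [← isom_h x, e1, e2, show p'.1 = y.1 + S.h p.1 p'.1 • p.1 by simp [ey]]
      simp [pp, pg, yg, py, S.h_swap_zero py]; linear_combination -e)
  have hu : u ∈ P' := (D.hP' u).2 ⟨(D.hK u).2 ⟨u1, fun x hx => u2 x (S.mem_perp_span.2 (by
    simp [S.h_swap_zero (D.ma x hx), S.h_swap_zero (D.mb x hx), S.h_swap_zero (D.mc x hx)]))⟩,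
    u2 t (S.mem_perp_span.2 (by simp [S.h_swap_zero D.ta, S.h_swap_zero D.tb, S.h_swap_zero D.tc]))⟩
  have hj' := (D.hP j).2 ⟨hj, j1 _ (by simp)⟩
  have e4 : u⁻¹ * j * u = j := by
    rw [mul_assoc, (commute_fix_perp D.hS ((S.restrict_nondeg_iff' _).2 fun x hx h => by
      obtain ⟨y, z, w, rfl⟩ := Submodule.mem_span_triple.1 hx
      have h1 := h a (Submodule.subset_span (by simp))
      have h2 := h b (Submodule.subset_span (by simp))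
      have h3 := h c (Submodule.subset_span (by simp))
      simp [D.aa, D.bb, D.cc, D.ab, D.ac, D.bc, S.h_swap_zero D.ab, S.h_swap_zero D.ac, S.h_swap_zero D.bc] at h1 h2 h3
      simp [h1, h2, h3]) (mem_fix_span.2 j1) u2).eq]; simp
  exact D.qg hne h hx ((D.hP' m).2 ⟨hm, m1 _ rfl⟩) hu hj' (e4.symm ▸ hj') x1 (by rw [m2]; simp) (by rw [u3, e1]) (by rw [m2, j2]; simp)
    (by rw [e4]; exact (h2 u u1 u2 j hj' (j1 _ (by simp)) (j1 _ (by simp))).eq)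

end Stp

namespace Frm
variable {A : Submodule F V} {K P P' : Subgroup S.Isom} {a b c t : V} {n : S.Isom} (D : S.Frm A K P P' a b c t n)
  [Finite F] (hne : σ ≠ RingHom.id F)
include D hne

omit [Finite F] hne in
theorem orb {L : Set V} {s : V} (ms : s ∈ S.perp A) (ss : S.h s s = 1) (hs : ∀ x ∈ L, S.h x s = 0) (z : V) : ∃ Z : normOne σ → V,
    (∀ ε, (z ∈ S.perp A → Z ε ∈ S.perp A) ∧ S.h (Z ε) (Z ε) = S.h z z ∧ ∀ x ∈ L, S.h x (Z ε) = S.h x z) ∧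
    ∀ z' ∈ S.perp A, z ∈ S.perp A → z ∉ A ⊔ Submodule.span F L → z' ∉ A ⊔ Submodule.span F L → S.h z' z' = S.h z z →
      (∀ x ∈ L, S.h x z' = S.h x z) → ∃ ε, ∃ k ∈ K, (∀ x ∈ L, k.1 x = x) ∧ k.1 (Z ε) = z' := by
  choose d d1 d2 _ using fun ε => exists_det_eq_of_ne (S := S) (v := s) (by simp [ss]) ε
  have hA : ∀ ε, ∀ x ∈ A, (d ε).1 x = x := fun ε x hx => d1 ε x (S.mem_perp_singleton.2 (S.h_swap_zero (ms x hx)))
  have hL : ∀ ε, ∀ x ∈ L, (d ε).1 x = x := fun ε x hx => d1 ε x (S.mem_perp_singleton.2 (S.h_swap_zero (hs x hx)))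
  refine ⟨fun ε => (d ε).1 z, fun ε => ⟨fun h x hx => by rw [← hA ε x hx, isom_h, h x hx], isom_h _ _ _, fun x hx => by
    rw [← isom_h (d ε) x z, hL ε x hx]⟩, fun z' m' m h h' e e' => ?_⟩
  obtain ⟨g, h1, h2⟩ := D.hS.witt_fix _ h h' ((unit_q_congr_iff S S z z').2 e) fun x hx => by
    obtain ⟨y, hy, w, hw, rfl⟩ := Submodule.mem_sup.1 hx
    have := S.mem_perp_span.2 (show ∀ x ∈ L, S.h x (z' - z) = 0 from fun x hx => by simp [e' x hx]) w hw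
    simpa [m y hy, m' y hy, sub_eq_zero] using this
  refine ⟨⟨_, D.hS.det_mem_normOne g⟩, g * (d ⟨_, D.hS.det_mem_normOne g⟩)⁻¹, (D.hK _).2 ⟨by rw [SIsom, MonoidHom.mem_ker, map_mul, map_inv, d2]; simp,
    fun x hx => ?_⟩, fun x hx => ?_, by rw [isom_mul_apply, isom_inv_apply_self, h2]⟩
  · rw [isom_mul_apply, ← hA _ x hx, isom_inv_apply_self, hA _ x hx, h1 x (Submodule.mem_sup_left hx)]
  · rw [isom_mul_apply, ← hL _ x hx, isom_inv_apply_self, hL _ x hx, h1 x (Submodule.mem_sup_right (Submodule.subset_span hx))]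

omit [Finite F] hne in
theorem notMem {x y z : V} (mx : x ∈ S.perp A) (my : y ∈ S.perp A) (mz : z ∈ S.perp A) (xx : S.h x x = 1) (yy : S.h y y = 1)
    (xy : S.h x y = 0) (xz : S.h x z = 0) (yz : S.h y z = 0) (h : z ≠ 0) : z ∉ A ⊔ Submodule.span F {x, y} := fun h' => by
  obtain ⟨v, hv, _, hw, rfl⟩ := Submodule.mem_sup.1 h'
  obtain ⟨i, j, rfl⟩ := Submodule.mem_span_pair.1 hw
  simp [xx, yy, xy, S.h_swap_zero xy, S.h_swap_zero (mx v hv), S.h_swap_zero (my v hv)] at xz yz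
  rw [xz, yz, zero_smul, zero_smul, add_zero, add_zero] at mz h
  exact notMem_of_perp D.hA mz h hv

theorem exists_R3 : ∃ R : normOne σ → S.Isom × S.Isom × S.Isom × S.Isom, (∀ ε, (R ε).1 ∈ P ∧ (R ε).2.1 ∈ P ∧ (R ε).2.2.1 ∈ P ∧
    (R ε).2.2.2 ∈ P ∧ n * (R ε).1 * n = (R ε).2.1 * n * (R ε).2.2.1 * n * (R ε).2.2.2) ∧
    ∀ {H : Type} [Group H] {φ φ' : S.Isom → H} (D' : S.Stp A K P P' a b c t n φ φ'), (∀ ε, φ' n * φ (R ε).1 * φ' n =
      φ (R ε).2.1 * φ' n * φ (R ε).2.2.1 * φ' n * φ (R ε).2.2.2) → (S.restrict (S.perp A)).Q3 (D'.co hne) := by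
  obtain ⟨κ, hκ⟩ := exists_norm_eq hσ hne (μ := -1) (by simp)
  have hn := D.PK' (D.UP D.n1 D.n2)
  have ba := S.h_swap_zero D.ab
  have m0 : c + κ • t ∈ S.perp A := Submodule.add_mem _ D.mc (Submodule.smul_mem _ _ D.mt)
  have a0 : S.h a (c + κ • t) = 0 := by simp [D.ac, S.h_swap_zero D.ta]
  have b0 : S.h b (c + κ • t) = 0 := by simp [D.bc, S.h_swap_zero D.tb]
  have z0 : S.h (c + κ • t) (c + κ • t) = 0 := by simp [D.cc, D.tt, D.tc, S.h_swap_zero D.tc]; linear_combination hκ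
  obtain ⟨Z, hZ, hZ'⟩ := D.orb (L := {a, b}) D.mc D.cc (by simp [D.ac, D.bc]) (c + κ • t)
  simp only [Set.mem_insert_iff, Set.mem_singleton_iff, forall_eq_or_imp, forall_eq, a0, b0, z0, m0, true_imp_iff] at hZ hZ'
  have : ∀ ε, ∃ x : S.Isom × S.Isom × S.Isom × S.Isom, (x.1 ∈ P ∧ x.2.1 ∈ P ∧ x.2.2.1 ∈ P ∧ x.2.2.2 ∈ P ∧
      n * x.1 * n = x.2.1 * n * x.2.2.1 * n * x.2.2.2) ∧ (n * x.1 * n).1 a = a + Z ε ∧ (x.2.1 * n).1 a = b + Z ε := fun ε => by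
    obtain ⟨mz, zz, az, bz⟩ := hZ ε
    have key : ∀ v ∈ S.perp A, S.h v v = 1 → ∃ x ∈ K, x.1 a = v := fun v mv vv => by
      obtain ⟨r, mr, rr, h1, -⟩ := D.rel2 hne mv mv vv
      obtain ⟨x, hx, -, e⟩ := D.move ∅ D.ma mv mr D.aa vv rr (by simp) h1
      exact ⟨x, hx, e⟩
    obtain ⟨x, hx, x1⟩ := key _ (Submodule.add_mem _ D.ma mz) (by simp [D.aa, zz, az, S.h_swap_zero az])
    obtain ⟨w, hw, w1⟩ := key _ (Submodule.add_mem _ D.mb mz) (by simp [D.bb, zz, bz, S.h_swap_zero bz])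
    obtain ⟨p1, h1, p2, h2, e1⟩ := D.dec hne (K.mul_mem (K.inv_mem hn) hx) (by
      rw [isom_mul_apply, ← isom_h_left, D.n3, x1]; simp [ba, bz])
    obtain ⟨p3, h3, p4, h4, rfl⟩ := D.dec hne hw (by rw [w1]; simp [D.ab, az])
    have e2 : (n * p1 * n).1 a = a + Z ε := by
      rw [← x1, show x = n * p1 * n * p2 by rw [mul_assoc n, mul_assoc n, ← e1]; simp, isom_mul_apply _ p2, ((D.hP _).1 h2).2]
    have e3 : (p3 * n).1 a = b + Z ε := by rw [← w1, isom_mul_apply _ p4, ((D.hP _).1 h4).2]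
    obtain ⟨p5, h5, p6, h6, e4⟩ := D.dec hne (K.mul_mem (K.inv_mem (K.mul_mem (D.PK h3) hn)) (K.mul_mem (K.mul_mem hn (D.PK h1)) hn)) (by
      rw [isom_mul_apply, ← isom_h_left, e2, e3]; simp [ba, bz, zz, S.h_swap_zero az])
    exact ⟨(p1, p3, p5, p6), ⟨h1, h3, h5, h6, by rw [mul_assoc (p3 * n), mul_assoc (p3 * n), ← e4]; group⟩, e2, e3⟩
  choose R hR using this
  refine ⟨R, fun ε => (hR ε).1, fun {H} _ φ φ' D' h p r z hs zz pz rz z1 => ?_⟩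
  obtain ⟨y, my, yy, py, ry⟩ := D.rel2 hne p.2 r.2 hs.pp
  obtain ⟨k, hk, k1, k2, -⟩ := D.frame hne p.2 r.2 my hs.pp hs.rr yy hs.pr py ry
  have mz := D.mem (K.inv_mem hk) z.2
  have az : S.h a ((k⁻¹).1 z) = 0 := by rw [← isom_h_left, k1]; exact pz
  have bz : S.h b ((k⁻¹).1 z) = 0 := by rw [← isom_h_left, k2]; exact rz
  obtain ⟨ε, l, hl, ⟨l1, l2⟩, l3⟩ := hZ' _ mz (D.notMem D.ma D.mb m0 D.aa D.bb D.ab a0 b0 fun e => by
      simpa [D.cc, S.h_swap_zero D.tc] using congrArg (S.h c) e)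
    (D.notMem D.ma D.mb mz D.aa D.bb D.ab az bz fun e => z1 (Subtype.ext (by simpa using congrArg k.1 e))) (by rw [isom_h]; exact zz) ⟨az, bz⟩
  obtain ⟨⟨h1, h3, h5, h6, e1⟩, e2, e3⟩ := hR ε
  obtain ⟨mz', zz', az', bz'⟩ := hZ ε
  have s0 : (S.restrict (S.perp A)).Sq ⟨a, D.ma⟩ ⟨b, D.mb⟩ ⟨_, Submodule.add_mem _ D.ma mz'⟩ ⟨_, Submodule.add_mem _ D.mb mz'⟩ :=
    ⟨D.aa, D.bb, by simp [D.aa, zz', az', S.h_swap_zero az'], by simp [D.bb, zz', bz', S.h_swap_zero bz'], D.ab, by simp [D.ab, az'],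
      by simp [D.ab, S.h_swap_zero bz'], by simp [D.ab, az', zz', S.h_swap_zero bz']⟩
  refine D'.qd_map hne s0 (K.mul_mem hk hl) (by simp [l1, k1]) (by simp [l2, k2]) (by simp [l1, k1, l3]) (by simp [l2, k2, l3])
    (D'.rep hne s0 K.one_mem hn (K.mul_mem (K.mul_mem hn (D.PK h1)) hn) (K.mul_mem (D.PK h3) hn) rfl D.n3 e2 e3 ?_)
  have e4 := D'.Φ_eq P.one_mem P.one_mem
  have e5 := D'.Φ_eq h1 P.one_mem
  have e6 := D'.Φ_eq h3 P.one_mem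
  simp only [D'.hφ.one, one_mul, mul_one] at e4 e5 e6
  rw [inv_one, one_mul, one_mul, show n⁻¹ * (n * (R ε).1 * n) = (R ε).1 * n by group, show ((R ε).2.1 * n)⁻¹ * (n * (R ε).1 * n) =
    (R ε).2.2.1 * n * (R ε).2.2.2 by rw [e1]; group, e4, e5, e6, D'.Φ_eq h5 h6, ← mul_assoc, h ε]
  group

theorem exists_R4 : ∃ R : normOne σ → S.Isom × S.Isom × S.Isom × S.Isom, (∀ ε, (R ε).1 ∈ P' ∧ (R ε).2.1 ∈ P ∧ (R ε).2.2.1 ∈ P ∧
    (R ε).2.2.2 ∈ P ∧ (R ε).1 = (R ε).2.1 * n * (R ε).2.2.1 * n * (R ε).2.2.2) ∧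
    ∀ M : Subgroup S.Isom, P ⊓ P' ≤ M → n ∈ M → (∀ ε, (R ε).1 ∈ M) → P' ≤ M := by
  obtain ⟨κ, hκ⟩ := exists_norm_eq hσ hne (μ := -1) (by simp)
  have at' := S.h_swap_zero D.ta
  have m0 : b + κ • c ∈ S.perp A := Submodule.add_mem _ D.mb (Submodule.smul_mem _ _ D.mc)
  have a0 : S.h a (b + κ • c) = 0 := by simp [D.ac, D.ab]
  have b0 : S.h t (b + κ • c) = 0 := by simp [D.tb, D.tc]
  have z0 : S.h (b + κ • c) (b + κ • c) = 0 := by simp [D.cc, D.bb, D.bc, S.h_swap_zero D.bc]; linear_combination hκ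
  obtain ⟨Z, hZ, hZ'⟩ := D.orb (L := {a, t}) D.mc D.cc (by simp [D.ac, D.tc]) (b + κ • c)
  simp only [Set.mem_insert_iff, Set.mem_singleton_iff, forall_eq_or_imp, forall_eq, a0, b0, z0, m0, true_imp_iff] at hZ hZ'
  have : ∀ ε, ∃ x : S.Isom × S.Isom × S.Isom × S.Isom, (x.1 ∈ P' ∧ x.2.1 ∈ P ∧ x.2.2.1 ∈ P ∧ x.2.2.2 ∈ P ∧
      x.1 = x.2.1 * n * x.2.2.1 * n * x.2.2.2) ∧ ((∃ g ∈ P', g.1 a = a + Z ε) → x.1.1 a = a + Z ε) := fun ε => by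
    obtain ⟨v, hv, h⟩ : ∃ v ∈ P', (∃ g ∈ P', g.1 a = a + Z ε) → v.1 a = a + Z ε := by
      by_cases h : ∃ g ∈ P', g.1 a = a + Z ε
      · obtain ⟨g, h1, h2⟩ := h
        exact ⟨g, h1, fun _ => h2⟩
      · exact ⟨1, P'.one_mem, fun h' => (h h').elim⟩
    obtain ⟨x, hx, x1, x2⟩ := D.dec2 hne (D.PK' hv)
    obtain ⟨p1, h1, p2, h2, rfl⟩ := D.dec hne hx x1
    obtain ⟨p3, h3, p4, h4, e⟩ := D.dec hne (K.mul_mem (K.inv_mem hx) (D.PK' hv)) x2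
    exact ⟨(v, p1, p2 * p3, p4), ⟨hv, h1, P.mul_mem h2 h3, h4, by rw [inv_mul_eq_iff_eq_mul.1 e]; group⟩, h⟩
  choose R hR using this
  refine ⟨R, fun ε => (hR ε).1, fun M h1 h2 h3 g hg => ?_⟩
  have hM : ∀ g ∈ P', S.h a (g.1 a) = 0 → g ∈ M := fun g hg e => by
    obtain ⟨p, hp, p', hp', rfl⟩ := D.dec' hne hg e
    exact M.mul_mem (M.mul_mem (h1 hp) h2) (h1 hp')
  have ht : S.h t (g.1 a) = 0 := by rw [← ((D.hP' g).1 hg).2, isom_h, D.ta]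
  have gg : S.h (g.1 a) (g.1 a) = 1 := by simp [D.aa]
  have mg := D.mem (D.PK' hg) D.ma
  by_cases e : S.h (g.1 a) (g.1 a) ≠ σ (S.h a (g.1 a)) * S.h a (g.1 a) + σ (S.h t (g.1 a)) * S.h t (g.1 a) ∨
      g.1 a = S.h a (g.1 a) • a + S.h t (g.1 a) • t
  · obtain ⟨r, r1, r2, r3, r4⟩ := D.nd.unit_perp3 hne D.h4 (x := ⟨a, D.ma⟩) (y := ⟨t, D.mt⟩) D.aa D.tt at' (s := ⟨_, mg⟩)
      (.inr (e.imp id fun e => Subtype.ext e))
    simpa using D.gen₀ hne hM P'.one_mem hg r.2 r1 r2 r3 r4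
  simp only [gg, ht, map_zero, mul_zero, add_zero, zero_smul, not_or, not_not] at e
  generalize hα : S.h a (g.1 a) = α at e
  obtain ⟨u, u1, u2, u3⟩ := D.hS.exists_U D.aa D.bb D.ab (x := σ α) (y := 0) (by simp [hσ]; linear_combination -e.1)
  rw [zero_smul, add_zero] at u3
  have hu := D.UP u1 u2
  have uM : u ∈ M := by simpa using D.gen₀ hne hM P'.one_mem hu D.mc D.cc D.ac D.tc (by simp [u3, D.ac])
  have mz : σ α • g.1 a - a ∈ S.perp A := Submodule.sub_mem _ (Submodule.smul_mem _ _ mg) D.ma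
  have az : S.h a (σ α • g.1 a - a) = 0 := by simp [hα, D.aa]; linear_combination -e.1
  have tz : S.h t (σ α • g.1 a - a) = 0 := by simp [ht, D.ta]
  obtain ⟨ε, l, hl, ⟨l1, l2⟩, l3⟩ := hZ' _ mz (D.notMem D.ma D.mt m0 D.aa D.tt at' a0 b0 fun e => by
      simpa [D.bb, D.bc] using congrArg (S.h b) e) (D.notMem D.ma D.mt mz D.aa D.tt at' az tz fun e' => e.2 (by
      have := congrArg (α • ·) (sub_eq_zero.1 e')
      simpa only [smul_smul, mul_comm α, ← e.1, one_smul] using this))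
    (by simp [hα, D.aa, hσ, S.unit_symm a (g.1 a)]; linear_combination e.1) ⟨az, tz⟩
  have hl' : l ∈ P ⊓ P' := ⟨(D.hP l).2 ⟨hl, l1⟩, (D.hP' l).2 ⟨hl, l2⟩⟩
  have hg' := P'.mul_mem (P'.inv_mem hl'.2) (P'.mul_mem hg hu)
  have e1 : (l⁻¹ * (g * u)).1 a = a + Z ε := by
    rw [isom_mul_apply, isom_mul_apply, u3, map_smul, ← sub_add_cancel (σ α • g.1 a) a, ← l3, map_add, isom_inv_apply_self, add_comm]
    rw [← l1, isom_inv_apply_self, l1]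
  have hv := (hR ε).1.1
  have h4 := P'.mul_mem (P'.inv_mem hv) hg'
  have := M.mul_mem (M.mul_mem (h1 hl') (M.mul_mem (h3 ε) (h1 ⟨(D.hP _).2 ⟨D.PK' h4, by
    rw [isom_mul_apply, e1, ← (hR ε).2 ⟨_, hg', e1⟩, isom_inv_apply_self]⟩, h4⟩))) (M.inv_mem uM)
  simpa using this

end Frm
end PForm
end H11
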