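import Cfsg.Agent.H11.Phan2
import Cfsg.Agent.H19.Iso

/-! Phan's theorem in matrix form: block embeddings `suE`, `phan4` (from two `SU₃`s to `SU₄`), `phan_up` (from `SU₄`s to `SU_n`),
generation `su_gen`, `su3_gen`. -/

set_option autoImplicit false

namespace H11
open Subgroup Module Matrix PForm
variable {F : Type*} [Field F] {H : Type*} [Group H] {l m n q : ℕ}

/-- block embedding of matrices -/
def eM (e : Fin m ↪ Fin n) (A : Matrix (Fin m) (Fin m) F) : Matrix (Fin n) (Fin n) F :=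
  1 + (1 : Matrix (Fin n) (Fin n) F).submatrix id e * ((A - 1) * (1 : Matrix (Fin n) (Fin n) F).submatrix e id)

theorem eM_aux (e : Fin m ↪ Fin n) :
    ((1 : Matrix (Fin n) (Fin n) F).submatrix e id) * (1 : Matrix (Fin n) (Fin n) F).submatrix id e = 1 := by
  rw [← submatrix_mul _ _ _ _ _ Function.bijective_id, mul_one, submatrix_one_embedding]

theorem eM_mul (e : Fin m ↪ Fin n) (A B : Matrix (Fin m) (Fin m) F) : eM e (A * B) = eM e A * eM e B := by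
  simp only [eM, mul_add, add_mul, mul_one, one_mul, Matrix.mul_assoc]
  rw [← Matrix.mul_assoc ((1 : Matrix (Fin n) (Fin n) F).submatrix e id), eM_aux]
  simp only [Matrix.one_mul, Matrix.mul_sub, Matrix.sub_mul, Matrix.mul_assoc]; abel

theorem det_eM (e : Fin m ↪ Fin n) (A : Matrix (Fin m) (Fin m) F) : (eM e A).det = A.det := by
  rw [eM, det_one_add_mul_comm, Matrix.mul_assoc, eM_aux]; simp

theorem eM_in (e : Fin m ↪ Fin n) (A : Matrix (Fin m) (Fin m) F) (i j : Fin m) : eM e A (e i) (e j) = A i j := by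
  simp [eM, mul_apply, one_apply]

theorem eM_out (e : Fin m ↪ Fin n) (A : Matrix (Fin m) (Fin m) F) {k k' : Fin n} (h : k ∉ Set.range e ∨ k' ∉ Set.range e) :
    eM e A k k' = (1 : Matrix (Fin n) (Fin n) F) k k' := by
  rcases h with h | h
  · have : ∀ i, k ≠ e i := fun i e' => h ⟨i, e'.symm⟩
    simp [eM, mul_apply, one_apply, this]
  · have : ∀ i, e i ≠ k' := fun i e' => h ⟨i, e'⟩
    simp [eM, mul_apply, one_apply, this]

theorem eM_ext (e : Fin m ↪ Fin n) {A : Matrix (Fin m) (Fin m) F} {B : Matrix (Fin n) (Fin n) F} (h : ∀ i j, B (e i) (e j) = A i j)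
    (h' : ∀ k k', k ∉ Set.range e ∨ k' ∉ Set.range e → B k k' = (1 : Matrix (Fin n) (Fin n) F) k k') : eM e A = B := by
  ext k k'
  by_cases hk : k ∉ Set.range e ∨ k' ∉ Set.range e
  · rw [eM_out e A hk, h' k k' hk]
  · simp only [not_or, not_not] at hk
    obtain ⟨⟨i, rfl⟩, j, rfl⟩ := hk
    rw [eM_in, h]

theorem eM_one (e : Fin m ↪ Fin n) : eM e (1 : Matrix (Fin m) (Fin m) F) = 1 := by simp [eM]

theorem eM_star (σ : F →+* F) (e : Fin m ↪ Fin n) (A : Matrix (Fin m) (Fin m) F) : eM e (A.map σ)ᵀ = ((eM e A).map σ)ᵀ :=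
  eM_ext e (fun i j => by simp [eM_in]) fun k k' h => by simp [eM_out e A h.symm, one_apply, apply_ite σ, eq_comm]

theorem eM_eM (e : Fin m ↪ Fin n) (e' : Fin l ↪ Fin m) (A : Matrix (Fin l) (Fin l) F) : eM (e'.trans e) A = eM e (eM e' A) :=
  eM_ext _ (fun i j => by simp [eM_in]) fun k k' h => by
    by_cases hk : k ∉ Set.range e ∨ k' ∉ Set.range e
    · exact eM_out e _ hk
    simp only [not_or, not_not] at hk
    obtain ⟨⟨i, rfl⟩, j, rfl⟩ := hk
    rw [eM_in, eM_out e' A (h.imp (fun h ⟨x, hx⟩ => h ⟨x, by simp [hx]⟩) fun h ⟨x, hx⟩ => h ⟨x, by simp [hx]⟩)]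
    simp [one_apply]

theorem eM_inj (e : Fin m ↪ Fin n) : Function.Injective (eM (F := F) e) := fun A B h => by
  ext i j; rw [← eM_in e A, h, eM_in]

variable {σ : F →+* F} (hq : ∀ x, σ x = x ^ q)

/-- block embedding of special unitary groups -/
def suE (e : Fin m ↪ Fin n) : Cfsg.SU m F q →* Cfsg.SU n F q :=
  MonoidHom.mk' (fun A => ⟨⟨eM e A.1.1, by rw [det_eM, A.1.2]⟩, (H19.Iso.mem_SU hq).2 (by
    rw [← eM_star, ← eM_mul, (H19.Iso.mem_SU hq).1 A.2, eM_one])⟩) fun A B => Subtype.ext (Subtype.ext (eM_mul e _ _))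

theorem coe_suE (e : Fin m ↪ Fin n) (A : Cfsg.SU m F q) : (suE hq e A).1.1 = eM e A.1.1 := rfl

theorem suE_inj (e : Fin m ↪ Fin n) : Function.Injective (suE hq e) := fun _ _ h =>
  Subtype.ext (Subtype.ext (eM_inj e congr(($h).1.1)))

theorem suE_suE {e : Fin m ↪ Fin n} {e' : Fin l ↪ Fin m} {e'' : Fin l ↪ Fin n} (h : ∀ i, e (e' i) = e'' i) (A : Cfsg.SU l F q) :
    suE hq e (suE hq e' A) = suE hq e'' A := by
  rw [show e'' = e'.trans e from Function.Embedding.ext fun i => (h i).symm]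
  exact Subtype.ext (Subtype.ext (eM_eM e e' _).symm)

theorem exists_suE (e : Fin m ↪ Fin n) (hσ : ∀ a, σ (σ a) = a) {g : Cfsg.SU n F q}
    (h : ∀ k, k ∉ Set.range e → ∀ k', g.1.1 k' k = (1 : Matrix (Fin n) (Fin n) F) k' k) : ∃ A, suE hq e A = g := by
  have h1 := (H19.Iso.mem_SU hq).1 g.2
  have h2 : eM e (g.1.1.submatrix e e) = g.1.1 := eM_ext e (fun _ _ => rfl) fun k k' hk => by
    rcases hk with hk | hk
    · have := congrFun (congrFun h1 k') k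
      simp only [mul_apply, h k hk, one_apply, transpose_apply, map_apply, mul_ite, mul_one, mul_zero, Finset.sum_ite_eq',
        Finset.mem_univ, if_true] at this
      rw [← hσ (g.1.1 k k'), this]; simp [one_apply, apply_ite σ, eq_comm]
    · exact h k' hk k
  exact ⟨⟨⟨g.1.1.submatrix e e, by rw [← det_eM e, h2, g.1.2]⟩, (H19.Iso.mem_SU hq).2 (eM_inj e (by rw [eM_mul, eM_star, h2, h1, eM_one]))⟩,
    Subtype.ext (Subtype.ext h2)⟩

/-- shift embedding -/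
def sh (i : ℕ) (h : i + m ≤ n) : Fin m ↪ Fin n := ⟨fun k => ⟨i + k, by omega⟩, fun a b e => by simpa [Fin.ext_iff] using e⟩

@[simp] theorem sh_val (i : ℕ) (h : i + m ≤ n) (k : Fin m) : (sh i h k).1 = i + k := rfl

theorem mem_range_sh {i : ℕ} {h : i + m ≤ n} {k : Fin n} : k ∈ Set.range (sh i h) ↔ i ≤ k.1 ∧ k.1 < i + m :=
  ⟨by rintro ⟨j, rfl⟩; simp, fun h' => ⟨⟨k - i, by omega⟩, Fin.ext (by simp; omega)⟩⟩

/-- vectors vanishing on `I` -/
def van (F : Type*) [Field F] (I : Set (Fin n)) : Submodule F (Fin n → F) where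
  carrier := {x | ∀ k ∈ I, x k = 0}
  add_mem' hx hy k hk := by simp [hx k hk, hy k hk]
  zero_mem' _ _ := rfl
  smul_mem' c x hx k hk := by simp [hx k hk]

variable (hσ : ∀ a, σ (σ a) = a) (hne : σ ≠ RingHom.id F)

/-- block subgroups -/
noncomputable def ublk (I : Set (Fin n)) : Subgroup (stdUnit hσ hne (Fin n)).Isom :=
  (stdUnit hσ hne (Fin n)).SIsom ⊓ (stdUnit hσ hne (Fin n)).fix (van F I)

/-- matrices as isometries -/
noncomputable def jE (e : Fin m ↪ Fin n) : Cfsg.SU m F q →* (stdUnit hσ hne (Fin n)).Isom :=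
  ((Subgroup.subtype _).comp (suEquiv hσ hne hq n).toMonoidHom).comp (suE hq e)

variable {hq hσ hne}

theorem blk_mono {I J : Set (Fin n)} (h : I ⊆ J) : ublk hσ hne I ≤ ublk hσ hne J :=
  fun _ hg => ⟨hg.1, fun x hx => hg.2 x fun k hk => hx k (h hk)⟩

theorem mem_blk_diff {I J : Set (Fin n)} {a : Fin n} (h : ∀ k, k ∈ J ↔ k ∈ I ∧ k ≠ a) (g) :
    g ∈ ublk hσ hne J ↔ g ∈ ublk hσ hne I ∧ g.1 (Pi.single a 1) = Pi.single a 1 :=
  ⟨fun hg => ⟨blk_mono (fun k hk => ((h k).1 hk).1) hg, hg.2 _ fun k hk => Pi.single_eq_of_ne ((h k).1 hk).2 _⟩,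
    fun hg => ⟨hg.1.1, fun x hx => by
      have := hg.1.2 (x - x a • Pi.single a 1) fun k hk => by
        by_cases e : k = a
        · simp [e]
        · simp [e, hx k ((h k).2 ⟨hk, e⟩)]
      rwa [map_sub, map_smul, hg.2, sub_left_inj] at this⟩⟩

theorem mem_blk_inf {I J L : Set (Fin n)} (h : ∀ k ∈ I, k ∈ J → k ∈ L) {g} (h1 : g ∈ ublk hσ hne I) (h2 : g ∈ ublk hσ hne J) :
    g ∈ ublk hσ hne L := ⟨h1.1, fun x hx => by
  classical
  have e1 := h1.2 (fun k => if k ∈ I then 0 else x k) fun k hk => by simp [hk]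
  have e2 := h2.2 (fun k => if k ∈ I then x k else 0) fun k hk => by by_cases e : k ∈ I <;> simp [e, fun e => hx k (h k e hk)]
  rw [show x = (fun k => if k ∈ I then 0 else x k) + fun k => if k ∈ I then x k else 0 by ext k; by_cases e : k ∈ I <;> simp [e],
    map_add, e1, e2]⟩

theorem perp_single {s : Set (Fin n)} : (stdUnit hσ hne (Fin n)).perp (Submodule.span F ((Pi.single · 1) '' s)) = van F s := by
  ext x; simp [mem_perp_span, stdUnit_single, van]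

theorem single_mem_perp {I : Set (Fin n)} {a : Fin n} (h : a ∈ I) : Pi.single a 1 ∈ (stdUnit hσ hne (Fin n)).perp (van F I) :=
  (mem_perp' _).2 fun x hx => by rw [stdUnit_single, hx a h]

theorem le_finrank_perp {I : Set (Fin n)} (e : Fin m ↪ Fin n) (h : ∀ i, e i ∈ I) :
    m ≤ finrank F ((stdUnit hσ hne (Fin n)).perp (van F I)) := by
  have : LinearIndependent F fun i => (⟨_, single_mem_perp (h i)⟩ : (stdUnit hσ hne (Fin n)).perp (van F I)) :=
    LinearIndependent.of_comp (Submodule.subtype _) (by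
      have := (Pi.basisFun F (Fin n)).linearIndependent.comp e e.injective
      rwa [show ⇑(Pi.basisFun F (Fin n)) ∘ e = fun i => Pi.single (e i) 1 by ext1; simp] at this)
  simpa using this.fintype_card_le_finrank

theorem jE_apply (e : Fin m ↪ Fin n) (A : Cfsg.SU m F q) (x) : (jE hq hσ hne e A).1 x = eM e A.1.1 *ᵥ x := rfl

theorem jE_inj (e : Fin m ↪ Fin n) : Function.Injective (jE hq hσ hne e) :=
  (Subtype.val_injective.comp (suEquiv hσ hne hq n).injective).comp (suE_inj hq e)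

theorem jE_suE {e : Fin m ↪ Fin n} {e' : Fin l ↪ Fin m} {e'' : Fin l ↪ Fin n} (h : ∀ i, e (e' i) = e'' i) (A : Cfsg.SU l F q) :
    jE hq hσ hne e (suE hq e' A) = jE hq hσ hne e'' A := by
  simp only [jE, MonoidHom.comp_apply, suE_suE hq h]

theorem jE_mem {e : Fin m ↪ Fin n} {I : Set (Fin n)} (h : ∀ i, e i ∈ I) (A : Cfsg.SU m F q) : jE hq hσ hne e A ∈ ublk hσ hne I :=
  ⟨(suEquiv hσ hne hq n _).2, fun x hx => by
    have : (1 : Matrix (Fin n) (Fin n) F).submatrix e id *ᵥ x = 0 := by ext i; simp [mulVec, dotProduct, one_apply, hx _ (h i)]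
    rw [jE_apply, eM, add_mulVec, ← mulVec_mulVec, ← mulVec_mulVec, this]; simp⟩

theorem exists_jE (e : Fin m ↪ Fin n) {I : Set (Fin n)} (h : ∀ k ∈ I, k ∈ Set.range e) {g} (hg : g ∈ ublk hσ hne I) :
    ∃ A, jE hq hσ hne e A = g := by
  obtain ⟨A, hA⟩ := exists_suE hq e hσ (g := (suEquiv hσ hne hq n).symm ⟨g, hg.1⟩) fun k hk k' => by
    have h1 := suEquiv_apply hσ hne hq n ((suEquiv hσ hne hq n).symm ⟨g, hg.1⟩) (Pi.single k 1)
    rw [MulEquiv.apply_symm_apply, hg.2 _ fun j hj => Pi.single_eq_of_ne (by rintro rfl; exact hk (h _ hj)) _] at h1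
    simpa [Pi.single_apply, one_apply] using (congrFun h1 k').symm
  exact ⟨A, by simp [jE, hA]⟩

theorem frm_blk {I J J' : Set (Fin n)} {a b c t : Fin n} (h4 : 4 ≤ finrank F ((stdUnit hσ hne (Fin n)).perp (van F I)))
    (hJ : ∀ k, k ∈ J ↔ k ∈ I ∧ k ≠ a) (hJ' : ∀ k, k ∈ J' ↔ k ∈ I ∧ k ≠ t) (ha : a ∈ I) (hb : b ∈ I) (hc : c ∈ I) (ht : t ∈ I)
    (ab : b ≠ a) (ac : c ≠ a) (ta : a ≠ t) (bc : c ≠ b) (tb : b ≠ t) (tc : c ≠ t) {w} (w1 : w ∈ ublk hσ hne {a, b})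
    (w2 : w.1 (Pi.single a 1) = Pi.single b 1) : (stdUnit hσ hne (Fin n)).Frm (van F I) (ublk hσ hne I) (ublk hσ hne J) (ublk hσ hne J')
      (Pi.single a 1) (Pi.single b 1) (Pi.single c 1) (Pi.single t 1) w := by
  refine ⟨stdUnit_nondeg hσ hne _, (restrict_nondeg_iff' _ _).2 fun x hx h => funext fun k => ?_, h4, fun _ => Iff.rfl,
    mem_blk_diff hJ, mem_blk_diff hJ', single_mem_perp ha, single_mem_perp hb, single_mem_perp hc, single_mem_perp ht, ?_, ?_, ?_, ?_,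
    ?_, ?_, ?_, ?_, ?_, ?_, w1.1, by rw [← Set.image_pair (Pi.single · (1 : F)), perp_single]; exact w1.2, w2⟩
  · by_cases e : k ∈ I
    · exact hx k e
    · simpa [stdUnit_single] using h_swap_zero _ (h (Pi.single k 1) fun j hj => Pi.single_eq_of_ne (by rintro rfl; exact e hj) _)
  all_goals simp [stdUnit_single, *]

theorem exists_sw {a b : Fin n} (ab : b ≠ a) : ∃ w ∈ ublk hσ hne {a, b}, w.1 (Pi.single a 1) = Pi.single b 1 := by
  obtain ⟨w, h1, h2, h3⟩ := (stdUnit_nondeg hσ hne (Fin n)).exists_U (a := Pi.single a 1) (b := Pi.single b 1) (x := 0) (y := 1)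
    (by simp [stdUnit_single]) (by simp [stdUnit_single]) (by simp [stdUnit_single, ab]) (by simp)
  exact ⟨w, ⟨h1, by rwa [← Set.image_pair (Pi.single · (1 : F)), perp_single] at h2⟩, by simpa using h3⟩

/-- intervals -/
def iv (n i j : ℕ) : Set (Fin n) := {k | i ≤ k.1 ∧ k.1 < j}

theorem frm_iv {i j : ℕ} (h : i + 4 ≤ j + 1) (hj : j < n) {w} (w1 : w ∈ ublk hσ hne (iv n i (i + 2)))
    (w2 : w.1 (Pi.single ⟨i, by omega⟩ 1) = Pi.single ⟨i + 1, by omega⟩ 1) :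
    (stdUnit hσ hne (Fin n)).Frm (van F (iv n i (j + 1))) (ublk hσ hne (iv n i (j + 1))) (ublk hσ hne (iv n (i + 1) (j + 1)))
      (ublk hσ hne (iv n i j)) (Pi.single ⟨i, by omega⟩ 1) (Pi.single ⟨i + 1, by omega⟩ 1) (Pi.single ⟨i + 2, by omega⟩ 1)
      (Pi.single ⟨j, hj⟩ 1) w := by
  refine frm_blk (le_finrank_perp (sh i (by omega)) fun k => ?_) (fun k => ?_) (fun k => ?_) ?_ ?_ ?_ ?_ ?_ ?_ ?_ ?_ ?_ ?_
    (blk_mono (fun k => ?_) w1) w2
  all_goals simp [iv, Fin.ext_iff]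
  all_goals omega

theorem exists_sw' {i : ℕ} (h : i + 1 < n) : ∃ w ∈ ublk hσ hne (iv n i (i + 2)),
    w.1 (Pi.single ⟨i, by omega⟩ 1) = Pi.single ⟨i + 1, h⟩ 1 := by
  obtain ⟨w, h1, h2⟩ := exists_sw (hσ := hσ) (hne := hne) (a := ⟨i, by omega⟩) (b := ⟨i + 1, h⟩) (by simp)
  exact ⟨w, blk_mono (fun k => by simp [iv, Fin.ext_iff]; omega) h1, h2⟩

theorem ex_iv {i j : ℕ} (h : i + m ≤ n) (hj : j ≤ i + m) {g} (hg : g ∈ ublk hσ hne (iv n i j)) : ∃ A, jE hq hσ hne (sh i h) A = g :=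
  exists_jE _ (fun k hk => mem_range_sh.2 ⟨hk.1, hk.2.trans_le hj⟩) hg

theorem jE_iv {i i' j : ℕ} (h : i + m ≤ n) (hi : i' ≤ i) (hj : i + m ≤ j) (A : Cfsg.SU m F q) :
    jE hq hσ hne (sh i h) A ∈ ublk hσ hne (iv n i' j) := jE_mem (fun k => by simp [iv]; omega) A

theorem jE_sh {i j k : ℕ} (h : i + m ≤ n) (h' : j + l ≤ m) (h'' : k + l ≤ n) (e : k = i + j) (A : Cfsg.SU l F q) :
    jE hq hσ hne (sh k h'') A = jE hq hσ hne (sh i h) (suE hq (sh j h') A) :=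
  (jE_suE (fun _ => Fin.ext (by simp; omega)) A).symm

theorem mem_iv_inf {i j i' j' : ℕ} {g} (h1 : g ∈ ublk hσ hne (iv n i j)) (h2 : g ∈ ublk hσ hne (iv n i' j')) :
    g ∈ ublk hσ hne (iv n i j') := mem_blk_inf (L := iv n i j') (fun _ h h' => And.intro h.1 h'.2) h1 h2

/-- pull a homomorphism to the big group -/
noncomputable def pl (e : Fin m ↪ Fin n) (f : Cfsg.SU m F q →* H) (g : (stdUnit hσ hne (Fin n)).Isom) : H :=
  f (Function.invFun (jE hq hσ hne e) g)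

theorem pl_jE (e : Fin m ↪ Fin n) (f : Cfsg.SU m F q →* H) (A) : pl (hq := hq) e f (jE hq hσ hne e A) = f A := by
  rw [pl, Function.leftInverse_invFun (jE_inj e)]

theorem homOn_pl {i j : ℕ} (h : i + m ≤ n) (hj : j ≤ i + m) (f : Cfsg.SU m F q →* H) :
    HomOn (ublk hσ hne (iv n i j)) (pl (hq := hq) (sh i h) f) := fun a ha b hb => by
  obtain ⟨a, rfl⟩ := ex_iv (hq := hq) h hj ha
  obtain ⟨b, rfl⟩ := ex_iv (hq := hq) h hj hb
  rw [← map_mul, pl_jE, pl_jE, pl_jE, map_mul]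

theorem exists_push {Ψ : (stdUnit hσ hne (Fin n)).Isom → H} (h : HomOn (ublk hσ hne (iv n 0 n)) Ψ) :
    ∃ f : Cfsg.SU n F q →* H, ∀ m (e : Fin m ↪ Fin n) A, f (suE hq e A) = Ψ (jE hq hσ hne e A) :=
  ⟨MonoidHom.mk' (fun g => Ψ (jE hq hσ hne (.refl _) g)) fun a b => by
    rw [map_mul, h _ (jE_mem (fun k => by simp [iv]) a) _ (jE_mem (fun k => by simp [iv]) b)],
    fun m e A => congrArg Ψ (jE_suE (fun _ => rfl) A)⟩

variable [Finite F]

theorem gen_iv {M : Subgroup (stdUnit hσ hne (Fin n)).Isom} (l : ℕ) : ∀ i j, j = i + l + 3 → j ≤ n →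
    (∀ k (h : k + 3 ≤ n), i ≤ k → k + 3 ≤ j → ∀ A, jE hq hσ hne (sh k h) A ∈ M) → ublk hσ hne (iv n i j) ≤ M := by
  induction l with
  | zero =>
    intro i j e h hM g hg
    obtain ⟨A, rfl⟩ := ex_iv (hq := hq) (m := 3) (by omega) (by omega) hg
    exact hM i _ le_rfl (by omega) A
  | succ l ih =>
    rintro i _ rfl h hM
    obtain ⟨w, w1, w2⟩ := exists_sw' (hσ := hσ) (hne := hne) (n := n) (i := i) (by omega)
    refine (frm_iv (j := i + l + 3) (by omega) (by omega) w1 w2).gen hne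
      (ih (i + 1) _ (by omega) h fun k h h1 h2 => hM k h (by omega) h2) ?_
    obtain ⟨A, rfl⟩ := ex_iv (hq := hq) (m := 3) (by omega) (by omega) w1
    exact hM i _ le_rfl (by omega) A

include hσ hne in
theorem su_gen (h3 : 3 ≤ n) {M : Subgroup (Cfsg.SU n F q)} (hM : ∀ k (h : k + 3 ≤ n) A, suE hq (sh k h) A ∈ M) (g) : g ∈ M := by
  obtain ⟨x, hx, e⟩ := gen_iv (hq := hq) (M := M.map (jE hq hσ hne (.refl _))) (n - 3) 0 n (by omega) le_rfl
    (fun k h _ _ A => ⟨_, hM k h A, jE_suE (fun _ => rfl) A⟩) (jE_mem (hq := hq) (e := .refl _) (fun k => by simp [iv]) g)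
  exact jE_inj _ e ▸ hx

include hσ hne in
theorem su3_gen (hb : ∃ ν : F, σ ν = ν ∧ ν ≠ 0 ∧ ν ≠ 1) {M : Subgroup (Cfsg.SU 3 F q)}
    (h0 : ∀ A : Cfsg.SU 2 F q, suE hq (sh 0 (by omega)) A ∈ M) (h1 : ∀ A : Cfsg.SU 2 F q, suE hq (sh 1 (by omega)) A ∈ M) (g) : g ∈ M := by
  obtain ⟨w, w1, w2⟩ := exists_sw' (hσ := hσ) (hne := hne) (n := 4) (i := 0) (by omega)
  obtain ⟨x, hx, e⟩ := (frm_iv (j := 3) (by omega) (by omega) w1 w2).gen'' hne (.inr hb) (M := M.map (jE hq hσ hne (sh 0 (by omega))))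
    (fun g hg => by
      obtain ⟨A, rfl⟩ := ex_iv (hq := hq) (m := 2) (i := 1) (j := 3) (by omega) (by omega)
        (mem_iv_inf hg.1 hg.2)
      exact ⟨_, h1 A, jE_suE (fun _ => Fin.ext (by simp)) A⟩) (by
      obtain ⟨A, rfl⟩ := ex_iv (hq := hq) (m := 2) (by omega) (by omega) w1
      exact ⟨_, h0 A, jE_suE (fun _ => Fin.ext (by simp)) A⟩) (jE_iv (hq := hq) (i := 0) (by omega) le_rfl le_rfl g)
  exact jE_inj _ e ▸ hx

include hσ hne in
theorem phan_up (hF : Nat.card F = q ^ 2) (h4 : 4 ≤ n) (φ : ℕ → Cfsg.SU 3 F q →* H)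
    (base : ∀ i, i + 4 ≤ n → ∃ f : Cfsg.SU 4 F q →* H, (∀ u, f (suE hq (sh 0 (by omega)) u) = φ i u) ∧
      ∀ u, f (suE hq (sh 1 (by omega)) u) = φ (i + 1) u)
    (c1 : ∀ i j, i + 2 ≤ j → j + 3 ≤ n → ∀ (u : Cfsg.SU 2 F q) v, Commute (φ j v) (φ i (suE hq (sh 0 (by omega)) u)))
    (c2 : (∃ ν : F, σ ν = ν ∧ ν ≠ 0 ∧ ν ≠ 1) ∨ (∀ i j, i + 3 ≤ j → j + 3 ≤ n → ∀ u v, Commute (φ j v) (φ i u)) ∧
      ∀ i, i + 5 ≤ n → ∀ (u : Cfsg.SU 2 F q) v, Commute (φ (i + 2) (suE hq (sh 1 (by omega)) u)) (φ i v)) :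
    ∃ f : Cfsg.SU n F q →* H, ∀ i h u, f (suE hq (sh i h) u) = φ i u := by
  have main : ∀ l i j, j = i + l + 4 → j ≤ n → ∃ Ψ, HomOn (ublk hσ hne (iv n i j)) Ψ ∧
      ∀ k (h : k + 3 ≤ n), i ≤ k → k + 3 ≤ j → ∀ u, Ψ (jE hq hσ hne (sh k h) u) = φ k u := fun l => by
    induction l with
    | zero =>
      intro i j e h
      obtain ⟨f, f0, f1⟩ := base i (by omega)
      refine ⟨_, homOn_pl (hq := hq) (m := 4) (by omega) (by omega) f, fun k hk h1 h2 u => ?_⟩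
      obtain rfl | rfl : k = i ∨ k = i + 1 := by omega
      · rw [jE_sh (m := 4) (i := k) (j := 0) (by omega) (by omega) hk rfl, pl_jE, f0]
      · rw [jE_sh (m := 4) (i := i) (j := 1) (by omega) (by omega) hk rfl, pl_jE, f1]
    | succ l ih =>
      rintro i _ rfl h
      obtain ⟨w, w1, w2⟩ := exists_sw' (hσ := hσ) (hne := hne) (n := n) (i := i) (by omega)
      obtain ⟨Ψ, h1, h2⟩ := ih (i + 1) (i + l + 4 + 1) (by omega) h
      obtain ⟨Ψ', h1', h2'⟩ := ih i (i + l + 4) rfl (by omega)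
      have D₀ := frm_iv (j := i + l + 4) (by omega) (by omega) w1 w2
      have D : Stp _ _ _ _ _ _ _ _ _ w Ψ Ψ' := ⟨D₀, h1, h1', fun g hg hg' =>
        (gen_iv (hq := hq) (M := h1.eqv h1') l (i + 1) (i + l + 4) (by omega) (by omega) (fun k hk k1 k2 A =>
          ⟨jE_iv hk k1 (by omega) A, jE_iv hk (by omega) k2 A, by rw [h2 k hk k1 (by omega), h2' k hk (by omega) k2]⟩)
          (mem_iv_inf hg hg')).2.2, fun u u1 u2 k hk kb => by
        rw [← Set.image_pair (Pi.single · (1 : F)), perp_single] at u2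
        obtain ⟨u, rfl⟩ := exists_jE (hq := hq) (m := 2) (sh i (by omega)) (fun k hk => mem_range_sh.2 (by
          simp [Fin.ext_iff] at hk; omega)) ⟨u1, u2⟩
        rw [jE_sh (m := 3) (i := i) (j := 0) (k := i) (by omega) (by omega) _ rfl, h2' i _ le_rfl (by omega)]
        exact (gen_iv (hq := hq) (M := h1.cen _) l (i + 2) (i + l + 4 + 1) (by omega) (by omega) (fun k hk k1 k2 A =>
          ⟨jE_iv hk (by omega) k2 A, by rw [h2 k hk (by omega) k2]; exact c1 i k k1 hk u A⟩)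
          ((mem_blk_diff (fun k => by simp [iv, Fin.ext_iff]; omega) k).2 ⟨hk, kb⟩)).2⟩
      have h5 : 5 ≤ finrank F ((stdUnit hσ hne (Fin n)).perp (van F (iv n i (i + l + 4 + 1)))) :=
        le_finrank_perp (sh i (by omega)) fun k => by simp [iv]; omega
      obtain ⟨Φ, k1, k2, k3⟩ := D.ext' hne hF hq (c2.elim (fun ⟨ν, a, b, c⟩ => (D.coc hne).q0 hne a b c) fun c2 =>
        D.q0' hne (.inl h5) fun u u1 u2 k hk kb kc => by
          rw [← Set.image_pair (Pi.single · (1 : F)), ← Set.image_insert_eq (f := (Pi.single · (1 : F))), perp_single] at u2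
          obtain ⟨u, rfl⟩ := exists_jE (hq := hq) (m := 3) (sh i (by omega)) (fun k hk => mem_range_sh.2 (by
            simp [Fin.ext_iff] at hk; omega)) ⟨u1, u2⟩
          rw [h2' i _ le_rfl (by omega)]
          have hk' : k ∈ ublk hσ hne (iv n (i + 3) (i + l + 4 + 1)) := (mem_blk_diff (fun k => by simp [iv, Fin.ext_iff]; omega) k).2
            ⟨(mem_blk_diff (J := iv n (i + 2) (i + l + 4 + 1)) (fun k => by simp [iv, Fin.ext_iff]; omega) k).2 ⟨hk, kb⟩, kc⟩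
          rcases l with _ | l
          · obtain ⟨k, rfl⟩ := ex_iv (hq := hq) (m := 2) (by omega) (by omega) hk'
            rw [jE_sh (m := 3) (i := i + 2) (j := 1) (by omega) (by omega) _ rfl, h2 _ _ (by omega) (by omega)]
            exact c2.2 i (by omega) k u
          · exact (gen_iv (hq := hq) (M := h1.cen _) l (i + 3) _ (by omega) (by omega) (fun k hk k1 k2 A =>
              ⟨jE_iv hk (by omega) k2 A, by rw [h2 k hk (by omega) k2]; exact c2.1 i k k1 hk u A⟩) hk').2)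
        ((D.coc hne).q3 hne D.nd D.h4 (.inl h5)) (.inl h5)
      refine ⟨Φ, k1, fun k hk h3 h4 u => ?_⟩
      by_cases e : k = i
      · rw [k3 _ (jE_iv hk h3 (by omega) u), h2' k hk h3 (by omega)]
      · rw [k2 _ (jE_iv hk (by omega) h4 u), h2 k hk (by omega) h4]
  obtain ⟨Ψ, h1, h2⟩ := main (n - 4) 0 n (by omega) le_rfl
  obtain ⟨f, hf⟩ := exists_push (hq := hq) h1
  exact ⟨f, fun i h u => by rw [hf, h2 i h (Nat.zero_le _) h]⟩

omit [Finite F] in
theorem stp4 (φ φ' : Cfsg.SU 3 F q →* H) (h : ∀ u : Cfsg.SU 2 F q, φ' (suE hq (sh 1 (by omega)) u) = φ (suE hq (sh 0 (by omega)) u))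
    (hc : ∀ u v : Cfsg.SU 2 F q, Commute (φ (suE hq (sh 1 (by omega)) v)) (φ' (suE hq (sh 0 (by omega)) u))) {w}
    (w1 : w ∈ ublk hσ hne (iv 4 0 (0 + 2))) (w2 : w.1 (Pi.single ⟨0, by omega⟩ 1) = Pi.single ⟨0 + 1, by omega⟩ 1) :
    (stdUnit hσ hne (Fin 4)).Stp (van F (iv 4 0 (3 + 1))) (ublk hσ hne (iv 4 0 (3 + 1))) (ublk hσ hne (iv 4 (0 + 1) (3 + 1)))
      (ublk hσ hne (iv 4 0 3)) (Pi.single ⟨0, by omega⟩ 1) (Pi.single ⟨0 + 1, by omega⟩ 1) (Pi.single ⟨0 + 2, by omega⟩ 1)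
      (Pi.single ⟨3, by omega⟩ 1) w (pl (hq := hq) (sh 1 (by omega)) φ) (pl (hq := hq) (sh 0 (by omega)) φ') :=
  ⟨frm_iv (by omega) (by omega) w1 w2, homOn_pl _ (by omega) _, homOn_pl _ (by omega) _, fun g hg hg' => by
    obtain ⟨A, rfl⟩ := ex_iv (hq := hq) (m := 2) (i := 1) (j := 3) (by omega) (by omega) (mem_iv_inf hg hg')
    conv_lhs => rw [jE_sh (m := 3) (i := 1) (j := 0) (by omega) (by omega) _ rfl, pl_jE]
    rw [jE_sh (m := 3) (i := 0) (j := 1) (by omega) (by omega) _ rfl, pl_jE, h],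
    fun u u1 u2 k hk kb => by
    rw [← Set.image_pair (Pi.single · (1 : F)), perp_single] at u2
    obtain ⟨u, rfl⟩ := exists_jE (hq := hq) (m := 2) (sh 0 (by omega)) (fun k hk => mem_range_sh.2 (by
      simp only [Set.mem_insert_iff, Set.mem_singleton_iff, Fin.ext_iff] at hk; omega)) ⟨u1, u2⟩
    obtain ⟨k, rfl⟩ := ex_iv (hq := hq) (m := 2) (i := 2) (j := 4) (by omega) (by omega)
      ((mem_blk_diff (fun k => by simp [iv, Fin.ext_iff]; omega) k).2 ⟨hk, kb⟩)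
    rw [jE_sh (m := 3) (i := 1) (j := 1) (k := 2) (by omega) (by omega) _ rfl, pl_jE,
      jE_sh (m := 3) (i := 0) (j := 0) (k := 0) (by omega) (by omega) _ rfl, pl_jE]
    exact hc u k⟩

include hσ hne in
theorem phan4 (hF : Nat.card F = q ^ 2) (hb : ∃ ν : F, σ ν = ν ∧ ν ≠ 0 ∧ ν ≠ 1 ∧ ν ≠ 2) (φ φ' : Cfsg.SU 3 F q →* H)
    (h : ∀ u : Cfsg.SU 2 F q, φ' (suE hq (sh 1 (by omega)) u) = φ (suE hq (sh 0 (by omega)) u))
    (hc : ∀ u v : Cfsg.SU 2 F q, Commute (φ (suE hq (sh 1 (by omega)) v)) (φ' (suE hq (sh 0 (by omega)) u))) :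
    ∃ f : Cfsg.SU 4 F q →* H, (∀ u, f (suE hq (sh 0 (by omega)) u) = φ' u) ∧ ∀ u, f (suE hq (sh 1 (by omega)) u) = φ u := by
  obtain ⟨w, w1, w2⟩ := exists_sw' (hσ := hσ) (hne := hne) (n := 4) (i := 0) (by omega)
  have D := stp4 φ φ' h hc w1 w2
  obtain ⟨ν, a, b, c, d⟩ := hb
  obtain ⟨Φ, k1, k2, k3⟩ := D.ext' hne hF hq ((D.coc hne).q0 hne a b c) ((D.coc hne).q3 hne D.nd D.h4 (.inr ⟨ν, a, b, c, d⟩))
    (.inr ⟨ν, a, b, c⟩)
  obtain ⟨f, hf⟩ := exists_push (hq := hq) k1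
  exact ⟨f, fun u => by rw [hf, k3 _ (jE_iv _ le_rfl le_rfl u), pl_jE], fun u => by rw [hf, k2 _ (jE_iv _ le_rfl le_rfl u), pl_jE]⟩

end H11
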