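import Cfsg.Agent.H11.Phan3
import Cfsg.Agent.H25.AutPSL
import Cfsg.Agent.H25.FieldAut

/-! Uniqueness of Phan amalgams: automorphisms of `SU₂(q)` (`aut_SU2`), standard pairs `StP`, `StP.step`, and Phan's theorem
`phan_main` for `q ≥ 4`. -/

set_option autoImplicit false

namespace H11
open Subgroup Module Matrix PForm
open scoped MatrixGroups
variable {F : Type*} [Field F] {G : Type*} [Group G] {m n q : ℕ} {σ : F →+* F} {hq : ∀ x, σ x = x ^ q}

theorem exists_fixF [Finite F] (hσ : ∀ a, σ (σ a) = a) (hne : σ ≠ RingHom.id F) (hF : Nat.card F = q ^ 2) :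
    ∃ K : Subfield F, Nat.card K = q ∧ ∀ x, x ∈ K ↔ σ x = x := by
  let e : F ≃+* F := RingEquiv.ofRingHom σ σ (RingHom.ext hσ) (RingHom.ext hσ)
  have h2 : orderOf e = 2 := orderOf_eq_prime (RingEquiv.ext hσ) fun h => hne (RingHom.ext fun x => congr($h x))
  have := H25.card_fixF e
  rw [h2, hF] at this
  exact ⟨H25.fixF e, Nat.pow_left_injective two_ne_zero this, fun _ => H25.mem_fixF⟩

theorem exists_fix3 [Finite F] (hσ : ∀ a, σ (σ a) = a) (hne : σ ≠ RingHom.id F) (hF : Nat.card F = q ^ 2) (h4 : 4 ≤ q) (a b c : F) :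
    ∃ ν : F, σ ν = ν ∧ ν ≠ a ∧ ν ≠ b ∧ ν ≠ c := by
  classical
  obtain ⟨K, h1, h2⟩ := exists_fixF hσ hne hF
  by_contra! h
  have := Set.ncard_le_ncard (s := (K : Set F)) (t := ({a, b, c} : Finset F)) fun x hx => by
    have := h x ((h2 x).1 hx); simp; tauto
  rw [Set.ncard_coe_finset] at this
  have h3 : (K : Set F).ncard = q := h1
  have := Finset.card_le_three (a := a) (b := b) (c := c)
  omega

theorem exists_norm1 [Finite F] (hσ : ∀ a, σ (σ a) = a) (hne : σ ≠ RingHom.id F) (hF : Nat.card F = q ^ 2) :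
    ∃ μ : F, σ μ * μ = 1 ∧ σ μ ≠ μ := by
  obtain ⟨a, ha⟩ := exists_σ_ne hne
  by_cases h : σ a = -a
  · obtain ⟨θ, hθ⟩ := exists_trace_one hσ hne
    have a0 : a ≠ 0 := by rintro rfl; simp at ha
    have h1 : 1 + a ≠ 0 := fun e => ha (by rw [eq_neg_of_add_eq_zero_right e]; simp)
    have h2 : 1 - a ≠ 0 := fun e => ha (by rw [← sub_eq_zero.1 e]; simp)
    refine ⟨(1 + a) / (1 - a), by simp [h, ← sub_eq_add_neg]; field_simp, fun e => ha ?_⟩
    simp only [map_div₀, map_add, map_sub, map_one, h, ← sub_eq_add_neg, sub_neg_eq_add] at e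
    field_simp at e
    have h4 : (2 : F) * 2 * a = 0 := by linear_combination -e
    have : (2 : F) = 0 := by simpa [a0] using h4
    rw [h]; linear_combination -a * this
  have a0 : a ≠ 0 := by rintro rfl; simp at ha
  have a1 : σ a ≠ 0 := by simpa
  refine ⟨a / σ a, by rw [map_div₀, hσ]; field_simp, fun e => ?_⟩
  rw [map_div₀, hσ, div_eq_div_iff a0 a1, mul_self_eq_mul_self_iff] at e
  tauto

theorem su_center (hσ : ∀ a, σ (σ a) = a) (hne : σ ≠ RingHom.id F) [Finite F] (hq : ∀ x, σ x = x ^ q) (hn : 2 ≤ n) {z : Cfsg.SU n F q}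
    (hz : z ∈ center _) : ∃ c : F, z.1.1 = c • (1 : Matrix _ _ F) := by
  have hS := stdUnit_nondeg hσ hne (Fin n)
  obtain ⟨e, f, Hy⟩ := hS.unit_exists_hyp hne (by simpa)
  obtain ⟨c, hc⟩ := (Hy.mem_center_iff_scalar hS (unit_rich hne _ 3) E_le_SIsom _).1 ((mem_center_iff_equiv (suEquiv hσ hne hq n) z).1 hz)
  exact ⟨c, matrix_ext_mulVec fun v => by rw [smul_mulVec, one_mulVec]; exact hc v⟩

variable (hq) in
/-- elements of `SU₂` -/
def mk2 (hσ : ∀ a, σ (σ a) = a) (a b : F) (h : σ a * a + σ b * b = 1) : Cfsg.SU 2 F q :=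
  ⟨⟨!![a, -σ b; b, σ a], by simp [det_fin_two]; linear_combination h⟩, (H19.Iso.mem_SU hq).2 (by
    ext i j; fin_cases i <;> fin_cases j <;> simp [mul_apply, Fin.sum_univ_two, hσ] <;> first | ring1 | linear_combination h)⟩

theorem su2_ent (hq : ∀ x, σ x = x ^ q) (u : Cfsg.SU 2 F q) :
    σ (u.1.1 0 0) = u.1.1 1 1 ∧ σ (u.1.1 1 0) = -u.1.1 0 1 ∧ σ (u.1.1 0 1) = -u.1.1 1 0 ∧ σ (u.1.1 1 1) = u.1.1 0 0 := by
  have h := left_inv_eq_left_inv ((H19.Iso.mem_SU hq).1 u.2) (show adjugate u.1.1 * u.1.1 = 1 by rw [adjugate_mul, u.1.2, one_smul])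
  rw [adjugate_fin_two] at h
  exact ⟨congr($h 0 0), congr($h 0 1), congr($h 1 0), congr($h 1 1)⟩

theorem eM_up (A : Matrix (Fin 2) (Fin 2) F) : eM (sh 0 (by omega) : Fin 2 ↪ Fin 3) A = !![A 0 0, A 0 1, 0; A 1 0, A 1 1, 0; 0, 0, 1] :=
  eM_ext _ (fun i j => by fin_cases i <;> fin_cases j <;> rfl) fun k k' h => by
    simp only [mem_range_sh] at h; fin_cases k <;> fin_cases k' <;> simp at h ⊢

theorem eM_lo (A : Matrix (Fin 2) (Fin 2) F) : eM (sh 1 (by omega) : Fin 2 ↪ Fin 3) A = !![1, 0, 0; 0, A 0 0, A 0 1; 0, A 1 0, A 1 1] :=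
  eM_ext _ (fun i j => by fin_cases i <;> fin_cases j <;> rfl) fun k k' h => by
    simp only [mem_range_sh] at h; fin_cases k <;> fin_cases k' <;> simp at h ⊢

theorem exists_su2 [Fintype F] (hσ : ∀ a, σ (σ a) = a) (hne : σ ≠ RingHom.id F) (hq : ∀ x, σ x = x ^ q) (hF : Fintype.card F = q ^ 2)
    {K : Subfield F} (hK : Nat.card K = q) (hf : ∀ x, x ∈ K ↔ σ x = x) : ∃ (P : Matrix (Fin 2) (Fin 2) F) (e : SL(2, K) ≃* Cfsg.SU 2 F q),
      IsUnit P.det ∧ ∀ g, (e g).1.1 = P * g.1.map K.subtype * P⁻¹ := by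
  have hσ' : ∀ a : K, σ a = a := fun a => (hf _).1 a.2
  obtain ⟨θ, hθ⟩ := exists_trace_one hσ hne
  obtain ⟨α, hα⟩ := exists_norm_eq hσ hne (μ := -1) (by simp)
  obtain ⟨c, c0, hc⟩ := exists_mem_unit_Λ hσ hne
  have hc' : σ c = -c := eq_neg_of_add_eq_zero_right (mem_unitP_Λ.1 hc)
  let P : Matrix (Fin 2) (Fin 2) F := !![1, θ * c; α, -(σ θ * α * c)]
  have hP : (P.map σ)ᵀ * P = !![0, c; -c, 0] := by
    ext i j; fin_cases i <;> fin_cases j <;> simp [P, mul_apply, Fin.sum_univ_two, hσ, hc']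
    · linear_combination hα
    · linear_combination c * hθ - σ θ * c * hα
    · linear_combination -c * hθ + θ * c * hα
    · linear_combination -(θ * σ θ * c * c) * hα
  have hd : IsUnit P.det := Ne.isUnit (by
    rw [show P.det = -(α * c) by simp [P, det_fin_two]; linear_combination -(α * c) * hθ]
    exact neg_ne_zero.2 (mul_ne_zero (fun e => by simp [e] at hα) c0))
  have e1 := mul_nonsing_inv P hd
  have e2 := nonsing_inv_mul P hd
  let φ : SL(2, K) →* Cfsg.SU 2 F q := MonoidHom.mk' (fun g => ⟨⟨P * g.1.map K.subtype * P⁻¹, by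
      rw [det_mul_comm, ← Matrix.mul_assoc, e2, Matrix.one_mul, ← RingHom.mapMatrix_apply, ← RingHom.map_det, g.2, map_one]⟩,
    (H19.Iso.mem_SU hq).2 (by
      have k : ((g.1.map K.subtype).map σ)ᵀ * ((P.map σ)ᵀ * P) * g.1.map K.subtype = (P.map σ)ᵀ * P := by
        have d := congrArg K.subtype ((det_fin_two g.1).symm.trans g.2)
        simp only [map_sub, map_mul, map_one, Subfield.coe_subtype] at d
        rw [hP]
        ext i j; fin_cases i <;> fin_cases j <;> simp [mul_apply, Fin.sum_univ_two, hσ']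
        · ring
        · linear_combination c * d
        · linear_combination -c * d
        · ring
      calc _ = (P⁻¹.map σ)ᵀ * (((g.1.map K.subtype).map σ)ᵀ * ((P.map σ)ᵀ * P) * g.1.map K.subtype) * P⁻¹ := by
            simp only [Matrix.map_mul, transpose_mul, Matrix.mul_assoc]
        _ = ((P * P⁻¹).map σ)ᵀ * (P * P⁻¹) := by simp only [k, Matrix.map_mul, transpose_mul, Matrix.mul_assoc]
        _ = 1 := by simp [e1])⟩) fun g h => Subtype.ext (Subtype.ext (by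
      change P * (g.1 * h.1).map _ * P⁻¹ = P * g.1.map _ * P⁻¹ * (P * h.1.map _ * P⁻¹)
      simp only [Matrix.map_mul, Matrix.mul_assoc]
      rw [← Matrix.mul_assoc P⁻¹, e2, Matrix.one_mul]))
  refine ⟨P, MulEquiv.ofBijective φ ((Nat.bijective_iff_injective_and_card φ).2 ⟨fun g h e => ?_, ?_⟩), hd, fun _ => rfl⟩
  · have : P⁻¹ * (P * g.1.map _ * P⁻¹) * P = P⁻¹ * (P * h.1.map _ * P⁻¹) * P := congr(P⁻¹ * $e.1.1 * P)
    simp only [Matrix.mul_assoc, e2, Matrix.mul_one] at this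
    simp only [← Matrix.mul_assoc, e2, Matrix.one_mul] at this
    exact Subtype.ext (Matrix.map_injective K.subtype.injective this)
  · have := Fintype.ofFinite K
    refine Nat.eq_of_mul_eq_mul_left (show 0 < q + 1 by omega) ?_
    rw [Cfsg.Agent.S0278.result hF 2 one_le_two, H10.card_SL2, ← Nat.card_eq_fintype_card, hK]
    simp [Finset.prod_range_succ, H19.Iso.sq_sub]
    ring

theorem eq_of_perfect {X : Type*} [Group X] (hp : commutator X = ⊤) (β γ : X →* G) (h : ∀ s, (β s)⁻¹ * γ s ∈ center G) (s : X) :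
    β s = γ s := by
  refine (hp ▸ Subgroup.commutator_le.2 fun a _ b _ => ?_ : ⊤ ≤ β.eqLocus γ) (mem_top s)
  change β _ = γ _
  have h1 := mem_center_iff.1 (h a) (γ b)
  have h2 := mem_center_iff.1 (h b) (β a)⁻¹
  simp only [commutatorElement_def, map_mul, map_inv]
  calc _ = β a * β b * ((β a)⁻¹ * ((β b)⁻¹ * γ b)) * (γ b)⁻¹ := by group
    _ = β a * (γ b * ((β a)⁻¹ * γ a)) * (γ a)⁻¹ * (γ b)⁻¹ := by rw [h2]; group
    _ = _ := by rw [h1]; group

theorem aut_SL2 {K : Type*} [Field K] [Finite K] (hp : commutator SL(2, K) = ⊤) (β : SL(2, K) ≃* SL(2, K)) :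
    ∃ (A : Matrix (Fin 2) (Fin 2) K) (τ : K →+* K), IsUnit A.det ∧ ∀ s, (β s).1 * A = A * s.1.map τ := by
  obtain ⟨_, rfl | h, g, τ, hg⟩ := H25.aut_PSL (H25.autPZ β)
  swap
  · simp at h
  let γ : SL(2, K) →* SL(2, K) := (H25.slConj g).toMonoidHom.comp (SpecialLinearGroup.map (τ : K →+* K))
  have h1 : ∀ s, (β s)⁻¹ * γ s ∈ center SL(2, K) := fun s => QuotientGroup.eq.1 (hg s (γ s) rfl)
  have h2 : ∀ s, β s = γ s := eq_of_perfect hp β.toMonoidHom γ h1
  refine ⟨g, τ, (Matrix.isUnit_iff_isUnit_det _).1 g.isUnit, fun s => ?_⟩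
  rw [h2]
  exact (congrArg (· * (g : Matrix _ _ K)) (H25.coe_slConj g _)).trans (by rw [Matrix.mul_assoc, Units.inv_mul, Matrix.mul_one])

theorem aut_SU2 [Fintype F] (hσ : ∀ a, σ (σ a) = a) (hne : σ ≠ RingHom.id F) (hq : ∀ x, σ x = x ^ q) (hF : Fintype.card F = q ^ 2)
    (h4 : 4 ≤ q) (α : Cfsg.SU 2 F q ≃* Cfsg.SU 2 F q) : ∃ (B : Matrix (Fin 2) (Fin 2) F) (τ : F →+* F), B.det ≠ 0 ∧
      (∀ x, σ (τ x) = τ (σ x)) ∧ ∀ u, (α u).1.1 * B = B * u.1.1.map τ := by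
  have hF' : Nat.card F = q ^ 2 := by rwa [Nat.card_eq_fintype_card]
  obtain ⟨K, hK, hf⟩ := exists_fixF hσ hne hF'
  obtain ⟨P, e, hd, he⟩ := exists_su2 hσ hne hq hF hK hf
  obtain ⟨a, a1, a2, a3, a4⟩ := exists_fix3 hσ hne hF' h4 0 1 (-1)
  obtain ⟨A, τ, hA, h⟩ := aut_SL2 (SL2.commutator_eq_top (a := (⟨a, (hf a).2 a1⟩ : K)) (fun h => a2 congr(($h).1)) fun h => by
    have : a ^ 2 = 1 := congr(($h).1)
    rw [sq, mul_self_eq_one_iff] at this; tauto) ((e.trans α).trans e.symm)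
  obtain ⟨p, hp⟩ := CharP.exists F
  have := Fact.mk (CharP.char_is_prime F p)
  obtain ⟨k, hk⟩ := H25.exists_eq_pow p (RingEquiv.ofBijective τ (Finite.injective_iff_bijective.1 τ.injective))
  have hτ : ∀ x : K, K.subtype (τ x) = iterateFrobenius F p k (K.subtype x) := fun x => by
    rw [iterateFrobenius_def, ← map_pow, ← hk]; rfl
  have hd' : IsUnit (P.map (iterateFrobenius F p k)).det := by
    rw [← RingHom.mapMatrix_apply, ← RingHom.map_det]; exact hd.map _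
  refine ⟨P * A.map K.subtype * (P.map (iterateFrobenius F p k))⁻¹, iterateFrobenius F p k, ?_, fun x => by
    simp [iterateFrobenius_def], fun u => ?_⟩
  · rw [det_mul, det_mul, ← RingHom.mapMatrix_apply K.subtype, ← RingHom.map_det]
    exact (((hd.mul (hA.map _))).mul (isUnit_nonsing_inv_det _ hd')).ne_zero
  obtain ⟨s, rfl⟩ := e.surjective u
  have h1 := congrArg (·.map K.subtype) (h s)
  have h2 := he (e.symm (α (e s)))
  simp only [Matrix.map_mul, MulEquiv.trans_apply, MulEquiv.apply_symm_apply] at h1 h2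
  have h3 : (P⁻¹).map (iterateFrobenius F p k) = (P.map (iterateFrobenius F p k))⁻¹ :=
    (inv_eq_left_inv (by rw [← Matrix.map_mul, nonsing_inv_mul P hd]; simp)).symm
  rw [h2, he, Matrix.map_mul, Matrix.map_mul, h3, show (s.1.map K.subtype).map (iterateFrobenius F p k) = (s.1.map τ).map K.subtype by
    ext i j; exact (hτ _).symm]
  simp only [Matrix.mul_assoc, nonsing_inv_mul_cancel_left _ _ hd, nonsing_inv_mul_cancel_left _ _ hd']
  rw [← Matrix.mul_assoc _ (A.map _), h1, Matrix.mul_assoc]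

variable (hq) in
/-- diagonal and field automorphisms -/
def suAut (hσ : ∀ a, σ (σ a) = a) (τ : F →+* F) (hτ : ∀ x, σ (τ x) = τ (σ x)) (δ : Fin n → F) (hδ : ∀ i, σ (δ i) * δ i = 1) :
    Cfsg.SU n F q →* Cfsg.SU n F q :=
  have h1 : diagonal (σ ∘ δ) * diagonal δ = 1 := by simp [diagonal_mul_diagonal, hδ]
  MonoidHom.mk' (fun g => ⟨⟨diagonal δ * g.1.1.map τ * diagonal (σ ∘ δ), by
      rw [det_mul_comm, ← Matrix.mul_assoc, h1, Matrix.one_mul, ← RingHom.mapMatrix_apply, ← RingHom.map_det, g.1.2, map_one]⟩,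
    (H19.Iso.mem_SU hq).2 (by
      have h2 := congrArg (·.map τ) ((H19.Iso.mem_SU hq).1 g.2)
      have h3 : ((g.1.1.map σ)ᵀ).map τ = ((g.1.1.map τ).map σ)ᵀ := by ext; simp [hτ]
      simp only [Matrix.map_mul, h3, Matrix.map_one _ (map_zero τ) (map_one τ)] at h2
      simp only [Matrix.map_mul, transpose_mul, diagonal_map (map_zero σ), diagonal_transpose, Matrix.mul_assoc]
      rw [← Matrix.mul_assoc (diagonal _) (diagonal δ), show diagonal (fun m => σ (δ m)) * diagonal δ = 1 from h1, Matrix.one_mul,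
        ← Matrix.mul_assoc _ (g.1.1.map τ), h2]
      simp [diagonal_mul_diagonal, hσ, mul_comm (δ _), hδ])⟩) fun a b => Subtype.ext (Subtype.ext (by
    change diagonal δ * (a.1.1 * b.1.1).map τ * _ = diagonal δ * a.1.1.map τ * _ * (diagonal δ * b.1.1.map τ * _)
    simp only [Matrix.map_mul, Matrix.mul_assoc]
    rw [← Matrix.mul_assoc (diagonal (σ ∘ δ)), h1, Matrix.one_mul]))

variable {hσ : ∀ a, σ (σ a) = a} {τ : F →+* F} {hτ : ∀ x, σ (τ x) = τ (σ x)}

theorem suAut_apply {δ : Fin n → F} (hδ : ∀ i, σ (δ i) * δ i = 1) (g : Cfsg.SU n F q) (i j) :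
    (suAut hq hσ τ hτ δ hδ g).1.1 i j = δ i * τ (g.1.1 i j) * σ (δ j) := by
  change (diagonal δ * g.1.1.map τ * diagonal (σ ∘ δ)) i j = _
  simp

theorem suAut_bij [Finite F] {δ : Fin n → F} (hδ : ∀ i, σ (δ i) * δ i = 1) : Function.Bijective (suAut hq hσ τ hτ δ hδ) :=
  Finite.injective_iff_bijective.1 fun a b h => Subtype.ext (Subtype.ext (Matrix.ext fun i j => by
    have := congr(($h).1.1 i j)
    have h0 : ∀ i, δ i ≠ 0 := fun i e => by simpa [e] using hδ i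
    exact τ.injective (by simpa [suAut_apply, h0] using this)))

theorem suAut_suE {δ : Fin n → F} (hδ : ∀ i, σ (δ i) * δ i = 1) (e : Fin m ↪ Fin n) (g : Cfsg.SU m F q) :
    suAut hq hσ τ hτ δ hδ (suE hq e g) = suE hq e (suAut hq hσ τ hτ (δ ∘ e) (fun _ => hδ _) g) :=
  Subtype.ext (Subtype.ext (eM_ext e (fun i j => by simp [suAut_apply, coe_suE, eM_in]) fun k k' h => by
    rw [suAut_apply, coe_suE, eM_out e _ h]
    by_cases e : k = k'
    · subst e; simp [mul_comm (δ _), hδ]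
    · simp [e]).symm)

variable (hq) in
/-- standard pairs -/
structure StP (φ : Cfsg.SU 3 F q →* G) (A B V : Subgroup G) : Prop where
  ker : φ.ker ≤ center _
  up : (φ.comp (suE hq (sh 0 (by omega) : Fin 2 ↪ Fin 3))).range = A
  lo : (φ.comp (suE hq (sh 1 (by omega) : Fin 2 ↪ Fin 3))).range = B
  top : φ.range = V

variable [Fintype F] {φ ψ : Cfsg.SU 3 F q →* G} {A B C V V' : Subgroup G}

theorem StP.aut (h : StP hq φ A B V) {δ : Fin 3 → F} (hδ : ∀ i, σ (δ i) * δ i = 1) : StP hq (φ.comp (suAut hq hσ τ hτ δ hδ)) A B V := by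
  have key : ∀ e : Fin 2 ↪ Fin 3, ((φ.comp (suAut hq hσ τ hτ δ hδ)).comp (suE hq e)).range = (φ.comp (suE hq e)).range := fun e => by
    rw [show (φ.comp (suAut hq hσ τ hτ δ hδ)).comp (suE hq e) = (φ.comp (suE hq e)).comp (suAut hq hσ τ hτ (δ ∘ e) (fun _ => hδ _)) from
      MonoidHom.ext fun g => congrArg φ (suAut_suE hδ e g), MonoidHom.range_comp, MonoidHom.range_eq_top.2 (suAut_bij _).2,
      ← MonoidHom.range_eq_map]
  exact ⟨fun x hx => (mem_center_iff_equiv (MulEquiv.ofBijective (suAut hq hσ τ hτ δ hδ) (suAut_bij hδ)) x).2 (h.ker hx), (key _).trans h.up, (key _).trans h.lo,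
    by rw [MonoidHom.range_comp, MonoidHom.range_eq_top.2 (suAut_bij _).2, ← MonoidHom.range_eq_map, h.top]⟩

include hσ
variable (hne : σ ≠ RingHom.id F)
include hne

theorem StP.inj (h : φ.ker ≤ center _) (e : Fin 2 ↪ Fin 3) {k : Fin 3} (hk : k ∉ Set.range e) : Function.Injective (φ.comp (suE hq e)) :=
  (injective_iff_map_eq_one _).2 fun u hu => by
    obtain ⟨c, hc⟩ := su_center hσ hne hq (by omega) (h hu)
    have := congr($hc k k)
    rw [coe_suE, eM_out e _ (.inl hk)] at this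
    obtain rfl : 1 = c := by simpa using this
    exact suE_inj hq e (by rw [map_one]; exact Subtype.ext (Subtype.ext (by simpa using hc)))

theorem StP.eq_one (h : φ.ker ≤ center _) {u : Cfsg.SU 2 F q}
    (hu : ∀ v : Cfsg.SU 2 F q, Commute (φ (suE hq (sh 0 (by omega)) u)) (φ (suE hq (sh 1 (by omega)) v))) : u = 1 := by
  obtain ⟨z, hz⟩ : ∃ z, suE hq (sh 0 (by omega) : Fin 2 ↪ Fin 3) u * suE hq (sh 1 (by omega)) (mk2 hq hσ 0 1 (by simp)) *
    (suE hq (sh 1 (by omega)) (mk2 hq hσ 0 1 (by simp)) * suE hq (sh 0 (by omega)) u)⁻¹ = z := ⟨_, rfl⟩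
  obtain ⟨c, hc⟩ := su_center hσ hne hq (by omega) (h (x := z) (by
    rw [MonoidHom.mem_ker, ← hz, map_mul, map_inv, map_mul, map_mul, (hu _).eq, mul_inv_cancel]))
  have h1 := congr(($(mul_inv_eq_iff_eq_mul.1 hz)).1.1)
  change eM _ _ * eM _ _ = z.1.1 * (eM _ _ * eM _ _) at h1
  rw [hc, eM_up, eM_lo] at h1
  have d := (det_fin_two u.1.1).symm.trans u.1.2
  have e1 := congr($h1 0 0)
  have e2 := congr($h1 1 0)
  have e3 := congr($h1 0 2)
  have e4 := congr($h1 1 2)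
  simp [mk2] at e1 e2 e3 e4
  have e5 : c = 1 := by rw [e2, e4] at d; linear_combination d - c * (e1 + d)
  ext i j; fin_cases i <;> fin_cases j <;> simp [e2, e3, e4, e5]
  simpa [e2, e4, e5] using d

theorem StP.step (hF : Fintype.card F = q ^ 2) (h4 : 4 ≤ q) (h : StP hq φ A B V) (h' : StP hq ψ B C V')
    (hc : ∀ x ∈ A, ∀ y ∈ C, x * y = y * x) : ∃ ψ', StP hq ψ' B C V' ∧
      ∀ u : Cfsg.SU 2 F q, φ (suE hq (sh 1 (by omega)) u) = ψ' (suE hq (sh 0 (by omega)) u) := by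
  let α := ((MonoidHom.ofInjective (StP.inj (hσ := hσ) hne h.ker (sh 1 (by omega)) (k := 0) (by rw [mem_range_sh]; simp))).trans
    (MulEquiv.subgroupCongr (h.lo.trans h'.up.symm))).trans
    (MonoidHom.ofInjective (StP.inj (hσ := hσ) hne h'.ker (sh 0 (by omega)) (k := 2) (by rw [mem_range_sh]; simp))).symm
  have hα : ∀ u, ψ (suE hq (sh 0 (by omega)) (α u)) = φ (suE hq (sh 1 (by omega)) u) := fun u =>
    MonoidHom.apply_ofInjective_symm (StP.inj (hσ := hσ) hne h'.ker (sh 0 (by omega)) (k := 2) (by rw [mem_range_sh]; simp)) _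
  obtain ⟨μ, μ1, μ2⟩ := exists_norm1 hσ hne (Nat.card_eq_fintype_card.trans hF)
  obtain ⟨M, τ, hB, hτ, e⟩ := aut_SU2 hσ hne hq hF h4 α
  have key : ∀ (M : Matrix (Fin 2) (Fin 2) F) (τ : F →+* F), M.det ≠ 0 → (∀ x, σ (τ x) = τ (σ x)) →
      (∀ u, (α u).1.1 * M = M * u.1.1.map τ) → M 0 1 = 0 → M 1 0 = 0 → ∃ ψ', StP hq ψ' B C V' ∧
      ∀ u : Cfsg.SU 2 F q, φ (suE hq (sh 1 (by omega)) u) = ψ' (suE hq (sh 0 (by omega)) u) := fun M τ hB hτ e h1 h2 => by
    rw [det_fin_two, h1, zero_mul, sub_zero, mul_ne_zero_iff] at hB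
    have e1 : ∀ u i j, (α u).1.1 i j * M j j = M i i * τ (u.1.1 i j) := fun u i j => by
      have := congr($(e u) i j)
      fin_cases i <;> fin_cases j <;> simpa [mul_apply, h1, h2] using this
    have e2 := e1 (mk2 hq hσ 0 1 (by simp)) 0 1
    have e3 := e1 (mk2 hq hσ 0 1 (by simp)) 1 0
    have e4 := (su2_ent hq (α (mk2 hq hσ 0 1 (by simp)))).2.1
    rw [show (mk2 hq hσ 0 1 (by simp)).1.1 0 1 = -1 by simp [mk2], map_neg, map_one τ, mul_neg_one (M 0 0)] at e2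
    rw [show (mk2 hq hσ 0 1 (by simp)).1.1 1 0 = 1 by simp [mk2], map_one τ, mul_one (M 1 1)] at e3
    rw [show (α _).1.1 1 0 = M 1 1 / M 0 0 from eq_div_of_mul_eq hB.1 e3,
      show (α _).1.1 0 1 = -M 0 0 / M 1 1 from eq_div_of_mul_eq hB.2 e2] at e4
    have hδ : ∀ i, σ (![1, M 1 1 / M 0 0, 1] i) * ![1, M 1 1 / M 0 0, 1] i = 1 := fun i => by
      fin_cases i <;> simp [-map_div₀, e4]; field_simp [hB.1, hB.2]
    refine ⟨_, h'.aut (hσ := hσ) (hτ := hτ) hδ, fun u => ?_⟩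
    rw [← hα, MonoidHom.comp_apply, suAut_suE]
    congr 2
    ext i j
    rw [suAut_apply, eq_div_of_mul_eq (by fin_cases j <;> simp [hB]) (e1 u i j)]
    fin_cases i <;> fin_cases j <;> simp [sh, -map_div₀, e4] <;> field_simp [hB.1, hB.2]
  let d := mk2 hq hσ μ 0 (by simpa)
  have hδ : ∀ i, σ (![σ μ, 1] i) * ![σ μ, 1] i = 1 := fun i => by fin_cases i <;> simp [hσ, mul_comm μ, μ1]
  have hδ' : ∀ u : Cfsg.SU 2 F q, suE hq (sh 0 (by omega) : Fin 2 ↪ Fin 3) d * suE hq (sh 1 (by omega)) u =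
      suE hq (sh 1 (by omega)) (suAut hq hσ (.id F) (fun _ => rfl) _ hδ u) * suE hq (sh 0 (by omega)) d := fun u =>
    Subtype.ext (Subtype.ext (by
      change eM _ _ * eM _ _ = eM _ _ * eM _ _
      simp [eM_up, eM_lo, suAut_apply, d, mk2, hσ, mul_assoc, mul_comm μ, μ1]))
  have h1 : d⁻¹ * α (suAut hq hσ (.id F) (fun _ => rfl) _ hδ (α.symm d)) = 1 := StP.eq_one (hq := hq) (hσ := hσ) hne h'.ker fun v => by
    have c1 := fun v => hc _ (h.up.le ⟨d, rfl⟩) _ (h'.lo.le ⟨v, rfl⟩)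
    have c2 := congrArg φ (hδ' (α.symm d))
    have c3 := congrArg ψ (hδ' v)
    simp only [MonoidHom.comp_apply, map_mul, ← hα, MulEquiv.apply_symm_apply] at c1 c2 c3
    rw [map_mul, map_mul, map_inv, map_inv, eq_mul_inv_of_mul_eq c2.symm]
    generalize φ (suE hq (sh 0 _) d) = x at *
    generalize ψ (suE hq (sh 0 _) d) = s at *
    have c4 := c1 v
    have c5 := c1 (suAut hq hσ (.id F) (fun _ => rfl) _ hδ v)
    generalize ψ (suE hq (sh 1 _) v) = c at *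
    generalize ψ (suE hq (sh 1 _) _) = c' at *
    calc _ = s⁻¹ * x * (s * (x⁻¹ * (c * x))) * x⁻¹ := by group
      _ = s⁻¹ * (x * c') * s * x⁻¹ := by rw [← c4, inv_mul_cancel_left, c3]; group
      _ = s⁻¹ * (c' * s) * s⁻¹ * x * s * x⁻¹ := by rw [c5]; group
      _ = _ := by rw [← c3]; group
  have h2 := congr(($(α.symm_apply_eq.2 (inv_mul_eq_one.1 h1))).1.1)
  have μ3 : μ ≠ 1 := by rintro rfl; simp at μ2
  have w1 : (α.symm d).1.1 0 1 = 0 := by
    have := congr($h2 0 1)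
    rw [suAut_apply] at this
    exact (mul_left_eq_self₀.1 (by simpa using this.symm)).resolve_left fun e => μ3 (by simpa [hσ] using congrArg σ e)
  have w2 : (α.symm d).1.1 1 0 = 0 := by simpa [w1] using (su2_ent hq (α.symm d)).2.2.1
  have h3 := e (α.symm d)
  rw [MulEquiv.apply_symm_apply] at h3
  generalize α.symm d = w at h3 w1 w2
  have h5 : ∀ j, M 0 j = 0 ∨ M 1 j = 0 := fun j => by
    by_contra! hj
    have e1 := congr($h3 0 j)
    have e2 := congr($h3 1 j)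
    refine μ2 (mul_right_cancel₀ (mul_ne_zero hj.1 hj.2) ?_)
    fin_cases j <;> simp [mul_apply, d, mk2, w1, w2] at e1 e2 <;> simp only [Fin.zero_eta, Fin.mk_one]
    · linear_combination M 0 0 * e2 - M 1 0 * e1
    · linear_combination M 0 1 * e2 - M 1 1 * e1
  by_cases h6 : M 1 0 = 0
  · exact key M τ hB hτ e ((h5 1).resolve_right fun h => hB (by simp [det_fin_two, h, h6])) h6
  have h7 := (h5 0).resolve_right h6
  refine key (M * !![0, 1; -1, 0]) (σ.comp τ) (by simpa using hB) (fun x => by simp [hτ]) (fun u => ?_) (by simp [mul_apply, h7])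
    (by simpa [mul_apply] using (h5 1).resolve_left fun h => hB (by simp [det_fin_two, h, h7]))
  rw [← Matrix.mul_assoc, e, Matrix.mul_assoc, Matrix.mul_assoc]
  congr 1
  obtain ⟨u1, u2, u3, u4⟩ := su2_ent hq u
  ext i j; fin_cases i <;> fin_cases j <;> simp [mul_apply, hτ, u1, u2, u3, u4]

theorem phan_main (hF : Fintype.card F = q ^ 2) (h4 : 4 ≤ q) (hn : 3 ≤ n) (U : Fin n → Subgroup G) (V : Fin n → Fin n → Subgroup G)
    (h1 : ∀ i j : Fin n, (i : ℕ) + 2 ≤ j → ∀ x ∈ U i, ∀ y ∈ U j, x * y = y * x)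
    (h2 : ∀ i j : Fin n, (i : ℕ) + 1 = j → ∃ φ, StP hq φ (U i) (U j) (V i j))
    (hgen : (⨆ i, U i) ⊔ (⨆ (i : Fin n) (j : Fin n) (_ : (i : ℕ) + 1 = j), V i j) = ⊤) :
    ∃ f : Cfsg.SU (n + 1) F q →* G, Function.Surjective f := by
  have hF' : Nat.card F = q ^ 2 := by rwa [Nat.card_eq_fintype_card]
  let P : ℕ → (Cfsg.SU 3 F q →* G) → Prop := fun i φ => ∀ h : i + 1 < n, StP hq φ (U ⟨i, by omega⟩) (U ⟨i + 1, h⟩) (V ⟨i, by omega⟩ ⟨i + 1, h⟩)
  have step : ∀ i (φ : {φ // P i φ}), ∃ ψ : {φ // P (i + 1) φ}, i + 2 < n →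
      ∀ u : Cfsg.SU 2 F q, φ.1 (suE hq (sh 1 (by omega)) u) = ψ.1 (suE hq (sh 0 (by omega)) u) := fun i φ => by
    by_cases h : i + 2 < n
    · obtain ⟨ψ, hψ⟩ := h2 ⟨i + 1, by omega⟩ ⟨i + 2, h⟩ rfl
      obtain ⟨ψ', e1, e2⟩ := (φ.2 (by omega)).step hne (hσ := hσ) hF h4 hψ (h1 _ _ le_rfl)
      exact ⟨⟨ψ', fun _ => e1⟩, fun _ => e2⟩
    · exact ⟨⟨1, fun h' => (h h').elim⟩, fun h' => (h h').elim⟩
  choose nx hnx using step
  obtain ⟨φ0, h0⟩ := h2 ⟨0, by omega⟩ ⟨1, by omega⟩ rfl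
  let φ : ∀ i, {φ // P i φ} := fun i => Nat.rec ⟨φ0, fun _ => h0⟩ nx i
  have hU : ∀ i (h : i + 1 < n) (u : Cfsg.SU 2 F q), (φ i).1 (suE hq (sh 0 (by omega)) u) ∈ U ⟨i, by omega⟩ ∧
      (φ i).1 (suE hq (sh 1 (by omega)) u) ∈ U ⟨i + 1, h⟩ := fun i h u => ⟨((φ i).2 h).up ▸ ⟨u, rfl⟩, ((φ i).2 h).lo ▸ ⟨u, rfl⟩⟩
  obtain ⟨ν, a, b, c, d⟩ := exists_fix3 hσ hne hF' h4 0 1 2
  obtain ⟨f, hf⟩ := phan_up (hq := hq) (hσ := hσ) (hne := hne) (n := n + 1) hF' (by omega) (fun i => (φ i).1)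
    (fun i h => phan4 (hσ := hσ) (hne := hne) hF' ⟨ν, a, b, c, d⟩ _ _ (hnx i (φ i) (by omega)) fun u v =>
      (h1 _ _ le_rfl _ (hU i (by omega) u).1 _ (hU (i + 1) (by omega) v).2).symm)
    (fun i j e h u v => su3_gen (hq := hq) (hσ := hσ) (hne := hne) ⟨ν, a, b, c⟩ (M := (centralizer {_}).comap (φ j).1)
      (fun A => mem_centralizer_singleton_iff.2 (h1 _ _ e _ (hU i (by omega) u).1 _ (hU j (by omega) A).1).symm)
      (fun A => mem_centralizer_singleton_iff.2 (h1 _ _ (by simp; omega) _ (hU i (by omega) u).1 _ (hU j (by omega) A).2).symm) v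
        |> mem_centralizer_singleton_iff.1) (.inl ⟨ν, a, b, c⟩)
  have hV : ∀ i (h : i + 1 < n), (φ i).1.range ≤ f.range := by
    rintro i h _ ⟨u, rfl⟩; exact ⟨_, hf i (by omega) u⟩
  refine ⟨f, MonoidHom.range_eq_top.1 (top_le_iff.1 (hgen ▸ sup_le (iSup_le fun i => ?_) (iSup_le fun i => iSup_le fun j => iSup_le fun e => ?_)))⟩
  · by_cases h : i.1 + 1 < n
    · exact le_trans (by rw [← ((φ i).2 h).up, MonoidHom.range_comp]; exact map_le_range _ _) (hV i h)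
    · obtain ⟨i, hi⟩ := i
      obtain ⟨i, rfl⟩ : ∃ k, i = k + 1 := ⟨i - 1, by simp at h; omega⟩
      exact le_trans (by rw [← ((φ i).2 hi).lo, MonoidHom.range_comp]; exact map_le_range _ _) (hV i hi)
  · obtain ⟨j, hj⟩ := j
    obtain rfl : i.1 + 1 = j := e
    exact ((φ i).2 hj).top ▸ hV i hj

end H11
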