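import Cfsg.Agent.H11.Phan4

/-! Copies of `SU₂(q)` in `SU₃(q)` fix a vector (`exists_fixed_SL2`); pairs with commuting tori are standard (`exists_stP`). -/

set_option autoImplicit false

namespace H11
open Subgroup Module Matrix PForm
open scoped MatrixGroups
variable {F : Type*} [Field F] {G : Type*} [Group G] {q : ℕ} {σ : F →+* F} {hσ : ∀ a, σ (σ a) = a}

namespace PForm
variable {V : Type*} [AddCommGroup V] [Module F V] {S : PForm (unitP σ hσ) V} [FiniteDimensional F V] [Finite F]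
  (hne : σ ≠ RingHom.id F) (hS : S.Nondeg) (h3 : finrank F V = 3)
include hne hS h3

theorem Nondeg.fix_line {d : S.Isom} (hd : d ∈ S.SIsom) (d1 : d ≠ 1) {m : ℕ} (hm : d ^ m = 1) (m0 : (m : F) ≠ 0) {x : V} (x0 : x ≠ 0)
    (hx : d.1 x = x) : S.h x x ≠ 0 ∧ ∀ y, d.1 y = y → ∃ c : F, c • x = y := by
  let W := LinearMap.eqLocus (d.1 : V →ₗ[F] V) LinearMap.id
  have hW : ∀ i, ∀ y ∈ W, (d ^ i).1 y = y := fun i y hy => by
    induction i with
    | zero => rfl
    | succ i ih => rw [pow_succ, isom_mul_apply, show d.1 y = y from hy, ih]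
  have nd : (S.restrict W).Nondeg := (S.restrict_nondeg_iff' _).2 fun y hy h => hS y fun w => by
    have h1 := h (∑ i ∈ Finset.range m, (d ^ i).1 w) (show d.1 _ = _ by
      have := Finset.sum_range_succ' (fun i => (d ^ i).1 w) m
      rw [Finset.sum_range_succ, hm, pow_zero, add_left_inj] at this
      rw [map_sum, LinearMap.id_apply, this]; simp [pow_succ'])
    rw [map_sum, Finset.sum_congr rfl fun i _ => show S.h y ((d ^ i).1 w) = S.h y w by rw [← isom_h (d ^ i) y w, hW i y hy]] at h1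
    simpa [m0] using h1
  have h1 : finrank F W ≤ 1 := by
    by_contra! h
    have h2 := hS.finrank_perp W
    by_cases h0 : finrank F (S.perp W) = 0
    · exact d1 (isom_ext fun y => (show y ∈ W from Submodule.eq_top_of_finrank_eq (S := W) (by omega) ▸ trivial))
    obtain ⟨v, hv, vv⟩ := unit_exists_norm_mem hne (hS.restrict_perp nd) (by omega) (map_one σ)
    have v0 : v ≠ 0 := by rintro rfl; simp at vv
    have e : (F ∙ v) = S.perp W := Submodule.eq_of_le_of_finrank_le (by simpa) (by rw [finrank_span_singleton v0]; omega)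
    obtain ⟨c, hc⟩ := Submodule.mem_span_singleton.1 (e ▸ fun y hy => by rw [← show d.1 y = y from hy, isom_h, hv y hy] : d.1 v ∈ F ∙ v)
    have c1 : σ c * c = 1 := by simpa [← hc, vv, mul_comm] using isom_h d v v
    obtain ⟨k, k1, k2, k3⟩ := exists_det_eq_of_ne (S := S) (v := v) (by simp [vv])
      ⟨Units.mk0 c (by rintro rfl; simp at c1), c1⟩
    rw [e, hS.perp_perp] at k1
    have key : ∀ y, ∃ w ∈ W, ∃ a : F, y = w + a • v := fun y => by
      obtain ⟨w, hw, z, hz, rfl⟩ := Submodule.mem_sup.1 ((S.isCompl_perp nd).sup_eq_top ▸ Submodule.mem_top (x := y))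
      obtain ⟨a, rfl⟩ := Submodule.mem_span_singleton.1 (e ▸ hz)
      exact ⟨w, hw, a, rfl⟩
    obtain rfl : d = k := isom_ext fun y => by
      obtain ⟨w, hw, a, rfl⟩ := key y
      rw [map_add, map_add, map_smul, map_smul, k1 w hw, show d.1 w = w from hw, k3]; exact congrArg (w + a • ·) hc.symm
    obtain rfl : c = 1 := congrArg Units.val (k2.symm.trans hd)
    exact d1 (isom_ext fun y => by
      obtain ⟨w, hw, a, rfl⟩ := key y
      rw [map_add, map_smul, k1 w hw, ← hc, one_smul]; rfl)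
  have e : (F ∙ x) = W := Submodule.eq_of_le_of_finrank_le (by simpa) (by rwa [finrank_span_singleton x0])
  refine ⟨fun h => x0 ((S.restrict_nondeg_iff' _).1 nd x hx fun y hy => ?_), fun y hy => Submodule.mem_span_singleton.1 (e ▸ hy)⟩
  obtain ⟨c, rfl⟩ := Submodule.mem_span_singleton.1 (e ▸ hy)
  simp [h]

omit hne [Finite F] in
theorem Nondeg.invol (h2 : (2 : F) = 0) {t : S.Isom} (t1 : t ≠ 1) (ht : t * t = 1) : ∃ u, t.1 u - u ≠ 0 ∧ S.h (t.1 u - u) (t.1 u - u) = 0 ∧
    (∀ x, t.1 x = x ↔ S.h (t.1 u - u) x = 0) ∧ ∀ x, ∃ c : F, c • (t.1 u - u) = t.1 x - x := by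
  have ad : ∀ x y, S.h (t.1 x) y = S.h x (t.1 y) := fun x y => by rw [isom_h_left, inv_eq_of_mul_eq_one_right ht]
  have o : ∀ x y, S.h (t.1 x - x) (t.1 y - y) = 0 := fun x y => by
    simp only [map_sub, LinearMap.sub_apply, isom_h, ad x y]; linear_combination (S.h x y - S.h x (t.1 y)) * h2
  obtain ⟨u, hu⟩ : ∃ u, t.1 u - u ≠ 0 := by
    by_contra! h
    exact t1 (isom_ext fun x => sub_eq_zero.1 (h x))
  have ts : S.TS (LinearMap.range ((t.1 : V →ₗ[F] V) - LinearMap.id)) :=
    ⟨by rintro _ ⟨x, rfl⟩; exact (S.unit_sing _).2 (o x x), by rintro _ ⟨x, rfl⟩ _ ⟨y, rfl⟩; exact o y x⟩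
  have := ts.two_mul_finrank_le hS
  have e : (F ∙ (t.1 u - u)) = LinearMap.range ((t.1 : V →ₗ[F] V) - LinearMap.id) := Submodule.eq_of_le_of_finrank_le
    ((Submodule.span_singleton_le_iff_mem _ _).2 ⟨u, rfl⟩) (by rw [finrank_span_singleton hu]; omega)
  have h1 : ∀ x, ∃ c : F, c • (t.1 u - u) = t.1 x - x := fun x => Submodule.mem_span_singleton.1 (e ▸ ⟨x, rfl⟩)
  refine ⟨u, hu, o u u, fun x => ⟨fun h => by simp [ad u x, h], fun h => sub_eq_zero.1 (hS _ fun y => ?_)⟩, h1⟩
  obtain ⟨c, hc⟩ := h1 y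
  rw [map_sub, LinearMap.sub_apply, ad, ← map_sub, ← hc, h_smul_right, S.h_swap_zero h, mul_zero]

theorem Nondeg.exists_fixed_SL2 {K : Type*} [Field K] (hp : commutator SL(2, K) = ⊤) (hK : (2 : K) = 0 ↔ (2 : F) = 0)
    (ρ : SL(2, K) →* S.Isom) (hρ : Function.Injective ρ) (h : ∀ g, ρ g ∈ S.SIsom) : ∃ x, x ≠ 0 ∧ ∀ g, (ρ g).1 x = x := by
  by_cases h2 : (2 : F) = 0
  · have key : ∀ (i j : Fin 2) (h : i ≠ j), ∃ e, ∀ x, S.h e x = 0 → ∀ a, (ρ (SpecialLinearGroup.transvection h a)).1 x = x := by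
      intro i j h
      have mul : ∀ a b : K, ρ (SpecialLinearGroup.transvection h a) * ρ (SpecialLinearGroup.transvection h b) =
        ρ (SpecialLinearGroup.transvection h (a + b)) := fun a b => by rw [← map_mul, SpecialLinearGroup.transvection_add]
      have sq : ∀ a : K, ρ (SpecialLinearGroup.transvection h a) * ρ (SpecialLinearGroup.transvection h a) = 1 := fun a => by
        rw [mul, ← two_mul, hK.2 h2, zero_mul, SpecialLinearGroup.transvection_coeff_zero, map_one]
      by_cases t1 : ρ (SpecialLinearGroup.transvection h 1) = 1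
      · have := congr(($(hρ (t1.trans (map_one ρ).symm))).1 i j)
        simp [SpecialLinearGroup.transvection_coe, h] at this
      obtain ⟨u, u1, u2, u3, -⟩ := hS.invol h3 h2 t1 (sq 1)
      refine ⟨(ρ (SpecialLinearGroup.transvection h 1)).1 u - u, fun x hx a => ?_⟩
      by_cases s1 : ρ (SpecialLinearGroup.transvection h a) = 1
      · rw [s1]; rfl
      obtain ⟨w, w1, w2, w3, w4⟩ := hS.invol h3 h2 s1 (sq a)
      have c : _ * _ = _ * _ := (mul 1 a).trans (add_comm 1 a ▸ (mul a 1).symm)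
      have tt := sq 1
      generalize ρ (SpecialLinearGroup.transvection h 1) = t at *
      generalize ρ (SpecialLinearGroup.transvection h a) = s at *
      obtain ⟨k, hk⟩ := w4 (t.1 w)
      rw [← isom_mul_apply s, ← c, isom_mul_apply, ← map_sub] at hk
      have k1 : (k + 1) ^ 2 = 0 := by
        have := congrArg t.1 hk
        rw [map_smul, ← isom_mul_apply, tt, ← hk, smul_smul, isom_one_apply] at this
        have := smul_left_injective F w1 (this.trans (one_smul F _).symm)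
        linear_combination this + (k + 1) * h2
      have k2 := (pow_eq_zero_iff two_ne_zero).1 k1
      rw [show k = 1 by linear_combination k2 - h2, one_smul] at hk
      have o := (u3 _).1 hk.symm
      have ts := (ts_span (S := S) (s := {t.1 u - u, s.1 w - w}) (by simp [S.unit_sing, -map_sub, u2, w2])
        (by simp [-map_sub, u2, w2, o, S.h_swap_zero o])).two_mul_finrank_le hS
      have e : (F ∙ (t.1 u - u)) = Submodule.span F {t.1 u - u, s.1 w - w} := Submodule.eq_of_le_of_finrank_le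
        (Submodule.span_mono (by simp)) (by rw [finrank_span_singleton u1]; omega)
      obtain ⟨c, hc⟩ := Submodule.mem_span_singleton.1 (e ▸ Submodule.subset_span (by simp) : s.1 w - w ∈ F ∙ (t.1 u - u))
      rw [w3, ← hc, h_smul_left, hx, mul_zero]
    obtain ⟨e, he⟩ := key 0 1 zero_ne_one
    obtain ⟨f, hf⟩ := key 1 0 one_ne_zero
    have h1 := hS.finrank_perp (Submodule.span F {e, f})
    have h4 : finrank F (Submodule.span F {e, f}) ≤ 2 := by
      classical exact (finrank_span_le_card (R := F) ({e, f} : Set V)).trans (by simpa using Finset.card_le_two)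
    obtain ⟨x, hx, x0⟩ := (S.perp (Submodule.span F {e, f})).exists_mem_ne_zero_of_ne_bot fun h => by
      rw [h, finrank_bot] at h1; omega
    refine ⟨x, x0, SL2.transvection_induction _ (fun i j h c => ?_) fun a b ha hb => by rw [map_mul, isom_mul_apply, hb, ha]⟩
    obtain ⟨h5, h6⟩ := S.mem_perp_pair.1 hx
    fin_cases i <;> fin_cases j <;> first | exact (h rfl).elim | exact he x h5 c | exact hf x h6 c
  have z1 : ρ (-1) ≠ 1 := fun e => by
    have := congr(($(hρ (e.trans (map_one ρ).symm))).1 0 0)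
    simp at this
    exact h2 (hK.1 (by linear_combination -this))
  have z2 : ρ (-1) ^ 2 = 1 := by rw [← map_pow, neg_one_sq, map_one]
  obtain ⟨x, x0, hx⟩ : ∃ x, x ≠ 0 ∧ (ρ (-1)).1 x = x := by
    by_contra! hx
    have : ρ (-1) = S.scal ⟨-1, by simp [mem_normOne]⟩ := isom_ext fun y => by
      by_contra e
      refine hx ((ρ (-1)).1 y + y) (fun h => e (by simpa using eq_neg_of_add_eq_zero_left h)) ?_
      rw [map_add, ← isom_mul_apply, ← sq, z2, add_comm]; rfl
    have h1 := congrArg Units.val (show S.detHom _ = 1 from h (-1))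
    rw [this, detHom_scal, h3] at h1
    exact h2 (by simp [pow_succ] at h1; linear_combination -h1)
  have h1 : ∀ g, ∃ c : F, c • x = (ρ g).1 x := fun g => (hS.fix_line hne h3 (h _) z1 z2 (by simpa) x0 hx).2 _ (by
    rw [← isom_mul_apply, ← map_mul, neg_one_mul, ← mul_neg_one, map_mul, isom_mul_apply, hx])
  refine ⟨x, x0, fun g => mem_fix_span.1 ((hp ▸ Subgroup.commutator_le.2 fun a _ b _ => ?_ : ⊤ ≤ (S.fix (F ∙ x)).comap ρ) (mem_top g)) x rfl⟩
  refine mem_fix_span.2 fun _ h => h ▸ ?_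
  obtain ⟨c, hc⟩ := h1 a⁻¹
  obtain ⟨c', hc'⟩ := h1 b⁻¹
  have : (ρ (a⁻¹ * b⁻¹)).1 x = (ρ (b⁻¹ * a⁻¹)).1 x := by
    rw [map_mul, map_mul, isom_mul_apply, isom_mul_apply, ← hc, ← hc', map_smul, map_smul, ← hc, ← hc', smul_comm]
  rw [commutatorElement_def, mul_assoc (a * b), map_mul, isom_mul_apply, this, ← isom_mul_apply, ← map_mul, ← _root_.mul_inv_rev,
    mul_inv_cancel, map_one]; rfl

end PForm

theorem exists_stP [Fintype F] (hq : ∀ x, σ x = x ^ q) (hσ : ∀ a, σ (σ a) = a) (hne : σ ≠ RingHom.id F) (hF : Fintype.card F = q ^ 2)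
    (h4 : 4 ≤ q) {A B : Subgroup G} (eA : Cfsg.SU 2 F q ≃* A) (eB : Cfsg.SU 2 F q ≃* B) (θ : ↥(A ⊔ B) ≃* Cfsg.SU 3 F q) {d d' : G}
    (hd : d ∈ A) (hd' : d' ∈ B) (od : orderOf d = q + 1) (od' : orderOf d' = q + 1) (hc : d * d' = d' * d) :
    ∃ φ, StP hq φ A B (A ⊔ B) := by
  have hF' : Nat.card F = q ^ 2 := by rwa [Nat.card_eq_fintype_card]
  obtain ⟨K, hK, hf⟩ := exists_fixF hσ hne hF'
  obtain ⟨P, e, -, -⟩ := exists_su2 hσ hne hq hF hK hf
  obtain ⟨a, a1, a2, a3, a4⟩ := exists_fix3 hσ hne hF' h4 0 1 (-1)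
  have hp := SL2.commutator_eq_top (a := (⟨a, (hf a).2 a1⟩ : K)) (fun h => a2 congr(($h).1)) fun h => by
    have : a ^ 2 = 1 := congr(($h).1)
    rw [sq, mul_self_eq_one_iff] at this; tauto
  have hS := stdUnit_nondeg hσ hne (Fin 3)
  let E := θ.trans (suEquiv hσ hne hq 3)
  let κ := (Subgroup.subtype _).comp E.toMonoidHom
  have hκ : Function.Injective κ := Subtype.val_injective.comp E.injective
  have q0 : ((q + 1 : ℕ) : F) ≠ 0 := by
    have := FiniteField.cast_card_eq_zero F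
    rw [hF, Nat.cast_pow, pow_eq_zero_iff two_ne_zero] at this
    simp [this]
  have key : ∀ (C : Subgroup G) (hC : C ≤ A ⊔ B) (_ : Cfsg.SU 2 F q ≃* C) d (hd : d ∈ C), orderOf d = q + 1 → ∃ x,
      (stdUnit hσ hne (Fin 3)).h x x = 1 ∧ (∀ g hg, (κ ⟨g, hC hg⟩).1 x = x) ∧ ∀ y, (κ ⟨d, hC hd⟩).1 y = y → ∃ c : F, c • x = y := by
    intro C hC eC d hd od
    obtain ⟨x, x0, hx⟩ := hS.exists_fixed_SL2 hne (by simp) hp (by rw [← K.subtype.injective.eq_iff, map_ofNat, map_zero])
      (κ.comp ((inclusion hC).comp (e.trans eC).toMonoidHom)) (hκ.comp ((inclusion_injective hC).comp (e.trans eC).injective))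
      fun g => (E _).2
    replace hx : ∀ g hg, (κ ⟨g, hC hg⟩).1 x = x := fun g hg => by
      have : (κ (inclusion hC ((e.trans eC) ((e.trans eC).symm ⟨g, hg⟩)))).1 x = x := hx _
      rwa [MulEquiv.apply_symm_apply] at this
    have o : orderOf (κ ⟨d, hC hd⟩) = q + 1 := by rw [orderOf_injective κ hκ, ← od, ← orderOf_coe]
    have fl := fun x => hS.fix_line hne (by simp) (x := x) (E ⟨d, hC hd⟩).2 (fun h : κ _ = 1 => by simp [h] at o; omega)
      (o ▸ pow_orderOf_eq_one (κ _)) q0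
    obtain ⟨c, hc⟩ := unit_exists_smul_norm hne (fl x x0 (hx d hd)).1 (map_one σ)
    have h1 : ∀ g hg, (κ ⟨g, hC hg⟩).1 (c • x) = c • x := fun g hg => by rw [map_smul, hx g hg]
    exact ⟨_, hc, h1, (fl _ (fun e => by simp [e] at hc) (h1 d hd)).2⟩
  obtain ⟨x, xx, x1, x2⟩ := key A le_sup_left eA d hd od
  obtain ⟨y, yy, y1, y2⟩ := key B le_sup_right eB d' hd' od'
  have up := fun s hs h => hS.unit_perp' hne (A := F ∙ x) (s := s) (k := 1) (fun a ha ha' => by
    obtain ⟨c, rfl⟩ := Submodule.mem_span_singleton.1 ha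
    have := (mem_perp_singleton _).1 ha'
    rw [h_smul_right, xx, mul_one] at this; simp [this]) ((mem_perp_singleton _).2 hs)
    (by simpa using finrank_span_le_card (R := F) ({x} : Set _)) (.inr ⟨by simp, h⟩)
  have xy : (stdUnit hσ hne (Fin 3)).h x y = 0 := by
    obtain ⟨c, hc'⟩ := x2 ((κ ⟨d', le_sup_right (a := A) hd'⟩).1 x) (by
      rw [← isom_mul_apply, ← map_mul, show (⟨d, le_sup_left (b := B) hd⟩ * ⟨d', le_sup_right (a := A) hd'⟩ : ↥(A ⊔ B)) =
        ⟨d', le_sup_right (a := A) hd'⟩ * ⟨d, le_sup_left (b := B) hd⟩ from Subtype.ext hc, map_mul,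
        isom_mul_apply, x1 d hd])
    by_contra h
    have h1 := isom_h (κ ⟨d', le_sup_right (a := A) hd'⟩) x y
    rw [← hc', y1 d' hd', h_smul_left, mul_left_eq_self₀, or_iff_left h] at h1
    obtain rfl : c = 1 := by simpa [hσ] using congrArg σ h1
    obtain ⟨c, rfl⟩ := y2 x (by rw [← hc', one_smul])
    obtain ⟨z, z1, zz, -⟩ := up 0 (by simp) (.inr rfl)
    replace z1 := (mem_perp_singleton _).1 z1
    obtain ⟨g, g1, -, g2⟩ := hS.su_fix ⊥ (u := c • y) (u' := z) (fun e => by simp [(Submodule.mem_bot F).1 e] at xx)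
      (fun e => by simp [(Submodule.mem_bot F).1 e] at zz) (zz.trans xx.symm) (by simp) xx (by simp [mem_perp]) (h_swap_zero _ z1)
    obtain ⟨w, hw, e⟩ := (sup_le (fun u hu => ⟨⟨u, _⟩, mem_fix_span.2 fun _ h => h ▸ x1 u hu, rfl⟩)
      (fun u hu => ⟨⟨u, _⟩, mem_fix_span.2 fun _ h => by rw [h, map_smul, y1 u hu], rfl⟩) :
      A ⊔ B ≤ (((stdUnit hσ hne (Fin 3)).fix (F ∙ c • y)).comap κ).map (A ⊔ B).subtype) (E.symm ⟨g, g1⟩).2
    obtain rfl : w = E.symm ⟨g, g1⟩ := Subtype.ext e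
    have := mem_fix_span.1 hw _ rfl
    rw [show κ (E.symm ⟨g, g1⟩) = g by simp [κ], g2] at this
    rw [this, xx] at z1; exact one_ne_zero z1
  obtain ⟨z, z1, zz, yz⟩ := up y xy (.inl (by simp [yy]))
  have xz := (mem_perp_singleton _).1 z1
  obtain ⟨g, hg⟩ := hS.witt_fam (Pi.single · 1) ![y, z, x] (by
      have := (Pi.basisFun F (Fin 3)).linearIndependent
      rwa [show ⇑(Pi.basisFun F (Fin 3)) = fun i => Pi.single i 1 by ext1; simp] at this)
    (Fintype.linearIndependent_iff.2 fun c hc i => by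
      have h0 := congrArg ((stdUnit hσ hne (Fin 3)).h (![y, z, x] i)) hc
      fin_cases i <;> simpa [Fin.sum_univ_three, xx, yy, zz, xy, xz, yz, h_swap_zero _ xy, h_swap_zero _ xz, h_swap_zero _ yz] using h0)
    (fun i j => by
      fin_cases i <;> fin_cases j <;> simp [stdUnit_single, xx, yy, zz, xy, xz, yz, h_swap_zero _ xy, h_swap_zero _ xz, h_swap_zero _ yz])
    (fun i => (unit_q_congr_iff _ _ _ _).2 (by fin_cases i <;> simp [stdUnit_single, xx, yy, zz]))
  let E' := ((suEquiv hσ hne hq 3).trans (MulAut.conjNormal g)).trans E.symm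
  have key2 : ∀ (C : Subgroup G) (hC : C ≤ A ⊔ B) (_ : Cfsg.SU 2 F q ≃* C) (e : Fin 2 ↪ Fin 3) k, (∀ j, j ≠ k → j ∈ Set.range e) →
      (∀ u hu, (κ ⟨u, hC hu⟩).1 (![y, z, x] k) = ![y, z, x] k) → (((A ⊔ B).subtype.comp E'.toMonoidHom).comp (suE hq e)).range = C := by
    intro C hC eC e k hk h
    have := Finite.of_surjective _ (((A ⊔ B).subtype.comp E'.toMonoidHom).comp (suE hq e)).rangeRestrict_surjective
    refine (eq_of_le_of_card_ge (fun u hu => ?_) (by
      rw [← Nat.card_congr eC.toEquiv]; exact Nat.card_le_card_of_surjective _ (MonoidHom.rangeRestrict_surjective _))).symm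
    obtain ⟨w, hw⟩ := exists_jE (hq := hq) e (I := {j | j ≠ k}) hk (g := g⁻¹ * κ ⟨u, hC hu⟩ * g) ((mem_blk_diff (I := Set.univ) (a := k)
      (by simp) _).2 ⟨⟨by
        have := (PForm.instNormalSIsom _).conj_mem _ (E ⟨u, hC hu⟩).2 g⁻¹
        rw [inv_inv] at this; exact this, fun x hx => by
        rw [show x = 0 from funext fun i => hx i trivial, map_zero]⟩, by
        rw [isom_mul_apply, isom_mul_apply, hg, h u hu, ← hg, isom_inv_apply_self]⟩)
    refine ⟨w, congrArg Subtype.val (show E' _ = ⟨u, hC hu⟩ from E.symm_apply_eq.2 (Subtype.ext ?_))⟩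
    change g * jE hq hσ hne e w * g⁻¹ = κ _
    rw [hw]; group
  exact ⟨(A ⊔ B).subtype.comp E'.toMonoidHom, fun x hx => by
    obtain rfl : x = 1 := E'.injective (Subtype.ext (by simpa using hx))
    exact Subgroup.one_mem _, key2 A le_sup_left eA _ 2 (fun j => by rw [mem_range_sh]; fin_cases j <;> simp) x1,
    key2 B le_sup_right eB _ 0 (fun j => by rw [mem_range_sh]; fin_cases j <;> simp) y1, by
    rw [MonoidHom.range_comp, MonoidHom.range_eq_top.2 E'.surjective, ← MonoidHom.range_eq_map, Subgroup.range_subtype]⟩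

end H11
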