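import Cfsg.Agent.H11.Phan5

/-! Phan systems for small `q`: block preserving automorphisms of `SU₃`, windows `Win`, assembly `phan_small`. -/

set_option autoImplicit false

namespace H11
open Subgroup Module Matrix PForm
open scoped MatrixGroups
variable {F : Type*} [Field F] {G : Type*} [Group G] {m n q : ℕ} {σ : F →+* F} {hq : ∀ x, σ x = x ^ q}

theorem tv_pow {K : Type*} [Field K] {i j : Fin 2} (h : i ≠ j) (c : K) (k : ℕ) :
    SpecialLinearGroup.transvection h c ^ k = SpecialLinearGroup.transvection h (k * c) := by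
  induction k with
  | zero => simp [SpecialLinearGroup.transvection_coeff_zero]
  | succ k ih => rw [pow_succ, ih, ← SpecialLinearGroup.transvection_add]; simp [add_mul]

theorem aut_SL2' {K : Type*} [Field K] [Finite K] (β : SL(2, K) ≃* SL(2, K)) :
    ∃ (A : Matrix (Fin 2) (Fin 2) K) (τ : K →+* K), IsUnit A.det ∧ ∀ s, (β s).1 * A = A * s.1.map τ := by
  obtain ⟨_, rfl | h, g, τ, hg⟩ := H25.aut_PSL (H25.autPZ β)
  swap
  · simp at h
  let γ : SL(2, K) →* SL(2, K) := (H25.slConj g).toMonoidHom.comp (SpecialLinearGroup.map (τ : K →+* K))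
  have h1 : ∀ s, (β s)⁻¹ * γ s ∈ center SL(2, K) := fun s => QuotientGroup.eq.1 (hg s (γ s) rfl)
  obtain ⟨p, hp⟩ := CharP.exists K
  have := Fact.mk (CharP.char_is_prime K p)
  have h2 : ∀ s, β s = γ s := SL2.transvection_induction _ (fun i j h c => by
    have e : SpecialLinearGroup.transvection h c ^ p = 1 := by simp [tv_pow, SpecialLinearGroup.transvection_coeff_zero]
    generalize SpecialLinearGroup.transvection h c = s at e
    have e2 := (show Commute (β s) ((β s)⁻¹ * γ s) from mem_center_iff.1 (h1 s) _).mul_pow p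
    rw [mul_inv_cancel_left, ← map_pow, ← map_pow, e, map_one, map_one, one_mul] at e2
    obtain ⟨r, -, hr⟩ := Matrix.SpecialLinearGroup.mem_center_iff.1 (h1 s)
    have e3 := congr(($e2).1 0 0)
    rw [Matrix.SpecialLinearGroup.coe_pow, ← hr, ← map_pow] at e3
    obtain rfl : 1 = r := frobenius_inj K p (by simpa [frobenius_def] using e3)
    exact inv_mul_eq_one.1 (Subtype.ext (by simpa using hr.symm))) fun a b ha hb => by rw [map_mul, map_mul, ha, hb]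
  refine ⟨g, τ, (Matrix.isUnit_iff_isUnit_det _).1 g.isUnit, fun s => ?_⟩
  rw [h2]
  exact (congrArg (· * (g : Matrix _ _ K)) (H25.coe_slConj g _)).trans (by rw [Matrix.mul_assoc, Units.inv_mul, Matrix.mul_one])

theorem aut_SU2' [Fintype F] (hσ : ∀ a, σ (σ a) = a) (hne : σ ≠ RingHom.id F) (hq : ∀ x, σ x = x ^ q) (hF : Fintype.card F = q ^ 2)
    (α : Cfsg.SU 2 F q ≃* Cfsg.SU 2 F q) : ∃ (B : Matrix (Fin 2) (Fin 2) F) (τ : F →+* F), B.det ≠ 0 ∧
      (∀ x, σ (τ x) = τ (σ x)) ∧ ∀ u, (α u).1.1 * B = B * u.1.1.map τ := by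
  have hF' : Nat.card F = q ^ 2 := by rwa [Nat.card_eq_fintype_card]
  obtain ⟨K, hK, hf⟩ := exists_fixF hσ hne hF'
  obtain ⟨P, e, hd, he⟩ := exists_su2 hσ hne hq hF hK hf
  obtain ⟨A, τ, hA, h⟩ := aut_SL2' ((e.trans α).trans e.symm)
  obtain ⟨p, hp⟩ := CharP.exists F
  have := Fact.mk (CharP.char_is_prime F p)
  obtain ⟨k, hk⟩ := H25.exists_eq_pow p (RingEquiv.ofBijective τ (Finite.injective_iff_bijective.1 τ.injective))
  have hτ : ∀ x : K, K.subtype (τ x) = iterateFrobenius F p k (K.subtype x) := fun x => by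
    rw [iterateFrobenius_def, ← map_pow, ← hk]; rfl
  have hd' : IsUnit (P.map (iterateFrobenius F p k)).det := by
    rw [← RingHom.mapMatrix_apply, ← RingHom.map_det]; exact hd.map _
  refine ⟨P * A.map K.subtype * (P.map (iterateFrobenius F p k))⁻¹, iterateFrobenius F p k, ?_, fun x => by
    simp [iterateFrobenius_def], fun u => ?_⟩
  · rw [det_mul, det_mul, ← RingHom.mapMatrix_apply K.subtype, ← RingHom.map_det]
    exact (((hd.mul (hA.map _))).mul (isUnit_nonsing_inv_det _ hd')).ne_zero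
  obtain ⟨s, rfl⟩ := e.surjective u
  have h1 := congrArg (·.map K.subtype) (h s)
  have h2 := he (e.symm (α (e s)))
  simp only [Matrix.map_mul, MulEquiv.trans_apply, MulEquiv.apply_symm_apply] at h1 h2
  have h3 : (P⁻¹).map (iterateFrobenius F p k) = (P.map (iterateFrobenius F p k))⁻¹ :=
    (inv_eq_left_inv (by rw [← Matrix.map_mul, nonsing_inv_mul P hd]; simp)).symm
  rw [h2, he, Matrix.map_mul, Matrix.map_mul, h3, show (s.1.map K.subtype).map (iterateFrobenius F p k) = (s.1.map τ).map K.subtype by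
    ext i j; exact (hτ _).symm]
  simp only [Matrix.mul_assoc, nonsing_inv_mul_cancel_left _ _ hd, nonsing_inv_mul_cancel_left _ _ hd']
  rw [← Matrix.mul_assoc _ (A.map _), h1, Matrix.mul_assoc]

theorem aut_mono [Fintype F] (hσ : ∀ a, σ (σ a) = a) (hne : σ ≠ RingHom.id F) (hq : ∀ x, σ x = x ^ q) (hF : Fintype.card F = q ^ 2)
    (α : Cfsg.SU 2 F q ≃* Cfsg.SU 2 F q) {μ : F} (μ1 : σ μ * μ = 1) (μ2 : σ μ ≠ μ)
    (w1 : (α.symm (mk2 hq hσ μ 0 (by simpa))).1.1 0 1 = 0) : ∃ τ hτ δ hδ, δ 0 = 1 ∧ ∀ u, α u = suAut hq hσ τ hτ δ hδ u := by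
  obtain ⟨M, τ, hB, hτ, e⟩ := aut_SU2' hσ hne hq hF α
  have key : ∀ (M : Matrix (Fin 2) (Fin 2) F) (τ : F →+* F), M.det ≠ 0 → (∀ x, σ (τ x) = τ (σ x)) →
      (∀ u, (α u).1.1 * M = M * u.1.1.map τ) → M 0 1 = 0 → M 1 0 = 0 →
      ∃ τ hτ δ hδ, δ 0 = 1 ∧ ∀ u, α u = suAut hq hσ τ hτ δ hδ u := fun M τ hB hτ e h1 h2 => by
    rw [det_fin_two, h1, zero_mul, sub_zero, mul_ne_zero_iff] at hB
    have e1 : ∀ u i j, (α u).1.1 i j * M j j = M i i * τ (u.1.1 i j) := fun u i j => by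
      have := congr($(e u) i j)
      fin_cases i <;> fin_cases j <;> simpa [mul_apply, h1, h2] using this
    have e2 := e1 (mk2 hq hσ 0 1 (by simp)) 0 1
    have e3 := e1 (mk2 hq hσ 0 1 (by simp)) 1 0
    have e4 := (su2_ent hq (α (mk2 hq hσ 0 1 (by simp)))).2.1
    rw [show (mk2 hq hσ 0 1 (by simp)).1.1 0 1 = -1 by simp [mk2], map_neg, map_one τ, mul_neg_one (M 0 0)] at e2
    rw [show (mk2 hq hσ 0 1 (by simp)).1.1 1 0 = 1 by simp [mk2], map_one τ, mul_one (M 1 1)] at e3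
    rw [show (α _).1.1 1 0 = M 1 1 / M 0 0 from eq_div_of_mul_eq hB.1 e3,
      show (α _).1.1 0 1 = -M 0 0 / M 1 1 from eq_div_of_mul_eq hB.2 e2] at e4
    have hδ : ∀ i, σ (![1, M 1 1 / M 0 0] i) * ![1, M 1 1 / M 0 0] i = 1 := fun i => by
      fin_cases i <;> simp [-map_div₀, e4]; field_simp [hB.1, hB.2]
    refine ⟨τ, hτ, _, hδ, rfl, fun u => ?_⟩
    ext i j
    rw [suAut_apply, eq_div_of_mul_eq (by fin_cases j <;> simp [hB]) (e1 u i j)]
    fin_cases i <;> fin_cases j <;> simp [-map_div₀, e4] <;> field_simp [hB.1, hB.2]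
  set d := mk2 hq hσ μ 0 (by simpa) with hd
  have w2 : (α.symm d).1.1 1 0 = 0 := by simpa [w1] using (su2_ent hq (α.symm d)).2.2.1
  have h3 := e (α.symm d)
  rw [MulEquiv.apply_symm_apply] at h3
  generalize α.symm d = w at h3 w1 w2
  have h5 : ∀ j, M 0 j = 0 ∨ M 1 j = 0 := fun j => by
    by_contra! hj
    have e1 := congr($h3 0 j)
    have e2 := congr($h3 1 j)
    refine μ2 (mul_right_cancel₀ (mul_ne_zero hj.1 hj.2) ?_)
    fin_cases j <;> simp [mul_apply, hd, mk2, w1, w2] at e1 e2 <;> simp only [Fin.zero_eta, Fin.mk_one]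
    · linear_combination M 0 0 * e2 - M 1 0 * e1
    · linear_combination M 0 1 * e2 - M 1 1 * e1
  by_cases h6 : M 1 0 = 0
  · exact key M τ hB hτ e ((h5 1).resolve_right fun h => hB (by simp [det_fin_two, h, h6])) h6
  have h7 := (h5 0).resolve_right h6
  refine key (M * !![0, 1; -1, 0]) (σ.comp τ) (by simpa using hB) (fun x => by simp [hτ]) (fun u => ?_) (by simp [mul_apply, h7])
    (by simpa [mul_apply] using (h5 1).resolve_left fun h => hB (by simp [det_fin_two, h, h7]))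
  rw [← Matrix.mul_assoc, e, Matrix.mul_assoc, Matrix.mul_assoc]
  congr 1
  obtain ⟨u1, u2, u3, u4⟩ := su2_ent hq u
  ext i j; fin_cases i <;> fin_cases j <;> simp [mul_apply, hτ, u1, u2, u3, u4]

local notation "u2" => suE hq (sh 0 (by omega) : Fin 2 ↪ Fin 3)
local notation "l2" => suE hq (sh 1 (by omega) : Fin 2 ↪ Fin 3)
local notation "u3" => suE hq (sh 0 (by omega) : Fin 3 ↪ Fin 4)
local notation "l3" => suE hq (sh 1 (by omega) : Fin 3 ↪ Fin 4)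

variable {hσ : ∀ a, σ (σ a) = a}

theorem norm_pair {μ : F} (μ1 : σ μ * μ = 1) (hσ : ∀ a, σ (σ a) = a) (i) : σ (![σ μ, 1] i) * ![σ μ, 1] i = 1 := by
  fin_cases i <;> simp [hσ, mul_comm μ, μ1]

theorem up_mul_lo {μ : F} (μ1 : σ μ * μ = 1) (u : Cfsg.SU 2 F q) : u2 (mk2 hq hσ μ 0 (by simpa)) * l2 u =
    l2 (suAut hq hσ (.id F) (fun _ => rfl) _ (norm_pair μ1 hσ) u) * u2 (mk2 hq hσ μ 0 (by simpa)) :=
  Subtype.ext (Subtype.ext (by
    change eM _ _ * eM _ _ = eM _ _ * eM _ _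
    simp [eM_up, eM_lo, suAut_apply, mk2, hσ, mul_assoc, mul_comm μ, μ1]))

theorem exists_cyc (hq : ∀ x, σ x = x ^ q) : ∃ c : Cfsg.SU 3 F q, c.1.1 = !![0, 0, 1; 1, 0, 0; 0, 1, 0] ∧ ∀ u, c * u2 u = l2 u * c :=
  ⟨⟨⟨_, by simp [det_fin_three]⟩, (H19.Iso.mem_SU hq).2 (by
    ext i j; fin_cases i <;> fin_cases j <;> simp [mul_apply, Fin.sum_univ_three])⟩, rfl, fun u => Subtype.ext (Subtype.ext (by
      change !![0, 0, 1; 1, 0, 0; 0, 1, 0] * eM _ _ = eM _ _ * !![0, 0, 1; 1, 0, 0; 0, 1, 0]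
      simp [eM_up, eM_lo]))⟩

theorem exists_tr {X : Type*} [Group X] {f g : X →* G} (hf : Function.Injective f) (hg : Function.Injective g) (h : f.range = g.range) :
    ∃ α : X ≃* X, ∀ u, g (α u) = f u :=
  ⟨((MonoidHom.ofInjective hf).trans (MulEquiv.subgroupCongr h)).trans (MonoidHom.ofInjective hg).symm,
    fun _ => MonoidHom.apply_ofInjective_symm hg _⟩

variable [Fintype F] {φ ψ : Cfsg.SU 3 F q →* G} {A B C V V' : Subgroup G}

theorem StP.rev (h : StP hq φ A B V) : StP hq (φ.comp (suE hq Fin.revPerm.toEmbedding)) B A V := by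
  have b : ∀ k, Function.Bijective (suE hq (Fin.revPerm.toEmbedding : Fin k ↪ Fin k)) := fun k =>
    Finite.injective_iff_bijective.1 (suE_inj hq _)
  have key : ∀ e e' : Fin 2 ↪ Fin 3, (∀ i, (e i).rev = e' i.rev) →
      ((φ.comp (suE hq Fin.revPerm.toEmbedding)).comp (suE hq e)).range = (φ.comp (suE hq e')).range := fun e e' h => by
    rw [show (φ.comp (suE hq Fin.revPerm.toEmbedding)).comp (suE hq e) = (φ.comp (suE hq e')).comp (suE hq Fin.revPerm.toEmbedding) from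
      MonoidHom.ext fun g => congrArg φ ((suE_suE hq (e'' := e.trans Fin.revPerm.toEmbedding) (fun _ => rfl) g).trans
        (suE_suE hq (fun i => (h i).symm) g).symm), MonoidHom.range_comp, MonoidHom.range_eq_top.2 (b 2).2, ← MonoidHom.range_eq_map]
  exact ⟨fun x hx => (mem_center_iff_equiv (MulEquiv.ofBijective _ (b 3)) x).2 (h.ker hx), (key _ _ (by decide)).trans h.lo,
    (key _ _ (by decide)).trans h.up, by rw [MonoidHom.range_comp, MonoidHom.range_eq_top.2 (b 3).2, ← MonoidHom.range_eq_map, h.top]⟩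

include hσ
variable (hne : σ ≠ RingHom.id F) (hF : Fintype.card F = q ^ 2)
include hne

theorem inj_suE {f : Cfsg.SU n F q →* G} (h : f.ker ≤ center _) (hn : 2 ≤ n) (e : Fin m ↪ Fin n) {k : Fin n} (hk : k ∉ Set.range e) :
    Function.Injective (f.comp (suE hq e)) :=
  (injective_iff_map_eq_one _).2 fun u hu => by
    obtain ⟨c, hc⟩ := su_center hσ hne hq hn (h hu)
    have := congr($hc k k)
    rw [coe_suE, eM_out e _ (.inl hk)] at this
    obtain rfl : 1 = c := by simpa using this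
    exact suE_inj hq e (by rw [map_one]; exact Subtype.ext (Subtype.ext (by simpa using hc)))

theorem StP.inj_up (h : StP hq φ A B V) : Function.Injective (φ.comp u2) :=
  StP.inj (hσ := hσ) hne h.ker _ (k := 2) (by rw [mem_range_sh]; simp)

theorem StP.inj_lo (h : StP hq φ A B V) : Function.Injective (φ.comp l2) :=
  StP.inj (hσ := hσ) hne h.ker _ (k := 0) (by rw [mem_range_sh]; simp)

include hF

theorem StP.adj1 (h : StP hq φ A B V) (h' : StP hq ψ A B V') (hi : Function.Injective φ) :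
    ∃ τ hτ δ hδ, ∀ u, φ (u2 u) = ψ (u2 (suAut hq hσ τ hτ δ hδ u)) := by
  obtain ⟨α, hα⟩ := exists_tr (h.inj_up (hσ := hσ) hne) (h'.inj_up (hσ := hσ) hne) (h.up.trans h'.up.symm)
  obtain ⟨μ, μ1, μ2⟩ := exists_norm1 hσ hne (Nat.card_eq_fintype_card.trans hF)
  obtain ⟨τ, hτ, δ, hδ, -, e⟩ := aut_mono hσ hne hq hF α μ1 μ2 (by
    obtain ⟨v, hv⟩ := h'.lo.ge (h.lo.le ⟨mk2 hq hσ μ 0 (by simpa), rfl⟩)
    obtain ⟨v', hv'⟩ := h.lo.ge (h'.lo.le ⟨suAut hq hσ (.id F) (fun _ => rfl) _ (norm_pair μ1 hσ) v, rfl⟩)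
    have c1 := congrArg ψ (up_mul_lo (hq := hq) (hσ := hσ) μ1 v)
    have c2 := hα (α.symm (mk2 hq hσ μ 0 (by simpa)))
    simp only [MonoidHom.comp_apply, MulEquiv.apply_symm_apply] at hv hv' c2
    rw [map_mul, map_mul, hv, ← hv', c2, ← map_mul, ← map_mul] at c1
    have c3 := congr(($(hi c1)).1.1 0 1)
    change (eM _ _ * eM _ _ : Matrix _ _ F) 0 1 = (eM _ _ * eM _ _ : Matrix _ _ F) 0 1 at c3
    rw [eM_up, eM_lo, eM_lo] at c3
    generalize α.symm _ = w at c3 ⊢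
    exact (mul_right_eq_self₀.1 (by simpa [mk2] using c3)).resolve_left fun e => μ2 (by simp [show μ = 1 from e]))
  exact ⟨τ, hτ, δ, hδ, fun u => by rw [← e]; exact (hα u).symm⟩

theorem StP.adj2 (h3 : ∀ x : F, σ x = x → x = 0 ∨ x = 1 ∨ x = -1) (h : StP hq φ A B V) (h' : StP hq ψ A B V') (e0 : ∀ u, φ (u2 u) = ψ (u2 u)) :
    ∃ δ hδ, δ 0 = 1 ∧ ∀ u, φ (l2 u) = ψ (l2 (suAut hq hσ (.id F) (fun _ => rfl) δ hδ u)) := by
  obtain ⟨α, hα⟩ := exists_tr (h.inj_lo (hσ := hσ) hne) (h'.inj_lo (hσ := hσ) hne) (h.lo.trans h'.lo.symm)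
  obtain ⟨μ, μ1, μ2⟩ := exists_norm1 hσ hne (Nat.card_eq_fintype_card.trans hF)
  simp only [MonoidHom.comp_apply] at hα
  have c : ∀ u, α (suAut hq hσ (.id F) (fun _ => rfl) _ (norm_pair μ1 hσ) u) =
      suAut hq hσ (.id F) (fun _ => rfl) _ (norm_pair μ1 hσ) (α u) := fun u => h'.inj_lo (hσ := hσ) hne (by
    have c1 := congrArg φ (up_mul_lo (hq := hq) (hσ := hσ) μ1 u)
    have c2 := congrArg ψ (up_mul_lo (hq := hq) (hσ := hσ) μ1 (α u))
    rw [map_mul, map_mul, e0, ← hα, ← hα] at c1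
    rw [map_mul, map_mul] at c2
    exact mul_right_cancel (c1.symm.trans c2))
  have μ3 : σ μ ≠ 1 := fun e => μ2 (by rw [e, ← μ1, e, one_mul])
  obtain ⟨τ, hτ, δ, hδ, δ0, e⟩ := aut_mono hσ hne hq hF α μ1 μ2 (by
    have c1 := c (α.symm (mk2 hq hσ μ 0 (by simpa)))
    rw [MulEquiv.apply_symm_apply, show suAut hq hσ (.id F) (fun _ => rfl) _ (norm_pair μ1 hσ) (mk2 hq hσ μ 0 (by simpa)) = mk2 hq hσ μ 0 (by simpa) by
      ext i j; rw [suAut_apply]; fin_cases i <;> fin_cases j <;> simp [mk2, hσ, μ1]] at c1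
    have c2 := congr(($(α.symm_apply_eq.2 c1.symm)).1.1 0 1)
    rw [suAut_apply] at c2
    exact (mul_left_eq_self₀.1 (by simpa using c2.symm)).resolve_left μ3)
  have t1 : τ (σ μ) = σ μ := by
    have c1 := congr(($(c (mk2 hq hσ 0 1 (by simp)))).1.1 0 1)
    simp only [e, suAut_apply] at c1
    have : σ (δ 1) ≠ 0 := left_ne_zero_of_mul_eq_one (hδ 1)
    simpa [mk2, δ0, this] using c1
  obtain rfl : τ = .id F := RingHom.ext fun x => by
    have t2 : ∀ y, σ y = y → τ y = y := fun y hy => by rcases h3 y hy with rfl | rfl | rfl <;> simp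
    have d0 : σ μ - μ ≠ 0 := sub_ne_zero.2 μ2
    have b1 : σ ((x - σ x) / (σ μ - μ)) = (x - σ x) / (σ μ - μ) := by
      rw [map_div₀, map_sub, map_sub, hσ, hσ, ← neg_div_neg_eq]; simp
    have b2 : σ (x - (x - σ x) / (σ μ - μ) * σ μ) = x - (x - σ x) / (σ μ - μ) * σ μ := by
      rw [map_sub, map_mul, b1, hσ]; field_simp; ring
    have := t2 _ b2
    rw [map_sub, map_mul, t2 _ b1, t1] at this
    exact sub_left_injective this
  exact ⟨δ, hδ, δ0, fun u => by rw [← e, hα]⟩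

omit hσ hne hF in
variable (hq) in
/-- a window of a Phan system -/
structure Win (f : Cfsg.SU 4 F q →* G) (A B C V V' : Subgroup G) : Prop where
  ker : f.ker ≤ center _
  up : StP hq (f.comp u3) A B V
  lo : StP hq (f.comp l3) B C V'

omit hne hF in
theorem Win.aut {f : Cfsg.SU 4 F q →* G} (h : Win hq f A B C V V') {τ : F →+* F} {hτ : ∀ x, σ (τ x) = τ (σ x)} {δ : Fin 4 → F}
    (hδ : ∀ i, σ (δ i) * δ i = 1) : Win hq (f.comp (suAut hq hσ τ hτ δ hδ)) A B C V V' := by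
  have key : ∀ e : Fin 3 ↪ Fin 4, (f.comp (suAut hq hσ τ hτ δ hδ)).comp (suE hq e) =
      (f.comp (suE hq e)).comp (suAut hq hσ τ hτ (δ ∘ e) (fun _ => hδ _)) := fun e => MonoidHom.ext fun g => congrArg f (suAut_suE hδ e g)
  exact ⟨fun x hx => (mem_center_iff_equiv (MulEquiv.ofBijective (suAut hq hσ τ hτ δ hδ) (suAut_bij hδ)) x).2 (h.ker hx),
    key _ ▸ h.up.aut _, key _ ▸ h.lo.aut _⟩

theorem Win.adj (h3 : ∀ x : F, σ x = x → x = 0 ∨ x = 1 ∨ x = -1)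
    (rig : ∀ φ ψ : Cfsg.SU 3 F q →* G, Function.Injective ψ → φ.range = ψ.range → (∀ u, φ (u2 u) = ψ (u2 u)) →
      (∀ u, φ (l2 u) = ψ (l2 u)) → ∀ x, φ x = ψ x)
    {f : Cfsg.SU 4 F q →* G} (h : Win hq f A B C V V') (h' : StP hq φ A B V) (hi : Function.Injective φ) :
    ∃ f', Win hq f' A B C V V' ∧ ∀ x, f' (u3 x) = φ x := by
  obtain ⟨τ, hτ, δ, hδ, e⟩ := h'.adj1 (hσ := hσ) hne hF h.up hi
  have hδ1 : ∀ i, σ (![δ 0, δ 1, 1, 1] i) * ![δ 0, δ 1, 1, 1] i = 1 := fun i => by fin_cases i <;> simp [hδ]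
  have h1 := h.aut (hσ := hσ) (hτ := hτ) hδ1
  have e1 : ∀ u, φ (u2 u) = ((f.comp (suAut hq hσ τ hτ _ hδ1)).comp u3) (u2 u) := fun u => by
    rw [e]; simp only [MonoidHom.comp_apply, suAut_suE]; refine congrArg (fun x => f (u3 (u2 x))) ?_
    ext i j; rw [suAut_apply, suAut_apply]; fin_cases i <;> fin_cases j <;> rfl
  generalize f.comp (suAut hq hσ τ hτ _ hδ1) = f1 at h1 e1
  obtain ⟨δ', hδ', δ0, e2⟩ := h'.adj2 (hσ := hσ) hne hF h3 h1.up e1
  have hδ2 : ∀ i, σ (![1, 1, δ' 1, 1] i) * ![1, 1, δ' 1, 1] i = 1 := fun i => by fin_cases i <;> simp [hδ']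
  have h2 := h1.aut (hσ := hσ) (τ := .id F) (hτ := fun _ => rfl) hδ2
  refine ⟨_, h2, fun x => (rig φ _ (inj_suE (hσ := hσ) hne h2.ker (by omega) _ (k := 3) (by rw [mem_range_sh]; simp))
    (h'.top.trans h2.up.top.symm) (fun u => ?_) (fun u => ?_) x).symm⟩
  · rw [e1]; simp only [MonoidHom.comp_apply, suAut_suE]; refine congrArg (fun x => f1 (u3 (u2 x))) ?_
    ext i j; rw [suAut_apply]; fin_cases i <;> fin_cases j <;> simp [sh]
  · rw [e2]; simp only [MonoidHom.comp_apply, suAut_suE]; refine congrArg (fun x => f1 (u3 (l2 x))) ?_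
    ext i j; rw [suAut_apply, suAut_apply, show δ' = ![1, δ' 1] by ext i; fin_cases i <;> simp [δ0]]
    fin_cases i <;> fin_cases j <;> rfl

theorem phan_small (h3 : ∀ x : F, σ x = x → x = 0 ∨ x = 1 ∨ x = -1)
    (rig : ∀ φ ψ : Cfsg.SU 3 F q →* G, Function.Injective ψ → φ.range = ψ.range → (∀ u, φ (u2 u) = ψ (u2 u)) →
      (∀ u, φ (l2 u) = ψ (l2 u)) → ∀ x, φ x = ψ x)
    (hn : 3 ≤ n) (U : Fin n → Subgroup G) (V : Fin n → Fin n → Subgroup G)
    (hw : ∀ i j k : Fin n, (i : ℕ) + 1 = j → (j : ℕ) + 1 = k → ∃ f, Win hq f (U i) (U j) (U k) (V i j) (V j k))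
    (h5 : ∀ i j k : Fin n, (j : ℕ) + 1 = k → ((i : ℕ) + 2 ≤ j ∨ (k : ℕ) + 2 ≤ i) → ∀ x ∈ U i, ∀ y ∈ V j k, x * y = y * x)
    (h6 : ∀ i j k l : Fin n, (i : ℕ) + 1 = j → (k : ℕ) + 1 = l → (j : ℕ) + 2 ≤ k → ∀ x ∈ V i j, ∀ y ∈ V k l, x * y = y * x)
    (hgen : (⨆ i, U i) ⊔ (⨆ (i : Fin n) (j : Fin n) (_ : (i : ℕ) + 1 = j), V i j) = ⊤) :
    ∃ f : Cfsg.SU (n + 1) F q →* G, Function.Surjective f := by
  have hF' : Nat.card F = q ^ 2 := by rwa [Nat.card_eq_fintype_card]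
  let P : ℕ → (Cfsg.SU 3 F q →* G) → Prop := fun i φ => ∀ h : i + 1 < n,
    StP hq φ (U ⟨i, by omega⟩) (U ⟨i + 1, h⟩) (V ⟨i, by omega⟩ ⟨i + 1, h⟩) ∧ Function.Injective φ
  have step : ∀ i (φ : {φ // P i φ}), ∃ ψ : {φ // P (i + 1) φ}, i + 2 < n →
      ∃ f : Cfsg.SU 4 F q →* G, (∀ u, f (u3 u) = φ.1 u) ∧ ∀ u, f (l3 u) = ψ.1 u := fun i φ => by
    by_cases h : i + 2 < n
    · obtain ⟨f, hf⟩ := hw ⟨i, by omega⟩ ⟨i + 1, by omega⟩ ⟨i + 2, h⟩ rfl rfl
      obtain ⟨f', e1, e2⟩ := hf.adj (hσ := hσ) hne hF h3 rig (φ.2 (by omega)).1 (φ.2 (by omega)).2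
      exact ⟨⟨f'.comp l3, fun _ => ⟨e1.lo, inj_suE (hσ := hσ) hne e1.ker (by omega) _ (k := 0) (by rw [mem_range_sh]; simp)⟩⟩,
        fun _ => ⟨f', e2, fun _ => rfl⟩⟩
    · exact ⟨⟨1, fun h' => (h h').elim⟩, fun h' => (h h').elim⟩
  choose nx hnx using step
  obtain ⟨f0, h0⟩ := hw ⟨0, by omega⟩ ⟨1, by omega⟩ ⟨2, by omega⟩ rfl rfl
  let φ : ∀ i, {φ // P i φ} := fun i => Nat.rec ⟨f0.comp u3, fun _ =>
    ⟨h0.up, inj_suE (hσ := hσ) hne h0.ker (by omega) _ (k := 3) (by rw [mem_range_sh]; simp)⟩⟩ nx i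
  have hU : ∀ i (h : i + 1 < n) (u : Cfsg.SU 2 F q), (φ i).1 (u2 u) ∈ U ⟨i, by omega⟩ ∧
      (φ i).1 (l2 u) ∈ U ⟨i + 1, h⟩ := fun i h u => ⟨((φ i).2 h).1.up ▸ ⟨u, rfl⟩, ((φ i).2 h).1.lo ▸ ⟨u, rfl⟩⟩
  have hV' : ∀ i (h : i + 1 < n) u, (φ i).1 u ∈ V ⟨i, by omega⟩ ⟨i + 1, h⟩ := fun i h u => ((φ i).2 h).1.top ▸ ⟨u, rfl⟩
  obtain ⟨f, hf⟩ := phan_up (hq := hq) (hσ := hσ) (hne := hne) (n := n + 1) hF' (by omega) (fun i => (φ i).1)
    (fun i h => hnx i (φ i) (by omega))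
    (fun i j e h u v => (h5 _ _ _ rfl (.inl e) _ (hU i (by omega) u).1 _ (hV' j (by omega) v)).symm)
    (.inr ⟨fun i j e h u v => (h6 _ _ _ _ rfl rfl e _ (hV' i (by omega) u) _ (hV' j (by omega) v)).symm,
      fun i h u v => h5 _ _ _ rfl (.inr le_rfl) _ (hU (i + 2) (by omega) u).2 _ (hV' i (by omega) v)⟩)
  have hV : ∀ i (h : i + 1 < n), (φ i).1.range ≤ f.range := by
    rintro i h _ ⟨u, rfl⟩; exact ⟨_, hf i (by omega) u⟩
  refine ⟨f, MonoidHom.range_eq_top.1 (top_le_iff.1 (hgen ▸ sup_le (iSup_le fun i => ?_) (iSup_le fun i => iSup_le fun j => iSup_le fun e => ?_)))⟩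
  · by_cases h : i.1 + 1 < n
    · exact le_trans (by rw [← ((φ i).2 h).1.up, MonoidHom.range_comp]; exact map_le_range _ _) (hV i h)
    · obtain ⟨i, hi⟩ := i
      obtain ⟨i, rfl⟩ : ∃ k, i = k + 1 := ⟨i - 1, by simp at h; omega⟩
      exact le_trans (by rw [← ((φ i).2 hi).1.lo, MonoidHom.range_comp]; exact map_le_range _ _) (hV i hi)
  · obtain ⟨j, hj⟩ := j
    obtain rfl : i.1 + 1 = j := e
    exact ((φ i).2 hj).1.top ▸ hV i hj

omit hF in
theorem exists_win {ψ : Cfsg.SU 3 F q →* G} (h : StP hq φ A B V) (h' : StP hq ψ B C V') (hi : Function.Injective φ) (hi' : Function.Injective ψ)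
    (g : (stdUnit hσ hne (Fin 4)).SIsom →* G) (hg : g.ker ≤ center _) (f : Fin 4 → Fin 4 → F)
    (hf : ∀ i j, (stdUnit hσ hne (Fin 4)).h (f i) (f j) = if i = j then 1 else 0)
    (hA : ∀ u ∈ A, ∃ x, g x = u ∧ x.1.1 (f 2) = f 2 ∧ x.1.1 (f 3) = f 3) (hB : ∀ u ∈ B, ∃ x, g x = u ∧ x.1.1 (f 0) = f 0 ∧ x.1.1 (f 3) = f 3)
    (hC : ∀ u ∈ C, ∃ x, g x = u ∧ x.1.1 (f 0) = f 0 ∧ x.1.1 (f 1) = f 1) (hV : ∀ u ∈ V, ∃ x, g x = u ∧ x.1.1 (f 3) = f 3)
    (hV' : ∀ u ∈ V', ∃ x, g x = u ∧ x.1.1 (f 0) = f 0) : ∃ f, Win hq f A B C V V' := by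
  have hS := stdUnit_nondeg hσ hne (Fin 4)
  obtain ⟨k, hk⟩ := hS.witt_fam (Pi.single · 1) f (by
      have := (Pi.basisFun F (Fin 4)).linearIndependent
      rwa [show ⇑(Pi.basisFun F (Fin 4)) = fun i => Pi.single i 1 by ext1; simp] at this)
    (Fintype.linearIndependent_iff.2 fun c hc i => by simpa [hf] using congrArg ((stdUnit hσ hne (Fin 4)).h (f i)) hc)
    (fun i j => by simp [stdUnit_single, hf, Pi.single_apply]) (fun i => (unit_q_congr_iff _ _ _ _).2 (by simp [stdUnit_single, hf]))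
  let E := (suEquiv hσ hne hq 4).trans (MulAut.conjNormal k)
  have hk' : (g.comp E.toMonoidHom).ker ≤ center _ := fun x hx => (mem_center_iff_equiv E x).2 (hg hx)
  have key : ∀ {m} (e : Fin m ↪ Fin 4) (X : Subgroup G) (ρ : Cfsg.SU m F q →* G), Function.Injective ρ → ρ.range = X →
      (∀ u ∈ X, ∃ x, g x = u ∧ ∀ i, i ∉ Set.range e → x.1.1 (f i) = f i) → ((g.comp E.toMonoidHom).comp (suE hq e)).range = X := by
    intro m e X ρ h1 h2 h
    have := Finite.of_surjective _ ((g.comp E.toMonoidHom).comp (suE hq e)).rangeRestrict_surjective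
    refine (eq_of_le_of_card_ge (fun u hu => ?_) (by
      rw [← h2, ← Nat.card_congr (MonoidHom.ofInjective h1).toEquiv]
      exact Nat.card_le_card_of_surjective _ (MonoidHom.rangeRestrict_surjective _))).symm
    obtain ⟨x, rfl, hx⟩ := h u hu
    obtain ⟨y, rfl⟩ := E.surjective x
    obtain ⟨w, rfl⟩ := exists_suE hq e hσ (g := y) fun i hi i' => by
      have : (k * (suEquiv hσ hne hq 4 y).1 * k⁻¹).1 (f i) = f i := hx i hi
      rw [← hk, isom_mul_apply, isom_mul_apply, isom_inv_apply_self, k.1.injective.eq_iff, suEquiv_apply] at this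
      simpa [Pi.single_apply, Matrix.one_apply] using congrFun this i'
    exact ⟨w, rfl⟩
  have k2 : ∀ (i : ℕ) (hi : i + 3 ≤ 4) (j : ℕ) (hj : j + 2 ≤ 3) (l : ℕ) (hl : l + 2 ≤ 4), l = i + j → ((g.comp E.toMonoidHom).comp
      (suE hq (sh i hi))).comp (suE hq (sh j hj)) = (g.comp E.toMonoidHom).comp (suE hq (sh l hl)) := fun i hi j hj l hl e =>
    MonoidHom.ext fun u => congrArg (g.comp E.toMonoidHom) (suE_suE hq (fun a => Fin.ext (by simp [e, add_assoc])) u)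
  have hB' := key (sh 1 (by omega)) B _ (h.inj_lo (hσ := hσ) hne) h.lo fun u hu => (hB u hu).imp fun x hx => ⟨hx.1, fun i => by
    rw [mem_range_sh]; fin_cases i <;> simp [hx]⟩
  refine ⟨g.comp E.toMonoidHom, hk', ⟨?_, ?_, ?_, key _ _ _ hi h.top fun u hu => (hV u hu).imp fun x hx => ⟨hx.1, fun i => ?_⟩⟩,
    ⟨?_, ?_, ?_, key _ _ _ hi' h'.top fun u hu => (hV' u hu).imp fun x hx => ⟨hx.1, fun i => ?_⟩⟩⟩
  · rw [(MonoidHom.ker_eq_bot_iff _).2 (inj_suE (hσ := hσ) hne hk' (by omega) _ (k := 3) (by rw [mem_range_sh]; simp))]; exact bot_le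
  · rw [k2 0 _ 0 _ 0 (by omega) rfl]
    exact key _ _ _ (h.inj_up (hσ := hσ) hne) h.up fun u hu => (hA u hu).imp fun x hx => ⟨hx.1, fun i => by
      rw [mem_range_sh]; fin_cases i <;> simp [hx]⟩
  · rwa [k2 0 _ 1 _ 1 (by omega) rfl]
  · rw [mem_range_sh]; fin_cases i <;> simp [hx]
  · rw [(MonoidHom.ker_eq_bot_iff _).2 (inj_suE (hσ := hσ) hne hk' (by omega) _ (k := 0) (by rw [mem_range_sh]; simp))]; exact bot_le
  · rwa [k2 1 _ 0 _ 1 (by omega) rfl]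
  · rw [k2 1 _ 1 _ 2 (by omega) rfl]
    exact key _ _ _ (h'.inj_lo (hσ := hσ) hne) h'.lo fun u hu => (hC u hu).imp fun x hx => ⟨hx.1, fun i => by
      rw [mem_range_sh]; fin_cases i <;> simp [hx]⟩
  · rw [mem_range_sh]; fin_cases i <;> simp [hx]

end H11
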