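import Cfsg.Agent.H11.Phan6
import Cfsg.Agent.S3709

/-! Windows of weak Phan systems over `F₉` (`exists_win3`): commuting copies of `SL₂(3)` in a quotient of `SU₄(3)`. -/

set_option autoImplicit false

namespace H11
open Subgroup Module Matrix PForm
open scoped MatrixGroups
variable {F : Type*} [Field F] {G X : Type*} [Group G] [Group X] {q : ℕ} {σ : F →+* F} {hσ : ∀ a, σ (σ a) = a}

theorem ker_le_center_of_qs (hp : commutator X = ⊤) [IsSimpleGroup (X ⧸ center X)] (g : X →* G) (h : ∃ x, g x ≠ 1) : g.ker ≤ center X := by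
  rcases IsSimpleGroup.eq_bot_or_eq_top_of_normal (g.ker.map (QuotientGroup.mk' (center X))) ((inferInstance : g.ker.Normal).map _
    (QuotientGroup.mk'_surjective _)) with e | e
  · rwa [Subgroup.map_eq_bot_iff, QuotientGroup.ker_mk'] at e
  obtain ⟨x, hx⟩ := h
  refine (hx ((hp ▸ Subgroup.commutator_le.2 fun a _ b _ => ?_ : ⊤ ≤ g.ker) (mem_top x))).elim
  obtain ⟨k, hk, e⟩ := e.ge (mem_top (a : X ⧸ center X))
  have e1 := mem_center_iff.1 (QuotientGroup.eq.1 e) b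
  rw [show a = k * (k⁻¹ * a) by simp]
  generalize k⁻¹ * a = z at e1
  rw [MonoidHom.mem_ker, commutatorElement_def, mul_assoc k, ← e1]
  simp [MonoidHom.mem_ker.1 hk]

/-- the relations of `SL₂(3) = Q₈ ⋊ C₃` -/
structure Q83 (a b : X) : Prop where
  r1 : a ^ 3 = 1
  r2 : b * (a * b * a⁻¹) = a * (a * b * a⁻¹) * a⁻¹

theorem Q83.map {a b : X} (h : Q83 a b) (f : X →* G) : Q83 (f a) (f b) :=
  ⟨by rw [← map_pow, h.r1, map_one], by simpa using congrArg f h.r2⟩

theorem Q83.r3 {a b : X} (h : Q83 a b) : b * (a * b * a⁻¹) * b = a * b * a⁻¹ ∧ b * b * (b * b) = 1 := by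
  have h1 : a * b * a⁻¹ * (a * (a * b * a⁻¹) * a⁻¹) = b := by
    calc _ = a * (b * (a * b * a⁻¹)) * a⁻¹ := by group
      _ = a ^ 3 * b * (a ^ 3)⁻¹ := by rw [h.r2]; simp [pow_succ, mul_assoc]
      _ = _ := by simp [h.r1]
  have h2 : a * (a * b * a⁻¹) * a⁻¹ * b = a * b * a⁻¹ := by
    conv_rhs => rw [← h1]
    calc _ = a * (a * b * a⁻¹) * a⁻¹ * (a ^ 3 * b * (a ^ 3)⁻¹) := by simp [h.r1]
      _ = _ := by group
  have h3 := h.r2
  generalize a * b * a⁻¹ = j at *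
  rw [← h3] at h1 h2
  refine ⟨h2, ?_⟩
  have h4 : b * b = j * j := by
    calc _ = b * (j * (b * j)) := by rw [h1]
      _ = _ := by rw [← mul_assoc, ← mul_assoc, h2]
  have h5 : b * j = j * b⁻¹ := eq_mul_inv_of_mul_eq h2
  have h6 : j * (b * b) = j * (b⁻¹ * b⁻¹) := by
    calc _ = b * (b * j) := by rw [← mul_assoc b, h4, mul_assoc]
      _ = _ := by rw [h5, ← mul_assoc, h5, mul_assoc]
  nth_rw 1 [mul_left_cancel h6]; group

theorem Q83.lift (g : X →* G) (hk : ∀ z, g z = 1 → z ∈ center X ∧ z ^ 4 = 1) {s i : G} (h : Q83 s i) (hs : s ∈ g.range) (hi : i ∈ g.range) :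
    ∃ a b, g a = s ∧ g b = i ∧ Q83 a b := by
  obtain ⟨a, rfl⟩ := hs
  obtain ⟨b, rfl⟩ := hi
  obtain ⟨c1, c2⟩ := hk (a ^ 3) (by rw [map_pow, h.r1])
  have a3 : (a ^ 4) ^ 3 = 1 := by rw [← c2, ← pow_mul, ← pow_mul]
  have a4 : g (a ^ 4) = g a := by rw [map_pow, pow_succ, h.r1, one_mul]
  rw [← a4] at h ⊢
  generalize a ^ 4 = a at *
  obtain ⟨z, hz⟩ : ∃ z, z = a * (a * b * a⁻¹) * a⁻¹ * (b * (a * b * a⁻¹))⁻¹ := ⟨_, rfl⟩
  have g1 : g z = 1 := by simp only [hz, map_mul, map_inv, h.r2, mul_inv_cancel]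
  have c : ∀ x, x * z = z * x := mem_center_iff.1 (hk z g1).1
  have c' : ∀ x y, x * (z * y) = z * (x * y) := fun x y => by rw [← mul_assoc, c, mul_assoc]
  refine ⟨a, z * b, rfl, by simp [g1], a3, ?_⟩
  rw [eq_mul_inv_iff_mul_eq] at hz
  simp only [mul_assoc, c' a, c' b] at hz ⊢
  rw [hz]

theorem Q83.comm (g : X →* G) (hk : ∀ z, g z = 1 → z ∈ center X ∧ z ^ 4 = 1) {a b x : X} (h : Q83 a b) (ha : Commute (g x) (g a))
    (hb : Commute (g x) (g b)) : Commute x a ∧ Commute x b := by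
  have key : ∀ y, Commute (g x) (g y) → ∃ z, (∀ w, w * z = z * w) ∧ z ^ 4 = 1 ∧ x * y * x⁻¹ = z * y := fun y hy =>
    have := hk (x * y * x⁻¹ * y⁻¹) (by simp [hy.eq])
    ⟨_, mem_center_iff.1 this.1, this.2, by simp⟩
  obtain ⟨z, z1, z2, z3⟩ := key a ha
  have e1 : z ^ 3 = 1 := by
    have := congrArg (· ^ 3) z3
    simp only [conj_pow, h.r1, (show Commute z a from (z1 a).symm).mul_pow] at this
    simpa using this.symm
  rw [pow_succ, e1, one_mul] at z2
  have ca : Commute x a := by simpa [commute_iff_eq, z2, mul_inv_eq_iff_eq_mul] using z3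
  obtain ⟨z, z1, -, z3⟩ := key b hb
  have c' : ∀ x y, x * (z * y) = z * (x * y) := fun x y => by rw [← mul_assoc, z1, mul_assoc]
  have e2 := congrArg (MulAut.conj x) h.r2
  simp only [map_mul, map_inv, MulAut.conj_apply, z3, ca.eq, mul_inv_cancel_right] at e2
  simp only [mul_assoc, c' a, c' b] at e2
  have e3 := h.r2
  simp only [mul_assoc] at e3
  rw [e3, mul_right_inj, mul_eq_right] at e2
  exact ⟨ca, by simpa [commute_iff_eq, e2, mul_inv_eq_iff_eq_mul] using z3⟩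

namespace PForm
variable {V : Type*} [AddCommGroup V] [Module F V] {S : PForm (unitP σ hσ) V}

/-- fixed space -/
def fx (d : S.Isom) : Submodule F V := LinearMap.eqLocus (d.1 : V →ₗ[F] V) LinearMap.id

theorem mem_fx {d : S.Isom} {y : V} : y ∈ fx d ↔ d.1 y = y := Iff.rfl

theorem span2 [FiniteDimensional F V] {W : Submodule F V} (h : finrank F W ≤ 2) {x y : V} (hx : x ∈ W) (hy : y ∈ W)
    (hi : ∀ s t : F, s • x + t • y = 0 → s = 0 ∧ t = 0) : finrank F W = 2 ∧ ∀ w ∈ W, ∃ s t : F, s • x + t • y = w := by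
  have h1 := finrank_span_eq_card (LinearIndependent.pair_iff.2 hi)
  rw [Matrix.range_cons, Matrix.range_cons, Matrix.range_empty, Set.union_empty, Set.singleton_union, Fintype.card_fin] at h1
  have e : Submodule.span F {x, y} = W := Submodule.eq_of_le_of_finrank_le (by simp [Submodule.span_le, Set.insert_subset_iff, hx, hy]) (by omega)
  exact ⟨e ▸ h1, fun w hw => Submodule.mem_span_pair.1 (e ▸ hw)⟩

theorem Q83.scal_on [FiniteDimensional F V] {a b x : S.Isom} (h : Q83 a b) {μ : F} (hμ : μ * μ = -1) (h2 : (2 : F) ≠ 0) {E : Submodule F V}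
    (hE : ∀ v, v ∈ E ↔ (b * b).1 v = -v) (hd : finrank F E ≤ 2) (ha : Commute x a) (hb : Commute x b) : ∃ c : F, ∀ y ∈ E, x.1 y = c • y := by
  by_cases h0 : E = ⊥
  · exact ⟨0, fun y hy => by simp [(Submodule.mem_bot F).1 (h0 ▸ hy)]⟩
  obtain ⟨v, ε, v0, ε1, hv⟩ : ∃ v : V, ∃ ε : F, v ≠ 0 ∧ ε * ε = -1 ∧ b.1 v = ε • v := by
    obtain ⟨v, hv, v0⟩ := E.exists_mem_ne_zero_of_ne_bot h0
    by_cases e : b.1 v + μ • v = 0
    · exact ⟨v, -μ, v0, by simpa, by rw [neg_smul, eq_neg_of_add_eq_zero_left e]⟩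
    · exact ⟨_, μ, e, hμ, by rw [map_add, ← isom_mul_apply, (hE v).1 hv, map_smul, smul_add, smul_smul, hμ, neg_one_smul, add_comm]⟩
  have cj : Commute x (a * b * a⁻¹) := (ha.mul_right hb).mul_right ha.inv_right
  have r := h.r3.1
  generalize a * b * a⁻¹ = j at *
  have ε0 : ε ≠ 0 := by rintro rfl; simp at ε1
  have hw : b.1 (j.1 v) = -ε • j.1 v := by
    have := congr(($r).1 v)
    rw [isom_mul_apply, isom_mul_apply, hv, map_smul, map_smul] at this
    rw [← this, smul_smul, neg_mul, ε1, neg_neg, one_smul, this]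
  have w0 : j.1 v ≠ 0 := by simpa
  have m : ∀ (y : V) (e : F), e * e = -1 → b.1 y = e • y → y ∈ E := fun y e he hy => (hE y).2 (by
    rw [isom_mul_apply, hy, map_smul, hy, smul_smul, he, neg_one_smul])
  have key : ∀ s t : F, b.1 (s • v + t • j.1 v) = ε • (s • v + t • j.1 v) → t = 0 := fun s t e => by
    rw [map_add, map_smul, map_smul, hv, hw] at e
    have : (2 * ε * t) • j.1 v = 0 := by linear_combination (norm := module) -e
    simpa [h2, ε0, w0] using this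
  obtain ⟨-, sp⟩ := span2 hd (m v ε ε1 hv) (m _ (-ε) (by simpa) hw) fun s t e => by
    obtain rfl := key s t (by simp [e])
    simpa [v0] using e
  obtain ⟨s, t, e⟩ := sp (x.1 v) (m _ ε ε1 (by rw [← isom_mul_apply, ← hb.eq, isom_mul_apply, hv, map_smul]))
  obtain rfl := key s t (by rw [e, ← isom_mul_apply, ← hb.eq, isom_mul_apply, hv, map_smul])
  refine ⟨s, fun y hy => ?_⟩
  obtain ⟨s', t', rfl⟩ := sp y hy
  rw [map_add, map_smul, map_smul, ← isom_mul_apply x j, cj.eq, isom_mul_apply, ← e]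
  simp only [zero_smul, add_zero, map_smul]; module

theorem Q83.fix_on [FiniteDimensional F V] {a b a' b' : S.Isom} (h : Q83 a b) (h' : Q83 a' b') {μ : F} (hμ : μ * μ = -1) (h3 : (3 : F) = 0)
    {E : Submodule F V} (hE : ∀ v, v ∈ E ↔ (b * b).1 v = -v) (hd : finrank F E ≤ 2) (c1 : Commute a' a) (c2 : Commute a' b)
    (c3 : Commute b' a) (c4 : Commute b' b) : ∀ y ∈ E, a'.1 y = y ∧ b'.1 y = y := fun y hy => by
  have h2 : (2 : F) ≠ 0 := fun e => one_ne_zero (by linear_combination h3 - e : (1 : F) = 0)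
  obtain ⟨c, hc⟩ := Q83.scal_on h hμ h2 hE hd c1 c2
  obtain ⟨k, hk⟩ := Q83.scal_on h hμ h2 hE hd c3 c4
  by_cases y0 : y = 0
  · simp [y0]
  have e1 := congr(($(h'.r1)).1 y)
  simp only [pow_succ, pow_zero, one_mul, isom_mul_apply, hc y hy, map_smul, smul_smul, isom_one_apply] at e1
  have e2 := smul_left_injective F y0 (e1.trans (one_smul F y).symm)
  obtain rfl : c = 1 := sub_eq_zero.1 (pow_eq_zero_iff (n := 3) (by omega) |>.1 (by linear_combination e2 + (c - c ^ 2) * h3))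
  simp only [one_smul] at hc
  have e3 : (a'⁻¹).1 y = y := by conv_lhs => rw [← hc y hy, isom_inv_apply_self]
  have e4 := congr(($(h'.r2)).1 y)
  simp only [isom_mul_apply, e3, hk y hy, map_smul, hc y hy] at e4
  exact ⟨hc y hy, b'.1.injective (by rw [hk y hy, map_smul, hk y hy, e4])⟩

variable [FiniteDimensional F V] [Finite F] (hne : σ ≠ RingHom.id F) (hS : S.Nondeg)
include hne hS

theorem Nondeg.fix_nd {d : S.Isom} (hd : d ∈ S.SIsom) (d1 : d ≠ 1) {m : ℕ} (hm : d ^ m = 1) (m0 : (m : F) ≠ 0) :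
    (S.restrict (fx d)).Nondeg ∧ finrank F (fx d) + 2 ≤ finrank F V := by
  set W := fx d
  have hW : ∀ i, ∀ y ∈ W, (d ^ i).1 y = y := fun i y hy => by
    induction i with
    | zero => rfl
    | succ i ih => rw [pow_succ, isom_mul_apply, show d.1 y = y from hy, ih]
  have nd : (S.restrict W).Nondeg := (S.restrict_nondeg_iff' _).2 fun y hy h => hS y fun w => by
    have h1 := h (∑ i ∈ Finset.range m, (d ^ i).1 w) (show d.1 _ = _ by
      have := Finset.sum_range_succ' (fun i => (d ^ i).1 w) m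
      rw [Finset.sum_range_succ, hm, pow_zero, add_left_inj] at this
      rw [map_sum, LinearMap.id_apply, this]; simp [pow_succ'])
    rw [map_sum, Finset.sum_congr rfl fun i _ => show S.h y ((d ^ i).1 w) = S.h y w by rw [← isom_h (d ^ i) y w, hW i y hy]] at h1
    simpa [m0] using h1
  refine ⟨nd, ?_⟩
  by_contra! h
  have h2 := hS.finrank_perp W
  by_cases h0 : finrank F (S.perp W) = 0
  · exact d1 (isom_ext fun y => (show y ∈ W from Submodule.eq_top_of_finrank_eq (S := W) (by omega) ▸ trivial))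
  obtain ⟨v, hv, vv⟩ := unit_exists_norm_mem hne (hS.restrict_perp nd) (by omega) (map_one σ)
  have v0 : v ≠ 0 := by rintro rfl; simp at vv
  have e : (F ∙ v) = S.perp W := Submodule.eq_of_le_of_finrank_le (by simpa) (by rw [finrank_span_singleton v0]; omega)
  obtain ⟨c, hc⟩ := Submodule.mem_span_singleton.1 (e ▸ fun y hy => by rw [← show d.1 y = y from hy, isom_h, hv y hy] : d.1 v ∈ F ∙ v)
  have c1 : σ c * c = 1 := by simpa [← hc, vv, mul_comm] using isom_h d v v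
  obtain ⟨k, k1, k2, k3⟩ := exists_det_eq_of_ne (S := S) (v := v) (by simp [vv])
    ⟨Units.mk0 c (by rintro rfl; simp at c1), c1⟩
  rw [e, hS.perp_perp] at k1
  have key : ∀ y, ∃ w ∈ W, ∃ a : F, y = w + a • v := fun y => by
    obtain ⟨w, hw, z, hz, rfl⟩ := Submodule.mem_sup.1 ((S.isCompl_perp nd).sup_eq_top ▸ Submodule.mem_top (x := y))
    obtain ⟨a, rfl⟩ := Submodule.mem_span_singleton.1 (e ▸ hz)
    exact ⟨w, hw, a, rfl⟩
  obtain rfl : d = k := isom_ext fun y => by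
    obtain ⟨w, hw, a, rfl⟩ := key y
    rw [map_add, map_add, map_smul, map_smul, k1 w hw, show d.1 w = w from hw, k3]; exact congrArg (w + a • ·) hc.symm
  obtain rfl : c = 1 := congrArg Units.val (k2.symm.trans hd)
  exact d1 (isom_ext fun y => by
    obtain ⟨w, hw, a, rfl⟩ := key y
    rw [map_add, map_smul, k1 w hw, ← hc, one_smul]; rfl)

omit hne hS [FiniteDimensional F V] [Finite F] in
variable (S) in
/-- `-1` -/
def ng : S.Isom := S.scal ⟨-1, by simp [mem_normOne]⟩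

omit hne hS [FiniteDimensional F V] [Finite F] in
@[simp] theorem ng_apply (x : V) : S.ng.1 x = -x := by simp [ng]

omit hne hS [Finite F] in
variable (S) in
/-- non-central involutions of `SU₄` -/
structure Iv (y : S.Isom) : Prop where
  mem : y ∈ S.SIsom
  sq : ∀ v, y.1 (y.1 v) = v
  ne : ∀ c : F, ¬ ∀ v, y.1 v = c • v

variable (h4 : finrank F V = 4) (h2 : (2 : F) ≠ 0)
include h4

omit hne hS [Finite F] in
theorem Iv.neg {y : S.Isom} (h : S.Iv y) : S.Iv (S.ng * y) :=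
  ⟨mul_mem (show S.detHom _ = 1 by rw [ng, detHom_scal, h4]; ext; simp; norm_num) h.mem, fun v => by simp [h.sq],
    fun c hc => h.ne (-c) fun v => by rw [neg_smul, ← hc]; simp⟩

include h2

theorem Iv.rank {y : S.Isom} (h : S.Iv y) : finrank F (fx y) = 2 := by
  have key : ∀ y, S.Iv y → finrank F (fx y) + 2 ≤ 4 := fun y h => h4 ▸ (hS.fix_nd hne h.mem (fun e => h.ne 1 (by simp [e])) (m := 2)
    (isom_ext fun v => by rw [pow_two]; exact h.sq v) (by simpa)).2
  have h1 := key y h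
  have h3 := key _ (h.neg h4)
  have h5 := Submodule.finrank_add_le_finrank_add_finrank (fx y) (fx (S.ng * y))
  rw [show fx y ⊔ fx (S.ng * y) = ⊤ from eq_top_iff.2 fun v _ => Submodule.mem_sup.2 ⟨(2⁻¹ : F) • (v + y.1 v), by
    simp [mem_fx, h.sq, add_comm], (2⁻¹ : F) • (v - y.1 v), by simp [mem_fx, h.sq, ← smul_neg], by
    rw [← smul_add, show v + y.1 v + (v - y.1 v) = (2 : F) • v by module, inv_smul_smul₀ h2]⟩, finrank_top] at h5
  omega

theorem Iv.exists_fix {y y' : S.Isom} (h : S.Iv y) (h' : S.Iv y') (c : Commute y y') (hn : y' ≠ S.ng * y) :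
    ∃ v, S.h v v = 1 ∧ y.1 v = v ∧ y'.1 v = v := by
  have c' : ∀ v, y.1 (y'.1 v) = y'.1 (y.1 v) := fun v => congr(($c.eq).1 v)
  by_cases h0 : fx y ⊓ fx y' = ⊥
  · have key : ∀ {y y' : S.Isom}, S.Iv y → S.Iv y' → (∀ v, y.1 (y'.1 v) = y'.1 (y.1 v)) → fx y ⊓ fx y' = ⊥ → fx y = fx (S.ng * y') :=
      fun {y y'} h h' c' h0 => Submodule.eq_of_le_of_finrank_le (fun v hv => by
        have : v + y'.1 v ∈ fx y ⊓ fx y' := ⟨by simp [mem_fx, c', mem_fx.1 hv], by simp [mem_fx, h'.sq, add_comm]⟩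
        rw [h0, Submodule.mem_bot] at this
        simpa [mem_fx] using (eq_neg_of_add_eq_zero_left this).symm) (by rw [h.rank hne hS h4 h2, (h'.neg h4).rank hne hS h4 h2])
    refine (hn (isom_ext fun v => smul_right_injective V h2 ?_)).elim
    have e1 : v + y.1 v ∈ fx (S.ng * y') := key h h' c' h0 ▸ by simp [mem_fx, h.sq, add_comm]
    have e2 : v - y.1 v ∈ fx y' := key h' h (fun v => (c' v).symm) (inf_comm (fx y) _ ▸ h0) ▸ by simp [mem_fx, h.sq]
    simp only [mem_fx, isom_mul_apply, ng_apply, map_add, map_sub] at e1 e2 ⊢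
    linear_combination (norm := module) e2 - e1
  obtain ⟨w, hw, w0⟩ := Submodule.exists_mem_ne_zero_of_ne_bot h0
  obtain ⟨t, ht, tt⟩ := hS.unit_perp hne (U := S.perp (fx y ⊓ fx y')) fun e => w0 (hS w fun u => by
    rw [hS.perp_perp] at e
    have h1 := e (show u + y.1 u + y'.1 (u + y.1 u) ∈ fx y ⊓ fx y' from
      ⟨mem_fx.2 (by simp only [map_add, h.sq, c']; abel), mem_fx.2 (by simp only [map_add, h'.sq]; abel)⟩) w hw
    have e1 : ∀ x, S.h w (y.1 x) = S.h w x := fun x => by rw [← isom_h y w x, mem_fx.1 hw.1]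
    have e2 : ∀ x, S.h w (y'.1 x) = S.h w x := fun x => by rw [← isom_h y' w x, mem_fx.1 hw.2]
    simp only [map_add, e1, e2] at h1
    exact (mul_eq_zero.1 (by linear_combination h1 : 2 * 2 * S.h w u = 0)).resolve_left (mul_ne_zero h2 h2))
  rw [hS.perp_perp] at ht
  exact ⟨t, tt, ht.1, ht.2⟩

end PForm

variable {hq : ∀ x, σ x = x ^ q}
local notation "u2" => suE hq (sh 0 (by omega) : Fin 2 ↪ Fin 3)
local notation "l2" => suE hq (sh 1 (by omega) : Fin 2 ↪ Fin 3)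
variable [Fintype F] {φ ψ : Cfsg.SU 3 F q →* G} {A B C V V' : Subgroup G}

omit [Fintype F] in
theorem stP_of_pair (hq : ∀ x, σ x = x ^ q) (hσ : ∀ a, σ (σ a) = a) [Fintype F] (h : Cfsg.IsStandardUnitaryPair V A B F q) :
    ∃ φ, StP hq φ A B V := by
  have b0 := Cfsg.Agent.S3709.suBlock_eq hq hσ (H11.sh 0 (by omega) : Fin 2 ↪ Fin 3) (s := {0, 1}) fun k => by
    rw [H11.mem_range_sh]; fin_cases k <;> simp
  have b1 := Cfsg.Agent.S3709.suBlock_eq hq hσ (H11.sh 1 (by omega) : Fin 2 ↪ Fin 3) (s := {1, 2}) fun k => by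
    rw [H11.mem_range_sh]; fin_cases k <;> simp
  rcases h with ⟨ψ, e1, e2⟩ | ⟨ψ, e1, e2⟩
  · exact ⟨V.subtype.comp ψ.toMonoidHom, fun x hx => by
      obtain rfl : x = 1 := ψ.injective (Subtype.ext (by simpa using hx))
      exact Subgroup.one_mem _, by rw [MonoidHom.range_comp, ← b0, e1], by rw [MonoidHom.range_comp, ← b1, e2], by
      rw [MonoidHom.range_comp, MonoidHom.range_eq_top.2 ψ.surjective, ← MonoidHom.range_eq_map, Subgroup.range_subtype]⟩
  · exact ⟨V.subtype.comp (ψ.toMonoidHom.comp (QuotientGroup.mk' _)), fun x hx => (QuotientGroup.eq_one_iff x).1 (ψ.injective (Subtype.ext (by simpa using hx))),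
      by rw [MonoidHom.range_comp, ← b0, e1], by rw [MonoidHom.range_comp, ← b1, e2], by
      rw [MonoidHom.range_comp, MonoidHom.range_eq_top.2 (ψ.surjective.comp (QuotientGroup.mk'_surjective _)),
        ← MonoidHom.range_eq_map, Subgroup.range_subtype]⟩

variable (hne : σ ≠ RingHom.id F) (hF : Fintype.card F = q ^ 2)
include hσ hne hF

theorem exists_su4 (h : StP hq φ A B V) (g : Cfsg.SU 4 F q →* ↥(V ⊔ V')) (hg : Function.Surjective g) :
    ∃ g : (stdUnit hσ hne (Fin 4)).SIsom →* G, g.ker ≤ center _ ∧ g.range = V ⊔ V' := by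
  obtain ⟨p1, p2⟩ := (stdUnit_nondeg hσ hne (Fin 4)).unit_isSimple hne (q := q) (by simpa using hF) (by simp) (by simp)
  have e : ((V ⊔ V').subtype.comp (g.comp (suEquiv hσ hne hq 4).symm.toMonoidHom)).range = V ⊔ V' := by
    have : Function.Surjective (g.comp (suEquiv hσ hne hq 4).symm.toMonoidHom) := hg.comp (suEquiv hσ hne hq 4).symm.surjective
    rw [MonoidHom.range_comp, MonoidHom.range_eq_top.2 this, ← MonoidHom.range_eq_map, range_subtype]
  refine ⟨_, ker_le_center_of_qs p1 _ ?_, e⟩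
  obtain ⟨x, hx⟩ := e.ge (mem_sup_left (h.top.le ⟨u2 (mk2 hq hσ 0 1 (by simp)), rfl⟩))
  refine ⟨x, fun e => ?_⟩
  have := congr(($(h.inj_up (hσ := hσ) hne (hx.symm.trans (e.trans (map_one _).symm)))).1.1 0 0)
  simp [mk2] at this

omit hF in
theorem StP.eq_sup (hb : ∃ ν : F, σ ν = ν ∧ ν ≠ 0 ∧ ν ≠ 1) (h : StP hq φ A B V) : V = A ⊔ B := by
  refine le_antisymm ?_ (sup_le ?_ ?_)
  · rw [← h.top]; rintro _ ⟨x, rfl⟩
    exact su3_gen (hq := hq) (hσ := hσ) (hne := hne) hb (M := (A ⊔ B).comap φ) (fun u => mem_sup_left (h.up.le ⟨u, rfl⟩))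
      (fun u => mem_sup_right (h.lo.le ⟨u, rfl⟩)) x
  · rw [← h.up, ← h.top, MonoidHom.range_comp]; exact map_le_range _ _
  · rw [← h.lo, ← h.top, MonoidHom.range_comp]; exact map_le_range _ _

theorem su2_three (hq : ∀ x, σ x = x ^ q) (q3 : q = 3) (h3 : (3 : F) = 0) : ∃ s i : Cfsg.SU 2 F q, Q83 s i ∧ (i * i).1.1 = -1 ∧
    ∀ M : Subgroup (Cfsg.SU 2 F q), s ∈ M → i ∈ M → ∀ u, u ∈ M := by
  obtain ⟨K, hK, hf⟩ := exists_fixF hσ hne (Nat.card_eq_fintype_card.trans hF)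
  obtain ⟨P, e, hd, he⟩ := exists_su2 hσ hne hq hF hK hf
  have k3 : (3 : K) = 0 := K.subtype.injective (by rw [map_ofNat, map_zero, h3])
  let i0 : SL(2, K) := ⟨!![0, -1; 1, 0], by simp [det_fin_two]⟩
  have t0 : ∀ c : K, ∃ k : ℕ, SpecialLinearGroup.transvection zero_ne_one c = SpecialLinearGroup.transvection (zero_ne_one (α := Fin 2)) 1 ^ k := fun c => by
    have : c * (c - 1) * (c - 2) = 0 := by
      have : c ^ 3 = c := Subtype.ext (by simpa [q3] using (hq c).symm.trans ((hf c).1 c.2))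
      linear_combination this + (c - c ^ 2) * k3
    simp only [mul_eq_zero, sub_eq_zero] at this
    rcases this with (rfl | rfl) | rfl
    exacts [⟨0, by simp [tv_pow]⟩, ⟨1, by simp⟩, ⟨2, by simp [tv_pow]⟩]
  refine ⟨e (SpecialLinearGroup.transvection zero_ne_one 1), e i0, Q83.map ⟨by
    simp [tv_pow, k3, SpecialLinearGroup.transvection_coeff_zero], ?_⟩ e.toMonoidHom, ?_, fun M hs hi u => ?_⟩
  · refine (fun (a b : SL(2, K)) (h : b * a * b * a = a * a * b) => show b * (a * b * a⁻¹) = a * (a * b * a⁻¹) * a⁻¹ by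
      rw [← mul_assoc a, ← mul_assoc a, ← h]; group) _ _ (Subtype.ext ?_)
    have T : (SpecialLinearGroup.transvection (zero_ne_one (α := Fin 2)) (1 : K)).1 = !![1, 1; 0, 1] := by
      ext i j; fin_cases i <;> fin_cases j <;> simp [SpecialLinearGroup.transvection_coe]
    change i0.1 * Subtype.val _ * i0.1 * Subtype.val _ = Subtype.val _ * Subtype.val _ * i0.1
    rw [T]
    refine Matrix.ext fun i j => ?_
    fin_cases i <;> fin_cases j <;> simp [i0]
    linear_combination -k3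
  · rw [← map_mul, he, show ((i0 * i0).1.map K.subtype) = -1 by
      rw [Matrix.SpecialLinearGroup.coe_mul]
      ext i j; fin_cases i <;> fin_cases j <;> simp [i0, mul_apply, Fin.sum_univ_two]]
    simp [mul_nonsing_inv P hd]
  obtain ⟨u, rfl⟩ := e.surjective u
  have t1 : ∀ c, e (SpecialLinearGroup.transvection zero_ne_one c) ∈ M := fun c => by
    obtain ⟨k, hk⟩ := t0 c
    rw [hk, map_pow]; exact pow_mem hs k
  refine SL2.transvection_induction (fun u => e u ∈ M) (fun i j h c => ?_) (fun a b ha hb => by rw [map_mul]; exact mul_mem ha hb) u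
  fin_cases i <;> fin_cases j <;> first | exact (h rfl).elim | exact t1 c | skip
  rw [show SpecialLinearGroup.transvection h c = i0 * SpecialLinearGroup.transvection zero_ne_one (-c) * i0⁻¹ from eq_mul_inv_of_mul_eq (Subtype.ext (by
    simp only [Matrix.SpecialLinearGroup.coe_mul]
    ext i j; fin_cases i <;> fin_cases j <;> simp [i0, SpecialLinearGroup.transvection_coe, mul_apply, Fin.sum_univ_two])), map_mul, map_mul, map_inv]
  exact mul_mem (mul_mem hi (t1 _)) (inv_mem hi)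

set_option maxHeartbeats 1000000 in
theorem exists_win3 (q3 : q = 3) (h : StP hq φ A B V) (h' : StP hq ψ B C V') (hc : ∀ x ∈ A, ∀ y ∈ C, x * y = y * x)
    (g : (stdUnit hσ hne (Fin 4)).SIsom →* G) (hg : g.ker ≤ center _) (hr : g.range = V ⊔ V') : ∃ f, Win hq f A B C V V' := by
  have h3 : (3 : F) = 0 := by
    have := FiniteField.cast_card_eq_zero F
    rw [hF, q3, Nat.cast_pow, pow_eq_zero_iff two_ne_zero] at this; exact_mod_cast this
  have h2 : (2 : F) ≠ 0 := fun e => one_ne_zero (by linear_combination h3 - e : (1 : F) = 0)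
  have hS := stdUnit_nondeg hσ hne (Fin 4)
  have h4 : finrank F (Fin 4 → F) = 4 := by simp
  obtain ⟨e, f, Hy⟩ := hS.unit_exists_hyp hne (by simp)
  have sc := Hy.mem_center_iff_scalar hS (unit_rich hne _ 3) E_le_SIsom
  have hk : ∀ z, g z = 1 → z ∈ center _ ∧ z ^ 4 = 1 := fun z hz => ⟨hg hz, by
    obtain ⟨c, hc⟩ := (sc z).1 (hg hz)
    have : c ^ 4 = 1 := by
      have := isom_h z.1 e f
      rw [hc, hc, h_smul_left, h_smul_right, Hy.h_ef] at this
      simpa [hq, q3, pow_succ] using this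
    exact Subtype.ext (isom_ext fun v => by
      simp only [pow_succ, pow_zero, one_mul] at this ⊢
      change z.1.1 (z.1.1 (z.1.1 (z.1.1 v))) = v
      rw [hc, hc, hc, hc, smul_smul, smul_smul, smul_smul, this, one_smul])⟩
  have inj : ∀ {χ : Cfsg.SU 3 F q →* G}, χ.ker ≤ center _ → Function.Injective χ := fun {χ} h => (injective_iff_map_eq_one _).2 fun z hz => by
    obtain ⟨c, hc⟩ := su_center hσ hne hq (by omega) (h hz)
    have := z.1.2
    rw [hc, det_smul, det_one, Fintype.card_fin, mul_one] at this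
    obtain rfl : c = 1 := sub_eq_zero.1 (pow_eq_zero_iff (n := 3) (by omega) |>.1 (by linear_combination this + (c - c ^ 2) * h3))
    exact Subtype.ext (Subtype.ext (by simpa using hc))
  obtain ⟨s, i, hQ, ii, gen⟩ := su2_three (hσ := hσ) hne hF hq q3 h3
  have ne : ∀ v, u2 (i * i) ≠ l2 v := fun v e => by
    have := congr(($e).1.1 0 0)
    rw [coe_suE, coe_suE, eM_up, eM_lo, ii] at this
    exact h2 (by simp at this; linear_combination -this)
  have sym : ∀ {χ : Cfsg.SU 3 F q →* G} {X W}, StP hq χ X B W → W ≤ g.range → ∃ a b, g a = χ (u2 s) ∧ g b = χ (u2 i) ∧ Q83 a b ∧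
      (stdUnit hσ hne (Fin 4)).Iv (b.1 * b.1) := fun {χ X W} h hW => by
    obtain ⟨a, b, ha, hb, Q⟩ := (hQ.map (χ.comp u2)).lift g hk (hW (h.top.le ⟨_, rfl⟩)) (hW (h.top.le ⟨_, rfl⟩))
    refine ⟨a, b, ha, hb, Q, (b * b).2, fun v => congr(($(Q.r3.2)).1.1 v), fun c hc => ne 1 ?_⟩
    rw [StP.eq_one (hq := hq) (hσ := hσ) hne h.ker (u := i * i) fun v => ?_, map_one, map_one]
    obtain ⟨x, hx⟩ := hW (h.top.le ⟨l2 v, rfl⟩)
    rw [← hx, map_mul, map_mul, ← show g b = χ (u2 i) from hb, ← map_mul]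
    exact (Commute.symm (mem_center_iff.1 ((sc (b * b)).2 ⟨c, hc⟩) x)).map g
  have h'' := h'.rev
  obtain ⟨a, b, ha, hb, Q, I⟩ := sym h (hr ▸ le_sup_left)
  obtain ⟨a', b', ha', hb', Q', I'⟩ := sym h'' (hr ▸ le_sup_right)
  have cc : ∀ u v, Commute ((ψ.comp (suE hq Fin.revPerm.toEmbedding)) (u2 u)) (φ (u2 v)) := fun u v =>
    (hc _ (h.up.le ⟨v, rfl⟩) _ (h''.up.le ⟨u, rfl⟩)).symm
  obtain ⟨c1, c2⟩ := Q.comm g hk (x := a') (by rw [ha, ha']; exact cc _ _) (by rw [hb, ha']; exact cc _ _)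
  obtain ⟨c3, c4⟩ := Q.comm g hk (x := b') (by rw [ha, hb']; exact cc _ _) (by rw [hb, hb']; exact cc _ _)
  obtain ⟨μ, μ1, μ2⟩ := exists_norm1 hσ hne (Nat.card_eq_fintype_card.trans hF)
  have hμ : μ * μ = -1 := by
    rw [hq, q3] at μ1 μ2
    refine (mul_self_eq_one_iff.1 (by linear_combination μ1)).resolve_left fun e => μ2 (by linear_combination μ * e)
  have fo : ∀ {a b a' b' : (stdUnit hσ hne (Fin 4)).SIsom}, Q83 a b → Q83 a' b' → (stdUnit hσ hne (Fin 4)).Iv (b.1 * b.1) → Commute a' a →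
      Commute a' b → Commute b' a → Commute b' b → ∀ y ∈ fx (ng _ * (b.1 * b.1)), a'.1.1 y = y ∧ b'.1.1 y = y :=
    fun Q Q' I c1 c2 c3 c4 => Q83.fix_on (Q.map (Subgroup.subtype _)) (Q'.map (Subgroup.subtype _)) hμ h3
      (fun v => by simp [mem_fx, neg_eq_iff_eq_neg]) ((I.neg h4).rank hne hS h4 h2).le (c1.map _) (c2.map _) (c3.map _) (c4.map _)
  have F0 := fo Q Q' I c1 c2 c3 c4
  have F2 := fo Q' Q I' c1.symm c3.symm c2.symm c4.symm
  have z2 : b'.1 * b'.1 = ng _ * (b.1 * b.1) := by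
    by_contra hn
    obtain ⟨v, vv, v1, v2⟩ := I.exists_fix hne hS h4 h2 I' (((c4.symm.mul_left c4.symm).mul_right (c4.symm.mul_left c4.symm)).map
      (Subgroup.subtype _)) hn
    have e : fx (ng _ * (b.1 * b.1)) = fx (b'.1 * b'.1) := Submodule.eq_of_le_of_finrank_le (fun y hy => by simp [mem_fx, (F0 y hy).2])
      (by rw [I'.rank hne hS h4 h2, (I.neg h4).rank hne hS h4 h2])
    have := mem_fx.1 (e.ge v2)
    rw [isom_mul_apply, v1, ng_apply] at this
    simp [smul_eq_zero_iff_right h2 |>.1 (by linear_combination (norm := module) -this : (2 : F) • v = 0)] at vv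
  have LX : ∀ (χ : Cfsg.SU 3 F q →* G) (W : Submodule F (Fin 4 → F)) {a b}, g a = χ (u2 s) → g b = χ (u2 i) →
      (∀ y ∈ W, a.1.1 y = y ∧ b.1.1 y = y) → ∀ u, ∃ x, g x = χ (u2 u) ∧ ∀ y ∈ W, x.1.1 y = y := fun χ W a b ha hb h u => by
    obtain ⟨x, h1, h2⟩ := gen (((((stdUnit hσ hne (Fin 4)).fix W).subgroupOf _).map g).comap (χ.comp u2)) ⟨a, fun y hy => (h y hy).1, ha⟩
      ⟨b, fun y hy => (h y hy).2, hb⟩ u
    exact ⟨x, h2, h1⟩
  have LA := LX φ (fx (b.1 * b.1)) ha hb fun y hy => F2 y (by simpa [z2, mem_fx] using hy)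
  have LC := LX _ _ ha' hb' F0
  obtain ⟨c, -, hcy⟩ := exists_cyc hq
  obtain ⟨k, hk'⟩ := hr.ge (mem_sup_left (h.top.le ⟨c, rfl⟩))
  have gk : ∀ x u, g x = φ (u2 u) → g (k * x * k⁻¹) = φ (l2 u) := fun x u e => by
    rw [map_mul, map_mul, map_inv, hk', e, ← map_mul, hcy, map_mul, mul_inv_cancel_right]
  have g0 : g (b * b) = φ (u2 (i * i)) := by simp [hb]
  have g1 := gk _ _ g0
  have I1 : (stdUnit hσ hne (Fin 4)).Iv (k * (b * b) * k⁻¹).1 := ⟨(k * (b * b) * k⁻¹).2, fun v => by simpa using congrArg k.1.1 (I.sq ((k.1⁻¹).1 v)),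
    fun c hc => I.ne c fun v => k.1.1.injective (by simpa using hc (k.1.1 v))⟩
  have LB : ∀ u, ∃ x, g x = φ (l2 u) ∧ ∀ y ∈ fx (k * (b * b) * k⁻¹).1, x.1.1 y = y := fun u => by
    obtain ⟨x, h1, h2⟩ := LA u
    refine ⟨_, gk x u h1, fun y hy => ?_⟩
    simpa using congrArg k.1.1 (h2 ((k.1⁻¹).1 y) (k.1.1.injective (by simpa [mem_fx] using hy)))
  have cm : Commute (b.1 * b.1) (k * (b * b) * k⁻¹).1 := by
    let d := mk2 hq hσ μ 0 (by simpa)
    obtain ⟨x, hx, -⟩ := LB d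
    have dd : d * d = i * i := Subtype.ext (Subtype.ext (ii ▸ by
      change d.1.1 * d.1.1 = _
      ext i j; fin_cases i <;> fin_cases j <;> simp [d, mk2, mul_apply, hμ, ← map_mul]))
    have e1 : u2 (i * i) * l2 d = l2 d * u2 (i * i) := Subtype.ext (Subtype.ext (by
      change eM _ _ * eM _ _ = eM _ _ * eM _ _
      rw [ii]; simp [eM_up, eM_lo, d, mk2]))
    have z1 := mem_center_iff.1 (hg (x := x * (b * b) * x⁻¹ * (b * b)⁻¹) (by
      rw [MonoidHom.mem_ker, map_mul, map_mul, map_mul, map_inv, map_inv, g0, hx, ← map_mul, ← e1, map_mul]; simp))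
    have z2 := mem_center_iff.1 (hg (x := k * (b * b) * k⁻¹ * (x * x)⁻¹) (by
      rw [MonoidHom.mem_ker, map_mul, map_inv, g1, map_mul g x, hx, ← map_mul, ← map_mul, dd, mul_inv_cancel]))
    have yy := Q.r3.2
    refine Commute.map (x := b * b) (y := k * (b * b) * k⁻¹) ?_ (Subgroup.subtype _)
    rw [show k * (b * b) * k⁻¹ = k * (b * b) * k⁻¹ * (x * x)⁻¹ * (x * x) by group]
    generalize b * b = y at *
    refine Commute.mul_right (z2 y) ?_
    obtain ⟨z, hz⟩ : ∃ z, z = x * y * x⁻¹ * y⁻¹ := ⟨_, rfl⟩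
    rw [← hz] at z1
    have e2 : x * y = z * (y * x) := by rw [hz]; group
    have e3 : z * z = 1 := by
      calc _ = z * z * (y * y) := by rw [yy, mul_one]
        _ = (z * y) * (z * y) := by rw [mul_assoc, mul_assoc, ← mul_assoc y, z1 y, mul_assoc]
        _ = x * (y * y) * x⁻¹ := by rw [hz]; group
        _ = _ := by rw [yy]; simp
    rw [commute_iff_eq, mul_assoc x, e2, ← mul_assoc x, z1, mul_assoc z, ← mul_assoc x, e2, mul_assoc z, ← mul_assoc z, e3, one_mul, mul_assoc]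
  have n1 : (k * (b * b) * k⁻¹).1 ≠ b.1 * b.1 := fun e => ne _ (inj h.ker (by rw [← g0, ← g1]; exact congrArg g (Subtype.ext e.symm)))
  have n2 : (k * (b * b) * k⁻¹).1 ≠ ng _ * (b.1 * b.1) := fun e => by
    obtain ⟨v, hv⟩ := h''.lo.ge (h.lo.le ⟨i * i, rfl⟩)
    refine ne v (inj h''.ker (.trans ?_ hv.symm))
    rw [map_mul, map_mul, ← hb', ← map_mul, MonoidHom.comp_apply, ← g1]; exact congrArg g (Subtype.ext (z2.trans e.symm))
  have cn : ∀ x, Commute x (ng (stdUnit hσ hne (Fin 4))) := fun x => isom_ext fun v => by simp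
  have nn : ∀ x, ng (stdUnit hσ hne (Fin 4)) * (ng _ * x) = x := fun x => isom_ext fun v => by simp
  generalize (k * (b * b) * k⁻¹).1 = y1 at *
  generalize b.1 * b.1 = y at *
  obtain ⟨f3, n3, p3, q3'⟩ := I.exists_fix hne hS h4 h2 I1 cm n2
  obtain ⟨f2, n2', p2, q2⟩ := I.exists_fix hne hS h4 h2 (I1.neg h4) ((cn _).mul_right cm) fun e => n1 (mul_left_cancel e)
  obtain ⟨f0, n0, p0, q0⟩ := (I.neg h4).exists_fix hne hS h4 h2 I1 ((cn _).symm.mul_left cm) (by rwa [nn])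
  obtain ⟨f1, n1', p1, q1⟩ := (I.neg h4).exists_fix hne hS h4 h2 (I1.neg h4) ((cn _).mul_right ((cn _).symm.mul_left cm))
    fun e => n2 (by rw [← nn y1, e, nn])
  have o : ∀ (t : (stdUnit hσ hne (Fin 4)).Isom) {u v}, t.1 u = u → (ng _ * t).1 v = v → (stdUnit hσ hne (Fin 4)).h u v = 0 ∧
      (stdUnit hσ hne (Fin 4)).h v u = 0 := fun t u v hu hv => by
    have := isom_h t u v
    rw [hu, neg_eq_iff_eq_neg.1 (show -t.1 v = v by simpa using hv), map_neg] at this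
    have := (mul_eq_zero.1 (by linear_combination -this : 2 * (stdUnit hσ hne (Fin 4)).h u v = 0)).resolve_left h2
    exact ⟨this, h_swap_zero _ this⟩
  have hb : ∃ ν : F, σ ν = ν ∧ ν ≠ 0 ∧ ν ≠ 1 := ⟨-1, by simp, by simp, fun e => h2 (by linear_combination -e)⟩
  have sup : ∀ {X Y : Subgroup G} (v), (∀ u ∈ X, ∃ x, g x = u ∧ x.1.1 v = v) → (∀ u ∈ Y, ∃ x, g x = u ∧ x.1.1 v = v) →
      ∀ u ∈ X ⊔ Y, ∃ x, g x = u ∧ x.1.1 v = v := fun {X Y} v hX hY u hu => by
    have key : ∀ {X : Subgroup G}, (∀ u ∈ X, ∃ x, g x = u ∧ x.1.1 v = v) → X ≤ (((stdUnit hσ hne (Fin 4)).fix (F ∙ v)).subgroupOf _).map g :=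
      fun h u hu => (h u hu).imp fun x hx => ⟨mem_fix_span.2 fun _ e => e ▸ hx.2, hx.1⟩
    obtain ⟨x, h1, h2⟩ := sup_le (key hX) (key hY) hu
    exact ⟨x, h2, mem_fix_span.1 h1 v rfl⟩
  have hA : ∀ u ∈ A, ∃ x, g x = u ∧ x.1.1 f2 = f2 ∧ x.1.1 f3 = f3 := fun u hu => by
    obtain ⟨u, rfl⟩ := h.up.ge hu
    exact (LA u).imp fun x hx => ⟨hx.1, hx.2 _ p2, hx.2 _ p3⟩
  have hB : ∀ u ∈ B, ∃ x, g x = u ∧ x.1.1 f0 = f0 ∧ x.1.1 f3 = f3 := fun u hu => by
    obtain ⟨u, rfl⟩ := h.lo.ge hu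
    exact (LB u).imp fun x hx => ⟨hx.1, hx.2 _ q0, hx.2 _ q3'⟩
  have hC : ∀ u ∈ C, ∃ x, g x = u ∧ x.1.1 f0 = f0 ∧ x.1.1 f1 = f1 := fun u hu => by
    obtain ⟨u, rfl⟩ := h''.up.ge hu
    exact (LC u).imp fun x hx => ⟨hx.1, hx.2 _ p0, hx.2 _ p1⟩
  refine exists_win (hσ := hσ) hne h h' (inj h.ker) (inj h'.ker) g hg ![f0, f1, f2, f3] (fun i j => ?_) hA hB hC
    (h.eq_sup (hσ := hσ) hne hb ▸ sup f3 (fun u hu => (hA u hu).imp fun x hx => ⟨hx.1, hx.2.2⟩) fun u hu => (hB u hu).imp fun x hx => ⟨hx.1, hx.2.2⟩)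
    (h'.eq_sup (hσ := hσ) hne hb ▸ sup f0 (fun u hu => (hB u hu).imp fun x hx => ⟨hx.1, hx.2.1⟩) fun u hu => (hC u hu).imp fun x hx => ⟨hx.1, hx.2.1⟩)
  fin_cases i <;> fin_cases j <;> simp [n0, n1', n2', n3, o y1 q0 q1, o y p2 p0, o y p3 p0, o y p2 p1, o y p3 p1, o y1 q3' q2]

end H11
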