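import Cfsg.Agent.H11.Phan7

/-! Generation and rigidity of `SU₃(2)` (`su3_two`, `su3_invol`, `su3_rig2`). -/

set_option autoImplicit false

namespace H11
open Subgroup Module Matrix PForm
open scoped MatrixGroups
variable {F : Type*} [Field F] {G : Type*} [Group G] {q : ℕ} {σ : F →+* F} {hσ : ∀ a, σ (σ a) = a} {hq : ∀ x, σ x = x ^ q}
local notation "u2" => suE hq (sh 0 (by omega) : Fin 2 ↪ Fin 3)
local notation "l2" => suE hq (sh 1 (by omega) : Fin 2 ↪ Fin 3)
variable [Fintype F] {φ ψ : Cfsg.SU 3 F q →* G} {A B C V V' : Subgroup G}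
  (hne : σ ≠ RingHom.id F) (hF : Fintype.card F = q ^ 2) (q2 : q = 2)
include hF q2

theorem two_eq_zero4 : (2 : F) = 0 := by
  have := FiniteField.cast_card_eq_zero F
  rw [hF, q2, Nat.cast_pow, pow_eq_zero_iff two_ne_zero] at this; exact_mod_cast this

theorem norm_eq_one4 (hq : ∀ x, σ x = x ^ q) {x : F} (h : x ≠ 0) : σ x * x = 1 := by
  have := FiniteField.pow_card_sub_one_eq_one x h
  rw [hF, q2] at this
  rw [hq, q2, ← this]; ring

include hσ hne

theorem su2_two (hq : ∀ x, σ x = x ^ q) {M : Subgroup (Cfsg.SU 2 F q)} (h : ∀ u, u * u = 1 → u ∈ M) (u) : u ∈ M := by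
  obtain ⟨K, hK, hf⟩ := exists_fixF hσ hne (Nat.card_eq_fintype_card.trans hF)
  obtain ⟨P, e, -, -⟩ := exists_su2 hσ hne hq hF hK hf
  have k2 : (2 : K) = 0 := K.subtype.injective (by rw [map_ofNat, map_zero, two_eq_zero4 hF q2])
  obtain ⟨u, rfl⟩ := e.surjective u
  exact SL2.transvection_induction (fun u => e u ∈ M) (fun i j hij c => h _ (by
    rw [← map_mul, ← SpecialLinearGroup.transvection_add, ← two_mul, k2, zero_mul, SpecialLinearGroup.transvection_coeff_zero, map_one]))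
    (fun a b ha hb => by rw [map_mul]; exact mul_mem ha hb) u

theorem exists_omega (hq : ∀ x, σ x = x ^ q) : ∃ ω : F, σ ω * ω = 1 ∧ σ ω = ω + 1 ∧ ω * ω = ω + 1 := by
  obtain ⟨ω, h1, h2⟩ := exists_norm1 hσ hne (Nat.card_eq_fintype_card.trans hF)
  have h0 := two_eq_zero4 hF q2
  have h3 : ω * ω = ω + 1 := by
    rw [hq, q2] at h1 h2
    have : (ω - 1) * (ω * ω - (ω + 1)) = 0 := by linear_combination h1 + (1 - ω * ω) * h0
    exact sub_eq_zero.1 ((mul_eq_zero.1 this).resolve_left fun e => h2 (by rw [sub_eq_zero.1 e, one_pow]))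
  exact ⟨ω, h1, by rw [hq, q2, sq, h3], h3⟩

theorem su3_two {M : Subgroup (Cfsg.SU 3 F q)} (hU : ∀ u, u2 u ∈ M) (hL : ∀ u, l2 u ∈ M) (h : ∀ x, x ^ 4 = 1 → x ∈ M) (g) : g ∈ M := by
  have h2 := two_eq_zero4 hF q2
  have key : ∀ m ∈ M, (∀ k, m.1.1 k 2 = g.1.1 k 2) → g ∈ M := fun m hm e => by
    obtain ⟨u, hu⟩ := exists_suE hq (sh 0 (by omega) : Fin 2 ↪ Fin 3) hσ (g := m⁻¹ * g) fun k hk k' => by
      obtain rfl : k = 2 := by rw [mem_range_sh] at hk; omega
      rw [← show (m⁻¹ * m).1.1 = 1 by simp]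
      change (m⁻¹.1.1 * g.1.1) k' 2 = (m⁻¹.1.1 * m.1.1) k' 2
      simp only [mul_apply, e]
    simpa [hu] using mul_mem hm (hU u)
  have n := congr($((H19.Iso.mem_SU hq).1 g.2) 2 2)
  simp only [mul_apply, Fin.sum_univ_three, transpose_apply, map_apply, one_apply_eq] at n
  have n1 := fun x => norm_eq_one4 hF q2 hq (x := x)
  by_cases a0 : g.1.1 0 2 = 0
  · refine key _ (hL (mk2 hq hσ (σ (g.1.1 2 2)) (-σ (g.1.1 1 2)) (by simp [hσ, a0] at n ⊢; linear_combination n))) fun k => ?_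
    rw [coe_suE, eM_lo]; fin_cases k <;> simp [mk2, hσ, a0]
  by_cases b0 : g.1.1 1 2 = 0
  · have c0 : g.1.1 2 2 = 0 := by simpa [n1 _ a0, b0] using n
    refine key _ (mul_mem (hU (mk2 hq hσ 0 (-σ (g.1.1 0 2)) (by simp [hσ, mul_comm, ← n1 _ a0]))) (hL (mk2 hq hσ 0 (-1) (by simp)))) fun k => ?_
    change (eM _ _ * eM _ _ : Matrix _ _ F) k 2 = _
    rw [eM_up, eM_lo]; fin_cases k <;> simp [mk2, hσ, b0, c0]
  have c1 : σ (g.1.1 2 2) * g.1.1 2 2 = 1 := by rw [n1 _ a0, n1 _ b0] at n; linear_combination n - h2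
  obtain ⟨ω, -, w1, w2⟩ := exists_omega (hσ := hσ) hne hF q2 hq
  let y : Cfsg.SU 3 F q := ⟨⟨!![ω, ω + 1, 1; ω + 1, ω, 1; 1, 1, 1], by simp [det_fin_three]; linear_combination (-ω) * h2⟩,
    (H19.Iso.mem_SU hq).2 (by
      ext i j; fin_cases i <;> fin_cases j <;> simp [mul_apply, Fin.sum_univ_three, w1] <;>
        first | linear_combination h2 | linear_combination (ω + 1) * h2 | linear_combination (ω * ω + 2 * ω + 1) * h2 | linear_combination (ω * ω + ω + 1) * h2 | linear_combination (ω + 2) * h2 | skip)⟩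
  have y4 : y ^ 4 = 1 := by
    have : (y * y).1.1 = !![0, 1, 0; 1, 0, 0; 0, 0, 1] := by
      change y.1.1 * y.1.1 = _
      ext i j; fin_cases i <;> fin_cases j <;> simp [y, mul_apply, Fin.sum_univ_three] <;>
        first | linear_combination h2 | linear_combination (ω + 1) * h2 | linear_combination (ω * ω + ω + 1) * h2 | linear_combination (ω * ω + ω) * h2
    rw [show 4 = 2 * 2 from rfl, pow_mul, pow_two, pow_two]
    refine Subtype.ext (Subtype.ext ?_)
    change (y * y).1.1 * (y * y).1.1 = 1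
    rw [this]; ext i j; fin_cases i <;> fin_cases j <;> simp
  have hδ : ∀ i, σ (![g.1.1 0 2, g.1.1 1 2 * g.1.1 2 2, 1] i) * ![g.1.1 0 2, g.1.1 1 2 * g.1.1 2 2, 1] i = 1 := fun i => n1 _ (by
    fin_cases i <;> simp [a0, b0, right_ne_zero_of_mul_eq_one c1])
  refine key _ (mul_mem (hL (mk2 hq hσ (σ (g.1.1 2 2)) 0 (by simp [hσ, mul_comm, ← c1])))
    (h (suAut hq hσ (.id F) (fun _ => rfl) _ hδ y) (by rw [← map_pow, y4, map_one]))) fun k => ?_
  change (eM _ _ * _ : Matrix _ _ F) k 2 = _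
  rw [eM_lo]; fin_cases k <;> simp [mk2, hσ, mul_apply, Fin.sum_univ_three, suAut_apply, y]
  linear_combination g.1.1 1 2 * c1

theorem su3_two' (hq : ∀ x, σ x = x ^ q) {M : Subgroup (Cfsg.SU 3 F q)} (h : ∀ x, x ^ 4 = 1 → x ∈ M) (g) : g ∈ M := by
  have key : ∀ (e : Fin 2 ↪ Fin 3) u, suE hq e u ∈ M := fun e => su2_two (hσ := hσ) hne hF q2 hq (M := M.comap (suE hq e)) fun u hu => h _ (by
    rw [← map_pow, show 4 = 2 * 2 from rfl, pow_mul, pow_two u, hu, one_pow, map_one])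
  exact su3_two (hσ := hσ) (hq := hq) hne hF q2 (key _) (key _) h g

theorem su3_invol {M : Subgroup (Cfsg.SU 3 F q)} (hU : ∀ u, u2 u ∈ M) (hL : ∀ u, l2 u ∈ M) {t} (ht : t * t = 1) : t ∈ M := by
  have c0 : ∀ t : Cfsg.SU 3 F q, (∀ k, t.1.1 k 0 = (1 : Matrix (Fin 3) (Fin 3) F) k 0) → t ∈ M := fun t h => by
    obtain ⟨u, rfl⟩ := exists_suE hq (sh 1 (by omega) : Fin 2 ↪ Fin 3) hσ (g := t) fun k hk k' => by
      obtain rfl : k = 0 := by rw [mem_range_sh] at hk; omega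
      exact h k'
    exact hL u
  by_cases t1 : t = 1
  · exact t1 ▸ one_mem M
  obtain ⟨u, -, u2', u3, -⟩ := (stdUnit_nondeg hσ hne (Fin 3)).invol (by simp) (two_eq_zero4 hF q2) (t := (suEquiv hσ hne hq 3 t).1)
    (fun e => t1 ((suEquiv hσ hne hq 3).injective (Subtype.ext (by simpa using e)))) (by rw [← Subgroup.coe_mul, ← map_mul, ht]; simp)
  generalize (suEquiv hσ hne hq 3 t).1.1 u - u = e at u2' u3
  obtain ⟨k, hk⟩ : ∃ k, e k = 0 := by
    by_contra! h
    simp only [stdUnit_h, Fin.sum_univ_three, norm_eq_one4 hF q2 hq (h _)] at u2'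
    exact one_ne_zero (by linear_combination u2' - two_eq_zero4 hF q2 : (1 : F) = 0)
  have h1 := (u3 (Pi.single k 1)).2 (h_swap_zero _ (by rw [stdUnit_single, hk]))
  have h2 : ∀ k', t.1.1 k' k = (1 : Matrix (Fin 3) (Fin 3) F) k' k := fun k' => by simpa [Pi.single_apply, one_apply] using congrFun h1 k'
  fin_cases k
  · exact c0 t h2
  · have := c0 (u2 (mk2 hq hσ 0 (-1) (by simp)) * t * u2 (mk2 hq hσ 0 1 (by simp))) fun k => by
      change (eM _ _ * t.1.1 * eM _ _ : Matrix _ _ F) k 0 = _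
      have h3 : ∀ k', t.1.1 k' 1 = (1 : Matrix (Fin 3) (Fin 3) F) k' 1 := h2
      rw [eM_up, eM_up]; fin_cases k <;> simp [mk2, mul_apply, Fin.sum_univ_three, vecMul, dotProduct, h3, one_apply]
    exact (M.mul_mem_cancel_left (hU _)).1 ((M.mul_mem_cancel_right (hU _)).1 this)
  · obtain ⟨u, rfl⟩ := exists_suE hq (sh 0 (by omega) : Fin 2 ↪ Fin 3) hσ (g := t) fun k hk k' => by
      obtain rfl : k = 2 := by rw [mem_range_sh] at hk; omega
      exact h2 k'
    exact hU u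

theorem su3_rig2 (φ ψ : Cfsg.SU 3 F q →* G) (hi : Function.Injective ψ) (hr : φ.range = ψ.range) (e0 : ∀ u, φ (u2 u) = ψ (u2 u))
    (e1 : ∀ u, φ (l2 u) = ψ (l2 u)) (x) : φ x = ψ x := by
  have inv : ∀ t, t * t = 1 → φ t = ψ t := fun t ht => su3_invol (hσ := hσ) (hq := hq) hne hF q2 (M := φ.eqLocus ψ) e0 e1 ht
  refine su3_two (hσ := hσ) (hq := hq) hne hF q2 (M := φ.eqLocus ψ) e0 e1 (fun x hx => ?_) x
  obtain ⟨y, hy⟩ := hr.le ⟨x, rfl⟩
  obtain ⟨z, rfl⟩ : ∃ z, y = x * z := ⟨x⁻¹ * y, by simp⟩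
  have c : ∀ (e : Fin 2 ↪ Fin 3) (u : Cfsg.SU 2 F q), z.1.1 * eM e u.1.1 = eM e u.1.1 * z.1.1 := fun e u => by
    suffices h : suE hq e u * z = z * suE hq e u from congr(($h.symm).1.1)
    refine mem_centralizer_singleton_iff.1 (su2_two (hσ := hσ) hne hF q2 hq (M := (centralizer {z}).comap (suE hq e))
      (fun u hu => mem_centralizer_singleton_iff.2 ?_) u)
    have ht : suE hq e u * suE hq e u = 1 := by rw [← map_mul, hu, map_one]
    generalize suE hq e u = t at ht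
    have := inv (x * t * x⁻¹) (by rw [conj_mul, ht]; simp)
    rw [map_mul, map_mul, map_inv, ← hy, inv t ht, ← map_inv, ← map_mul, ← map_mul] at this
    calc t * z = x⁻¹ * (x * t * x⁻¹) * (x * z) := by group
      _ = _ := by rw [← hi this]; group
  obtain ⟨ω, w0, w1, w2⟩ := exists_omega (hσ := hσ) hne hF q2 hq
  have c1 := c (sh 0 (by omega)) (mk2 hq hσ ω 0 (by simpa))
  have c2 := c (sh 0 (by omega)) (mk2 hq hσ 0 1 (by simp))
  have c3 := c (sh 1 (by omega)) (mk2 hq hσ 0 1 (by simp))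
  rw [eM_up] at c1 c2
  rw [eM_lo] at c3
  have d1 := congr($c1 0 1)
  have d2 := congr($c2 0 0)
  have d3 := congr($c2 0 1)
  have d4 := congr($c2 0 2)
  have d5 := congr($c2 2 0)
  have d6 := congr($c3 1 2)
  have d7 := congr($c3 0 1)
  have d8 := congr($c3 1 0)
  simp [mk2, mul_apply, Fin.sum_univ_three, w1] at d1 d2 d3 d4 d5 d6 d7 d8
  have z1 : z.1.1 0 1 = 0 := by linear_combination d1
  have hz : z.1.1 = z.1.1 0 0 • (1 : Matrix _ _ F) := by
    have z2 : z.1.1 0 2 = 0 := d7.trans z1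
    have z3 : z.1.1 1 0 = 0 := by linear_combination d2 - z1
    have z4 : z.1.1 1 2 = 0 := by linear_combination d4 - z2
    have z5 : z.1.1 2 0 = 0 := by linear_combination d8 - z3
    have z6 : z.1.1 2 1 = 0 := d5.trans z5
    ext i j; fin_cases i <;> fin_cases j <;> simp [z1, z2, z3, z4, z5, z6, d3, d6]
  generalize z.1.1 0 0 = k at hz
  have k3 := z.1.2
  rw [hz, det_smul, det_one, Fintype.card_fin, mul_one] at k3
  have cz : Commute x z := Subtype.ext (Subtype.ext (show x.1.1 * z.1.1 = z.1.1 * x.1.1 by simp [hz]))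
  have k4 : z ^ 4 = 1 := by
    have : (x * z) ^ 4 = 1 := hi (by rw [map_pow, hy, ← map_pow, hx, map_one, map_one])
    rwa [cz.mul_pow, hx, one_mul] at this
  have k5 : z ^ 3 = 1 := by
    rw [pow_three'] at k3 ⊢
    exact Subtype.ext (Subtype.ext (show z.1.1 * z.1.1 * z.1.1 = 1 by simp [hz, smul_smul, ← mul_assoc, k3]))
  rw [pow_succ, k5, one_mul] at k4
  rw [k4, mul_one] at hy
  exact hy.symm

end H11
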