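import Cfsg.Agent.H11.Phan8

/-! Windows of weak Phan systems over `F₄` (`exists_win2`). -/

set_option autoImplicit false

namespace H11
open Subgroup Module Matrix PForm
open scoped MatrixGroups
variable {F : Type*} [Field F] {G : Type*} [Group G] {q : ℕ} {σ : F →+* F} {hσ : ∀ a, σ (σ a) = a} {hq : ∀ x, σ x = x ^ q}
local notation "u2" => suE hq (sh 0 (by omega) : Fin 2 ↪ Fin 3)
local notation "l2" => suE hq (sh 1 (by omega) : Fin 2 ↪ Fin 3)
variable [Fintype F] {φ ψ : Cfsg.SU 3 F q →* G} {A B C V V' : Subgroup G}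
  (hne : σ ≠ RingHom.id F) (hF : Fintype.card F = q ^ 2) (q2 : q = 2)
omit [Fintype F] in
theorem det_comm_scal {W : Type*} [AddCommGroup W] [Module F W] [FiniteDimensional F W] {X : Type*} [Group X] (ρ : X →* (W ≃ₗ[F] W))
    {z a b : X} (hz : ∀ x, x * z = z * x) (h : a * b = z * (b * a)) (c : F) {E : Submodule F W} (hE : ∀ v, v ∈ E ↔ ρ z v = c • v) :
    c ^ finrank F E = 1 := by
  have m : ∀ x, ∀ v ∈ E, (ρ x : W →ₗ[F] W) v ∈ E := fun x v hv => (hE _).2 <| show ρ z (ρ x v) = c • ρ x v by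
    rw [← LinearEquiv.mul_apply, ← map_mul, ← hz, map_mul, LinearEquiv.mul_apply, (hE v).1 hv, map_smul]
  let χ : X →* F := ⟨⟨fun x => LinearMap.det ((ρ x : W →ₗ[F] W).restrict (m x)), by
    rw [← LinearMap.det_id (M := E)]; congr 1; ext; simp⟩, fun x y =>
      (congrArg LinearMap.det (LinearMap.ext fun v => Subtype.ext (by simp))).trans (map_mul LinearMap.det _ _)⟩
  have h1 : χ z = c ^ finrank F E := by
    rw [← mul_one (c ^ _), ← LinearMap.det_id (M := E), ← LinearMap.det_smul]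
    exact congrArg LinearMap.det (LinearMap.ext fun v => Subtype.ext ((hE _).1 v.2))
  have h2 := congrArg χ h
  rw [map_mul, map_mul, map_mul, h1, mul_comm (χ b)] at h2
  exact (mul_left_eq_self₀.1 h2.symm).resolve_right (by rw [← map_mul]; exact ((Group.isUnit _).map χ).ne_zero)

include hF q2 in
set_option maxHeartbeats 1000000 in
theorem exists_win2 (h : StP hq φ A B V) (h' : StP hq ψ B C V') (hc : ∀ x ∈ A, ∀ y ∈ C, x * y = y * x)
    (g : (stdUnit hσ hne (Fin 4)).SIsom →* G) (hg : g.ker ≤ center _) (hr : g.range = V ⊔ V') : ∃ f, Win hq f A B C V V' := by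
  have h2 := two_eq_zero4 hF q2
  have h3 : ((3 : ℕ) : F) ≠ 0 := fun e => one_ne_zero (by push_cast at e; linear_combination e - h2 : (1 : F) = 0)
  have hS := stdUnit_nondeg hσ hne (Fin 4)
  have h4 : finrank F (Fin 4 → F) = 4 := by simp
  have n3 : ∀ c : F, σ c * c = 1 → c ^ 3 = 1 := fun c hc => by rw [← hc, hq, q2]; ring
  have gi : Function.Injective g := (injective_iff_map_eq_one _).2 fun z hz => by
    obtain ⟨e, f, Hy⟩ := hS.unit_exists_hyp hne (by simp)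
    obtain ⟨c, hc⟩ := (hS.mem_scal_range _).2 ((Hy.mem_center_iff_scalar hS (unit_rich hne _ 3) E_le_SIsom z).1 (hg hz))
    have h1 := congrArg Units.val (show (stdUnit hσ hne (Fin 4)).detHom _ = 1 from z.2)
    rw [← hc, detHom_scal, h4, Units.val_pow_eq_pow_val, pow_succ, n3 _ c.2, one_mul] at h1
    exact Subtype.ext (isom_ext fun v => by rw [← hc, scal_apply, h1]; simp)
  obtain ⟨ω, w0, w1, w2⟩ := exists_omega (hσ := hσ) hne hF q2 hq
  have w3 := n3 ω w0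
  have w4 : ω ≠ 1 := fun e => one_ne_zero (by rw [e] at w2; linear_combination -w2 : (1 : F) = 0)
  let d := mk2 hq hσ ω 0 (by simpa)
  let ζ : Cfsg.SU 3 F q := ⟨⟨ω • 1, by simp [w3]⟩, (H19.Iso.mem_SU hq).2 (by
    ext i j; fin_cases i <;> fin_cases j <;> simp [mul_apply, Fin.sum_univ_three, w0])⟩
  have ζ1 : ∀ x, x * ζ = ζ * x := fun x => Subtype.ext (Subtype.ext (show x.1.1 * (ω • 1) = (ω • 1) * x.1.1 by simp))
  have ζ2 : ζ * l2 d = u2 d := Subtype.ext (Subtype.ext (show (ω • 1) * eM _ _ = eM _ _ by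
    simp [eM_up, eM_lo, d, mk2, mul_comm ω, w0]; rw [w1, w2]))
  have ζ3 : ζ ^ 3 = 1 := by
    rw [pow_three'] at w3 ⊢
    exact Subtype.ext (Subtype.ext (show (ω • 1) * (ω • 1) * (ω • 1) = (1 : Matrix _ _ F) by simp [smul_smul, ← mul_assoc, w3]))
  have d1 : d ≠ 1 := fun e => w4 (by simpa [d, mk2] using congr(($e).1.1 0 0))
  have d3 : d ^ 3 = 1 := by
    rw [pow_three'] at w3 ⊢
    refine Subtype.ext (Subtype.ext (show d.1.1 * d.1.1 * d.1.1 = 1 from ?_))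
    ext i j; fin_cases i <;> fin_cases j <;> simp [d, mk2, w3, ← map_mul]
  have dd : u2 d * l2 d = l2 d * u2 d := by rw [← ζ2, ← mul_assoc, ζ1]
  obtain ⟨c, -, hcy⟩ := exists_cyc hq
  have sym : ∀ {χ χ' : Cfsg.SU 3 F q →* G} {X Y W W'}, StP hq χ X B W → StP hq χ' B Y W' → W ≤ g.range → (∀ x ∈ X, ∀ y ∈ Y, x * y = y * x) →
      Function.Injective χ ∧ ∃ (ρ : Cfsg.SU 3 F q →* (stdUnit hσ hne (Fin 4)).SIsom) (x : Fin 4 → F), (∀ y, g (ρ y) = χ y) ∧
      (stdUnit hσ hne (Fin 4)).h x x = 1 ∧ (∀ y, (ρ y).1.1 x = x) ∧ ∀ v, (ρ ζ).1.1 v = v → ∃ c : F, c • x = v := by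
    intro χ χ' X Y W W' h h' hW hc
    have z1 : χ ζ ≠ 1 := fun e => by
      obtain ⟨u, hu⟩ := h'.up.ge (h.lo.le ⟨d, rfl⟩)
      have e1 : χ (u2 d) = χ (l2 d) := by rw [← ζ2, map_mul, e, one_mul]
      obtain rfl := StP.eq_one (hq := hq) (hσ := hσ) hne h'.ker (u := u) fun v => by
        rw [show χ' _ = χ (l2 d) from hu, ← e1]; exact hc _ (h.up.le ⟨d, rfl⟩) _ (h'.lo.le ⟨v, rfl⟩)
      exact d1 (h.inj_lo (hσ := hσ) hne (by rw [← hu, map_one, map_one]))
    refine ⟨(injective_iff_map_eq_one _).2 fun z hz => ?_, ?_⟩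
    · obtain ⟨k, hk⟩ := su_center hσ hne hq (by omega) (h.ker hz)
      have := z.1.2
      rw [hk, det_smul, det_one, Fintype.card_fin, mul_one] at this
      have e : (k - 1) * (k - ω) * (k - ω * ω) = 0 := by
        linear_combination this + (-k ^ 2 + k * ω + k + k - ω - 1) * w2 + (-k ^ 2 * ω - k ^ 2 + 2 * k * ω + k - ω) * h2
      simp only [mul_eq_zero, sub_eq_zero] at e
      rcases e with (rfl | rfl) | rfl
      · exact Subtype.ext (Subtype.ext (by simpa using hk))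
      · exact (z1 (by rwa [show ζ = z from Subtype.ext (Subtype.ext hk.symm)])).elim
      · obtain rfl : z = ζ * ζ := Subtype.ext (Subtype.ext (hk.trans (show _ = (ω • 1) * (ω • 1) by simp [smul_smul])))
        exact (z1 (by rw [← mul_one (χ ζ), ← hz, ← map_mul, ← pow_three, ζ3, map_one, hz])).elim
    let ρ := (MonoidHom.ofInjective gi).symm.toMonoidHom.comp (χ.codRestrict g.range fun y => hW (h.top.le ⟨y, rfl⟩))
    have hρ : ∀ y, g (ρ y) = χ y := fun y => MonoidHom.apply_ofInjective_symm gi _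
    obtain ⟨nd, r1⟩ := hS.fix_nd hne (ρ ζ).2 (fun e => z1 (by rw [← hρ, show ρ ζ = 1 from Subtype.ext e, map_one])) (m := 3)
      (by rw [← Subgroup.coe_pow, ← map_pow, ζ3]; simp) h3
    clear_value ρ
    obtain ⟨E, mE⟩ : ∃ E : F → Submodule F (Fin 4 → F), ∀ k v, v ∈ E k ↔ (ρ ζ).1.1 v = k • v :=
      ⟨fun k : F => LinearMap.eqLocus ((ρ ζ).1.1 : (Fin 4 → F) →ₗ[F] _) (k • LinearMap.id), fun _ _ => Iff.rfl⟩
    have := Fact.mk Nat.prime_three
    have dv : ∀ k : F, k ^ 3 = 1 → k ≠ 1 → 3 ∣ finrank F (E k) := fun k k3 k1 => by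
      rw [← orderOf_eq_prime k3 k1, orderOf_dvd_iff_pow_eq_one]
      exact det_comm_scal ((stdUnit hσ hne (Fin 4)).Isom.subtype.comp ((stdUnit hσ hne (Fin 4)).SIsom.subtype.comp ρ)) ζ1 (a := u2 d) (b := c)
        (by rw [hcy, ← mul_assoc, ζ2]) k (mE k)
    have dj : ∀ k k', k ≠ k' → finrank F (E k) + finrank F (E k') ≤ 4 := fun k k' hk => (Submodule.finrank_add_finrank_le_of_disjoint
      (Submodule.disjoint_def.2 fun v h1 h2 => by
        by_contra v0; exact hk (smul_left_injective F v0 (((mE _ _).1 h1).symm.trans ((mE _ _).1 h2))))).trans h4.le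
    have e1 : E 1 = fx (ρ ζ).1 := by ext v; simp [mE, mem_fx]
    have w5 : ω + 1 ≠ 1 := by simpa using right_ne_zero_of_mul_eq_one w0
    have s1 := Submodule.finrank_add_le_finrank_add_finrank (E 1 ⊔ E ω) (E (ω + 1))
    have s2 := Submodule.finrank_add_le_finrank_add_finrank (E 1) (E ω)
    have zz : ∀ v, (ρ ζ).1.1 ((ρ ζ).1.1 ((ρ ζ).1.1 v)) = v := fun v => by
      have := congr(((ρ $ζ3)).1.1 v); rw [pow_three, map_mul, map_mul, map_one] at this; exact this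
    have t2 : ∀ v : Fin 4 → F, (2 : F) • v = 0 := fun v => by rw [h2, zero_smul]
    rw [show E 1 ⊔ E ω ⊔ E (ω + 1) = ⊤ from eq_top_iff.2 fun v _ => Submodule.mem_sup.2 ⟨_, Submodule.mem_sup.2
      ⟨v + (ρ ζ).1.1 v + (ρ ζ).1.1 ((ρ ζ).1.1 v), (mE _ _).2 (by simp only [map_add, zz]; module),
        v + (ω + 1) • (ρ ζ).1.1 v + ω • (ρ ζ).1.1 ((ρ ζ).1.1 v), (mE _ _).2 (by
          simp only [map_add, map_smul, zz, smul_add, smul_smul, w2, show ω * (ω + 1) = 1 by rw [← w1, mul_comm, w0], one_smul]; abel), rfl⟩,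
        v + ω • (ρ ζ).1.1 v + (ω + 1) • (ρ ζ).1.1 ((ρ ζ).1.1 v), (mE _ _).2 (by
          simp only [map_add, map_smul, zz, smul_add, smul_smul, show (ω + 1) * (ω + 1) = ω by linear_combination w2 + (ω + 1) * h2,
            show (ω + 1) * ω = 1 from w1 ▸ w0, one_smul]; abel), by
        linear_combination (norm := module) t2 v + (ω + 1) • t2 ((ρ ζ).1.1 v) + (ω + 1) • t2 ((ρ ζ).1.1 ((ρ ζ).1.1 v))⟩, finrank_top] at s1
    have r2 : finrank F (fx (ρ ζ).1) = 1 := by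
      have := dv ω w3 w4
      have := dv (ω + 1) (by rw [← w1, ← map_pow, w3, map_one]) w5
      have := dj _ _ w4
      have := dj _ _ w5
      have := dj (ω + 1) ω (by simp)
      rw [e1] at *; omega
    obtain ⟨x, hx, xx⟩ := unit_exists_norm_mem hne nd (by omega) (map_one σ)
    have x0 : x ≠ 0 := by rintro rfl; simp at xx
    have e : (F ∙ x) = fx (ρ ζ).1 := Submodule.eq_of_le_of_finrank_le (by simpa) (by rw [finrank_span_singleton x0, r2])
    refine ⟨ρ, x, hρ, xx, fun y => mem_fix_span.1 (su3_two' (hσ := hσ) hne hF q2 hq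
      (M := (((stdUnit hσ hne (Fin 4)).fix (F ∙ x)).subgroupOf _).comap ρ) (fun y hy => mem_fix_span.2 ?_) y) x rfl,
      fun v hv => Submodule.mem_span_singleton.1 (e.ge hv)⟩
    rintro x rfl
    obtain ⟨k, hk⟩ := Submodule.mem_span_singleton.1 (e.ge (show (ρ ζ).1.1 ((ρ y).1.1 x) = (ρ y).1.1 x by
      rw [← isom_mul_apply, ← Subgroup.coe_mul, ← map_mul, ← ζ1, map_mul, Subgroup.coe_mul, isom_mul_apply, mem_fx.1 hx]))
    have k3 := n3 k (by simpa [← hk, xx, mul_comm] using isom_h (ρ y).1 x x)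
    have k4 : (ρ y).1.1 ((ρ y).1.1 ((ρ y).1.1 ((ρ y).1.1 x))) = x := by
      have := congr(((ρ $hy)).1.1 x); rw [pow_succ', pow_three, map_mul, map_mul, map_mul, map_one] at this; exact this
    simp only [← hk, map_smul, smul_smul, ← pow_three', k3, one_mul] at k4
    exact hk.symm.trans k4
  obtain ⟨i1, ρ, f3, hρ, n3', p3, q3⟩ := sym h h' (hr ▸ le_sup_left) hc
  obtain ⟨i2, ρ', f0, hρ', n0, p0, -⟩ := sym h'.rev h.rev (hr ▸ le_sup_right) fun x hx y hy => (hc y hy x hx).symm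
  have ap : ∀ x y v, (ρ (x * y)).1.1 v = (ρ x).1.1 ((ρ y).1.1 v) := fun x y v => by rw [map_mul]; rfl
  have b0 : ∀ u, (ρ (l2 u)).1.1 f0 = f0 := fun u => by
    obtain ⟨v, hv⟩ := h'.rev.lo.ge (h.lo.le ⟨u, rfl⟩)
    rw [gi ((hρ _).trans (hv.symm.trans (hρ' _).symm))]; exact p0 _
  have fn : ∀ e : Fin 2 ↪ Fin 3, ((stdUnit hσ hne (Fin 4)).restrict (fx (ρ (suE hq e d)).1)).Nondeg ∧ finrank F (fx (ρ (suE hq e d)).1) ≤ 2 := fun e => by
    have := hS.fix_nd hne (ρ (suE hq e d)).2 (fun e1 => d1 (suE_inj hq e (i1 (by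
      rw [← hρ, show ρ (suE hq e d) = 1 from Subtype.ext e1, map_one, map_one, map_one])))) (m := 3)
      (by rw [← Subgroup.coe_pow, ← map_pow, ← map_pow, d3]; simp) h3
    exact ⟨this.1, by omega⟩
  have o30 : (stdUnit hσ hne (Fin 4)).h f3 f0 = 0 := by
    by_contra η
    have η1 := norm_eq_one4 hF q2 hq η
    have r1 : (stdUnit hσ hne (Fin 4)).h f3 (f0 - (stdUnit hσ hne (Fin 4)).h f3 f0 • f3) = 0 := by simp [n3']
    have r2 : (stdUnit hσ hne (Fin 4)).h f0 (f0 - (stdUnit hσ hne (Fin 4)).h f3 f0 • f3) = 0 := by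
      rw [map_sub, h_smul_right, n0, unit_symm _ f3 f0, mul_comm, η1, sub_self]
    have r0 : f0 - (stdUnit hσ hne (Fin 4)).h f3 f0 • f3 = 0 := by
      by_contra r0
      have rm : f0 - (stdUnit hσ hne (Fin 4)).h f3 f0 • f3 ∈ fx (ρ (l2 d)).1 := sub_mem (b0 d) (Submodule.smul_mem _ _ (p3 _))
      have r3 : (stdUnit hσ hne (Fin 4)).h (f0 - (stdUnit hσ hne (Fin 4)).h f3 f0 • f3) (f0 - (stdUnit hσ hne (Fin 4)).h f3 f0 • f3) = 0 := by
        rw [map_sub (stdUnit hσ hne (Fin 4)).h f0, LinearMap.sub_apply, h_smul_left, r1, r2]; simp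
      generalize f0 - _ = r at *
      obtain ⟨-, sp⟩ := span2 (fn _).2 (p3 _) rm fun s t e => by
        obtain rfl : s = 0 := by simpa [n3', r1] using congrArg ((stdUnit hσ hne (Fin 4)).h f3) e
        simpa [r0] using e
      refine r0 ((restrict_nondeg_iff' _ _).1 (fn _).1 r rm fun y hy => ?_)
      obtain ⟨s, t, rfl⟩ := sp y hy
      simp [r3, h_swap_zero _ r1]
    obtain ⟨t, tt, t1, -⟩ := hS.unit_perp2 hne (by simp) n3' 0
    obtain ⟨k, k1, -, k2⟩ := hS.su_fix ⊥ (u := f3) (u' := t) (fun e => by simp [(Submodule.mem_bot F).1 e] at n3')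
      (fun e => by simp [(Submodule.mem_bot F).1 e] at tt) (tt.trans n3'.symm) (by simp) n3' (by simp [mem_perp]) (h_swap_zero _ t1)
    obtain ⟨w, hw, e⟩ := (sup_le (h.top ▸ by rintro _ ⟨u, rfl⟩; exact ⟨ρ u, mem_fix_span.2 fun _ h => h ▸ p3 u, hρ u⟩)
      (h'.rev.top ▸ by
        rintro _ ⟨u, rfl⟩
        refine ⟨ρ' u, mem_fix_span.2 fun _ h => h ▸ smul_right_injective _ η ?_, hρ' u⟩
        simp only [← map_smul, ← sub_eq_zero.1 r0]; exact p0 u) :
      V ⊔ V' ≤ (((stdUnit hσ hne (Fin 4)).fix (F ∙ f3)).subgroupOf _).map g) (hr.le ⟨⟨k, k1⟩, rfl⟩)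
    obtain rfl := gi e
    rw [← k2, show k.1 f3 = f3 from mem_fix_span.1 hw _ rfl, n3'] at t1
    exact one_ne_zero t1
  obtain ⟨f2, hf2⟩ := (ρ c).1.1.surjective f0
  have a2 : ∀ u, (ρ (u2 u)).1.1 f2 = f2 := fun u => (ρ c).1.1.injective (by rw [← ap, hcy, ap, hf2, b0])
  have n2 : (stdUnit hσ hne (Fin 4)).h f2 f2 = 1 := by rw [← isom_h (ρ c).1, hf2, n0]
  have o32 : (stdUnit hσ hne (Fin 4)).h f3 f2 = 0 := by rw [← isom_h (ρ c).1, hf2, p3, o30]
  have ind : ∀ {x y}, (stdUnit hσ hne (Fin 4)).h x x = 1 → (stdUnit hσ hne (Fin 4)).h y y = 1 → (stdUnit hσ hne (Fin 4)).h x y = 0 →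
      ∀ s t : F, s • x + t • y = 0 → s = 0 ∧ t = 0 := fun {x y} xx yy xy s t e =>
    ⟨by simpa [xx, xy] using congrArg ((stdUnit hσ hne (Fin 4)).h x) e, by
      simpa [yy, h_swap_zero _ xy] using congrArg ((stdUnit hσ hne (Fin 4)).h y) e⟩
  obtain ⟨r2, sp⟩ := span2 (fn _).2 (p3 _) (a2 d) (ind n3' n2 o32)
  have o02 : (stdUnit hσ hne (Fin 4)).h f0 f2 = 0 := by
    obtain ⟨s, t, e⟩ := sp ((ρ (l2 d)).1.1 f2) (mem_fx.2 (by rw [← ap, dd, ap, a2]))
    have e1 := isom_h (ρ (l2 d)).1 f3 f2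
    have e2 := isom_h (ρ (l2 d)).1 f0 f2
    rw [p3, ← e] at e1
    obtain rfl : s = 0 := by simpa [n3', o32] using e1
    rw [b0, ← e, zero_smul, zero_add, h_smul_right, mul_left_eq_self₀] at e2
    refine e2.resolve_left ?_
    rintro rfl
    obtain ⟨k, rfl⟩ := q3 f2 (by have := a2 d; rw [← ζ2, ap, ← e] at this; simpa using this)
    simp [n3'] at o32
    simp [o32] at n2
  obtain ⟨f1, n1, o01, o31, o21⟩ := hS.unit_perp3 hne (by simp) n0 n3' (h_swap_zero _ o30) (s := f2) (.inr (.inl (by simp [n2, o02, o32])))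
  have mP : ∀ v, (stdUnit hσ hne (Fin 4)).h f3 v = 0 → (stdUnit hσ hne (Fin 4)).h f2 v = 0 → v ∈ (stdUnit hσ hne (Fin 4)).perp (fx (ρ (u2 d)).1) :=
    fun v h1 h2 w hw => by obtain ⟨s, t, rfl⟩ := sp w hw; simp [h1, h2]
  obtain ⟨-, sp'⟩ := span2 (W := (stdUnit hσ hne (Fin 4)).perp (fx (ρ (u2 d)).1)) (by have := hS.finrank_perp (fx (ρ (u2 d)).1); omega)
    (mP f0 o30 (h_swap_zero _ o02)) (mP f1 o31 o21) (ind n0 n1 o01)
  have c1 : ∀ u, (ρ' (u2 u)).1.1 f1 = f1 := fun u => mem_fix_span.1 (su2_two (hσ := hσ) hne hF q2 hq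
      (M := (((stdUnit hσ hne (Fin 4)).fix (F ∙ f1)).subgroupOf _).comap (ρ'.comp u2)) (fun u hu => mem_fix_span.2 <| by
    rintro f1 rfl
    have cm : ρ (u2 d) * ρ' (u2 u) = ρ' (u2 u) * ρ (u2 d) := gi (by
      rw [map_mul, map_mul, hρ, hρ']; exact hc _ (h.up.le ⟨d, rfl⟩) _ (h'.rev.up.le ⟨u, rfl⟩))
    have tt : ∀ v, (ρ' (u2 u)).1.1 ((ρ' (u2 u)).1.1 v) = v := fun v => by
      have := congr(((ρ' (u2 $hu))).1.1 v); rw [map_mul, map_mul, map_one, map_one] at this; exact this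
    change (ρ' (u2 u)).1.1 f1 = f1
    obtain ⟨s, t, e⟩ := sp' ((ρ' (u2 u)).1.1 f1) fun w hw => by
      rw [← tt w, isom_h]
      exact mP f1 o31 o21 _ (mem_fx.2 ((congr(($cm).1.1 w)).trans (congrArg _ hw)))
    have e1 := isom_h (ρ' (u2 u)).1 f0 f1
    rw [p0, ← e] at e1
    obtain rfl : s = 0 := by simpa [n0, o01] using e1
    rw [zero_smul, zero_add] at e
    have e2 := tt f1
    rw [← e, map_smul, ← e, smul_smul] at e2
    have e3 := smul_left_injective F (show f1 ≠ 0 by rintro rfl; simp at n1) (e2.trans (one_smul F _).symm)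
    obtain rfl : t = 1 := sub_eq_zero.1 ((pow_eq_zero_iff two_ne_zero).1 (by linear_combination e3 + (1 - t) * h2))
    rw [← e, one_smul]) u) f1 rfl
  refine exists_win (hσ := hσ) hne h h' i1 (Function.Injective.of_comp_right (g := suE hq Fin.revPerm.toEmbedding) i2
    (Finite.injective_iff_surjective.1 (suE_inj hq _))) g hg ![f0, f1, f2, f3]
    (fun i j => ?_) (h.up ▸ ?_) (h.lo ▸ ?_) (h'.rev.up ▸ ?_) (h.top ▸ ?_) (h'.rev.top ▸ ?_)
  · fin_cases i <;> fin_cases j <;> simp [n0, n1, n2, n3', o30, o32, o02, o01, o31, o21, h_swap_zero _ o30, h_swap_zero _ o32,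
      h_swap_zero _ o02, h_swap_zero _ o01, h_swap_zero _ o31, h_swap_zero _ o21]
  all_goals rintro _ ⟨u, rfl⟩
  exacts [⟨_, hρ _, a2 u, p3 _⟩, ⟨_, hρ _, b0 u, p3 _⟩, ⟨_, hρ' _, p0 _, c1 u⟩, ⟨_, hρ _, p3 _⟩, ⟨_, hρ' _, p0 _⟩]

end H11
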