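import Cfsg.Agent.H11.ThE
import Cfsg.Agent.H10.PSL2Sub
/-! Restriction of scalars for forms: `trB S l = l ∘ h`, `resSp`, `resO` (a unitary space as a
quadratic space over the fixed field, `resO_hasTS_iff`), the embeddings `resI` of isometry groups;
`exists_quad_setup` (algebra structure between fields of orders `q`, `q ^ 2`). -/
namespace H11
open Module PForm
variable {F K : Type*} [Field F] [Field K]

theorem exists_alg [Finite F] [Finite K] {m : ℕ} (h : Nat.card F ^ m = Nat.card K) :
    ∃ _ : Algebra F K, finrank F K = m := by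
  obtain ⟨j⟩ := H10.exists_ringHom_of_card h
  letI := j.toAlgebra
  exact ⟨this, Nat.pow_right_injective (Finite.one_lt_card (α := F))
    ((natCard_eq_pow_finrank (K := F) (V := K)).symm.trans h.symm)⟩

theorem fix_iff_mem_range [Finite K] [Algebra F K] (x : K) :
    x ^ Nat.card F = x ↔ ∃ a, algebraMap F K a = x := by
  have := Finite.of_injective _ (algebraMap F K).injective
  have := Fintype.ofFinite F
  rw [Nat.card_eq_fintype_card]
  refine ⟨fun h => (IsGalois.mem_range_algebraMap_iff_fixed x).2 fun f => ?_,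
    by rintro ⟨a, rfl⟩; rw [← map_pow, FiniteField.pow_card]⟩
  obtain ⟨n, rfl⟩ := (FiniteField.bijective_frobeniusAlgEquivOfAlgebraic_pow F K).2 f
  dsimp only
  induction n.1 with
  | zero => rfl
  | succ n ih => rw [pow_succ, AlgEquiv.mul_apply]; simpa [h] using ih

theorem exists_quad_setup [Fintype F] [Fintype K] {q : ℕ} (hF : Fintype.card F = q)
    (hK : Fintype.card K = q ^ 2) : ∃ (_ : Algebra F K) (σ : K →+* K), finrank F K = 2 ∧
      (∀ x, σ x = x ^ q) ∧ (∀ a, σ (σ a) = a) ∧ σ ≠ RingHom.id K ∧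
      ∀ x, σ x = x ↔ ∃ a, algebraMap F K a = x := by
  obtain ⟨_, h⟩ := exists_alg (F := F) (K := K) (m := 2) (by simp [hF, hK])
  obtain ⟨σ, h1, h2, h3⟩ := exists_frob hK
  exact ⟨_, σ, h, h1, h2, h3, fun x => by rw [h1, ← fix_iff_mem_range, Nat.card_eq_fintype_card, hF]⟩

variable [Algebra F K] {σ : K →+* K} {P : FParam σ} {V : Type*} [AddCommGroup V] [Module K V]
  [Module F V] [IsScalarTower F K V] (hσ : ∀ a, σ (algebraMap F K a) = algebraMap F K a)

/-- the form `l ∘ h` -/
def trB (S : PForm P V) (l : K →ₗ[F] F) : LinearMap.BilinForm F V :=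
  LinearMap.mk₂ F (fun x y => l (S.h x y)) (by simp) (fun c x y => by
    rw [← algebraMap_smul K, h_smul_left, hσ, ← Algebra.smul_def, map_smul]) (by simp) fun c x y => by
    rw [← algebraMap_smul K, h_smul_right, ← Algebra.smul_def, map_smul]

@[simp] theorem trB_apply (S : PForm P V) (l : K →ₗ[F] F) (x y : V) : trB hσ S l x y = l (S.h x y) := rfl

theorem trB_sep {S : PForm P V} (hS : S.Nondeg) {l : K →ₗ[F] F} (hl : l ≠ 0) (x : V)
    (h : ∀ y, trB hσ S l x y = 0) : x = 0 := by
  by_contra hx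
  obtain ⟨y, hy⟩ := hS.exists_h_eq_one hx
  exact hl (LinearMap.ext fun c => by simpa [hy] using h (c • y))

/-- isometries restricted to the small field -/
def resI (S : PForm P V) {P' : FParam (RingHom.id F)} (T : PForm P' V)
    (h : ∀ g : S.Isom, IsIsom T T g.1) : S.Isom →* T.Isom where
  toFun g := ⟨g.1.restrictScalars F, h g⟩
  map_one' := rfl
  map_mul' _ _ := rfl

theorem resI_injective (S : PForm P V) {P' : FParam (RingHom.id F)} (T : PForm P' V) (h) :
    Function.Injective (resI S T h) := fun _ _ h => isom_ext fun x => congr($h.1 x)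

include hσ in
theorem exists_res_sp {S : PForm P V} (hS : S.Nondeg) {l : K →ₗ[F] F} (hl : l ≠ 0)
    (h : ∀ x, l (S.h x x) = 0) [FiniteDimensional F V] {m : ℕ} (hm : finrank F V = 2 * m) :
    ∃ φ : S.Isom →* Matrix.symplecticGroup (Fin m) F, Function.Injective φ := by
  let T := sympS (trB hσ S l) h
  obtain ⟨e⟩ := (symp_eqv _ (S := T) (trB_sep hσ hS hl) (stdSymp_nondeg m) hm (finrank_sum_fun m)).nonempty_mulEquiv
  exact ⟨(e.trans (spEquiv m F).symm).toMonoidHom.comp (resI S T fun g => symp_isIsom fun x y => congrArg l (isom_h g x y)),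
    (e.trans (spEquiv m F).symm).injective.comp (resI_injective _ _ _)⟩

theorem exists_dual_vanish (h2 : finrank F K = 2) :
    ∃ l : K →ₗ[F] F, l ≠ 0 ∧ ∀ a, l (algebraMap F K a) = 0 := by
  have : FiniteDimensional F K := .of_finrank_eq_succ h2
  obtain ⟨l, h1, h3⟩ := Submodule.exists_le_ker_of_lt_top (F ∙ (1 : K)) (Submodule.lt_top_of_finrank_lt_finrank
    (by rw [finrank_span_singleton one_ne_zero, h2]; omega))
  exact ⟨l, h1, fun a => h3 (Submodule.mem_span_singleton.2 ⟨a, by simp [Algebra.smul_def]⟩)⟩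

section O
variable {hσσ : ∀ a, σ (σ a) = a} (hσ' : ∀ x, σ x = x ↔ ∃ a, algebraMap F K a = x)
  (l : K →ₗ[F] F) (hl : ∀ a, l (algebraMap F K a) = a)

/-- `z ↦ l (z + σ z)` -/
def trL : K →ₗ[F] F where
  toFun z := l (z + σ z)
  map_add' a b := by rw [← map_add, map_add σ]; congr 1; ring
  map_smul' c a := by
    rw [RingHom.id_apply, ← map_smul]; simp only [Algebra.smul_def, map_mul, hσ, mul_add]

/-- a unitary space as a quadratic space -/
def resO (S : PForm (unitP σ hσσ) V) : PForm (orthP F) V where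
  h := trB hσ S (trL hσ l)
  q x := l (S.h x x)
  symm x y := by simp [trL, S.unit_symm x y, hσσ, add_comm]
  q_add x y := by simp [trL, S.unit_symm x y]; ring
  q_smul a x := by
    rw [← algebraMap_smul K, h_smul_left, h_smul_right, hσ, ← Algebra.smul_def, ← Algebra.smul_def]
    simp; ring
  h_self x := by simp [trL, S.unit_h_self_fixed]

include hl in
theorem resO_nondeg (hne : σ ≠ RingHom.id K) {S : PForm (unitP σ hσσ) V} (hS : S.Nondeg) :
    (resO hσ l S).Nondeg := trB_sep hσ hS fun h => by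
  obtain ⟨θ, hθ⟩ := exists_trace_one hσσ hne
  have : l (θ + σ θ) = 0 := congr($h θ)
  rw [hθ, ← map_one (algebraMap F K), hl] at this
  exact one_ne_zero this

include hσ' hl in
theorem resO_q_eq {S : PForm (unitP σ hσσ) V} (x : V) :
    algebraMap F K ((resO hσ l S).q x) = S.h x x := by
  obtain ⟨a, ha⟩ := (hσ' _).1 (S.unit_h_self_fixed x)
  simp [resO, ← ha, hl]

theorem resO_isIsom {S : PForm (unitP σ hσσ) V} (g : S.Isom) :
    IsIsom (resO hσ l S) (resO hσ l S) g.1 := ⟨fun x y => by simp [resO], fun x => by simp [resO]⟩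

include hσ' hl in
theorem resO_hasTS_iff [Finite K] (hne : σ ≠ RingHom.id K) (h2 : finrank F K = 2)
    {S : PForm (unitP σ hσσ) V} (hS : S.Nondeg) [FiniteDimensional K V] {m : ℕ} (hm : finrank K V = m) :
    (resO hσ l S).HasTS m ↔ Even m := by
  classical
  have := Finite.of_injective _ (algebraMap F K).injective
  have : FiniteDimensional F K := .of_finrank_eq_succ h2
  have := FiniteDimensional.trans F K V
  have h1 := orth_cnt_even 0 m (resO_nondeg hσ l hl hne hS) (by rw [← finrank_mul_finrank F K V, h2, hm])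
  have h3 := unit_cnt hne (q := Nat.card F) (by rw [natCard_eq_pow_finrank (K := F), h2]) 0 m hS hm
  have h4 : (resO hσ l S).cnt 0 = S.cnt 0 := by
    simp only [cnt_zero, orth_sing, unit_sing, ← resO_q_eq hσ hσ' l hl, map_eq_zero]
  have h5 : (1 : ℤ) < Nat.card F := by exact_mod_cast Finite.one_lt_card
  have h6 : 0 < (Nat.card F - 1 : ℤ) * Nat.card F ^ m := mul_pos (by omega) (by positivity)
  rw [h4, h3] at h1
  rcases Nat.even_or_odd m with h | h <;> simp only [h.neg_pow, map_zero, add_zero, if_true] at h1 <;>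
    split_ifs at h1 with h7
  · simp [h, h7]
  · linarith
  · linarith
  · simp [h7, h]
end O

theorem exists_left_inv : ∃ l : K →ₗ[F] F, ∀ a, l (algebraMap F K a) = a := by
  obtain ⟨l, hl⟩ := (Algebra.linearMap F K).exists_leftInverse_of_injective
    (LinearMap.ker_eq_bot.2 (algebraMap F K).injective)
  exact ⟨l, fun a => congr($hl a)⟩

omit [Algebra F K] in
theorem exists_gu_orth [Fintype F] [Fintype K] {q : ℕ} (hK : Fintype.card K = q ^ 2) (hF : Fintype.card F = q)
    (m : ℕ) {ι : Type} [Fintype ι] [DecidableEq ι] {Q : QuadraticForm F (ι → F)} (hQ : (orthS Q).Nondeg)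
    (hd : finrank F (ι → F) = 2 * m) (h : (orthS Q).HasTS m ↔ Even m) :
    ∃ φ : Cfsg.GU m K q →* Cfsg.isometryGroup F ⇑Q, Function.Injective φ := by
  obtain ⟨_, σ, h2, h3, h4, h5, h6⟩ := exists_quad_setup hF hK
  obtain ⟨l, hl⟩ := exists_left_inv (F := F) (K := K)
  have hσ := fun a => (h6 _).2 ⟨a, rfl⟩
  have hS := stdUnit_nondeg h4 h5 (Fin m)
  obtain ⟨e⟩ := (orth_eqv_even m (resO_nondeg hσ l hl h5 hS) hQ (by
    rw [← finrank_mul_finrank F K, h2]; simp) hd
    ((resO_hasTS_iff hσ h6 l hl h5 h2 hS (by simp)).trans h.symm)).nonempty_mulEquiv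
  exact ⟨((e.trans (orthEquiv Q).symm).toMonoidHom.comp (resI _ _ (resO_isIsom hσ l))).comp
    (guEquiv h4 h5 h3 m).toMonoidHom, ((e.trans (orthEquiv Q).symm).injective.comp
      (resI_injective _ _ _)).comp (guEquiv h4 h5 h3 m).injective⟩
end H11
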