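import Cfsg.Agent.H11.Cls2
/-! Centralizers of regular unipotent elements (`Reg.exists_eq`, `Reg.det_eq`), splitting of their
classes (`card_ker_split`). -/
namespace H11
open Module Polynomial
open PForm hiding X

universe u v
variable {F : Type u} [Field F] {V W : Type*} [AddCommGroup V] [Module F V] [AddCommGroup W]
  [Module F W] {σ : F →+* F} [FiniteDimensional F V] [FiniteDimensional F W]

theorem Reg.exists_aeval {f c : End F V} (h : Reg f) (hc : Commute c f) : ∃ p : F[X], c = aeval f p :=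
  exists_aeval_of_commute (sim_blk_of_ED (by rw [h.unip.ED_eq, h.jt]; rfl)) hc

theorem Reg.exists_eq {f c : End F V} (h : Reg f) (hc : Commute c f) :
    ∃ (l : F) (r : End F V), Commute r f ∧ c = l • 1 + (f - 1) * r := by
  obtain ⟨p, rfl⟩ := h.exists_aeval hc
  obtain ⟨r, hr⟩ := X_sub_C_dvd_sub_C_eval (a := 1) (p := p)
  refine ⟨p.eval 1, aeval f r, by simpa using (Commute.all r X).map (aeval f), ?_⟩
  simpa [sub_eq_iff_eq_add', Algebra.algebraMap_eq_smul_one] using congrArg (aeval f) hr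

theorem Unip.det_eq {f r : End F V} (h : Unip f) (hr : Commute r f) (l : F) :
    LinearMap.det (l • 1 + (f - 1) * r) = l ^ finrank F V := by
  have := LinearMap.eval_charpoly (-((f - 1) * r)) l
  rwa [((hr.sub_right (.one_right r)).symm.isNilpotent_mul_right h).neg.charpoly_eq_X_pow_finrank,
    sub_neg_eq_add, Algebra.algebraMap_eq_smul_one, eval_pow, eval_X, eq_comm] at this

theorem Reg.sim {f : End F V} {g : End F W} (h : Reg f) (h' : Reg g) (e : finrank F V = finrank F W) :
    Sim f g := (h.unip.sim_iff h'.unip).2 (by rw [h.jt, h'.jt, e])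

theorem reg_mE_iff {ι : Type*} [Fintype ι] [DecidableEq ι] {A : Matrix ι ι F} {n : ℕ} (hn : 0 < n)
    (e : Fintype.card ι = n) : (A - 1) ^ n = 0 ∧ (A - 1).rank = n - 1 ↔ Reg (mE A) := by
  subst e
  refine ⟨fun h => reg_of_rank (unip_mE.2 ⟨_, h.1⟩) (by simpa) (by simpa [← rank_sub_one] using h.2),
    fun h => ⟨?_, by simpa [← rank_sub_one] using h.rank⟩⟩
  simpa only [mE_sub_one_pow, mE_eq_zero, finrank_fintype_fun_eq_card] using h.unip.pow_finrank

theorem PForm.Nondeg.reg_norm {P : FParam σ} {S : PForm P V} (hS : S.Nondeg) {g c : S.Isom}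
    (h : Reg (iE g)) {l : F} {r : End F V} (hr : Commute r (iE g)) (e : iE c = l • 1 + (iE g - 1) * r) :
    σ l * l = 1 := by
  obtain ⟨w, hw⟩ := hS.exists_top h
  set v := ((iE g - 1) ^ (finrank F V - 1)) w
  have h1 : (iE g - 1) v = 0 := by
    rw [← End.mul_apply, ← pow_succ', Nat.sub_add_cancel h.pos, h.unip.pow_finrank]; rfl
  have h2 := isom_h c w v
  have h3 : ∀ x, c.1 x = l • x + (iE g - 1) (r x) := fun x => congr($e x)
  have h4 := h_range_ker g (k := 1) (r w) (y := v) (by rwa [pow_one])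
  rw [h3, h3 v, ← End.mul_apply _ r v, ← (hr.sub_right (.one_right r)).eq, End.mul_apply, h1] at h2
  rw [pow_one] at h4
  simp only [map_zero, add_zero, map_add, map_smulₛₗ, LinearMap.add_apply,
    LinearMap.smul_apply, smul_eq_mul, h4, RingHom.id_apply] at h2
  exact mul_right_cancel₀ hw (by linear_combination h2)

theorem card_ker_split {G A : Type*} [Group G] [CommGroup A] [Finite A] [IsCyclic A] {φ : G →* A}
    (hφ : Function.Surjective φ) {N : Subgroup G} (hN : N = φ.ker) (x : N) {p : N → Prop}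
    (hp : ∀ y, p y ↔ IsConj (x : G) y) {n : ℕ}
    (h : ∀ a, (∃ c ∈ Subgroup.centralizer {(x : G)}, φ c = a) ↔ ∃ b, b ^ n = a) :
    Nat.card {C : ConjClasses N // ∃ y, ConjClasses.mk y = C ∧ p y} = n.gcd (Nat.card A) := by
  subst hN
  simp only [hp]
  rw [card_split, index_ker_sup hφ, Nat.gcd_comm, ← IsCyclic.index_powMonoidHom_range]
  exact congrArg _ (Subgroup.ext h)

theorem PForm.Nondeg.unit_reg [Finite F] {hσ : ∀ a, σ (σ a) = a} (hne : σ ≠ RingHom.id F)
    {S : PForm (unitP σ hσ) V} (hS : S.Nondeg) (hV : 0 < finrank F V) : ∃ g : S.Isom, Reg (iE g) := by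
  obtain ⟨f, h1, h2⟩ := exists_JT (F := F) (V := V) (μ := {finrank F V}) (by simpa) (by simp)
  obtain ⟨T, hT, g, rfl⟩ := (h1.dl hσ).unit_exists hσ hne
  exact ((unit_eqv hne _ hT hS rfl rfl).exists_isim g).imp fun _ h => h.sim.reg ⟨h1, h2⟩

end H11
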