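import Cfsg.Agent.H11.Phan9
import Cfsg.Agent.H11.PSp2
import Cfsg.Agent.H10.TCLite
import Cfsg.Agent.H28.Md2

/-! Permutation matrices in `SU_n` (`pmU`), generators of `SU₃(2)`, a presentation of `SU₄(2)` (`pres_SU4_two`). -/

set_option autoImplicit false

namespace H11
open Subgroup Matrix PForm Equiv Equiv.Perm
open FreeGroup (of lift)
open scoped MatrixGroups
variable {F : Type*} [Field F] {G H : Type*} [Group G] [Group H] {m n q : ℕ} {σ : F →+* F} {hq : ∀ x, σ x = x ^ q}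
local notation "u2" => suE hq (sh 0 (by omega) : Fin 2 ↪ Fin 3)
local notation "l2" => suE hq (sh 1 (by omega) : Fin 2 ↪ Fin 3)
local notation "u3" => suE hq (sh 0 (by omega) : Fin 3 ↪ Fin 4)
local notation "l3" => suE hq (sh 1 (by omega) : Fin 3 ↪ Fin 4)

variable (hq) in
/-- permutation matrices -/
def pmU (K : Subgroup (Perm (Fin n))) (hK : ∀ k ∈ K, ((sign k : ℤ) : F) = 1) : K →* Cfsg.SU n F q :=
  MonoidHom.mk' (fun k => ⟨⟨k.1⁻¹.permMatrix F, by simpa using hK _ k.2⟩, (H19.Iso.mem_SU hq).2 (by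
    rw [show (k.1⁻¹.permMatrix F).map σ = k.1⁻¹.permMatrix F by ext; simp [PEquiv.toMatrix_apply, apply_ite σ]]
    simp [← permMatrix_mul])⟩) fun k l => Subtype.ext (Subtype.ext (show _ = (_ : Matrix _ _ F) * _ by simp))

variable {K : Subgroup (Perm (Fin n))} {hK : ∀ k ∈ K, ((sign k : ℤ) : F) = 1}

theorem pmU_apply (k : K) (i j) : (pmU hq K hK k).1.1 i j = if i = k.1 j then 1 else 0 := by
  simp [pmU, PEquiv.toMatrix_apply, Perm.inv_def, symm_apply_eq]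

theorem pmU_conj (k : K) (A : Cfsg.SU n F q) : pmU hq K hK k * A * (pmU hq K hK k)⁻¹ = suE hq k.1.toEmbedding A := by
  rw [mul_inv_eq_iff_eq_mul]
  refine Subtype.ext (Subtype.ext (Matrix.ext fun i j => ?_))
  obtain ⟨i, rfl⟩ := k.1.surjective i
  change ((pmU hq K hK k).1.1 * A.1.1) _ _ = (eM _ _ * (pmU hq K hK k).1.1 : Matrix (Fin n) (Fin n) F) _ _
  simpa [Matrix.mul_apply, pmU_apply] using (eM_in k.1.toEmbedding A.1.1 i j).symm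

theorem pmU_suE (k : K) {e e' : Fin m ↪ Fin n} (h : ∀ j, k.1 (e j) = e' j) (A : Cfsg.SU m F q) :
    pmU hq K hK k * suE hq e A * (pmU hq K hK k)⁻¹ = suE hq e' A := by rw [pmU_conj, suE_suE hq h]

theorem pmU_via {K' : Subgroup (Perm (Fin m))} {hK' : ∀ k ∈ K', ((sign k : ℤ) : F) = 1} (e : Fin m ↪ Fin n) (p : K') (k : K)
    (h : k.1 = p.1.viaEmbedding e) : suE hq e (pmU hq K' hK' p) = pmU hq K hK k :=
  Subtype.ext (Subtype.ext (eM_ext e (fun i j => by simp [pmU_apply, h, viaEmbedding_apply]) fun i j hij => by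
    rw [pmU_apply, h, Matrix.one_apply]
    by_cases hj : j ∈ Set.range e
    · obtain ⟨j, rfl⟩ := hj
      have hi := hij.resolve_right (by simp)
      rw [viaEmbedding_apply, if_neg fun e => hi ⟨_, e.symm⟩, if_neg fun e => hi ⟨_, e.symm⟩]
    · rw [viaEmbedding_apply_of_notMem _ _ _ hj]))

theorem perm_adj {M : Subgroup (Perm (Fin (n + 1)))} (h : ∀ i : Fin n, swap i.castSucc i.succ ∈ M) (p) : p ∈ M :=
  (Submonoid.closure_le (S := M.toSubmonoid)).2 (by rintro _ ⟨i, rfl⟩; exact h i) ((mclosure_swap_castSucc_succ n).ge trivial)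

theorem sign_two (h2 : (2 : F) = 0) : ∀ k ∈ (⊤ : Subgroup (Perm (Fin n))), ((sign k : ℤ) : F) = 1 := fun k _ => by
  rcases Int.units_eq_one_or (sign k) with e | e <;> rw [e] <;> simp
  linear_combination -h2

section
variable [Fintype F] {hσ : ∀ a, σ (σ a) = a} (hF : Fintype.card F = q ^ 2) (q2 : q = 2) {ω : F} (w0 : σ ω * ω = 1) (w1 : ω ≠ 1)
include hF q2 w1

theorem su2_gen4 {M : Subgroup (Cfsg.SU 2 F q)} (ht : mk2 hq hσ 0 1 (by simp) ∈ M) (hd : mk2 hq hσ ω 0 (by simpa) ∈ M) (u) : u ∈ M := by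
  have h2 := two_eq_zero4 hF q2
  have n3 : ∀ c : F, σ c * c = 1 → c ^ 3 = 1 := fun c hc => by rw [← hc, hq, q2]; ring
  have w2 : ω * ω + ω + 1 = 0 := (mul_eq_zero.1 (by linear_combination n3 ω w0 : (ω - 1) * (ω * ω + ω + 1) = 0)).resolve_left (sub_ne_zero.2 w1)
  have key : ∀ u : Cfsg.SU 2 F q, u.1.1 1 0 = 0 → u ∈ M := fun u h => by
    obtain ⟨v1, v2, -, -⟩ := su2_ent hq u
    have v3 : u.1.1 0 1 = 0 := by simpa [h] using v2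
    have v4 := (det_fin_two u.1.1).symm.trans u.1.2
    rw [h, ← v1, mul_zero, sub_zero, mul_comm] at v4
    have e : (u.1.1 0 0 - 1) * (u.1.1 0 0 - ω) * (u.1.1 0 0 - ω * ω) = 0 := by
      linear_combination n3 _ v4 + (-u.1.1 0 0 ^ 2 + u.1.1 0 0 * ω - ω + 1) * w2
    simp only [mul_eq_zero, sub_eq_zero] at e
    rcases e with (e | e) | e
    · exact (show u = 1 by ext i j; fin_cases i <;> fin_cases j <;> simp [h, v3, ← v1, e]) ▸ one_mem M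
    · exact (show u = mk2 hq hσ ω 0 (by simpa) by ext i j; fin_cases i <;> fin_cases j <;> simp [mk2, h, v3, ← v1, e]) ▸ hd
    · exact (show u = mk2 hq hσ ω 0 (by simpa) * mk2 hq hσ ω 0 (by simpa) from Subtype.ext (Subtype.ext (show _ = (_ : Matrix _ _ F) * _ by
        ext i j; fin_cases i <;> fin_cases j <;> simp [mk2, h, v3, ← v1, e]))) ▸ mul_mem hd hd
  by_cases h : u.1.1 1 0 = 0
  · exact key u h
  refine (M.mul_mem_cancel_left ht).1 (key _ ?_)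
  have n := congr($((H19.Iso.mem_SU hq).1 u.2) 0 0)
  simp only [Matrix.mul_apply, Fin.sum_univ_two, transpose_apply, map_apply, one_apply_eq, norm_eq_one4 hF q2 hq h] at n
  change (_ * u.1.1 : Matrix _ _ F) 1 0 = 0
  simpa [mk2, Matrix.mul_apply] using n

theorem su3_gen4 {M : Subgroup (Cfsg.SU 3 F q)} (hp : ∀ p, pmU hq ⊤ (sign_two (two_eq_zero4 hF q2)) p ∈ M)
    (hd : u2 (mk2 hq hσ ω 0 (by simpa)) ∈ M) (h : ∀ s : F, s ≠ 0 → ∃ y ∈ M, y.1.1 0 2 = 1 ∧ y.1.1 1 2 = s ∧ y.1.1 2 2 = 1) (g) : g ∈ M := by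
  have h2 := two_eq_zero4 hF q2
  have hU : ∀ u, u2 u ∈ M := su2_gen4 (hσ := hσ) hF q2 w0 w1 (M := M.comap u2) (by
    refine mem_comap.2 (Set.mem_of_eq_of_mem (Subtype.ext (Subtype.ext ?_)) (hp ⟨swap 0 1, trivial⟩))
    rw [coe_suE, eM_up]; ext i j; rw [pmU_apply]; fin_cases i <;> fin_cases j <;> simp [mk2, swap_apply_def]
    linear_combination -h2) hd
  have hL : ∀ u, l2 u ∈ M := fun u => by
    rw [← pmU_suE (hK := sign_two h2) ⟨finRotate 3, trivial⟩ (e := sh 0 (by omega)) (fun j => by fin_cases j <;> rfl)]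
    exact mul_mem (mul_mem (hp _) (hU u)) (inv_mem (hp _))
  have key : ∀ m ∈ M, (∀ k, m.1.1 k 2 = g.1.1 k 2) → g ∈ M := fun m hm e => by
    obtain ⟨u, hu⟩ := exists_suE hq (sh 0 (by omega) : Fin 2 ↪ Fin 3) hσ (g := m⁻¹ * g) fun k hk k' => by
      obtain rfl : k = 2 := by rw [mem_range_sh] at hk; omega
      rw [← show (m⁻¹ * m).1.1 = 1 by simp]
      change (m⁻¹.1.1 * g.1.1) k' 2 = (m⁻¹.1.1 * m.1.1) k' 2
      simp only [Matrix.mul_apply, e]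
    simpa [hu] using mul_mem hm (hU u)
  have n := congr($((H19.Iso.mem_SU hq).1 g.2) 2 2)
  simp only [Matrix.mul_apply, Fin.sum_univ_three, transpose_apply, map_apply, one_apply_eq] at n
  have n1 := fun x => norm_eq_one4 hF q2 hq (x := x)
  by_cases a0 : g.1.1 0 2 = 0
  · refine key _ (hL (mk2 hq hσ (σ (g.1.1 2 2)) (-σ (g.1.1 1 2)) (by simp [hσ, a0] at n ⊢; linear_combination n))) fun k => ?_
    rw [coe_suE, eM_lo]; fin_cases k <;> simp [mk2, hσ, a0]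
  by_cases b0 : g.1.1 1 2 = 0
  · have c0 : g.1.1 2 2 = 0 := by simpa [n1 _ a0, b0] using n
    refine key _ (mul_mem (hU (mk2 hq hσ 0 (-σ (g.1.1 0 2)) (by simp [hσ, mul_comm, ← n1 _ a0]))) (hL (mk2 hq hσ 0 (-1) (by simp)))) fun k => ?_
    change (eM _ _ * eM _ _ : Matrix _ _ F) k 2 = _
    rw [eM_up, eM_lo]; fin_cases k <;> simp [mk2, hσ, b0, c0]
  have c1 : σ (g.1.1 2 2) * g.1.1 2 2 = 1 := by rw [n1 _ a0, n1 _ b0] at n; linear_combination n - h2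
  obtain ⟨y, hy, y0, y1, y2⟩ := h (g.1.1 0 2 * g.1.1 1 2 * g.1.1 2 2) (by simp [a0, b0, right_ne_zero_of_mul_eq_one c1])
  refine key _ (mul_mem (mul_mem (hU (mk2 hq hσ (g.1.1 0 2) 0 (by simp [n1 _ a0])))
    (hL (mk2 hq hσ (σ (g.1.1 2 2)) 0 (by simp [hσ, mul_comm, ← c1])))) hy) fun k => ?_
  change (eM _ _ * eM _ _ * y.1.1 : Matrix _ _ F) k 2 = _
  rw [eM_lo, eM_up]; fin_cases k <;> simp [mk2, hσ, Matrix.mul_apply, Fin.sum_univ_three, y0, y1, y2]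
  linear_combination g.1.1 1 2 * σ (g.1.1 0 2) * g.1.1 0 2 * c1 + g.1.1 1 2 * n1 _ a0

end

/-- relators -/
def u4R : List (List ℕ) := [[0, 1], [1, 0], [0, 0, 0], [1, 1, 1], [2, 3], [3, 2], [2, 2, 2], [3, 3, 3], [4, 5], [5, 4], [4, 4, 4], [5, 5, 5], [6, 7], [7, 6], [6, 6, 6], [7, 7,
    7], [0, 2, 0, 3, 1, 3], [2, 0, 2, 1, 3, 1], [0, 4, 1, 5], [4, 0, 5, 1], [0, 6, 1, 7], [6, 0, 7, 1], [2, 4, 2, 5, 3, 5], [4, 2, 4, 3, 5, 3], [2, 6, 3,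
    7], [6, 2, 7, 3], [4, 6, 4, 7, 5, 7], [6, 4, 6, 5, 7, 5], [0, 2, 4, 6, 0, 2, 4, 6, 0, 2, 4, 6, 0, 2, 4, 6, 0, 2, 4, 6], [7, 5, 3, 1, 7, 5, 3, 1, 7, 5,
    3, 1, 7, 5, 3, 1, 7, 5, 3, 1]]

theorem u4tcA : H10.TC.chk [[1, 2, 0, 9, 11, 13, 15, 17, 19, 10, 3, 12, 4, 14, 5, 16, 6, 18, 7, 20, 8, 22, 23, 21], [2, 0, 1, 10, 12, 14, 16, 18, 20, 3, 9, 4, 11, 5, 13, 6, 15,
    7, 17, 8, 19, 23, 21, 22], [3, 5, 7, 4, 0, 6, 1, 8, 2, 13, 21, 14, 16, 17, 22, 18, 20, 9, 23, 10, 12, 19, 11, 15], [4, 6, 8, 0, 3, 1, 5, 2, 7, 17, 19,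
    22, 20, 9, 11, 23, 12, 13, 15, 21, 16, 10, 14, 18]]
    [[], [0], [1], [2], [3], [2, 0], [3, 0], [2, 1], [3, 1], [0, 2], [1, 2], [0, 3], [1, 3], [0, 2, 0], [1, 2, 0], [0, 3, 0], [1, 3, 0], [0, 2, 1], [1, 2,
    1], [0, 3, 1], [1, 3, 1], [2, 1, 2], [3, 0, 3], [3, 0, 3, 0]]
    u4R [] 4 24
    [(0, 0, 0, 0), (1, 1, 1, 1), (0, 1, 0, 0), (2, 0, 1, 0), (2, 1, 4, 0), (1, 0, 1, 0), (0, 2, 0, 0), (3, 3, 5, 1), (0, 3, 0, 0), (4, 2, 5, 0), (4, 3, 8,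
    0), (3, 2, 5, 0), (1, 2, 0, 0), (5, 3, 5, 1), (1, 3, 0, 0), (6, 2, 5, 0), (6, 3, 8, 0), (5, 2, 5, 0), (2, 2, 0, 0), (7, 3, 5, 1), (2, 3, 0, 0), (8, 2,
    5, 0), (8, 3, 8, 0), (7, 2, 5, 0), (3, 0, 0, 0), (9, 1, 1, 1), (3, 1, 0, 0), (10, 0, 1, 0), (10, 1, 4, 0), (9, 0, 1, 0), (4, 0, 0, 0), (11, 1, 1, 1),
    (4, 1, 0, 0), (12, 0, 1, 0), (12, 1, 4, 0), (11, 0, 1, 0), (5, 0, 0, 0), (13, 1, 1, 1), (13, 3, 17, 5), (9, 2, 5, 0), (5, 1, 0, 0), (14, 0, 1, 0),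
    (14, 1, 4, 0), (14, 3, 18, 4), (11, 2, 5, 0), (13, 0, 1, 0), (6, 0, 0, 0), (15, 1, 1, 1), (6, 1, 0, 0), (16, 0, 1, 0), (16, 1, 4, 0), (16, 3, 17, 3),
    (12, 2, 5, 0), (15, 0, 1, 0), (7, 0, 0, 0), (17, 1, 1, 1), (17, 2, 18, 0), (17, 3, 17, 5), (9, 3, 5, 1), (13, 2, 5, 0), (7, 1, 0, 0), (18, 0, 1, 0),
    (18, 1, 4, 0), (18, 3, 18, 4), (15, 2, 5, 0), (17, 0, 1, 0), (8, 0, 0, 0), (19, 1, 1, 1), (19, 2, 17, 1), (10, 3, 5, 1), (8, 1, 0, 0), (20, 0, 1, 0),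
    (20, 1, 4, 0), (20, 2, 18, 2), (20, 3, 17, 3), (12, 3, 5, 1), (16, 2, 5, 0), (19, 0, 1, 0), (10, 2, 0, 0), (21, 2, 7, 0), (21, 3, 5, 1), (19, 3, 5,
    1), (11, 3, 0, 0), (22, 1, 17, 4), (22, 2, 5, 0), (22, 3, 8, 0), (14, 2, 5, 0), (21, 0, 1, 0), (15, 3, 0, 0), (23, 0, 17, 2), (23, 1, 17, 4), (23, 2,
    5, 0), (23, 3, 8, 0), (18, 2, 5, 0), (21, 1, 1, 1), (22, 0, 1, 0)] = true := by decide +kernel

theorem u4tcB : H10.TC.chk [[0, 1, 2, 7, 9, 12, 14, 8, 3, 10, 4, 17, 13, 5, 15, 6, 16, 18, 11, 19, 20, 21, 26, 22, 24, 25, 23], [0, 1, 2, 8, 10, 13, 15, 3, 7, 4, 9, 18, 5, 12,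
    6, 14, 16, 11, 17, 19, 20, 21, 23, 26, 24, 25, 22], [0, 3, 5, 4, 1, 6, 2, 7, 16, 8, 10, 11, 12, 19, 13, 15, 9, 21, 23, 14, 20, 22, 17, 24, 18, 25,
    26], [0, 4, 6, 1, 3, 2, 5, 7, 9, 16, 10, 11, 12, 14, 19, 15, 8, 22, 24, 13, 20, 17, 21, 18, 23, 25, 26], [1, 2, 0, 3, 11, 4, 6, 7, 8, 17, 18, 5, 9,
    10, 14, 15, 20, 12, 13, 24, 21, 16, 22, 23, 25, 19, 26], [2, 0, 1, 3, 5, 11, 6, 7, 8, 12, 13, 4, 17, 18, 14, 15, 21, 9, 10, 25, 16, 20, 22, 23, 19,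
    24, 26]]
    [[], [4], [5], [2, 4], [3, 4], [2, 5], [3, 5], [0, 2, 4], [1, 2, 4], [0, 3, 4], [1, 3, 4], [4, 3, 4], [0, 2, 5], [1, 2, 5], [0, 3, 5], [1, 3, 5], [2,
    1, 2, 4], [4, 0, 3, 4], [4, 1, 3, 4], [2, 1, 2, 5], [4, 2, 1, 2, 4], [5, 2, 1, 2, 4], [3, 4, 0, 3, 4], [2, 4, 1, 3, 4], [3, 4, 1, 3, 4], [5, 2, 1, 2,
    5], [0, 3, 4, 0, 3, 4]]
    u4R [[0], [1], [2], [3]] 6 27
    [(0, 0, 31, 0), (0, 1, 32, 0), (0, 2, 33, 0), (0, 3, 34, 0), (0, 4, 0, 0), (1, 5, 9, 1), (1, 0, 19, 0), (1, 1, 1, 1), (0, 5, 0, 0), (2, 4, 9, 0), (2,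
    5, 12, 0), (1, 4, 9, 0), (2, 0, 19, 0), (2, 1, 1, 1), (1, 2, 0, 0), (3, 3, 5, 1), (3, 4, 24, 0), (3, 5, 9, 1), (1, 3, 0, 0), (4, 2, 5, 0), (4, 3, 8,
    0), (3, 2, 5, 0), (2, 2, 0, 0), (5, 3, 5, 1), (5, 4, 23, 1), (4, 5, 9, 1), (2, 3, 0, 0), (6, 2, 5, 0), (6, 3, 8, 0), (6, 4, 24, 2), (6, 5, 9, 1), (5,
    2, 5, 0), (3, 0, 0, 0), (7, 1, 1, 1), (7, 2, 18, 0), (7, 3, 5, 1), (7, 4, 20, 0), (7, 5, 9, 1), (3, 1, 0, 0), (8, 0, 1, 0), (8, 1, 4, 0), (8, 4, 19,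
    1), (8, 5, 9, 1), (7, 0, 1, 0), (4, 0, 0, 0), (9, 1, 1, 1), (9, 2, 17, 1), (8, 3, 5, 1), (4, 1, 0, 0), (10, 0, 1, 0), (10, 1, 4, 0), (10, 2, 18, 2),
    (10, 3, 5, 1), (9, 0, 1, 0), (4, 4, 0, 0), (11, 4, 11, 0), (11, 5, 9, 1), (5, 5, 9, 1), (11, 2, 23, 0), (11, 3, 5, 1), (5, 0, 0, 0), (12, 1, 1, 1),
    (12, 2, 18, 0), (12, 3, 5, 1), (12, 4, 20, 0), (9, 5, 9, 1), (5, 1, 0, 0), (13, 0, 1, 0), (13, 1, 4, 0), (13, 4, 19, 1), (10, 5, 9, 1), (12, 0, 1, 0),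
    (6, 0, 0, 0), (14, 1, 1, 1), (14, 2, 17, 1), (14, 4, 20, 0), (14, 5, 9, 1), (13, 3, 5, 1), (6, 1, 0, 0), (15, 0, 1, 0), (15, 1, 4, 0), (15, 2, 18, 2),
    (15, 3, 5, 1), (15, 4, 19, 1), (15, 5, 9, 1), (14, 0, 1, 0), (8, 2, 0, 0), (16, 2, 7, 0), (16, 3, 5, 1), (9, 3, 5, 1), (16, 0, 17, 0), (16, 1, 1, 1),
    (9, 4, 0, 0), (17, 1, 20, 3), (17, 4, 11, 0), (17, 5, 9, 1), (11, 0, 1, 0), (12, 5, 9, 1), (10, 4, 0, 0), (18, 0, 19, 0), (18, 1, 20, 3), (18, 4, 11,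
    0), (18, 5, 9, 1), (11, 1, 1, 1), (13, 5, 9, 1), (17, 0, 1, 0), (13, 2, 0, 0), (19, 2, 7, 0), (19, 3, 5, 1), (14, 3, 5, 1), (19, 0, 17, 0), (19, 1, 1,
    1), (16, 4, 0, 0), (20, 5, 9, 1), (20, 0, 19, 0), (20, 1, 1, 1), (20, 2, 23, 0), (20, 3, 5, 1), (16, 5, 0, 0), (21, 3, 23, 4), (21, 4, 9, 0), (21, 5,
    12, 0), (17, 2, 5, 0), (20, 4, 9, 0), (21, 0, 17, 0), (21, 1, 1, 1), (17, 3, 0, 0), (22, 2, 5, 0), (22, 3, 8, 0), (22, 4, 24, 2), (22, 5, 9, 1), (21,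
    2, 5, 0), (18, 2, 0, 0), (23, 0, 17, 0), (23, 3, 5, 1), (23, 4, 24, 0), (23, 5, 9, 1), (22, 1, 1, 1), (18, 3, 0, 0), (24, 2, 5, 0), (24, 3, 8, 0),
    (24, 5, 23, 3), (19, 4, 9, 0), (23, 2, 5, 0), (24, 0, 17, 2), (24, 1, 1, 1), (19, 5, 0, 0), (25, 4, 9, 0), (25, 5, 12, 0), (24, 4, 9, 0), (25, 0, 19,
    0), (25, 1, 1, 1), (25, 2, 23, 0), (25, 3, 5, 1), (22, 0, 0, 0), (26, 0, 3, 0), (26, 1, 1, 1), (26, 2, 17, 1), (26, 3, 5, 1), (26, 4, 20, 0), (26, 5,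
    9, 1), (23, 1, 1, 1)] = true := by decide +kernel

theorem u4tcC : H10.TC.chk [[0, 1, 2, 3, 4, 5, 6, 16, 14, 19, 22, 11, 25, 27, 17, 7, 15, 8, 13, 20, 9, 29, 23, 10, 33, 26, 12, 18, 24, 31, 30, 21, 34, 28, 38, 35, 36, 37, 32,
    39], [0, 1, 2, 3, 4, 5, 6, 15, 17, 20, 23, 11, 26, 18, 8, 16, 7, 14, 27, 9, 19, 31, 10, 22, 28, 12, 25, 13, 33, 21, 30, 29, 38, 24, 32, 35, 36, 37,
    34, 39], [0, 1, 2, 7, 9, 12, 14, 8, 3, 10, 4, 21, 13, 5, 15, 6, 16, 17, 18, 19, 30, 24, 20, 23, 11, 25, 35, 26, 28, 29, 22, 37, 39, 31, 32, 27, 36,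
    33, 38, 34], [0, 1, 2, 8, 10, 13, 15, 3, 7, 4, 9, 24, 5, 12, 6, 14, 16, 17, 18, 19, 22, 11, 30, 23, 21, 25, 27, 35, 28, 29, 20, 33, 34, 37, 39, 26,
    36, 31, 38, 32], [0, 3, 5, 4, 1, 6, 2, 7, 18, 8, 10, 11, 12, 19, 13, 15, 16, 27, 9, 14, 17, 28, 22, 23, 34, 25, 26, 20, 32, 24, 35, 33, 21, 38, 29,
    36, 30, 37, 31, 39], [0, 4, 6, 1, 3, 2, 5, 7, 9, 18, 10, 11, 12, 14, 19, 15, 16, 20, 8, 13, 27, 32, 22, 23, 29, 25, 26, 17, 21, 34, 36, 38, 28, 31,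
    24, 30, 35, 37, 33, 39], [1, 2, 0, 3, 11, 4, 6, 7, 8, 21, 24, 5, 9, 10, 14, 15, 16, 17, 23, 29, 31, 12, 33, 28, 13, 19, 20, 22, 18, 25, 37, 26, 32,
    27, 34, 30, 36, 35, 38, 39], [2, 0, 1, 3, 5, 11, 6, 7, 8, 12, 13, 4, 21, 24, 14, 15, 16, 17, 28, 25, 26, 9, 27, 18, 10, 29, 31, 33, 23, 19, 35, 20,
    32, 22, 34, 37, 36, 30, 38, 39]]
    [[], [6], [7], [4, 6], [5, 6], [4, 7], [5, 7], [2, 4, 6], [3, 4, 6], [2, 5, 6], [3, 5, 6], [6, 5, 6], [2, 4, 7], [3, 4, 7], [2, 5, 7], [3, 5, 7], [0,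
    2, 4, 6], [1, 3, 4, 6], [4, 3, 4, 6], [0, 2, 5, 6], [1, 2, 5, 6], [6, 2, 5, 6], [0, 3, 5, 6], [1, 3, 5, 6], [6, 3, 5, 6], [0, 2, 4, 7], [1, 2, 4, 7],
    [0, 3, 4, 7], [7, 4, 3, 4, 6], [6, 0, 2, 5, 6], [2, 1, 2, 5, 6], [6, 1, 2, 5, 6], [5, 6, 2, 5, 6], [6, 0, 3, 5, 6], [4, 6, 3, 5, 6], [2, 1, 2, 4, 7],
    [5, 2, 1, 2, 5, 6], [6, 2, 1, 2, 5, 6], [5, 6, 1, 2, 5, 6], [2, 5, 6, 2, 5, 6]]
    u4R [[0], [1], [2], [3], [4], [5]] 8 40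
    [(0, 0, 31, 0), (0, 1, 32, 0), (0, 2, 33, 0), (0, 3, 34, 0), (0, 4, 35, 0), (0, 5, 36, 0), (0, 6, 0, 0), (1, 7, 13, 1), (1, 0, 21, 0), (1, 1, 1, 1),
    (1, 2, 25, 0), (1, 3, 5, 1), (0, 7, 0, 0), (2, 6, 13, 0), (2, 7, 16, 0), (1, 6, 13, 0), (2, 0, 21, 0), (2, 1, 1, 1), (2, 2, 25, 0), (2, 3, 5, 1), (1,
    4, 0, 0), (3, 5, 9, 1), (3, 6, 28, 0), (3, 7, 13, 1), (3, 0, 19, 0), (3, 1, 1, 1), (1, 5, 0, 0), (4, 4, 9, 0), (4, 5, 12, 0), (3, 4, 9, 0), (4, 0, 19,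
    0), (4, 1, 1, 1), (2, 4, 0, 0), (5, 5, 9, 1), (5, 6, 27, 1), (4, 7, 13, 1), (5, 0, 19, 0), (5, 1, 1, 1), (2, 5, 0, 0), (6, 4, 9, 0), (6, 5, 12, 0),
    (6, 6, 28, 2), (6, 7, 13, 1), (5, 4, 9, 0), (6, 0, 19, 0), (6, 1, 1, 1), (3, 2, 0, 0), (7, 3, 5, 1), (7, 4, 24, 0), (7, 5, 9, 1), (7, 6, 26, 0), (7,
    7, 13, 1), (3, 3, 0, 0), (8, 2, 5, 0), (8, 3, 8, 0), (8, 6, 25, 1), (8, 7, 13, 1), (7, 2, 5, 0), (4, 2, 0, 0), (9, 3, 5, 1), (9, 4, 23, 1), (8, 5, 9,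
    1), (4, 3, 0, 0), (10, 2, 5, 0), (10, 3, 8, 0), (10, 4, 24, 2), (10, 5, 9, 1), (9, 2, 5, 0), (4, 6, 0, 0), (11, 6, 15, 0), (11, 7, 13, 1), (5, 7, 13,
    1), (11, 0, 21, 0), (11, 1, 1, 1), (11, 4, 27, 0), (11, 5, 9, 1), (5, 2, 0, 0), (12, 3, 5, 1), (12, 4, 24, 0), (12, 5, 9, 1), (12, 6, 26, 0), (9, 7,
    13, 1), (5, 3, 0, 0), (13, 2, 5, 0), (13, 3, 8, 0), (13, 6, 25, 1), (10, 7, 13, 1), (12, 2, 5, 0), (6, 2, 0, 0), (14, 3, 5, 1), (14, 4, 23, 1), (14,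
    6, 26, 0), (14, 7, 13, 1), (13, 5, 9, 1), (6, 3, 0, 0), (15, 2, 5, 0), (15, 3, 8, 0), (15, 4, 24, 2), (15, 5, 9, 1), (15, 6, 25, 1), (15, 7, 13, 1),
    (14, 2, 5, 0), (7, 0, 0, 0), (16, 1, 1, 1), (16, 2, 18, 0), (16, 3, 5, 1), (16, 4, 20, 0), (16, 5, 9, 1), (16, 6, 22, 0), (16, 7, 13, 1), (15, 1, 30,
    3), (16, 0, 1, 0), (7, 1, 4, 0), (8, 0, 18, 1), (14, 1, 1, 1), (15, 0, 1, 0), (8, 1, 0, 0), (17, 0, 1, 0), (17, 1, 4, 0), (17, 2, 18, 2), (17, 3, 5,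
    1), (17, 6, 21, 1), (17, 7, 13, 1), (14, 0, 1, 0), (8, 4, 0, 0), (18, 0, 19, 0), (18, 4, 11, 0), (18, 5, 9, 1), (9, 5, 9, 1), (13, 1, 1, 1), (18, 2,
    18, 2), (18, 3, 5, 1), (9, 0, 0, 0), (19, 1, 1, 1), (19, 2, 18, 0), (19, 3, 5, 1), (19, 4, 20, 0), (19, 5, 19, 3), (13, 4, 9, 0), (14, 5, 9, 1), (9,
    1, 0, 0), (20, 0, 1, 0), (20, 1, 4, 0), (20, 4, 19, 1), (17, 5, 9, 1), (19, 0, 1, 0), (9, 6, 0, 0), (21, 3, 26, 3), (21, 6, 15, 0), (21, 7, 13, 1),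
    (11, 2, 5, 0), (12, 7, 13, 1), (10, 0, 0, 0), (22, 1, 1, 1), (22, 2, 17, 1), (22, 4, 20, 0), (22, 5, 9, 1), (20, 3, 5, 1), (10, 1, 0, 0), (23, 0, 1,
    0), (23, 1, 4, 0), (23, 2, 18, 2), (23, 3, 5, 1), (23, 4, 19, 1), (23, 5, 9, 1), (23, 7, 22, 2), (18, 6, 13, 0), (22, 0, 1, 0), (10, 6, 0, 0), (24, 2,
    25, 0), (24, 3, 26, 3), (24, 6, 15, 0), (24, 7, 13, 1), (11, 3, 5, 1), (13, 7, 13, 1), (21, 2, 5, 0), (12, 0, 0, 0), (25, 1, 1, 1), (25, 2, 18, 0),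
    (25, 3, 5, 1), (25, 4, 20, 0), (25, 5, 9, 1), (25, 6, 22, 0), (19, 7, 13, 1), (12, 1, 0, 0), (26, 0, 1, 0), (26, 1, 4, 0), (26, 4, 19, 1), (26, 5, 9,
    1), (26, 6, 21, 1), (20, 7, 13, 1), (25, 0, 1, 0), (13, 0, 0, 0), (27, 0, 3, 0), (27, 1, 1, 1), (27, 2, 17, 1), (27, 4, 20, 0), (27, 5, 19, 3), (27,
    6, 22, 0), (17, 4, 9, 0), (18, 1, 1, 1), (20, 5, 9, 1), (22, 7, 13, 1), (26, 3, 5, 1), (18, 7, 0, 0), (28, 0, 22, 1), (28, 5, 27, 4), (28, 6, 13, 0),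
    (28, 7, 16, 0), (21, 4, 9, 0), (23, 6, 13, 0), (24, 1, 1, 1), (28, 2, 18, 2), (28, 3, 5, 1), (19, 6, 0, 0), (29, 1, 22, 3), (29, 4, 27, 0), (29, 6,
    15, 0), (29, 7, 13, 1), (21, 0, 1, 0), (24, 5, 9, 1), (25, 7, 13, 1), (29, 2, 18, 0), (29, 3, 5, 1), (20, 2, 0, 0), (30, 2, 7, 0), (30, 3, 5, 1), (22,
    3, 5, 1), (30, 0, 17, 0), (30, 1, 1, 1), (20, 6, 0, 0), (31, 0, 21, 0), (31, 1, 22, 3), (31, 6, 15, 0), (31, 7, 13, 1), (21, 1, 1, 1), (26, 7, 13, 1),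
    (29, 0, 1, 0), (21, 5, 0, 0), (32, 4, 9, 0), (32, 5, 12, 0), (32, 6, 28, 2), (32, 7, 13, 1), (28, 4, 9, 0), (22, 6, 0, 0), (33, 0, 21, 0), (33, 1, 22,
    3), (33, 2, 25, 0), (33, 5, 28, 5), (33, 6, 15, 0), (33, 7, 13, 1), (24, 0, 1, 0), (27, 7, 13, 1), (28, 1, 1, 1), (31, 3, 5, 1), (31, 4, 9, 0), (24,
    4, 0, 0), (34, 1, 20, 3), (34, 2, 23, 0), (34, 4, 11, 0), (34, 5, 9, 1), (34, 6, 27, 1), (34, 7, 13, 1), (29, 5, 9, 1), (32, 0, 1, 0), (32, 3, 5, 1),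
    (26, 2, 0, 0), (35, 2, 7, 0), (35, 3, 5, 1), (35, 5, 23, 5), (35, 6, 26, 0), (27, 3, 5, 1), (30, 4, 9, 0), (30, 7, 13, 1), (35, 0, 17, 0), (35, 1, 1,
    1), (30, 5, 0, 0), (36, 4, 9, 0), (36, 5, 12, 0), (36, 7, 28, 4), (35, 4, 9, 0), (36, 0, 19, 0), (36, 1, 1, 1), (36, 2, 23, 0), (36, 3, 5, 1), (36, 6,
    13, 0), (30, 6, 0, 0), (37, 2, 25, 0), (37, 3, 26, 3), (37, 6, 15, 0), (37, 7, 13, 1), (31, 2, 5, 0), (33, 3, 5, 1), (35, 7, 13, 1), (37, 0, 17, 0),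
    (37, 1, 1, 1), (37, 4, 23, 1), (37, 5, 9, 1), (31, 5, 0, 0), (38, 0, 20, 1), (38, 1, 19, 2), (38, 4, 9, 0), (38, 5, 12, 0), (38, 6, 28, 2), (38, 7,
    13, 1), (32, 1, 1, 1), (33, 4, 9, 0), (34, 0, 1, 0), (38, 2, 17, 1), (38, 3, 5, 1), (32, 2, 0, 0), (39, 2, 7, 0), (39, 3, 5, 1), (39, 4, 23, 1), (39,
    5, 9, 1), (39, 6, 26, 0), (39, 7, 13, 1), (34, 3, 5, 1), (39, 0, 17, 0), (39, 1, 1, 1)] = true := by decide +kernel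

/-- the defining relators -/
def u4B : List (List ℕ) := [[0, 0, 0], [2, 2, 2], [4, 4, 4], [6, 6, 6], [0, 2, 0, 3, 1, 3], [0, 4, 1, 5], [0, 6, 1, 7], [2, 4, 2, 5, 3, 5],
  [2, 6, 3, 7], [4, 6, 4, 7, 5, 7], [0, 2, 4, 6, 0, 2, 4, 6, 0, 2, 4, 6, 0, 2, 4, 6, 0, 2, 4, 6]]

/-- letters -/
def lt4 {M : Type*} [Monoid M] (x : Fin 4 → M) (i : ℕ) : M :=
  if i % 2 = 0 then x (Fin.ofNat 4 (i / 2)) else x (Fin.ofNat 4 (i / 2)) * x (Fin.ofNat 4 (i / 2))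

theorem map_lt4 {M N : Type*} [Monoid M] [Monoid N] (f : M →* N) (x : Fin 4 → M) (w : List ℕ) :
    f (w.map (lt4 x)).prod = (w.map (lt4 (f ∘ x))).prod := by
  rw [map_list_prod, List.map_map]; congr 2; ext i; simp [lt4, apply_ite f]

theorem u4_card {x : Fin 4 → H} (h : ∀ r ∈ u4B, (r.map (lt4 x)).prod = 1) (top : ∀ K : Subgroup H, (∀ i, x i ∈ K) → ∀ y, y ∈ K) :
    Finite H ∧ Nat.card H ≤ 25920 := by
  have h3 : ∀ i, x i * (x i * x i) = 1 := fun i => by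
    fin_cases i
    exacts [(mul_one _).symm.trans ((mul_assoc ..).trans ((congrArg _ (mul_assoc ..)).trans (h [0, 0, 0] (by decide)))),
      (mul_one _).symm.trans ((mul_assoc ..).trans ((congrArg _ (mul_assoc ..)).trans (h [2, 2, 2] (by decide)))),
      (mul_one _).symm.trans ((mul_assoc ..).trans ((congrArg _ (mul_assoc ..)).trans (h [4, 4, 4] (by decide)))),
      (mul_one _).symm.trans ((mul_assoc ..).trans ((congrArg _ (mul_assoc ..)).trans (h [6, 6, 6] (by decide))))]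
  have iv : ∀ i, lt4 x (if i % 2 = 0 then i + 1 else i - 1) = (lt4 x i)⁻¹ := fun i => by
    split_ifs with e
    · rw [lt4, if_neg (by omega), lt4, if_pos e, show (i + 1) / 2 = i / 2 by omega]; exact eq_inv_of_mul_eq_one_right (h3 _)
    · rw [lt4, if_pos (by omega), lt4, if_neg e, show (i - 1) / 2 = i / 2 by omega]; exact eq_inv_of_mul_eq_one_left (h3 _)
  have hr : ∀ r ∈ u4R, H10.TC.ev (lt4 x) r = 1 := fun r hr => by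
    rcases (by decide : ∀ r ∈ u4R, r ∈ u4B ∨ (r.map fun i => if i % 2 = 0 then i + 1 else i - 1).reverse ∈ u4B ∨
      ∃ i < 8, r = [i, if i % 2 = 0 then i + 1 else i - 1]) r hr with e | e | ⟨i, -, rfl⟩
    · exact h r e
    · have := h _ e
      rw [List.map_reverse, List.map_map, show (lt4 x ∘ fun i => if i % 2 = 0 then i + 1 else i - 1) = (·⁻¹) ∘ lt4 x from funext iv,
        ← List.map_map, ← List.prod_inv_reverse, inv_eq_one] at this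
      exact this
    · simp [H10.TC.ev, iv]
  have sb : ∀ (l : ℕ) (L : List (List ℕ)), (∀ w ∈ L, ∃ i < l, w = [i]) → ∀ w ∈ L, H10.TC.ev (lt4 x) w ∈ closure (lt4 x '' Set.Iio l) :=
    fun l L hL w hw => by obtain ⟨i, hi, rfl⟩ := hL w hw; simpa using Subgroup.subset_closure (k := lt4 x '' Set.Iio l) ⟨i, hi, rfl⟩
  obtain ⟨a1, a2⟩ := H10.TC.card_closure_le hr u4tcA
  obtain ⟨b1, b2⟩ := H10.TC.relIndex_le _ hr (sb 4 _ (by decide)) u4tcB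
  obtain ⟨c1, c2⟩ := H10.TC.relIndex_le _ hr (sb 6 _ (by decide)) u4tcC
  have e : closure (lt4 x '' Set.Iio 8) = ⊤ := eq_top_iff.2 fun y _ => top _ (fun i => Subgroup.subset_closure (k := lt4 x '' Set.Iio 8) ⟨2 * i, by simp; omega, by
    fin_cases i <;> rfl⟩) y
  have le : closure (lt4 x '' Set.Iio 4) ≤ closure (lt4 x '' Set.Iio 6) := closure_mono (Set.image_mono (Set.Iio_subset_Iio (by omega)))
  rw [e, relIndex_top_right] at c1 c2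
  have e1 := card_mul_index (closure (lt4 x '' Set.Iio 4))
  rw [← relIndex_mul_index le] at e1
  have := Nat.card_pos (α := closure (lt4 x '' Set.Iio 4))
  exact ⟨Nat.finite_of_card_ne_zero (e1 ▸ by positivity), e1 ▸ Nat.mul_le_mul a2 (Nat.mul_le_mul b2 c2)⟩

open H28 in
/-- force evaluation -/
def frc (x : K4) (k : K4 → Bool) : Bool := match x with | .o => k .o | .i => k .i | .w => k .w | .v => k .v

open H28 in
/-- strict evaluation of a word on a vector -/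
def wk4 (x : ℕ → Matrix (Fin 4) (Fin 4) K4) : List ℕ → (Fin 4 → K4) → ((Fin 4 → K4) → Bool) → Bool
  | [], v, k => k v
  | s :: w, v, k => wk4 x w v fun u => frc ((x s *ᵥ u) 0) fun a => frc ((x s *ᵥ u) 1) fun b => frc ((x s *ᵥ u) 2) fun c =>
      frc ((x s *ᵥ u) 3) fun d => k ![a, b, c, d]

open H28 in
theorem wk4_eq (x : ℕ → Matrix (Fin 4) (Fin 4) K4) (w : List ℕ) (T : Matrix (Fin 4) (Fin 4) K4)
    (h : ∀ i, wk4 x w (Pi.single i 1) (fun u => decide (∀ j, u j = T j i)) = true) : (w.map x).prod = T := by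
  have f : ∀ a k, frc a k = k a := fun a k => by cases a <;> rfl
  have key : ∀ w v k, wk4 x w v k = k ((w.map x).prod *ᵥ v) := fun w => by
    induction w with
    | nil => simp [wk4]
    | cons s w ih => intro v k; simp only [wk4, ih, f, List.map_cons, List.prod_cons, ← mulVec_mulVec]; congr 1; ext i; fin_cases i <;> rfl
  ext j i
  simpa [key] using of_decide_eq_true ((key ..).symm.trans (h i)) j

open H28 in
/-- generators of `SU₄(2)` -/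
def u4M : Fin 4 → Matrix (Fin 4) (Fin 4) K4 := ![!![.i, .o, .o, .o; .o, .v, .o, .o; .o, .o, .v, .o; .o, .o, .o, .v],
  !![.i, .w, .o, .w; .w, .i, .o, .w; .o, .o, .v, .o; .w, .w, .o, .i], !![.v, .o, .o, .o; .o, .i, .o, .o; .o, .o, .v, .o; .o, .o, .o, .v],
  !![.v, .o, .o, .o; .o, .i, .w, .w; .o, .w, .i, .w; .o, .w, .w, .i]]

open H28 in
theorem pres_SU4_two : ∃ g : Fin 4 → Cfsg.SU 4 K4 2, PrG g 11 ∧ closure (Set.range g) = ⊤ := by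
  have hF : Fintype.card K4 = 2 ^ 2 := rfl
  let g : Fin 4 → Cfsg.SU 4 K4 2 := fun i => ⟨⟨u4M i, by revert i; decide +kernel⟩, (H19.Iso.mem_SU fr_sq).2 (by
    revert i; decide +kernel)⟩
  let κ : Cfsg.SU 4 K4 2 →* Matrix (Fin 4) (Fin 4) K4 := Matrix.SpecialLinearGroup.coeMonoidHom.comp (Subgroup.subtype _)
  have ev : ∀ (w : List ℕ) (y : Cfsg.SU 4 K4 2), (∀ i, wk4 (lt4 u4M) w (Pi.single i 1) (fun u => decide (∀ j, u j = y.1.1 j i)) = true) →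
      (w.map (lt4 g)).prod = y := fun w y h => Subtype.ext (Subtype.ext ((map_lt4 κ g w).trans (wk4_eq _ w _ h)))
  have mem : ∀ w : List ℕ, (w.map (lt4 g)).prod ∈ closure (Set.range g) := fun w => list_prod_mem fun y hy => by
    obtain ⟨i, -, rfl⟩ := List.mem_map.1 hy
    have := fun i => subset_closure (k := Set.range g) ⟨i, rfl⟩
    rw [lt4]; split_ifs; exacts [this _, mul_mem (this _) (this _)]
  have hp : ∀ p, pmU fr_sq ⊤ (sign_two (two_eq_zero4 hF rfl)) ⟨p, trivial⟩ ∈ closure (Set.range g) :=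
    perm_adj (M := ((closure (Set.range g)).comap (pmU fr_sq ⊤ (sign_two (two_eq_zero4 hF rfl)))).comap topEquiv.symm.toMonoidHom) fun i => by
      refine mem_comap.2 <| mem_comap.2 <| Set.mem_of_eq_of_mem (ev (![[0, 4, 3, 0, 4, 3, 0, 4, 3], [0, 4, 7, 4, 3, 0, 3, 5, 6, 5], [4, 7, 4, 7]] i) _ ?_).symm (mem _)
      simp only [MulEquiv.toMonoidHom_eq_coe, MonoidHom.coe_coe, pmU_apply, topEquiv_symm_apply_coe]
      revert i; decide +kernel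
  have h0 : ∀ y, suE fr_sq (sh 0 (by omega) : Fin 3 ↪ Fin 4) y ∈ closure (Set.range g) :=
    su3_gen4 (hσ := fr_fr) hF rfl (ω := .w) rfl (by decide) (M := (closure (Set.range g)).comap (suE fr_sq (sh 0 (by omega))))
      (fun p => mem_comap.2 <| Set.mem_of_eq_of_mem (pmU_via (K := ⊤) _ p ⟨_, trivial⟩ rfl) (hp _)) (by
        refine mem_comap.2 <| Set.mem_of_eq_of_mem (ev [0, 5] _ ?_).symm (mem _)
        rw [suE_suE fr_sq (e'' := sh 0 (by omega)) (by decide), coe_suE, show eM _ _ = !![.w, .o, .o, .o; .o, .v, .o, .o; .o, .o, .i, .o; .o, .o, .o, .i] from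
          eM_ext _ (fun i j => by fin_cases i <;> fin_cases j <;> rfl) fun i j h => by
            simp only [mem_range_sh] at h; fin_cases i <;> fin_cases j <;> first | rfl | simp at h]
        decide +kernel) fun s hs => by
      have key : ∀ (w : List ℕ) (T : Matrix (Fin 4) (Fin 4) K4), (∀ i, wk4 (lt4 u4M) w (Pi.single i 1) (fun u => decide (∀ j, u j = T j i)) = true) →
          (∀ k, T k 3 = (1 : Matrix (Fin 4) (Fin 4) K4) k 3) → ∃ y ∈ (closure (Set.range g)).comap (suE fr_sq (sh 0 (by omega) : Fin 3 ↪ Fin 4)),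
          y.1.1 0 2 = T 0 2 ∧ y.1.1 1 2 = T 1 2 ∧ y.1.1 2 2 = T 2 2 := fun w T h1 h2 => by
        have e : ((w.map (lt4 g)).prod).1.1 = T := (map_lt4 κ g w).trans (wk4_eq _ w _ h1)
        obtain ⟨y, hy⟩ := exists_suE fr_sq (sh 0 (by omega) : Fin 3 ↪ Fin 4) fr_fr (g := (w.map (lt4 g)).prod) fun k hk k' => by
          obtain rfl : k = 3 := by rw [mem_range_sh] at hk; omega
          rw [e, h2]
        rw [← hy] at e
        exact ⟨y, mem_comap.2 <| Set.mem_of_eq_of_mem hy (mem w), (eM_in _ _ 0 2).symm.trans congr($e 0 2), (eM_in _ _ 1 2).symm.trans congr($e 1 2),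
          (eM_in _ _ 2 2).symm.trans congr($e 2 2)⟩
      cases s
      · exact (hs rfl).elim
      · exact key [0, 2, 0, 5, 2, 7, 4, 3] !![.i, .i, .i, .o; .w, .v, .i, .o; .v, .w, .i, .o; .o, .o, .o, .i] (by decide +kernel) (by decide)
      · exact key [0, 4, 2, 0, 5, 7, 5, 2] !![.i, .v, .i, .o; .v, .v, .w, .o; .v, .i, .i, .o; .o, .o, .o, .i] (by decide +kernel) (by decide)
      · exact key [1, 2, 5, 6, 3, 4, 1, 3] !![.i, .w, .i, .o; .w, .w, .v, .o; .w, .i, .i, .o; .o, .o, .o, .i] (by decide +kernel) (by decide)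
  have top : closure (Set.range g) = ⊤ := eq_top_iff.2 fun y _ => su_gen (hq := fr_sq) (hσ := fr_fr) (hne := fr_ne) (by omega) (fun k h A => by
    obtain rfl | rfl : k = 0 ∨ k = 1 := by omega
    · exact h0 A
    · rw [← pmU_suE (hK := sign_two (two_eq_zero4 hF rfl)) ⟨finRotate 4, trivial⟩ (e := sh 0 (by omega)) (fun j => by fin_cases j <;> rfl)]
      exact mul_mem (mul_mem (hp _) (h0 A)) (inv_mem (hp _))) y
  refine ⟨g, (Enf.list u4B (fun r => (r.map (lt4 of)).prod) (fun _ => 1) fun r hr => ?_).mono le_rfl fun C h => ?_, top⟩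
  · rw [map_lt4, map_one, show lift g ∘ of = g by ext1; simp]
    exact ev r 1 (by revert r; decide +kernel)
  obtain ⟨h1, h2⟩ := u4_card (x := C.φ ∘ of) (fun r hr => by rw [← map_lt4, h r hr, map_one]) fun K hK => C.top hK
  have h3 := (stdUnit_nondeg fr_fr fr_ne (Fin 4)).unit_card_SIsom fr_ne (q := 2) (by simp [hF]) (n := 4) (by simp) (by simp)
  rw [← Nat.card_congr (suEquiv fr_fr fr_ne fr_sq 4).toEquiv, show guOrd 2 4 = 77760 by decide] at h3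
  have hs : Function.Surjective C.π := fun y => by
    obtain ⟨w, rfl⟩ := mem_closure_lift.1 (top.ge (mem_top y)); exact ⟨_, C.comp w⟩
  exact (injective_iff_map_eq_one _).1 ((Nat.bijective_iff_surjective_and_card _).2
    ⟨hs, le_antisymm (by omega) (Nat.card_le_card_of_surjective _ hs)⟩).1

end H11
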