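import Cfsg.Agent.H11.U3A
import Cfsg.Agent.H11.Chunk
import Cfsg.Agent.H11.Unit

/-! Presentations of three-dimensional unitary groups through the group-chunk lemma: combination of triangle
relations (`Tri.comb`, `tri_comb`), the rank-one theorem `pres_u3`, and `pres_SU3`. -/

set_option autoImplicit false

namespace H11
open Subgroup Module
open FreeGroup (of lift)

section
variable {G H : Type*} [Group G] [Group H] {P : Subgroup G} {n : G} {φ : G → H} {ν : H}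

theorem Tri.all (hφ : HomOn P φ) (ha : ∀ l ∈ P, n * l * n⁻¹ ∈ P → ν * φ l * ν⁻¹ = φ (n * l * n⁻¹)) {p r r' : G}
    (h : Tri P n φ ν p) (hr : r ∈ P) (hr' : r' ∈ P) (e : n * p * n = r * n * r') : ν * φ p * ν = φ r * ν * φ r' := by
  obtain ⟨p₁, hp, p', hp', e1, e2⟩ := h
  have e' : n * (p' * r'⁻¹) * n⁻¹ = p₁⁻¹ * r := by
    rw [show n * (p' * r'⁻¹) * n⁻¹ = p₁⁻¹ * (p₁ * n * p') * r'⁻¹ * n⁻¹ by group, ← e1, e]; group
  have := ha _ (P.mul_mem hp' (P.inv_mem hr')) (e' ▸ P.mul_mem (P.inv_mem hp) hr)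
  rw [e', hφ _ hp' _ (P.inv_mem hr'), hφ _ (P.inv_mem hp) _ hr, hφ.inv hr', hφ.inv hp] at this
  rw [e2, show φ p₁ * ν * φ p' = φ p₁ * (ν * (φ p' * (φ r')⁻¹) * ν⁻¹) * ν * φ r' by group, this]; group

theorem Tri.comb (hφ : HomOn P φ) (ha : ∀ l ∈ P, n * l * n⁻¹ ∈ P → ν * φ l * ν⁻¹ = φ (n * l * n⁻¹)) (hn : n * n ∈ P)
    (hν : ν * ν = φ (n * n)) {a b p₁ p₂ p₃ p₄ : G} (h1 : a ∈ P) (h2 : b ∈ P) (m1 : p₁ ∈ P) (m2 : p₂ ∈ P) (m3 : p₃ ∈ P) (m4 : p₄ ∈ P)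
    (e1 : n * a * n = p₁ * n * p₂) (e2 : n * b * n = p₃ * n * p₄) (t1 : Tri P n φ ν a) (t2 : Tri P n φ ν b)
    (t3 : Tri P n φ ν (p₂ * (n * n)⁻¹ * p₃)) : Tri P n φ ν (a * b) := by
  obtain ⟨p₅, m5, p₆, m6, e3, e4⟩ := t3
  refine ⟨_, mul_mem m1 m5, _, mul_mem m6 m4, ?_, ?_⟩
  · rw [show n * (a * b) * n = n * a * n * (n * n)⁻¹ * (n * b * n) by group, e1, e2,
      show p₁ * n * p₂ * (n * n)⁻¹ * (p₃ * n * p₄) = p₁ * (n * (p₂ * (n * n)⁻¹ * p₃) * n) * p₄ by group, e3]; group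
  · rw [hφ _ (mul_mem m2 (inv_mem hn)) _ m3, hφ _ m2 _ (inv_mem hn), hφ.inv hn, ← hν] at e4
    rw [hφ _ h1 _ h2, hφ _ m1 _ m5, hφ _ m6 _ m4, show ν * (φ a * φ b) * ν = ν * φ a * ν * (ν * ν)⁻¹ * (ν * φ b * ν) by group,
      t1.all hφ ha m1 m2 e1, t2.all hφ ha m3 m4 e2,
      show φ p₁ * ν * φ p₂ * (ν * ν)⁻¹ * (φ p₃ * ν * φ p₄) = φ p₁ * (ν * (φ p₂ * (ν * ν)⁻¹ * φ p₃) * ν) * φ p₄ by group, e4]
    group

end

variable {F : Type*} [Field F] {σ : F →+* F} {hσ : ∀ a, σ (σ a) = a} {H : Type*} [Group H] {κ : Type}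

namespace PForm
variable {V : Type*} [AddCommGroup V] [Module F V] {S : PForm (unitP σ hσ) V}

theorem uec {e v : V} {a : F} : S.ECond e v a ↔ S.Sing e ∧ S.h e v = 0 ∧ S.h v v = a + σ a :=
  ⟨fun h => ⟨h.1, h.2, (S.unit_congr_iff v a).1 h.3⟩, fun h => ⟨h.1, h.2.1, (S.unit_congr_iff v a).2 h.2.2⟩⟩

theorem QP.smul {W : Submodule F V} {e f v : V} {a : F} (h : S.QP W e f v a) (c : F) : S.QP W e f (c • v) (σ c * a * c) :=
  ⟨W.smul_mem c h.mem, by simp [h.hf], h.ec.smul_right c⟩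

namespace IsHyp
variable {e f : V} (Hy : S.IsHyp e f) {W : Submodule F V} {K : Subgroup S.Isom} {c : Fˣ} {φ : S.Isom → H} {ν : H}
include Hy

theorem swp_L {l : S.Isom} (hl : l ∈ K ⊓ S.stab (F ∙ e) ⊓ S.stab (F ∙ f)) (hn : Hy.swp c ∈ K) :
    Hy.swp c * l * (Hy.swp c)⁻¹ ∈ K ⊓ S.stab (F ∙ e) ⊓ S.stab (F ∙ f) ∧ (Hy.swp c)⁻¹ * l * Hy.swp c ∈ K ⊓ S.stab (F ∙ e) := by
  obtain ⟨s, hs⟩ := mem_stab_line.1 hl.1.2
  obtain ⟨t, ht⟩ := mem_stab_line.1 hl.2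
  have c0 : σ c ≠ 0 := by simp
  have ie : ((Hy.swp c)⁻¹).1 e = σ c • f := by
    apply (Hy.swp c).1.injective; rw [isom_apply_inv_self, map_smul, swp_f, _root_.smul_smul]; simp [c0]
  have if' : ((Hy.swp c)⁻¹).1 f = (c : F)⁻¹ • e := by
    apply (Hy.swp c).1.injective; rw [isom_apply_inv_self, map_smul, swp_e, _root_.smul_smul]; simp
  refine ⟨⟨⟨K.mul_mem (K.mul_mem hn hl.1.1) (K.inv_mem hn), mem_stab_line.2 ⟨t, ?_⟩⟩, mem_stab_line.2 ⟨s, ?_⟩⟩,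
    K.mul_mem (K.mul_mem (K.inv_mem hn) hl.1.1) hn, mem_stab_line.2 ⟨t, ?_⟩⟩ <;>
    simp only [isom_mul_apply, ie, if', map_smul, hs, ht, swp_e, swp_f, _root_.smul_smul, unitP_ε] <;> congr 1 <;> field_simp

theorem tri_dec (hE : ∀ v a, S.QP W e f v a → S.eich e v a ∈ K) (hn : Hy.swp c ∈ K) {v : V} {a : F} (h : S.QP W e f v a) (a0 : a ≠ 0) :
    ∃ l ∈ K ⊓ S.stab (F ∙ e) ⊓ S.stab (F ∙ f), Hy.swp c * S.eich e v a * Hy.swp c =
      S.eich e ((-(c * a)⁻¹) • v) (c * a * σ c)⁻¹ * Hy.swp c *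
        (l * S.eich e ((-(c * σ a)⁻¹) • v) (c * a * σ c)⁻¹ * (Hy.swp c * Hy.swp c)) := by
  have c0 : σ c ≠ 0 := by simp
  have s0 : σ a ≠ 0 := by simpa
  have a1 : c * a * σ c ≠ 0 := by simp [a0]
  have h1 := h.smul (σ c)
  rw [hσ] at h1
  have t := Hy.tri_eq h1.ec h1.hf a1
  have hv : v ∈ S.perp (Submodule.span F {e, f}) := S.mem_perp_pair.2 ⟨h.ec.perp, h.hf⟩
  have t' := conj_eich (Hy.swp c) e v a
  rw [Hy.swp_e, Hy.swp_perp _ hv, eich_smul (u := f) ⟨Hy.sing_f, h.hf, h.ec.q⟩, t, mul_inv_eq_iff_eq_mul] at t'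
  have q1 := (h1.smul ((unitP σ hσ).ε * (c * a * σ c)⁻¹)).ec
  have q2 := (h1.smul (σ (c * a * σ c))⁻¹).ec
  rw [show σ ((unitP σ hσ).ε * (c * a * σ c)⁻¹) * (c * a * σ c) * ((unitP σ hσ).ε * (c * a * σ c)⁻¹) = (σ (c * a * σ c))⁻¹ by
    simp only [unitP_ε, one_mul, map_inv₀]; field_simp] at q1
  have q3 : S.ECond e ((σ (c * a * σ c))⁻¹ • σ c • v) (σ (c * a * σ c))⁻¹ := uec.2 ⟨q2.1, q2.2, by
    rw [(uec.1 q2).2.2]; simp only [map_mul, map_inv₀, hσ]; field_simp⟩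
  rw [eich_inv q1, eich_inv q3, ← neg_smul, ← neg_smul, _root_.smul_smul, _root_.smul_smul] at t'
  simp only [unitP_ε, one_mul, map_inv₀, hσ] at t'
  rw [show -(c * a * σ c)⁻¹ * σ c = -(c * a)⁻¹ by field_simp, show -(σ (c * a * σ c))⁻¹ * σ c = -(c * σ a)⁻¹ by
    simp only [map_mul, hσ]; field_simp, ← mul_inv_cancel_left c (Units.mk0 _ _), ← Hy.swp_mul_tor] at t'
  have q4 : S.QP W e f ((-(c * a)⁻¹) • v) (c * a * σ c)⁻¹ := ⟨W.smul_mem _ h.mem, by simp [h.hf], uec.2 ⟨Hy.sing_e, by simp [h.ec.perp], by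
    rw [S.h_smul_left, S.h_smul_right, (uec.1 h.ec).2.2]; simp only [map_mul, map_inv₀, map_neg, hσ]; field_simp; ring⟩⟩
  have q5 : S.QP W e f ((-(c * σ a)⁻¹) • v) (c * a * σ c)⁻¹ := ⟨W.smul_mem _ h.mem, by simp [h.hf], uec.2 ⟨Hy.sing_e, by simp [h.ec.perp], by
    rw [S.h_smul_left, S.h_smul_right, (uec.1 h.ec).2.2]; simp only [map_mul, map_inv₀, map_neg, hσ]; field_simp; ring⟩⟩
  generalize c⁻¹ * Units.mk0 _ _ = d at t'
  refine ⟨Hy.tor d * S.qrefl (σ c • v) (c * a * σ c), ⟨⟨?_, mem_stab_line.2 ⟨d, ?_⟩⟩, mem_stab_line.2 ⟨(σ d)⁻¹, ?_⟩⟩, by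
    rw [t']; simp only [mul_assoc]⟩
  · have := mul_mem (mul_mem (mul_mem (inv_mem hn) (inv_mem (hE _ _ q4))) (mul_mem hn (hE _ _ h))) (mul_mem (inv_mem hn) (inv_mem (hE _ _ q5)))
    rw [t'] at this
    simpa [mul_assoc] using this
  · rw [isom_mul_apply, qrefl_apply_of_perp (S.h_swap_zero h1.ec.perp), tor_e]
  · rw [isom_mul_apply, qrefl_apply_of_perp (S.h_swap_zero h1.hf), tor_f]

theorem tri_comb (hE : ∀ v a, S.QP W e f v a → S.eich e v a ∈ K) (hn : Hy.swp c ∈ K) (hφ : HomOn (K ⊓ S.stab (F ∙ e)) φ)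
    (ha : ∀ l ∈ K ⊓ S.stab (F ∙ e), Hy.swp c * l * (Hy.swp c)⁻¹ ∈ K ⊓ S.stab (F ∙ e) →
      ν * φ l * ν⁻¹ = φ (Hy.swp c * l * (Hy.swp c)⁻¹)) (hν : ν * ν = φ (Hy.swp c * Hy.swp c))
    {v w : V} {a b : F} (h : S.QP W e f v a) (h' : S.QP W e f w b) (a0 : a ≠ 0) (b0 : b ≠ 0)
    (t1 : Tri (K ⊓ S.stab (F ∙ e)) (Hy.swp c) φ ν (S.eich e v a)) (t2 : Tri (K ⊓ S.stab (F ∙ e)) (Hy.swp c) φ ν (S.eich e w b))
    (t3 : ∀ v', S.QP W e f v' ((a + b + S.h v w) / (c * σ c * a * b)) →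
      Tri (K ⊓ S.stab (F ∙ e)) (Hy.swp c) φ ν (S.eich e v' ((a + b + S.h v w) / (c * σ c * a * b)))) :
    Tri (K ⊓ S.stab (F ∙ e)) (Hy.swp c) φ ν (S.eich e (v + w) (a + b + S.h v w)) := by
  have c0 : σ c ≠ 0 := by simp
  have hP : ∀ {v a}, S.QP W e f v a → S.eich e v a ∈ K ⊓ S.stab (F ∙ e) := fun h =>
    ⟨hE _ _ h, mem_stab_line.2 ⟨1, by rw [eich_apply_self, one_smul]⟩⟩
  have q : ∀ {v a}, S.QP W e f v a → a ≠ 0 → S.QP W e f ((-(c * a)⁻¹) • v) (c * a * σ c)⁻¹ ∧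
      S.QP W e f ((-(c * σ a)⁻¹) • v) (c * a * σ c)⁻¹ := fun {v a} h a0 => by
    have s0 : σ a ≠ 0 := by simpa
    constructor <;> refine ⟨W.smul_mem _ h.mem, by simp [h.hf], uec.2 ⟨Hy.sing_e, by simp [h.ec.perp], ?_⟩⟩ <;>
      rw [S.h_smul_left, S.h_smul_right, (uec.1 h.ec).2.2] <;> simp only [map_mul, map_inv₀, map_neg, hσ] <;> field_simp <;> ring
  have nn : Hy.swp c * Hy.swp c ∈ K ⊓ S.stab (F ∙ e) := ⟨mul_mem hn hn, by rw [swp_mul_swp]; exact mem_stab_line.2 ⟨_, Hy.tor_e _⟩⟩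
  obtain ⟨l, hl, e1⟩ := Hy.tri_dec hE hn h a0
  obtain ⟨l', hl', e2⟩ := Hy.tri_dec hE hn h' b0
  rw [← eich_mul h.ec h'.ec]
  refine Tri.comb hφ ha nn hν (hP h) (hP h') (hP (q h a0).1) (mul_mem (mul_mem hl.1 (hP (q h a0).2)) nn) (hP (q h' b0).1)
    (mul_mem (mul_mem hl'.1 (hP (q h' b0).2)) nn) e1 e2 t1 t2 ?_
  have e3 : (c * a * σ c)⁻¹ + (c * b * σ c)⁻¹ + S.h ((-(c * σ a)⁻¹) • v) ((-(c * b)⁻¹) • w) = (a + b + S.h v w) / (c * σ c * a * b) := by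
    rw [S.h_smul_left, S.h_smul_right]; simp only [map_mul, map_inv₀, map_neg, hσ]; field_simp; ring
  have q3 : S.QP W e f ((-(c * σ a)⁻¹) • v + (-(c * b)⁻¹) • w) ((a + b + S.h v w) / (c * σ c * a * b)) :=
    ⟨W.add_mem (q h a0).2.mem (q h' b0).1.mem, by simp [h.hf, h'.hf], e3 ▸ (q h a0).2.ec.add (q h' b0).1.ec⟩
  have := (t3 _ q3).mul hφ ha (hP q3) hl.1 (Hy.swp_L hl hn).1.1 (one_mem _) (by simp)
  rwa [mul_inv_cancel_right, mul_assoc, eich_mul (q h a0).2.ec (q h' b0).1.ec, e3, ← mul_one (l * _)]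

end IsHyp

variable (S) in
/-- a hyperbolic pair, a unit vector perpendicular to it, and a group acting on their span -/
structure U3 (e f w : V) (K : Subgroup S.Isom) (c ζ μ : Fˣ) (Hy : S.IsHyp e f) (h k : S.Isom) : Prop where
  ew : S.h e w = 0
  fw : S.h f w = 0
  ww : S.h w w = 1
  hK : ∀ g ∈ K, ∀ x ∈ Submodule.span F {e, f, w}, g.1 x ∈ Submodule.span F {e, f, w}
  hE : ∀ (α a : F), S.eich e (α • w) a ∈ K
  hc : (c : F) + σ c = 0
  hn : Hy.swp c ∈ K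
  hζ : orderOf ζ = Nat.card F - 1
  hμ : σ μ * μ = 1
  hh : h ∈ K
  he : h.1 e = (ζ : F) • e
  hf : h.1 f = (σ ζ)⁻¹ • f
  hw : h.1 w = (σ ζ / ζ) • w
  hk : k ∈ K
  ke : k.1 e = e
  kf : k.1 f = f
  kw : k.1 w = (μ : F) • w
  ext : ∀ g ∈ K, g.1 e = e → g.1 f = f → g.1 w = w → g = 1
  all : ∀ g ∈ K, g.1 e = e → g.1 f = f → ∃ j : ℕ, g.1 w = ((μ : F) ^ j) • w

namespace U3
variable [Finite F] {e f w : V} {K : Subgroup S.Isom} {c ζ μ : Fˣ} {Hy : S.IsHyp e f} {h k : S.Isom} (U : S.U3 e f w K c ζ μ Hy h k)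
include U

omit [Finite F] in
theorem qp {v : V} {a : F} : S.QP (Submodule.span F {e, f, w}) e f v a ↔ ∃ α : F, v = α • w ∧ a + σ a = σ α * α := by
  constructor
  · intro h
    obtain ⟨x, y, z, rfl⟩ := Submodule.mem_span_triple.1 h.mem
    have h1 := h.hf
    have h2 := h.ec.perp
    simp [Hy.h_ee, Hy.h_ef, Hy.h_fe, Hy.h_ff, U.ew, U.fw] at h1 h2
    subst h1 h2
    exact ⟨z, by simp, by simpa [U.ww, mul_comm] using (uec.1 h.ec).2.2.symm⟩
  · rintro ⟨α, rfl, h⟩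
    exact ⟨Submodule.smul_mem _ _ (Submodule.subset_span (by simp)), by simp [U.fw], uec.2 ⟨Hy.sing_e, by simp [U.ew], by
      simp [U.ww, h, mul_comm]⟩⟩

omit [Finite F] in
theorem ext' {g g' : S.Isom} (hg : g ∈ K) (hg' : g' ∈ K) (h1 : g.1 e = g'.1 e) (h2 : g.1 f = g'.1 f) (h3 : g.1 w = g'.1 w) : g = g' :=
  inv_mul_eq_one.1 (U.ext _ (mul_mem (inv_mem hg) hg') (by rw [isom_mul_apply, ← h1, isom_inv_apply_self])
    (by rw [isom_mul_apply, ← h2, isom_inv_apply_self]) (by rw [isom_mul_apply, ← h3, isom_inv_apply_self]))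

omit U [Finite F] in
theorem pow_eig {g : S.Isom} {x : V} {t : F} (h : g.1 x = t • x) (i : ℕ) : (g ^ i).1 x = t ^ i • x := by
  induction i with
  | zero => simp
  | succ i ih => rw [pow_succ, isom_mul_apply, h, map_smul, ih, smul_smul, pow_succ']

theorem prim (a : F) (h : a ≠ 0) : ∃ i : ℕ, (ζ : F) ^ i = a := by
  have := Fintype.ofFinite F
  have : zpowers ζ = ⊤ := by
    rw [← card_eq_iff_eq_top, Nat.card_zpowers, U.hζ, Nat.card_units]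
  obtain ⟨i, hi⟩ := mem_powers_iff_mem_zpowers.2 (this.ge (mem_top (Units.mk0 a h)))
  exact ⟨i, by simpa using congrArg Units.val hi⟩

theorem allL {l : S.Isom} (hl : l ∈ K ⊓ S.stab (F ∙ e) ⊓ S.stab (F ∙ f)) : ∃ i j : ℕ, l = h ^ i * k ^ j := by
  obtain ⟨s, hs⟩ := mem_stab_line.1 hl.1.2
  obtain ⟨t, ht⟩ := mem_stab_line.1 hl.2
  have h1 := isom_h l e f
  rw [hs, ht, S.h_smul_left, S.h_smul_right, Hy.h_ef, mul_one] at h1
  obtain ⟨i, rfl⟩ := U.prim s (by rintro rfl; simp at h1)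
  have a1 : ((h ^ i)⁻¹ * l).1 e = e := by rw [isom_mul_apply, hs, ← pow_eig U.he, isom_inv_apply_self]
  have a2 : ((h ^ i)⁻¹ * l).1 f = f := by
    rw [isom_mul_apply, ht, eq_inv_of_mul_eq_one_right h1, map_pow, ← inv_pow (σ ζ), ← pow_eig U.hf, isom_inv_apply_self]
  have m := mul_mem (inv_mem (pow_mem U.hh i)) hl.1.1
  obtain ⟨j, hj⟩ := U.all _ m a1 a2
  refine ⟨i, j, inv_mul_eq_iff_eq_mul.1 (U.ext' m (pow_mem U.hk j) ?_ ?_ (by rw [hj, pow_eig U.kw]))⟩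
  · rw [a1, pow_eig (U.ke.trans (one_smul F e).symm)]; simp
  · rw [a2, pow_eig (U.kf.trans (one_smul F f).symm)]; simp

omit [Finite F] in
theorem hP : h ∈ K ⊓ S.stab (F ∙ e) ⊓ S.stab (F ∙ f) ∧ k ∈ K ⊓ S.stab (F ∙ e) ⊓ S.stab (F ∙ f) :=
  ⟨⟨⟨U.hh, mem_stab_line.2 ⟨_, U.he⟩⟩, mem_stab_line.2 ⟨_, U.hf⟩⟩,
    ⟨U.hk, mem_stab_line.2 ⟨1, by simp [U.ke]⟩⟩, mem_stab_line.2 ⟨1, by simp [U.kf]⟩⟩

/-- the unipotent elements of the Borel subgroup -/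
noncomputable def X (α a : F) : ↥(K ⊓ S.stab (F ∙ e)) :=
  ⟨S.eich e (α • w) a, U.hE α a, mem_stab_line.2 ⟨1, by rw [eich_apply_self, one_smul]⟩⟩

def h' : ↥(K ⊓ S.stab (F ∙ e)) := ⟨h, U.hP.1.1⟩
def k' : ↥(K ⊓ S.stab (F ∙ e)) := ⟨k, U.hP.2.1⟩

omit [Finite F] in
theorem hs : HsU σ U.X := ⟨fun α a β b h1 h2 => Subtype.ext (by
    have := eich_mul (U.qp.2 ⟨α, rfl, h1⟩).ec (U.qp.2 ⟨β, rfl, h2⟩).ec
    simpa [X, U.ww, add_smul, mul_comm] using this), fun α a h1 h2 => by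
  have q := U.qp.2 ⟨α, rfl, h1⟩
  have := congrArg (fun g => g.1.1 f) h2
  simp only [X, Hy.eich_f q.ec q.hf, OneMemClass.coe_one, LinearEquiv.coe_one, id] at this
  have h3 := congrArg (S.h w) this
  have h4 := congrArg (S.h f) this
  simp [Hy.h_ff, Hy.h_fe, U.fw, U.ww, S.h_swap_zero U.ew, S.h_swap_zero U.fw] at h3 h4
  exact ⟨h3, h4⟩⟩

omit [Finite F] in
theorem act_h : Act σ U.X U.h' (σ ζ * (σ ζ / ζ)) := fun α a v => Subtype.ext (by
  have q := (U.qp.2 ⟨(σ ζ / ζ) * α, rfl, show a + σ a = _ by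
    rw [v]; simp only [map_mul, map_div₀, hσ]; field_simp⟩).ec
  simp only [X, h', coe_mul, coe_inv, conj_eich, U.he, map_smul, U.hw, smul_smul, mul_comm α, eich_smul q]
  congr 1
  · rw [mul_assoc]
  · simp only [map_mul, map_div₀, hσ]; field_simp)

omit [Finite F] in
theorem act_k : Act σ U.X U.k' μ := fun α a v => Subtype.ext (by
  simp only [X, k', coe_mul, coe_inv, conj_eich, U.ke, map_smul, U.kw, smul_smul, mul_comm α, U.hμ, one_mul])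

theorem norm_gen (hne : σ ≠ RingHom.id F) (x : F) (h0 : x ≠ 0) (hx : σ x = x) :
    ∃ j : ℕ, (σ (σ ζ * (σ ζ / ζ)) * (σ ζ * (σ ζ / ζ))) ^ j = x := by
  obtain ⟨y, rfl⟩ := exists_norm_eq hσ hne hx
  obtain ⟨j, rfl⟩ := U.prim y (by rintro rfl; simp at h0)
  refine ⟨j, ?_⟩
  rw [map_pow, ← mul_pow]; congr 1
  simp only [map_mul, map_div₀, hσ]; field_simp

omit [Finite F] in
theorem comm_hk : Commute h k := U.ext' (mul_mem U.hh U.hk) (mul_mem U.hk U.hh) (by simp [U.he, U.ke]) (by simp [U.hf, U.kf])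
  (by simp [U.hw, U.kw, smul_comm (μ : F)])

theorem heis : Commute U.h' U.k' ∧ U.h' ^ orderOf ζ = 1 ∧ U.k' ^ orderOf μ = 1 ∧
    (∀ α a (i j : ℕ), a + σ a = σ α * α → U.X α a * (U.h' ^ i * U.k' ^ j) = 1 → orderOf ζ ∣ i ∧ orderOf μ ∣ j) ∧
    ∀ b, ∃ α a, ∃ i j : ℕ, a + σ a = σ α * α ∧ b = U.X α a * (U.h' ^ i * U.k' ^ j) := by
  have z1 : (ζ : F) ^ orderOf ζ = 1 := by rw [← Units.val_pow_eq_pow_val, pow_orderOf_eq_one, Units.val_one]
  have z2 : (μ : F) ^ orderOf μ = 1 := by rw [← Units.val_pow_eq_pow_val, pow_orderOf_eq_one, Units.val_one]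
  have ke := pow_eig (U.ke.trans (one_smul F e).symm)
  have kf := pow_eig (U.kf.trans (one_smul F f).symm)
  have o1 : h ^ orderOf ζ = 1 := U.ext _ (pow_mem U.hh _) (by rw [pow_eig U.he, z1, one_smul])
    (by rw [pow_eig U.hf, inv_pow, ← map_pow, z1]; simp) (by rw [pow_eig U.hw, div_pow, ← map_pow, z1]; simp)
  have o2 : k ^ orderOf μ = 1 := U.ext _ (pow_mem U.hk _) (by rw [ke, one_pow, one_smul]) (by rw [kf, one_pow, one_smul])
    (by rw [pow_eig U.kw, z2, one_smul])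
  refine ⟨Subtype.ext U.comm_hk.eq, Subtype.ext o1, Subtype.ext o2, fun α a i j v e1 => ?_, fun b => ?_⟩
  · have e2 : S.eich e (α • w) a * (h ^ i * k ^ j) = 1 := congrArg Subtype.val e1
    have e3 := congrArg (fun g : S.Isom => g.1 e) e2
    simp only [isom_mul_apply, ke, one_pow, one_smul, pow_eig U.he, map_smul, eich_apply_self, isom_one_apply] at e3
    have e4 : orderOf ζ ∣ i := orderOf_dvd_of_pow_eq_one (Units.ext (by
      simpa using smul_left_injective F Hy.e_ne (e3.trans (one_smul F e).symm)))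
    refine ⟨e4, ?_⟩
    obtain ⟨i, rfl⟩ := e4
    rw [pow_mul, o1, one_pow, one_mul] at e2
    have q := U.qp.2 ⟨α, rfl, v⟩
    have e5 := congrArg (fun g : S.Isom => S.h w (g.1 f)) e2
    have e6 := congrArg (fun g : S.Isom => S.h w (g.1 w)) e2
    simp only [isom_mul_apply, kf, one_pow, one_smul, Hy.eich_f q.ec q.hf, isom_one_apply] at e5
    simp only [isom_mul_apply, pow_eig U.kw, map_smul, isom_one_apply, eich_apply_of_perp q.ec U.ew] at e6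
    exact orderOf_dvd_of_pow_eq_one (Units.ext (by simpa [U.ww, S.h_swap_zero U.ew] using e6))
  · obtain ⟨t, ht⟩ := mem_stab_line.1 b.2.2
    obtain ⟨v, a, q, s, h1, h2⟩ := Hy.exists_P (W := Submodule.span F {e, f, w}) (Submodule.subset_span (by simp))
      (Submodule.subset_span (by simp)) (U.hK _ b.2.1 f (Submodule.subset_span (by simp))) ht
    obtain ⟨α, rfl, v⟩ := U.qp.1 q
    obtain ⟨i, j, e1⟩ := U.allL ⟨⟨K.mul_mem (K.inv_mem (U.hE α a)) b.2.1, mem_stab_line.2 ⟨_, h1⟩⟩, mem_stab_line.2 ⟨_, h2⟩⟩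
    exact ⟨α, a, i, j, v, Subtype.ext (inv_mul_eq_iff_eq_mul.1 e1)⟩

theorem pres (hne : σ ≠ RingHom.id F) (O : S.Opp (Submodule.span F {e, f, w})) {θ : F} {r r' : ℕ}
    (hB : PrG ![U.X 1 θ, U.h', U.k'] r ∧ closure (Set.range ![U.X 1 θ, U.h', U.k']) = ⊤) {g : κ → S.Isom} {u s t v : FreeGroup κ}
    (g1 : lift g u = S.eich e ((1 : F) • w) θ) (g2 : lift g s = h) (g3 : lift g v = k) (g4 : lift g t = Hy.swp c)
    (gen : ∀ j, of j = u ∨ of j = s ∨ of j = v ∨ of j = t) (Ek : Enf g r' fun C => Commute (C.φ t) (C.φ v))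
    (R : List F) (hR : ∀ α, α ≠ 0 → ∃ x ∈ R, ∃ i j : ℕ, α = (σ ζ * (σ ζ / ζ)) ^ i * (μ : F) ^ j * x) :
    PrG g (r + r' + 3 + R.length) ∧ closure (Set.range g) = K := by
  classical
  set P := K ⊓ S.stab (F ∙ e)
  have he : e ∈ Submodule.span F {e, f, w} := Submodule.subset_span (by simp)
  have hf : f ∈ Submodule.span F {e, f, w} := Submodule.subset_span (by simp)
  have hE : ∀ v a, S.QP (Submodule.span F {e, f, w}) e f v a → S.eich e v a ∈ K := fun v a q => by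
    obtain ⟨α, rfl, -⟩ := U.qp.1 q; exact U.hE α a
  obtain ⟨wB, w1, EB⟩ := hB.1.hom hB.2 P.subtype (g := g) ![u, s, v] fun i => by fin_cases i; exacts [g1, g2, g3]
  have top : closure (Set.range g) = K := by
    have mem : ∀ x, lift g x ∈ closure (Set.range g) := fun x => mem_closure_lift.2 ⟨x, rfl⟩
    refine le_antisymm ((closure_le _).2 ?_) (Hy.geo_gen O he hf U.hK (fun v a q => ⟨hE v a q, ?_⟩) ⟨U.hn, g4 ▸ mem t⟩ (Hy.swp_e c)
      fun l hl => by simpa [w1] using mem (wB ⟨l, hl.1⟩))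
    · rintro _ ⟨j, rfl⟩
      rw [← FreeGroup.lift_apply_of (f := g)]
      rcases gen j with e | e | e | e <;> rw [e]
      exacts [g1 ▸ U.hE _ _, g2 ▸ U.hh, g3 ▸ U.hk, g4 ▸ U.hn]
    · obtain ⟨α, rfl, -⟩ := U.qp.1 q
      simpa [w1, X] using mem (wB (U.X α a))
  refine ⟨?_, top⟩
  have nn : Hy.swp c * Hy.swp c ∈ P := ⟨mul_mem U.hn U.hn, by rw [IsHyp.swp_mul_swp]; exact mem_stab_line.2 ⟨_, Hy.tor_e _⟩⟩
  have ET : ∀ α a, a + σ a = σ α * α → a ≠ 0 → Enf g 1 fun C => ∀ ψ : P →* C.H, (∀ k, C.φ (wB k) = ψ k) →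
      Tri P (Hy.swp c) (ofHom ψ) (C.φ t) (S.eich e (α • w) a) := fun α a v a0 => by
    obtain ⟨l, hl, e1⟩ := Hy.tri_dec hE U.hn (U.qp.2 ⟨α, rfl, v⟩) a0
    rw [smul_smul, smul_smul] at e1
    have m := mul_mem (mul_mem hl.1 (U.X (-(c * σ a)⁻¹ * α) (c * a * σ c)⁻¹).2) nn
    refine (Enf.rel (t * wB (U.X α a) * t) (wB (U.X (-(c * a)⁻¹ * α) (c * a * σ c)⁻¹) * t * wB ⟨_, m⟩) (by
      simp only [map_mul, w1, g4]; exact e1)).mono le_rfl fun C h ψ hψ => ⟨_, (U.X _ _).2, _, m, e1, ?_⟩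
    simp only [map_mul, hψ] at h
    rw [ofHom_apply ψ (U.X _ _).2, ofHom_apply ψ m, ← h]; exact congrArg (fun x => C.φ t * x * C.φ t) (ofHom_apply ψ (U.X α a).2)
  have z0 : σ ζ ≠ 0 := by simp
  obtain ⟨ρ, hρ⟩ : ∃ ρ : F, ρ = ζ / σ ζ := ⟨_, rfl⟩
  have ρ1 : σ ρ * ρ = 1 := by rw [hρ, map_div₀, hσ]; field_simp
  have ρ2 : 1 - ρ ≠ 0 := fun h0 => hne (RingHom.ext fun x => by
    rcases eq_or_ne x 0 with rfl | h1
    · simp
    obtain ⟨i, rfl⟩ := U.prim x h1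
    rw [hρ, sub_eq_zero, eq_div_iff z0, one_mul] at h0
    rw [map_pow, h0]; rfl)
  have ρ0 : ρ ≠ 0 := by rintro rfl; simp at ρ1
  have ρ3 : ∀ N, σ N = N → σ (N / (1 - ρ)) = -ρ * (N / (1 - ρ)) := fun N hN => by
    rw [map_div₀, hN, map_sub, map_one, show 1 - σ ρ = -σ ρ * (1 - ρ) by linear_combination -ρ1, eq_inv_of_mul_eq_one_left ρ1]
    field_simp
  have ρ4 : ∀ N, σ N = N → N / (1 - ρ) + σ (N / (1 - ρ)) = N := fun N hN => by rw [ρ3 N hN]; field_simp; ring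
  have nx : ∀ x, σ (σ x * x) = σ x * x := fun x => by rw [map_mul, hσ, mul_comm]
  have EL : Enf g R.length fun C => ∀ x ∈ R, x ≠ 0 → ∀ ψ : P →* C.H, (∀ k, C.φ (wB k) = ψ k) →
      Tri P (Hy.swp c) (ofHom ψ) (C.φ t) (S.eich e (x • w) (σ x * x / (1 - ρ))) := by
    clear hR
    induction R with
    | nil => exact (Enf.triv g).mono le_rfl (by simp)
    | cons x R ih =>
      rcases eq_or_ne x 0 with rfl | x0
      · exact ih.mono (by simp) fun C h y hy y0 => h y (by simpa [y0] using hy) y0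
      · exact ((ET x _ (ρ4 _ (nx x)) (by simp [x0, ρ2])).and ih).mono (by simp [add_comm]) fun C h y hy y0 =>
          (List.mem_cons.1 hy).elim (fun e => e ▸ h.1) fun hy => h.2 y hy y0
  refine (((((EB.and Ek).and (Enf.rel (t * s * t⁻¹) (wB ⟨_, (Hy.swp_L U.hP.1 U.hn).1.1⟩) (by simp [w1, g2, g4]))).and
    (Enf.rel (t * t) (wB ⟨_, nn⟩) (by simp [w1, g4]))).and (ET 0 c (by simpa using U.hc) c.ne_zero)).and EL).mono (by omega)
    fun C ⟨⟨⟨⟨⟨⟨ψ, p1, p2⟩, a1⟩, a2⟩, a3⟩, a4⟩, a5⟩ => ?_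
  simp only [map_mul, map_inv, p1] at a2 a3
  have hφ := homOn_ofHom ψ
  have πφ : ∀ p ∈ P, C.π (ofHom ψ p) = p := fun p hp => by rw [ofHom_apply ψ hp, ← p1, C.comp, w1]; rfl
  have φh : ofHom ψ h = C.φ s := (ofHom_apply ψ U.hP.1.1).trans (p2 1).symm
  have φk : ofHom ψ k = C.φ v := (ofHom_apply ψ U.hP.2.1).trans (p2 2).symm
  have nk : Commute (Hy.swp c) k := by simpa only [C.comp, g3, g4] using a1.map C.π
  have ha : ∀ l ∈ K ⊓ S.stab (F ∙ e) ⊓ S.stab (F ∙ f), C.φ t * ofHom ψ l * (C.φ t)⁻¹ = ofHom ψ (Hy.swp c * l * (Hy.swp c)⁻¹) := by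
    intro l hl
    obtain ⟨i, j, rfl⟩ := U.allL hl
    have pw : ∀ p ∈ P, ∀ i : ℕ, ofHom ψ (p ^ i) = ofHom ψ p ^ i := fun p hp i => by
      rw [ofHom_apply ψ hp, ofHom_apply ψ (pow_mem hp i), ← map_pow]; rfl
    have m := (Hy.swp_L U.hP.1 U.hn).1.1
    rw [← conj_mul, ← conj_pow, (nk.pow_right j).eq, mul_inv_cancel_right, hφ _ (pow_mem m i) _ (pow_mem U.hP.2.1 j),
      hφ _ (pow_mem U.hP.1.1 i) _ (pow_mem U.hP.2.1 j), pw _ m, pw _ U.hP.1.1, pw _ U.hP.2.1, φh, φk, ofHom_apply ψ m, ← a2,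
      ← conj_mul, conj_pow, (a1.pow_right j).eq, mul_inv_cancel_right]
  have ha' : ∀ l ∈ P, Hy.swp c * l * (Hy.swp c)⁻¹ ∈ P → C.φ t * ofHom ψ l * (C.φ t)⁻¹ = ofHom ψ (Hy.swp c * l * (Hy.swp c)⁻¹) := by
    refine fun l hl h => ha l ⟨hl, mem_stab_line.2 ?_⟩
    obtain ⟨t, ht⟩ := mem_stab_line.1 h.2
    have ie : ((Hy.swp c)⁻¹).1 e = σ c • f := by
      apply (Hy.swp c).1.injective; rw [isom_apply_inv_self, map_smul, IsHyp.swp_f, smul_smul]; simp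
    refine ⟨t, ?_⟩
    have := congrArg ((Hy.swp c)⁻¹).1 ht
    simp only [isom_mul_apply, isom_inv_apply_self, map_smul, ie] at this
    rw [smul_comm] at this
    exact smul_right_injective V (by simp) this
  have cj : ∀ (i j : ℕ) α a, a + σ a = σ α * α → Tri P (Hy.swp c) (ofHom ψ) (C.φ t) (S.eich e (α • w) a) →
      Tri P (Hy.swp c) (ofHom ψ) (C.φ t) (S.eich e (((σ ζ * (σ ζ / ζ)) ^ i * (μ : F) ^ j * α) • w)
        (σ ((σ ζ * (σ ζ / ζ)) ^ i * (μ : F) ^ j) * ((σ ζ * (σ ζ / ζ)) ^ i * (μ : F) ^ j) * a)) := fun i j α a v h => by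
    have m := mul_mem (pow_mem U.hP.1 i) (pow_mem U.hP.2 j)
    have := h.mul hφ ha' (U.X α a).2 m.1 (Hy.swp_L m U.hn).1.1 (inv_mem m).1 (Hy.swp_L (inv_mem m) U.hn).2
    convert this using 1
    exact (congrArg Subtype.val (((U.act_h.pow hσ i).mul hσ (U.act_k.pow hσ j)) α a v)).symm
  have T1 : ∀ α a, a ≠ 0 → a + σ a = σ α * α → σ a = -1 * a → Tri P (Hy.swp c) (ofHom ψ) (C.φ t) (S.eich e (α • w) a) := by
    intro α a a0 v h
    obtain rfl : α = 0 := by simpa [h] using v.symm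
    obtain ⟨i, hi⟩ := U.norm_gen hne (a / c) (by simp [a0]) (by
      rw [map_div₀, h, eq_neg_of_add_eq_zero_right U.hc, neg_one_mul, neg_div_neg_eq])
    have := cj i 0 0 c (by simpa using U.hc) (a4 ψ p1)
    rwa [pow_zero, mul_one, map_pow, ← mul_pow, hi, div_mul_cancel₀ _ c.ne_zero, mul_zero] at this
  have T2 : ∀ α, α ≠ 0 → Tri P (Hy.swp c) (ofHom ψ) (C.φ t) (S.eich e (α • w) (σ α * α / (1 - ρ))) := fun α h => by
    obtain ⟨x, hx, i, j, rfl⟩ := hR α h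
    have := cj i j x _ (ρ4 _ (nx x)) (a5 x hx (by rintro rfl; simp at h) ψ p1)
    convert this using 2
    rw [map_mul _ _ x]; ring
  have T3 : ∀ (i : ℕ) α a, a ≠ 0 → a + σ a = σ α * α → σ a = -ρ ^ i * a → Tri P (Hy.swp c) (ofHom ψ) (C.φ t) (S.eich e (α • w) a) := by
    intro i
    induction i with
    | zero => simpa using T1
    | succ i ih =>
      intro α a a0 v h
      rcases eq_or_ne α 0 with rfl | α0
      · exact T1 0 a a0 v (by simp at v; linear_combination v)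
      by_cases b0 : a - σ α * α / (1 - ρ) = 0
      · rw [sub_eq_zero.1 b0]; exact T2 α α0
      have vb : a - σ α * α / (1 - ρ) + σ (a - σ α * α / (1 - ρ)) = σ 0 * 0 := by
        rw [map_sub]; linear_combination v - ρ4 _ (nx α)
      have n0 : σ α * α / (1 - ρ) ≠ 0 := by simp [α0, ρ2]
      have := Hy.tri_comb hE U.hn hφ ha' (by rw [ofHom_apply ψ nn, a3]) (U.qp.2 ⟨α, rfl, ρ4 _ (nx α)⟩) (U.qp.2 ⟨0, rfl, vb⟩) n0 b0
        (T2 α α0) (T1 0 _ b0 vb (by rw [map_zero, mul_zero] at vb; linear_combination vb)) fun v' q => by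
          obtain ⟨β, rfl, v'⟩ := U.qp.1 q
          simp only [zero_smul, map_zero, add_zero, add_sub_cancel] at v' ⊢
          refine ih β _ (by simp [a0, n0, b0]) v' ?_
          rw [map_zero, mul_zero] at vb
          rw [map_div₀, map_mul, map_mul, map_mul, hσ, h, ρ3 _ (nx α), eq_neg_of_add_eq_zero_right vb]
          have : σ c ≠ 0 := by simp
          field_simp; ring
      simpa using this
  obtain ⟨Φ, h1, h2, h3⟩ := Hy.geo_chunk O he hf U.hK hE U.hn (Hy.swp_e c) (Hy.swp_f c) hφ ha fun v a q a0 => by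
    obtain ⟨α, rfl, v⟩ := U.qp.1 q
    obtain ⟨x, x0, hx⟩ := exists_div_σ_eq hσ hne (z := -σ a / a) (by
      have : σ a ≠ 0 := by simpa
      rw [map_div₀, map_neg, hσ]; field_simp)
    obtain ⟨i, rfl⟩ := U.prim x x0
    exact T3 i α a a0 v (by rw [hρ, div_pow, ← map_pow, div_eq_mul_inv, hx]; field_simp)
  let M : Subgroup C.H :=
    { carrier := {x | C.π x ∈ K ∧ Φ (C.π x) = x}
      mul_mem' := fun {a b} h h' => ⟨by rw [map_mul]; exact mul_mem h.1 h'.1, by rw [map_mul, h1 _ h.1 _ h'.1, h.2, h'.2]⟩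
      one_mem' := ⟨by simp, by rw [map_one, h1.one]⟩
      inv_mem' := fun {a} h => ⟨by rw [map_inv]; exact inv_mem h.1, by rw [map_inv, h1.inv h.1, h.2]⟩ }
  intro x hx
  have : x ∈ M := C.top (fun j => by
    rcases gen j with e | e | e | e <;> rw [e] <;> refine ⟨?_, ?_⟩ <;> rw [C.comp]
    exacts [g1 ▸ U.hE _ _, by rw [g1]; exact (h2 _ (U.X 1 θ).2).trans ((ofHom_apply ψ (U.X 1 θ).2).trans (p2 0).symm), g2 ▸ U.hh,
      by rw [g2, h2 _ U.hP.1.1, φh], g3 ▸ U.hk, by rw [g3, h2 _ U.hP.2.1, φk], g4 ▸ U.hn, by rw [g4, h3]]) x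
  rw [← this.2, hx, h1.one]

end U3

variable [Finite F] [FiniteDimensional F V]

omit [FiniteDimensional F V] in
theorem unit_big (hne : σ ≠ RingHom.id F) {q : ℕ} (hF : Nat.card F = q ^ 2) (hq : 3 ≤ q) : (unitP σ hσ).Big := by
  obtain ⟨a, a0, ha⟩ := exists_mem_unit_Λ hσ hne
  obtain ⟨c, h1, h2, h3⟩ := exists_fixed_ne hσ hne hF hq
  refine ⟨a, ha, c * a, mem_unitP_Λ.2 ?_, a0, mul_ne_zero h2 a0, fun h => h3 (by simpa [a0] using h.symm)⟩
  rw [map_mul, h1]; linear_combination c * mem_unitP_Λ.1 ha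

omit [Finite F] in
theorem IsHyp.swp_mem_SIsom {e f : V} (Hy : S.IsHyp e f) {c : Fˣ} (hc : (c : F) + σ c = 0) : Hy.swp c ∈ S.SIsom := by
  have h1 : σ c = -c := eq_neg_of_add_eq_zero_right hc
  have := Hy.swp_mem_T (a := (c : F)⁻¹) (mem_unitP_Λ.2 (by simp [h1])) (by simp)
  convert E_le_SIsom (T_le_E this) using 2
  ext; simp [h1]

theorem Nondeg.isCyclic_center (hne : σ ≠ RingHom.id F) (hS : S.Nondeg) (h : 2 ≤ finrank F V) : IsCyclic (center S.SIsom) := by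
  obtain ⟨e, f, Hy⟩ := hS.unit_exists_hyp hne h
  have : IsCyclic S.scal.range := isCyclic_of_surjective _ S.scal.rangeRestrict_surjective
  exact isCyclic_of_injective ((S.SIsom.subtype.comp (center S.SIsom).subtype).codRestrict S.scal.range fun g =>
    (hS.mem_scal_range _).2 ((Hy.mem_center_iff_scalar hS (unit_rich hne S 3) E_le_SIsom g.1).1 g.2))
    fun a b h => Subtype.ext (Subtype.ext (congrArg (fun x : S.scal.range => x.1) h))

theorem Nondeg.exists_U3 (hne : σ ≠ RingHom.id F) (hS : S.Nondeg) (h3 : finrank F V = 3) : ∃ e f w c ζ Hy h,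
    S.U3 e f w S.SIsom c ζ 1 Hy h 1 ∧ Submodule.span F {e, f, w} = ⊤ := by
  obtain ⟨e, f, Hy⟩ := hS.unit_exists_hyp hne (by omega)
  have h1 := Hy.finrank_perp
  obtain ⟨w, hw, ww⟩ := unit_exists_norm_mem hne (hS.restrict_perp Hy.nondeg) (by omega) (map_one σ)
  have hw' := S.mem_perp_pair.1 hw
  have w0 : w ≠ 0 := by rintro rfl; simp at ww
  have pw : ∀ x ∈ S.perp (Submodule.span F {e, f}), ∃ t : F, x = t • w := fun x hx => by
    obtain ⟨t, ht⟩ := exists_smul_eq_of_finrank_eq_one (K := F) (V := S.perp (Submodule.span F {e, f})) (by omega)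
      (x := ⟨w, hw⟩) (by simpa using w0) ⟨x, hx⟩
    exact ⟨t, (congrArg Subtype.val ht).symm⟩
  have ext : ∀ g g' : S.Isom, g.1 e = g'.1 e → g.1 f = g'.1 f → g.1 w = g'.1 w → g = g' := fun g g' a b c =>
    Hy.isom_ext a b fun x hx => by obtain ⟨t, rfl⟩ := pw x hx; simp [c]
  have pe : e ∈ S.perp (F ∙ w) := S.mem_perp_singleton.2 (S.h_swap_zero hw'.1)
  have pf : f ∈ S.perp (F ∙ w) := S.mem_perp_singleton.2 (S.h_swap_zero hw'.2)
  obtain ⟨c, c0, hc⟩ := exists_mem_unit_Λ hσ hne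
  obtain ⟨ζ, hζ, -⟩ := exists_prim F
  have z0 : σ ζ ≠ 0 := by simp
  obtain ⟨d, d1, d2, d3⟩ := exists_det_eq_of_ne (S := S) (v := w) (by simp [ww])
    ⟨Units.mk0 (σ ζ / ζ) (by simp), mem_normOne.2 (by simp [hσ])⟩
  have top : Submodule.span F {e, f, w} = ⊤ := eq_top_iff.2 fun x _ => by
    obtain ⟨y, hy, h⟩ := Hy.exists_decomp x
    obtain ⟨t, rfl⟩ := pw y hy
    exact h ▸ Submodule.mem_span_triple.2 ⟨_, _, _, rfl⟩
  refine ⟨e, f, w, Units.mk0 c c0, ζ, Hy, Hy.tor ζ * d, ⟨hw'.1, hw'.2, ww, by simp [top], fun _ _ => eich_mem_SIsom _ _ _ _,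
    mem_unitP_Λ.1 hc, Hy.swp_mem_SIsom (mem_unitP_Λ.1 hc), hζ, by simp, ?_, by simp [d1 e pe], by simp [d1 f pf],
    by simp [d3, Hy.tor_perp ζ hw], one_mem _, rfl, rfl, by simp, fun g _ a b c => ext g 1 a b c, fun g hg a b => ⟨0, ?_⟩⟩, top⟩
  · rw [SIsom, MonoidHom.mem_ker, map_mul, d2]
    ext; simp [Hy.det_tor]; field_simp
  · obtain ⟨t, ht⟩ := pw (g.1 w) (S.mem_perp_pair.2 ⟨by rw [← a, isom_h, hw'.1], by rw [← b, isom_h, hw'.2]⟩)
    have h1 := isom_h g w w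
    rw [ht, S.h_smul_left, S.h_smul_right, ww, mul_one] at h1
    obtain ⟨d, d1, d2, d3⟩ := exists_det_eq_of_ne (S := S) (v := w) (by simp [ww])
      ⟨Units.mk0 t (by rintro rfl; simp at h1), mem_normOne.2 h1⟩
    rw [← ext g d (by rw [a, d1 e pe]) (by rw [b, d1 f pf]) (by rw [ht, d3]; rfl), show S.detHom g = 1 from hg] at d2
    rw [ht, show t = 1 from (congrArg Units.val d2).symm]; simp

omit [FiniteDimensional F V] in
theorem _root_.H11.exists_of_not_gen' {ξ : F} (h : ¬ Gen ξ) : ∃ k d : ℕ, 2 ≤ k ∧ 2 ≤ d ∧ Nat.card F = k ^ d ∧ ξ ^ k = ξ := by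
  let R := Subring.closure {ξ}
  have := Fintype.ofFinite R
  letI : Field R := (Finite.isField_of_domain R).toField
  refine ⟨Fintype.card R, finrank R F, Fintype.one_lt_card, not_lt.1 fun h2 => h (eq_top_iff.2 fun a _ => ?_), by
    rw [Module.natCard_eq_pow_finrank (K := R), Nat.card_eq_fintype_card],
    (FiniteField.frobeniusAlgHom R F).commutes ⟨ξ, Subring.subset_closure rfl⟩⟩
  obtain ⟨c, rfl⟩ := exists_smul_eq_of_finrank_eq_one (K := R) (by have := finrank_pos (R := R) (M := F); omega)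
    (one_ne_zero (α := F)) a
  simpa [Subring.smul_def] using c.2

omit [FiniteDimensional F V] in
theorem _root_.H11.gen_rho {q : ℕ} (hF : Nat.card F = q ^ 2) (hq : ∀ x, σ x = x ^ q) {ζ : Fˣ} (hζ : orderOf ζ = Nat.card F - 1) {m : ℕ}
    (hm : m = 1 ∨ m = 3 ∧ q ≠ 2 ∧ q ≠ 5 ∧ q ≠ 8) : Gen (((ζ : F) / σ ζ) ^ m) := by
  by_contra h
  obtain ⟨k, d, h1, h2, h3, h4⟩ := exists_of_not_gen' h
  have q2 : 2 ≤ q := by
    by_contra; have := Finite.one_lt_card (α := F); interval_cases q <;> omega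
  have kq : k ≤ q := by
    by_contra hk
    have : q ^ 2 < k ^ d := (Nat.pow_lt_pow_left (not_le.1 hk) two_ne_zero).trans_le (Nat.pow_le_pow_right (by omega) h2)
    omega
  obtain ⟨k, rfl⟩ : ∃ l, k = l + 1 := ⟨k - 1, by omega⟩
  obtain ⟨q, rfl⟩ : ∃ l, q = l + 1 := ⟨q - 1, by omega⟩
  rw [pow_succ, mul_eq_right₀ (by simp), hq, pow_succ, div_mul_cancel_right₀ ζ.ne_zero, inv_pow, inv_pow, inv_eq_one, ← pow_mul,
    ← pow_mul] at h4
  have h5 := orderOf_dvd_of_pow_eq_one (x := ζ) (Units.ext (by simpa using h4))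
  rw [hζ, hF, show (q + 1) ^ 2 - 1 = q * (q + 2) by rw [Nat.sub_eq_iff_eq_add (by simp [Nat.one_le_iff_ne_zero])]; ring,
    Nat.mul_dvd_mul_iff_left (by omega)] at h5
  obtain ⟨j, hj⟩ := h5
  have h6 : k + 1 ∣ (q + 1) ^ 2 := by rw [← hF, h3]; exact dvd_pow_self _ (by omega)
  have h7 : ∀ p, p.Prime → p ∣ q + 1 → p ∣ k + 1 := fun p hp h => hp.dvd_of_dvd_pow (by rw [← h3, hF]; exact h.pow two_ne_zero)
  rcases hm with rfl | ⟨rfl, a1, a2, a3⟩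
  · rcases j with _ | j <;> nlinarith
  have : j = 1 ∨ j = 2 := by
    rcases j with _ | _ | _ | j
    · omega
    · simp
    · simp
    · nlinarith
  rcases this with rfl | rfl
  · have h8 : k + 1 ∣ 16 := (Nat.dvd_add_right (Dvd.intro (9 * (k + 1)) rfl)).1
      ((show (q + 1) ^ 2 + (k + 1) * 24 = (k + 1) * (9 * (k + 1)) + 16 by
        obtain rfl : q = 3 * k - 2 := by omega
        obtain ⟨k, rfl⟩ : ∃ l, k = l + 1 := ⟨k - 1, by omega⟩
        rw [show 3 * (k + 1) - 2 = 3 * k + 1 by omega]; ring) ▸ h6.add (Dvd.intro 24 rfl))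
    have := h7 5 (by norm_num)
    have := h7 11 (by norm_num)
    have : k ≤ 25 := by have := Nat.le_of_dvd (by omega) h8; omega
    interval_cases k <;> omega
  · have h8 : k + 1 ∣ 25 := (Nat.dvd_add_right (Dvd.intro (9 * (k + 1)) rfl)).1
      ((show 4 * (q + 1) ^ 2 + (k + 1) * 30 = (k + 1) * (9 * (k + 1)) + 25 by nlinarith) ▸ (h6.mul_left 4).add (Dvd.intro 30 rfl))
    have := h7 7 (by norm_num)
    have : k ≤ 25 := by have := Nat.le_of_dvd (by omega) h8; omega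
    interval_cases k <;> omega

theorem Nondeg.pres_SU3 (hne : σ ≠ RingHom.id F) (hS : S.Nondeg) (h3 : finrank F V = 3) {q : ℕ} (hF : Nat.card F = q ^ 2)
    (hq : ∀ x, σ x = x ^ q) (q3 : 3 ≤ q) : ∃ g : Fin 3 → S.SIsom, PrG g 23 ∧ closure (Set.range g) = ⊤ := by
  obtain ⟨e, f, w, c, ζ, Hy, h, U, top⟩ := hS.exists_U3 hne h3
  obtain ⟨θ, hθ⟩ := exists_trace_one hσ hne
  obtain ⟨a1, a2, a3, a4, a5⟩ := U.heis
  have z0 : σ ζ ≠ 0 := by simp
  set ξ : F := σ ζ * (σ ζ / ζ) with hξ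
  have ξ0 : ξ ≠ 0 := by simp [hξ]
  have ξ3 : ξ ^ (2 * q + 1) = ζ ^ 3 := by
    rw [pow_succ, mul_comm 2, pow_mul, ← hq, hξ]; simp only [map_mul, map_div₀, hσ]; field_simp
  have hB : PrG ![U.X 1 θ, U.h', U.k'] 17 ∧ closure (Set.range ![U.X 1 θ, U.h', U.k']) = ⊤ := by
    by_cases hs : q = 5 ∨ q = 8
    · obtain ⟨p, hp⟩ := CharP.exists F
      have := Fintype.ofFinite F
      obtain ⟨n, h1, h2⟩ := FiniteField.card F p
      rw [← Nat.card_eq_fintype_card, hF] at h2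
      have h4 : q ≤ p ^ 3 := by
        have h4 : p ∣ q := h1.dvd_of_dvd_pow (h2 ▸ dvd_pow_self p n.ne_zero)
        have := h1.two_le
        rcases hs with rfl | rfl
        · have := Nat.le_of_dvd (by omega) h4
          interval_cases p <;> omega
        · exact Nat.pow_le_pow_left this 3
      refine pres_heis_small hσ hne U.hs hθ U.act_h U.act_k U.hμ ξ0 (U.norm_gen hne) a1 a2 a3 (orderOf_pos _) (orderOf_pos _) a4 a5
        ((gen_pow U.hζ (m := 3) (.inr (.inr ⟨rfl, by rcases hs with rfl | rfl <;> omega⟩))).of_mem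
          (by rw [← ξ3]; exact Subring.pow_mem _ (Subring.subset_closure (Set.mem_singleton ξ)) _)) (by simp) p (by rw [hF]; nlinarith) (le_trans ?_ h4)
      let K := σ.eqLocusField (RingHom.id F)
      have h5 := Module.natCard_eq_pow_finrank (K := K) (V := F)
      have h6 : 2 ≤ finrank K F := not_lt.1 fun h2 => hne (RingHom.ext fun a => by
        obtain ⟨c, rfl⟩ := exists_smul_eq_of_finrank_eq_one (K := K) (by have := finrank_pos (R := K) (M := F); omega)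
          (one_ne_zero (α := F)) a
        simpa [Subfield.smul_def] using (show σ c = c from c.2))
      refine (Nat.pow_le_pow_iff_left two_ne_zero).1 ?_
      rw [← hF, h5]; exact Nat.pow_le_pow_right Nat.card_pos h6
    have hl := gen_rho hF hq U.hζ (m := 3) (.inr ⟨rfl, by omega, by omega, by omega⟩)
    have pq : ∀ x : F, x ≠ 0 → x ^ (q - 1) = σ x / x := fun x h => by
      rw [eq_div_iff h, ← pow_succ, Nat.sub_add_cancel (by omega), hq]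
    obtain ⟨ρ, hρ⟩ : ∃ ρ : F, ρ = ζ / σ ζ := ⟨_, rfl⟩
    rw [← hρ] at hl
    have ρ0 : ρ ≠ 0 := by simp [hρ]
    have ρ1 : σ ρ = ρ⁻¹ := by rw [hρ, map_div₀, hσ, inv_div]
    have h1 : 1 + ρ ^ 3 ≠ 0 := fun h => hl.ne hne (by rw [eq_neg_of_add_eq_zero_right h]; simp)
    obtain ⟨j, hj⟩ := U.prim ((1 + ρ ^ 3) / ρ ^ 2) (by simp [h1, ρ0])
    refine (pres_heis_big hσ hne U.hs hθ U.act_h U.act_k U.hμ ξ0 (U.norm_gen hne) a1 a2 a3 (orderOf_pos _) (orderOf_pos _) a4 a5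
      (l₁ := q - 1) (l₂ := 0) (j₁ := j) (j₂ := 0) ?_ hl (.inr (by simp)) ?_ ?_).imp_left (·.mono (by omega))
    · rw [pq _ ξ0, hρ, hξ]; simp only [map_mul, map_div₀, hσ]; field_simp
    · rw [pq _ (by simp [ξ0]), map_mul, hσ, mul_comm, div_self (by simp [ξ0])]
    · rw [mul_pow, div_pow, ← map_pow, hj]; simp only [map_div₀, map_add, map_pow, map_one, ρ1]; field_simp; ring
  obtain ⟨h1, h2⟩ := U.pres hne (top ▸ Opp.of_big (unit_big hne hF q3) (by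
      rw [restrict_nondeg_iff, hS.perp_top]; exact disjoint_bot_right)) hB
    (g := S.SIsom.subtype ∘ ![⟨_, U.hE 1 θ⟩, ⟨h, U.hh⟩, ⟨_, U.hn⟩]) (u := of 0) (s := of 1) (v := 1) (t := of 2) (by simp) (by simp)
    (by simp) (by simp) (fun j => by fin_cases j <;> simp) ((Enf.triv _).mono le_rfl (by simp)) [1, ζ, ζ ^ 2] fun α h => by
      obtain ⟨i, rfl⟩ := U.prim α h
      refine ⟨ζ ^ (i % 3), ?_, (2 * q + 1) * (i / 3), 0, by rw [pow_mul, ξ3, ← pow_mul, pow_zero, mul_one, ← pow_add, Nat.div_add_mod]⟩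
      have := Nat.mod_lt i (y := 3) (by omega)
      interval_cases i % 3 <;> simp
  exact ⟨_, (PrG.comp_iff _ (subtype_injective _)).1 h1, closure_range_sub h2⟩

end PForm

theorem PrG.equivU {G G' : Type*} [Group G] [Group G'] {g : κ → G} {r : ℕ} (e : G ≃* G') (h : PrG g r ∧ closure (Set.range g) = ⊤) :
    PrG (e.toMonoidHom ∘ g) r ∧ closure (Set.range (e.toMonoidHom ∘ g)) = ⊤ :=
  ⟨(PrG.comp_iff _ e.injective).2 h.1, closure_range_comp h.2 _ e.surjective⟩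

theorem isCyclic_center_SU [Fintype F] {q n : ℕ} (hF : Fintype.card F = q ^ 2) (hn : 2 ≤ n) : IsCyclic (center (Cfsg.SU n F q)) := by
  obtain ⟨σ, hq, hσ, hne⟩ := exists_frob hF
  have := (stdUnit_nondeg hσ hne (Fin n)).isCyclic_center hne (by simpa)
  exact isCyclic_of_surjective _ (subgroupEquivOfIff (suEquiv hσ hne hq n) (mem_center_iff_equiv _)).symm.surjective

theorem exists_pres_SU3 [Fintype F] {q : ℕ} (hF : Fintype.card F = q ^ 2) (h2 : q ≠ 2) :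
    ∃ g : Fin 3 → Cfsg.SU 3 F q, PrG g 23 ∧ closure (Set.range g) = ⊤ := by
  obtain ⟨σ, hq, hσ, hne⟩ := exists_frob hF
  obtain ⟨g, h⟩ := (stdUnit_nondeg hσ hne (Fin 3)).pres_SU3 hne (by simp) (by rwa [Nat.card_eq_fintype_card]) hq (by
    by_contra; have := Fintype.one_lt_card (α := F); interval_cases q <;> omega)
  exact ⟨_, PrG.equivU (suEquiv hσ hne hq 3).symm h⟩

end H11
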