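import Cfsg.Agent.H11.SUP1
import Cfsg.Agent.H11.U3B
import Cfsg.Agent.H11.Gen2

/-! Presentations of `SU_n(q)` from Phan amalgams: `su_fin`, `enf4`, `pres_SU4`, `pres_SU_alt`. -/

set_option autoImplicit false

namespace H11
open Subgroup Module PForm Equiv Equiv.Perm
open FreeGroup (of lift)
open scoped MatrixGroups
variable {F : Type*} [Field F] {G H : Type*} [Group G] [Group H] {m n q : ℕ} {σ : F →+* F} {hq : ∀ x, σ x = x ^ q} {ι κ : Type}
local notation "u2" => suE hq (sh 0 (by omega) : Fin 2 ↪ Fin 3)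
local notation "l2" => suE hq (sh 1 (by omega) : Fin 2 ↪ Fin 3)
local notation "u3" => suE hq (sh 0 (by omega) : Fin 3 ↪ Fin 4)
local notation "l3" => suE hq (sh 1 (by omega) : Fin 3 ↪ Fin 4)

theorem exists_perm_nat (hm : m ≤ n) (g : ℕ → ℕ) (h1 : ∀ j < m, g j < n) (h2 : ∀ i < m, ∀ j < m, g i = g j → i = j) :
    ∃ k : Perm (Fin n), ∀ j : Fin n, j.1 < m → (k j).1 = g j := by
  obtain ⟨k, hk⟩ := Perm.exists_extending_pair (f := Fin.castLE hm) (g := fun j : Fin m => (⟨g j, h1 j j.2⟩ : Fin n)) (Fin.castLE_injective hm)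
    fun i j e => Fin.ext (h2 i i.2 j j.2 congr(($e).1))
  exact ⟨k, fun j hj => congr(($(hk ⟨j, hj⟩)).1)⟩

theorem exists_alt_nat (hm : m + 2 ≤ n) (g : ℕ → ℕ) (h1 : ∀ j < m, g j < n) (h2 : ∀ i < m, ∀ j < m, g i = g j → i = j) :
    ∃ k : alternatingGroup (Fin n), ∀ j : Fin n, j.1 < m → (k.1 j).1 = g j := by
  obtain ⟨k, hk⟩ := exists_perm_nat (by omega) g h1 h2
  rcases Int.units_eq_one_or (sign k) with e | e
  · exact ⟨⟨k, e⟩, hk⟩
  · refine ⟨⟨k * swap ⟨m, by omega⟩ ⟨m + 1, by omega⟩, by simp [e, Fin.ext_iff]⟩, fun j hj => ?_⟩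
    rw [← hk j hj, Perm.mul_apply, swap_apply_of_ne_of_ne] <;> rintro rfl <;> simp at hj

theorem exists_alt4 (hn : 5 ≤ n) (i j : ℕ) (h1 : i + 2 ≤ j) (h2 : j + 2 ≤ n) :
    ∃ l : alternatingGroup (Fin n), ∀ a : Fin n, a.1 < 4 → (l.1 a).1 = if a.1 < 2 then i + a else j + a - 2 := by
  rcases hn.eq_or_lt with rfl | hn
  · have : ∀ i j : Fin 4, i.1 + 2 ≤ j → ∃ l : Perm (Fin 5), sign l = 1 ∧
      ∀ a : Fin 5, a.1 < 4 → (l a).1 = if a.1 < 2 then i.1 + a else j + a - 2 := by decide +kernel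
    obtain ⟨l, a1, a2⟩ := this ⟨i, by omega⟩ ⟨j, by omega⟩ h1
    exact ⟨⟨l, a1⟩, a2⟩
  · exact exists_alt_nat (by omega) (fun a => if a < 2 then i + a else j + a - 2) (fun a _ => by split_ifs <;> omega)
      fun a _ b _ => by split_ifs <;> omega

theorem alt_consec {M : Subgroup (Perm (Fin (n + 2)))}
    (h : ∀ i j : Fin (n + 1), j.1 = i.1 + 1 → swap i.castSucc i.succ * swap j.castSucc j.succ ∈ M) (p) (hp : sign p = 1) : p ∈ M := by
  have h0 : ∀ j : Fin (n + 1), swap (0 : Fin (n + 1)).castSucc (0 : Fin (n + 1)).succ * swap j.castSucc j.succ ∈ M := fun j => by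
    induction j using Fin.induction with
    | zero => simpa using M.one_mem
    | succ j ih => simpa [mul_assoc] using mul_mem ih (h j.castSucc j.succ rfl)
  generalize hs : swap (0 : Fin (n + 1)).castSucc (0 : Fin (n + 1)).succ = s at h0
  have key : p ∈ M ∧ sign p = 1 ∨ s * p ∈ M ∧ sign p = -1 := by
    clear hp
    induction (mclosure_swap_castSucc_succ (n + 1)).ge (Submonoid.mem_top p) using Submonoid.closure_induction_left with
    | one => exact .inl ⟨M.one_mem, by simp⟩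
    | mul_left x hx y _ ih =>
      obtain ⟨j, rfl⟩ := hx
      have ne : j.castSucc ≠ j.succ := Fin.castSucc_lt_succ.ne
      rcases ih with ⟨h1, h2⟩ | ⟨h1, h2⟩
      · exact .inr ⟨by simpa [mul_assoc] using mul_mem (h0 j) h1, by simp [h2, ne]⟩
      · exact .inl ⟨by simpa [mul_assoc, ← hs] using mul_mem (inv_mem (h0 j)) h1, by simp [h2, ne]⟩
  exact key.elim (·.1) fun e => absurd (hp.symm.trans e.2) (by decide)

theorem suE_comm {l : ℕ} (e : Fin m ↪ Fin n) (e' : Fin l ↪ Fin n) (h : ∀ i j, e i ≠ e' j) (A : Cfsg.SU m F q) (B : Cfsg.SU l F q) :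
    suE hq e A * suE hq e' B = suE hq e' B * suE hq e A := by
  have z : ∀ {m l : ℕ} (e : Fin m ↪ Fin n) (e' : Fin l ↪ Fin n), (∀ i j, e i ≠ e' j) →
      (1 : Matrix (Fin n) (Fin n) F).submatrix e id * (1 : Matrix (Fin n) (Fin n) F).submatrix id e' = 0 := fun e e' h => by
    rw [← Matrix.submatrix_mul _ _ _ _ _ Function.bijective_id]; ext i j; simp [Matrix.one_apply, h]
  refine Subtype.ext (Subtype.ext (show eM _ _ * eM _ _ = eM _ _ * eM _ _ from ?_))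
  simp only [eM, add_mul, mul_add, Matrix.one_mul, Matrix.mul_one, Matrix.mul_assoc]
  rw [← Matrix.mul_assoc (Matrix.submatrix _ e id), ← Matrix.mul_assoc (Matrix.submatrix _ e' id), z e e' h, z e' e fun i j e => h j i e.symm]
  simp [add_right_comm]

theorem exists_cyc4 (hq : ∀ x, σ x = x ^ q) : ∃ S : Cfsg.SU 4 F q, ∀ z, S * suE hq (sh 0 (by omega) : Fin 3 ↪ Fin 4) z * S⁻¹ =
    suE hq (sh 1 (by omega)) z := by
  refine ⟨⟨⟨!![0, 0, 0, -1; 1, 0, 0, 0; 0, 1, 0, 0; 0, 0, 1, 0], by simp [Matrix.det_succ_row_zero, Fin.sum_univ_succ, Fin.succAbove]; norm_num⟩,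
    (H19.Iso.mem_SU hq).2 (by ext i j; fin_cases i <;> fin_cases j <;> simp [Matrix.mul_apply, Fin.sum_univ_four])⟩,
    fun z => mul_inv_eq_iff_eq_mul.2 (Subtype.ext (Subtype.ext ?_))⟩
  have e0 : eM (sh 0 (by omega) : Fin 3 ↪ Fin 4) z.1.1 = !![z.1.1 0 0, z.1.1 0 1, z.1.1 0 2, 0; z.1.1 1 0, z.1.1 1 1, z.1.1 1 2, 0;
      z.1.1 2 0, z.1.1 2 1, z.1.1 2 2, 0; 0, 0, 0, 1] := eM_ext _ (fun i j => by fin_cases i <;> fin_cases j <;> rfl) fun k k' h => by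
    simp only [mem_range_sh] at h; fin_cases k <;> fin_cases k' <;> simp at h ⊢
  have e1 : eM (sh 1 (by omega) : Fin 3 ↪ Fin 4) z.1.1 = !![1, 0, 0, 0; 0, z.1.1 0 0, z.1.1 0 1, z.1.1 0 2; 0, z.1.1 1 0, z.1.1 1 1, z.1.1 1 2;
      0, z.1.1 2 0, z.1.1 2 1, z.1.1 2 2] := eM_ext _ (fun i j => by fin_cases i <;> fin_cases j <;> rfl) fun k k' h => by
    simp only [mem_range_sh] at h; fin_cases k <;> fin_cases k' <;> simp at h ⊢
  change !![0, 0, 0, -1; 1, 0, 0, 0; 0, 1, 0, 0; 0, 0, 1, 0] * eM _ _ = eM _ _ * !![0, 0, 0, -1; 1, 0, 0, 0; 0, 1, 0, 0; 0, 0, 1, 0]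
  rw [e0, e1]; simp

variable {K : Subgroup (Perm (Fin n))} {hK : ∀ k ∈ K, ((sign k : ℤ) : F) = 1}

theorem conj_agree (ψ : K →* H) {y : H} (W : ∀ k : K, (∀ j : Fin n, j.1 < m → k.1 j = j) → ψ k * y * (ψ k)⁻¹ = y) {k k' : K}
    (h : ∀ j : Fin n, j.1 < m → k.1 j = k'.1 j) : ψ k * y * (ψ k)⁻¹ = ψ k' * y * (ψ k')⁻¹ := by
  conv_rhs => rw [← W (k'⁻¹ * k) fun j hj => by simp [h j hj]]
  simp [mul_assoc]

variable [Fintype F] {hσ : ∀ a, σ (σ a) = a} (hne : σ ≠ RingHom.id F) (hF : Fintype.card F = q ^ 2)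
include hσ hne hF

theorem su_fin (h4 : 4 ≤ n) {g : κ → Cfsg.SU n F q} (C : Cov g) (ψ : K →* C.H) (φ : Cfsg.SU 3 F q →* C.H) (f : Cfsg.SU 4 F q →* C.H)
    (πψ : ∀ k, C.π (ψ k) = pmU hq K hK k) (πφ : ∀ x, C.π (φ x) = suE hq (sh 0 (by omega)) x)
    (W : ∀ x, ∀ k : K, (∀ j : Fin n, j.1 < 3 → k.1 j = j) → ψ k * φ x * (ψ k)⁻¹ = φ x) (τ : ℕ → K)
    (hτ : ∀ i, i + 3 ≤ n → ∀ j : Fin n, j.1 < 3 → ((τ i).1 j).1 = i + j)
    (T : ∀ i, i + 4 ≤ n → ∃ l : K, ∀ j : Fin n, j.1 < 4 → (l.1 j).1 = i + j)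
    (f0 : ∀ x, f (u3 x) = φ x) (f1 : ∀ x, f (l3 x) = ψ (τ 1) * φ x * (ψ (τ 1))⁻¹)
    (c1 : ∀ i j, i + 2 ≤ j → j + 3 ≤ n → ∀ u v, Commute (ψ (τ j) * φ v * (ψ (τ j))⁻¹) (ψ (τ i) * φ (u2 u) * (ψ (τ i))⁻¹))
    (c2 : (∃ ν : F, σ ν = ν ∧ ν ≠ 0 ∧ ν ≠ 1) ∨ (∀ i j, i + 3 ≤ j → j + 3 ≤ n → ∀ u v,
      Commute (ψ (τ j) * φ v * (ψ (τ j))⁻¹) (ψ (τ i) * φ u * (ψ (τ i))⁻¹)) ∧ ∀ i, i + 5 ≤ n → ∀ u v,
      Commute (ψ (τ (i + 2)) * φ (l2 u) * (ψ (τ (i + 2)))⁻¹) (ψ (τ i) * φ v * (ψ (τ i))⁻¹))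
    (gen : ∀ M : Subgroup K, (∀ i, i + 3 ≤ n → ∀ k z, ψ k = φ z → τ i * k * (τ i)⁻¹ ∈ M) → ∀ k, k ∈ M)
    (hg : ∀ j, C.φ (of j) ∈ ψ.range ∨ C.φ (of j) ∈ f.range) (x) (hx : C.π x = 1) : x = 1 := by
  obtain ⟨Φ, hΦ⟩ := phan_up (hq := hq) (hσ := hσ) (hne := hne) (Nat.card_eq_fintype_card.trans hF) h4
    (fun i => (MulAut.conj (ψ (τ i))).toMonoidHom.comp φ) (fun i h => by
      obtain ⟨l, hl⟩ := T i h
      refine ⟨(MulAut.conj (ψ l)).toMonoidHom.comp f, fun u => ?_, fun u => ?_⟩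
      · change ψ l * f _ * _ = ψ _ * φ u * _
        rw [f0]; exact conj_agree ψ (W u) fun j hj => Fin.ext (by rw [hl j (by omega), hτ i (by omega) j hj])
      · change ψ l * f _ * (ψ l)⁻¹ = ψ _ * φ u * _
        rw [f1, ← conj_agree ψ (W u) (k := l * τ 1) (k' := τ (i + 1)) fun j hj => Fin.ext (by
          have := hτ 1 h4 j hj
          rw [Subgroup.coe_mul, Perm.mul_apply, hl _ (by omega), hτ (i + 1) (by omega) j hj]; omega)]
        simp [mul_assoc]) c1 c2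
  replace hΦ : ∀ i h u, Φ (suE hq (sh i h) u) = ψ (τ i) * φ u * (ψ (τ i))⁻¹ := hΦ
  have πΦ : ∀ y, C.π (Φ y) = y := su_gen (hq := hq) (hσ := hσ) (hne := hne) (by omega) (M := (C.π.comp Φ).eqLocus (.id _)) fun k h A => by
    change C.π (Φ _) = _
    rw [hΦ, map_mul, map_mul, map_inv, πψ, πφ]
    exact pmU_suE _ (fun j => Fin.ext (by rw [hτ k h _ (by simp)]; simp)) _
  obtain ⟨y, rfl⟩ : x ∈ Φ.range := C.top (fun j => (hg j).elim (by
    rintro ⟨k, e⟩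
    exact e ▸ gen (Φ.range.comap ψ) (fun i h k z e => ⟨suE hq (sh i h) z, by simp [hΦ, e]⟩) k) (by
    rintro ⟨y, e⟩
    refine e ▸ su_gen (hq := hq) (hσ := hσ) (hne := hne) (by omega) (M := Φ.range.comap f) (fun k h A => ?_) y
    obtain rfl | rfl : k = 0 ∨ k = 1 := by omega
    · exact ⟨suE hq (sh 0 (by omega)) A, by rw [hΦ, f0, W A _ fun j hj => Fin.ext (by simpa using hτ 0 (by omega) j hj)]⟩
    · exact ⟨suE hq (sh 1 h4) A, by rw [hΦ, f1]⟩)) x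
  rw [πΦ] at hx
  rw [hx, map_one]

theorem enf4 (q3 : 3 ≤ q) (hb : ∃ ν : F, σ ν = ν ∧ ν ≠ 0 ∧ ν ≠ 1) {g : κ → G} (ρ : Cfsg.SU 4 F q →* G) {w w' : Cfsg.SU 3 F q → FreeGroup κ}
    (hw : ∀ x, lift g (w x) = ρ (u3 x)) (hw' : ∀ x, lift g (w' x) = ρ (l3 x)) : Enf g (if q = 3 then 4 else 0) fun C =>
      ∀ φ φ' : Cfsg.SU 3 F q →* C.H, (∀ x, C.φ (w x) = φ x) → (∀ x, C.φ (w' x) = φ' x) → (∀ u, φ (l2 u) = φ' (u2 u)) →
      (∀ u v, Commute (φ' (l2 v)) (φ (u2 u))) → ∃ f : Cfsg.SU 4 F q →* C.H, (∀ u, f (u3 u) = φ u) ∧ ∀ u, f (l3 u) = φ' u := by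
  have hF' : Nat.card F = q ^ 2 := Nat.card_eq_fintype_card.trans hF
  split_ifs with h
  swap
  · exact (Enf.triv g).mono le_rfl fun C _ φ φ' _ _ h1 h2 => phan4 (hσ := hσ) (hne := hne) hF' (exists_fix3 hσ hne hF' (by omega) 0 1 2) _ _ h1 h2
  obtain ⟨s, w1, w2⟩ := exists_sw' (hσ := hσ) (hne := hne) (n := 4) (i := 0) (by omega)
  obtain ⟨R, h1, h2⟩ := (frm_iv (i := 0) (j := 3) (by omega) (by omega) w1 w2).exists_R3 hne
  obtain ⟨N, rfl⟩ := ex_iv (hq := hq) (m := 3) (by omega) (by omega) w1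
  choose r1 e1 using fun ε => ex_iv (hq := hq) (m := 3) (i := 1) (by omega) (by omega) (h1 ε).1
  choose r2 e2 using fun ε => ex_iv (hq := hq) (m := 3) (i := 1) (by omega) (by omega) (h1 ε).2.1
  choose r3 e3 using fun ε => ex_iv (hq := hq) (m := 3) (i := 1) (by omega) (by omega) (h1 ε).2.2.1
  choose r4 e4 using fun ε => ex_iv (hq := hq) (m := 3) (i := 1) (by omega) (by omega) (h1 ε).2.2.2.1
  have := Fintype.ofFinite (normOne σ)
  refine (Enf.list Finset.univ.toList (fun ε => w N * w' (r1 ε) * w N) (fun ε => w' (r2 ε) * w N * w' (r3 ε) * w N * w' (r4 ε))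
    fun ε _ => ?_).mono (by simp [← Nat.card_eq_fintype_card, card_normOne_unit hσ hne hF', h]) fun C hC φ φ' p1 p2 a1 a2 => ?_
  · simp only [map_mul, hw, hw']
    simp only [← map_mul]
    refine congrArg ρ ((suEquiv hσ hne hq 4).injective (Subtype.ext ?_))
    have := (h1 ε).2.2.2.2
    rw [← e1, ← e2, ← e3, ← e4] at this
    simp only [map_mul, Subgroup.coe_mul]; exact this
  have D := stp4 φ' φ a1 a2 w1 w2
  obtain ⟨ν, a, b, c⟩ := hb
  obtain ⟨Φ, k1, k2, k3⟩ := D.ext' hne hF' hq ((D.coc hne).q0 hne a b c) (h2 D fun ε => by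
    rw [← e1, ← e2, ← e3, ← e4]; simpa only [pl_jE, map_mul, p1, p2] using hC ε (by simp)) (.inr ⟨ν, a, b, c⟩)
  obtain ⟨f, hf⟩ := exists_push (hq := hq) k1
  exact ⟨f, fun u => by rw [hf, k3 _ (jE_iv _ le_rfl le_rfl u), pl_jE], fun u => by rw [hf, k2 _ (jE_iv _ le_rfl le_rfl u), pl_jE]⟩

theorem su2_gen2 (hq : ∀ x, σ x = x ^ q) : ∃ x y : Cfsg.SU 2 F q, ∀ M : Subgroup (Cfsg.SU 2 F q), x ∈ M → y ∈ M → ∀ u, u ∈ M := by
  obtain ⟨K, hK, hf⟩ := exists_fixF hσ hne (Nat.card_eq_fintype_card.trans hF)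
  obtain ⟨P, e, -, -⟩ := exists_su2 hσ hne hq hF hK hf
  obtain ⟨x, y, h⟩ := gen2_of_surj e.toMonoidHom e.surjective (sl_gen2 2)
  exact ⟨x, y, fun M hx hy u => (closure_le M).2 (by simp [Set.insert_subset_iff, hx, hy]) (h.ge trivial)⟩

omit hF in
theorem exists_fix2 (hF : Fintype.card F = q ^ 2) (q3 : 3 ≤ q) : ∃ ν : F, σ ν = ν ∧ ν ≠ 0 ∧ ν ≠ 1 := by
  obtain ⟨K, hK, hf⟩ := exists_fixF hσ hne (Nat.card_eq_fintype_card.trans hF)
  by_contra! h
  have := Nat.card_le_card_of_injective (β := Bool) (fun x : K => by classical exact decide (x = 0)) fun x y e => by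
    by_cases hx : x = 0
    · simpa [hx, eq_comm] using e
    · have hy : y ≠ 0 := by simpa [hx] using e
      exact Subtype.ext ((h _ ((hf _).1 x.2) (by simpa using hx)).trans (h _ ((hf _).1 y.2) (by simpa using hy)).symm)
  simp at this; omega

include hq in
theorem pres_SU4 (q3 : 3 ≤ q) {mg : ι → Cfsg.SU 3 F q} {r : ℕ} (hr : PrG mg r) (top : closure (Set.range mg) = ⊤) :
    ∃ g : ι ⊕ Unit → Cfsg.SU 4 F q, PrG g (r + 7 + if q = 3 then 4 else 0) ∧ closure (Set.range g) = ⊤ := by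
  have hb := exists_fix2 (hσ := hσ) hne hF q3
  obtain ⟨x, y, gen⟩ := su2_gen2 (hσ := hσ) hne hF hq
  obtain ⟨S, hS⟩ := exists_cyc4 hq
  let g : ι ⊕ Unit → Cfsg.SU 4 F q := Sum.elim (u3 ∘ mg) fun _ => S
  obtain ⟨w, w1, E0⟩ := hr.hom top u3 (g := g) (fun i => of (.inl i)) (by simp [g])
  let s : FreeGroup (ι ⊕ Unit) := of (.inr ())
  have w2 : ∀ z, lift g (s * w z * s⁻¹) = l3 z := fun z => by simp [s, g, ← hS, ← w1]
  have ul : ∀ u, u3 (l2 u) = l3 (u2 u) := fun u => (suE_suE hq (e'' := sh 1 (by omega)) (fun i => by fin_cases i <;> rfl) u).trans (suE_suE hq (fun i => by fin_cases i <;> rfl) u).symm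
  have all : ∀ z, z ∈ (closure {v | ∃ z, v = w z ∨ v = s * w z * s⁻¹}).map (lift g) :=
    su_gen (hq := hq) (hσ := hσ) (hne := hne) (by omega) fun k h A => by
      obtain rfl | rfl : k = 0 ∨ k = 1 := by omega
      exacts [⟨_, subset_closure ⟨A, .inl rfl⟩, w1 A⟩, ⟨_, subset_closure ⟨A, .inr rfl⟩, w2 A⟩]
  obtain ⟨v, v1, v2⟩ := all S
  refine ⟨g, ((((E0.and (Enf.list [x, y] (fun a => w (l2 a)) (fun a => s * w (u2 a) * s⁻¹) fun a _ => by rw [w1, w2, ul])).and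
    (Enf.list ([x, y] ×ˢ [x, y]) (fun a => s * w (l2 a.1) * s⁻¹ * w (u2 a.2)) (fun a => w (u2 a.2) * (s * w (l2 a.1) * s⁻¹)) fun a _ => ?_)).and
    (enf4 (hq := hq) (hσ := hσ) hne hF q3 hb (.id _) w1 w2)).and (Enf.rel s v (by simp [s, g, v2]))).mono (by simp [List.length_product])
    fun C ⟨⟨⟨⟨⟨φ, p1, p2⟩, e1⟩, e2⟩, e3⟩, e4⟩ => ?_, eq_top_iff.2 fun z _ => (all z).elim fun v h => mem_closure_lift.2 ⟨v, h.2⟩⟩
  · rw [map_mul, map_mul (lift g) (w _), w1, w2, suE_suE hq (e'' := sh 2 (by omega)) (fun i => by fin_cases i <;> rfl),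
      suE_suE hq (e'' := sh 0 (by omega)) (fun i => by fin_cases i <;> rfl)]
    exact suE_comm _ _ (fun i j => by simp [Fin.ext_iff]; omega) _ _
  simp only [map_mul, map_inv, p1] at e1 e2
  let φ' := (MulAut.conj (C.φ s)).toMonoidHom.comp φ
  obtain ⟨f, f0, f1⟩ := e3 φ φ' p1 (fun z => by simp [φ', p1]) (gen ((φ.comp l2).eqLocus (φ'.comp u2)) (e1 x (by simp)) (e1 y (by simp)))
    fun u v => by
      have k : ∀ a ∈ [x, y], Commute (φ' (l2 a)) (φ (u2 u)) := fun a ha => (mem_centralizer_singleton_iff.1 (gen ((centralizer {φ' (l2 a)}).comap (φ.comp u2))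
        (mem_centralizer_singleton_iff.2 (e2 (a, x) (List.mem_product.2 ⟨ha, by simp⟩)).symm)
        (mem_centralizer_singleton_iff.2 (e2 (a, y) (List.mem_product.2 ⟨ha, by simp⟩)).symm) u)).symm
      exact mem_centralizer_singleton_iff.1 (gen ((centralizer {φ (u2 u)}).comap (φ'.comp l2))
        (mem_centralizer_singleton_iff.2 (k x (by simp))) (mem_centralizer_singleton_iff.2 (k y (by simp))) v)
  have πf : ∀ z, C.π (f z) = z := su_gen (hq := hq) (hσ := hσ) (hne := hne) (by omega) (M := (C.π.comp f).eqLocus (.id _)) fun k h A => by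
    change C.π (f _) = _
    obtain rfl | rfl : k = 0 ∨ k = 1 := by omega
    · rw [f0, ← p1, C.comp, w1]; rfl
    · rw [f1, show φ' A = C.φ (s * w A * s⁻¹) by simp [φ', p1], C.comp, w2]; rfl
  intro z hz
  obtain ⟨z, rfl⟩ : z ∈ f.range := C.top (fun j => by
    rcases j with j | j
    · exact ⟨_, (f0 _).trans (p2 j).symm⟩
    · refine Set.mem_of_eq_of_mem e4 ((closure_le (K := f.range.comap C.φ)).2 ?_ v1)
      rintro _ ⟨z, rfl | rfl⟩
      exacts [⟨_, (f0 z).trans (p1 z).symm⟩, ⟨_, (f1 z).trans (by simp [φ', p1])⟩]) z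
  rw [πf] at hz
  rw [hz, map_one]

set_option maxHeartbeats 2000000 in
include hq in
theorem pres_SU_alt (hn : 5 ≤ n) (q3 : 3 ≤ q) {mg : ι → Cfsg.SU 3 F q} {r : ℕ} (hr : PrG mg r) (top : closure (Set.range mg) = ⊤)
    {kg : κ → alternatingGroup (Fin n)} {s : ℕ} (hs : PrG kg s) (top' : closure (Set.range kg) = ⊤) (S : List (alternatingGroup (Fin n)))
    (hS : ∀ k ∈ S, ∀ j : Fin n, j.1 < 2 → k.1 j = j)
    (hS' : ∀ k : alternatingGroup (Fin n), (∀ j : Fin n, j.1 < 2 → k.1 j = j) → k ∈ closure {s | s ∈ S}) :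
    ∃ g : ι ⊕ κ → Cfsg.SU n F q, PrG g (r + s + 2 * S.length + 4 + if q = 3 then 4 else 0) ∧ closure (Set.range g) = ⊤ := by
  have hb := exists_fix2 (hσ := hσ) hne hF q3
  obtain ⟨x, y, gen⟩ := su2_gen2 (hσ := hσ) hne hF hq
  have hK : ∀ k ∈ alternatingGroup (Fin n), ((sign k : ℤ) : F) = 1 := fun k hk => by simp [mem_alternatingGroup.1 hk]
  let P := pmU hq _ hK
  let e3 : Fin 3 ↪ Fin n := sh 0 (by omega)
  let g : ι ⊕ κ → Cfsg.SU n F q := Sum.elim (suE hq e3 ∘ mg) (P ∘ kg)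
  obtain ⟨w, w1, E0⟩ := hr.hom top (suE hq e3) (g := g) (fun i => of (.inl i)) (by simp [g])
  obtain ⟨v, v1, E1⟩ := hs.hom top' P (g := g) (fun i => of (.inr i)) (by simp [g])
  have T4 := exists_alt4 hn
  choose! τ hτ using fun i (h : i + 3 ≤ n) => exists_alt_nat (m := 3) (n := n) hn (i + ·) (fun _ _ => by omega) fun _ _ _ _ => by omega
  let c : alternatingGroup (Fin n) := ⟨swap (e3 0) (e3 1) * swap (e3 1) (e3 2), by simp⟩
  have c0 : ∀ j : Fin 2, c.1 (sh 0 (by omega) j) = sh 1 (by omega) j := fun j => by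
    fin_cases j <;> simp [c, e3, swap_apply_def, Fin.ext_iff]
  obtain ⟨z, hz⟩ := exists_suE hq e3 hσ (g := P c) fun k hk k' => by
    rw [pmU_apply, Matrix.one_apply, show c.1 k = k by
      have := fun i (e : k = e3 i) => hk ⟨_, e.symm⟩
      simp only [c, Perm.mul_apply, swap_apply_of_ne_of_ne (this _) (this _)]]
  have su : ∀ u, suE hq e3 (u2 u) = suE hq (sh 0 (by omega)) u := suE_suE hq fun _ => by simp [e3, Fin.ext_iff]
  have zc : ∀ u, z * u2 u * z⁻¹ = l2 u := fun u => suE_inj hq e3 (by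
    rw [map_mul, map_mul, map_inv, hz, su, pmU_suE c c0]; exact (suE_suE hq (fun _ => by simp [e3, Fin.ext_iff]) u).symm)
  let k₀ : alternatingGroup (Fin n) := ⟨swap ⟨0, by omega⟩ ⟨2, by omega⟩ * swap ⟨1, by omega⟩ ⟨3, by omega⟩, by simp [Fin.ext_iff]⟩
  have k1 : ∀ j : Fin n, j.1 < 2 → (k₀.1 j).1 = j + 2 := fun ⟨j, _⟩ hj => by
    obtain rfl | rfl : j = 0 ∨ j = 1 := by dsimp only at hj; omega
    all_goals simp [k₀, swap_apply_def]
  have k2 : k₀ * k₀ = 1 := Subtype.ext (by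
    rw [Subgroup.coe_mul, ← sq, Commute.mul_pow (disjoint_swap_swap (by simp)).commute]; simp [sq])
  have w2 : ∀ (k : alternatingGroup (Fin n)) {m} (e : Fin m ↪ Fin 3) (e' : Fin m ↪ Fin n) u, (∀ j, k.1 (e3 (e j)) = e' j) →
      lift g (v k * w (suE hq e u) * (v k)⁻¹) = suE hq e' u := fun k m e e' u h => by
    rw [map_mul, map_mul, map_inv, v1, w1, suE_suE hq (e'' := e.trans e3) fun _ => rfl, pmU_suE k h]
  have w3 : ∀ i (h : i + 3 ≤ n) u, lift g (v (τ i) * w u * (v (τ i))⁻¹) = suE hq (sh i h) u := fun i h u => by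
    rw [map_mul, map_mul, map_inv, v1, w1, pmU_suE (e' := sh i h) _ fun j => Fin.ext (by rw [hτ i h _ (by simp [e3])]; simp [e3])]
  refine ⟨g, (((((E0.and E1).and (Enf.rel (v c) (w z) (by rw [v1, w1, hz]))).and
    (Enf.list (S ×ˢ [x, y]) (fun a => v a.1 * w (u2 a.2) * (v a.1)⁻¹) (fun a => w (u2 a.2)) fun a ha => ?_)).and
    (Enf.list [(x, x), (x, y), (y, y)] (fun a => w (u2 a.1) * (v k₀ * w (u2 a.2) * (v k₀)⁻¹))
      (fun a => v k₀ * w (u2 a.2) * (v k₀)⁻¹ * w (u2 a.1)) fun a _ => ?_)).and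
    (enf4 (hq := hq) (hσ := hσ) hne hF q3 hb (suE hq (sh 0 (by omega))) (w' := fun x => v (τ 1) * w x * (v (τ 1))⁻¹)
      (fun x => (w1 x).trans (suE_suE hq (fun _ => by simp [e3, Fin.ext_iff]) x).symm)
      fun x => (w3 1 (by omega) x).trans (suE_suE hq (fun _ => by simp [Fin.ext_iff]) x).symm)).mono (by simp [List.length_product]; omega)
    fun C ⟨⟨⟨⟨⟨⟨φ, p1, p2⟩, ψ, p3, p4⟩, e1⟩, e2⟩, e3'⟩, e4⟩ => ?_, eq_top_iff.2 fun y _ =>
      su_gen (hq := hq) (hσ := hσ) (hne := hne) (by omega) (fun k h A => mem_closure_lift.2 ⟨_, w3 k h A⟩) y⟩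
  · rw [w1, su]; exact w2 _ _ _ _ fun j => (hS _ (List.mem_product.1 ha).1 _ (by simpa [e3] using j.2)).trans (by simp [e3, Fin.ext_iff])
  · rw [map_mul, map_mul _ _ (w _), w1, su, w2 k₀ _ (sh 2 (by omega)) _ fun j => Fin.ext (by rw [k1 _ (by simpa [e3] using j.2)]; simp [e3]; omega)]
    exact suE_comm _ _ (fun i j => by simp [Fin.ext_iff]; omega) _ _
  simp only [map_mul, map_inv, p1, p3] at e1 e2 e3'
  have W2 : ∀ u (k : alternatingGroup (Fin n)), (∀ j : Fin n, j.1 < 2 → k.1 j = j) → ψ k * φ (u2 u) * (ψ k)⁻¹ = φ (u2 u) := fun u k hk =>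
    fix_of_closure ψ (y := φ (u2 u)) (fun s hs => gen (((MulAut.conj (ψ s)).toMonoidHom.comp (φ.comp u2)).eqLocus (φ.comp u2)) (e2 (s, x) (by simp [hs]))
      (e2 (s, y) (by simp [hs])) u) (hS' k hk)
  have L : ∀ k u, ψ k * φ (l2 u) * (ψ k)⁻¹ = ψ (k * c) * φ (u2 u) * (ψ (k * c))⁻¹ := fun k u => by simp [← zc, e1, mul_assoc]
  have c' : ∀ j : Fin n, j.1 < 2 → (c.1 j).1 = j + 1 := fun j hj => by
    have := congrArg Fin.val (c0 ⟨j, hj⟩)
    rw [show (sh 0 (by omega) : Fin 2 ↪ Fin n) ⟨j, hj⟩ = j from Fin.ext (by simp)] at this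
    simpa [add_comm] using this
  have W : ∀ x (k : alternatingGroup (Fin n)), (∀ j : Fin n, j.1 < 3 → k.1 j = j) → ψ k * φ x * (ψ k)⁻¹ = φ x := fun x k hk =>
    su3_gen (hq := hq) (hσ := hσ) (hne := hne) hb (M := ((MulAut.conj (ψ k)).toMonoidHom.comp φ).eqLocus φ)
      (fun u => W2 u k fun j hj => hk j (by omega)) (fun u => (L k u).trans (.trans (conj_agree ψ (W2 u) fun j hj => by
        simp [hk _ (by rw [c' j hj]; omega)]) ((L 1 u).symm.trans (by simp)))) x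
  have B : ∀ u u', Commute (φ (u2 u)) (ψ k₀ * φ (u2 u') * (ψ k₀)⁻¹) := fun u u' => by
    have h1 : Commute (φ (u2 y)) (ψ k₀ * φ (u2 x) * (ψ k₀)⁻¹) := by
      have := (show Commute _ _ from e3' (x, y) (by simp)).map (MulAut.conj (ψ k₀))
      simp only [MulAut.conj_apply, ← mul_assoc, ← map_mul, k2, map_one, one_mul] at this
      rw [mul_assoc (φ _), ← _root_.mul_inv_rev, ← map_mul, k2, map_one, inv_one, mul_one] at this
      exact this.symm
    have k : ∀ a ∈ [x, y], Commute (φ (u2 a)) (ψ k₀ * φ (u2 u') * (ψ k₀)⁻¹) := fun a ha => (mem_centralizer_singleton_iff.1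
      (gen ((centralizer {φ (u2 a)}).comap ((MulAut.conj (ψ k₀)).toMonoidHom.comp (φ.comp u2))) (mem_centralizer_singleton_iff.2 (by
        rcases List.mem_pair.1 ha with rfl | rfl; exacts [(e3' (_, _) (by simp)).symm, h1.symm])) (mem_centralizer_singleton_iff.2 (by
        rcases List.mem_pair.1 ha with rfl | rfl <;> exact (e3' (_, _) (by simp)).symm)) u')).symm
    exact mem_centralizer_singleton_iff.1 (gen ((centralizer {_}).comap (φ.comp u2)) (mem_centralizer_singleton_iff.2 (k x (by simp)))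
      (mem_centralizer_singleton_iff.2 (k y (by simp))) u)
  have CC : ∀ i j, i + 2 ≤ j → j + 2 ≤ n → ∀ k k' : alternatingGroup (Fin n), (∀ a : Fin n, a.1 < 2 → (k.1 a).1 = i + a) →
      (∀ a : Fin n, a.1 < 2 → (k'.1 a).1 = j + a) → ∀ u u', Commute (ψ k' * φ (u2 u') * (ψ k')⁻¹) (ψ k * φ (u2 u) * (ψ k)⁻¹) := by
    intro i j h1 h2 k k' a1 a2 u u'
    obtain ⟨l, hl⟩ := T4 i j h1 h2
    rw [conj_agree ψ (W2 u) (k' := l) fun a ha => Fin.ext (by rw [a1 a ha, hl a (by omega), if_pos ha]),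
      conj_agree ψ (W2 u') (k' := l * k₀) fun a ha => Fin.ext (by
        have := k1 a ha
        rw [a2 a ha, Subgroup.coe_mul, Perm.mul_apply, hl _ (by omega), if_neg (by omega)]; omega)]
    simpa [mul_assoc] using (B u u').symm.map (MulAut.conj (ψ l))
  have tc : ∀ i, i + 3 ≤ n → ∀ a : Fin n, a.1 < 2 → ((τ i * c).1 a).1 = i + 1 + a := fun i h a ha => by
    have := c' a ha
    rw [Subgroup.coe_mul, Perm.mul_apply, hτ i h _ (by omega)]; omega
  obtain ⟨f, f0, f1⟩ := e4 φ ((MulAut.conj (ψ (τ 1))).toMonoidHom.comp φ) p1 (fun x => by simp [p1, p3])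
    (fun u => .trans (by simpa using L 1 u) (conj_agree ψ (W2 u) (k := c) fun j hj => Fin.ext (by
      rw [c' j hj, hτ 1 (by omega) j (by omega), add_comm]))) fun u u' => by
    have := CC 0 2 le_rfl (by omega) 1 (τ 1 * c) (by simp) (tc 1 (by omega)) u u'
    rwa [← L, map_one, one_mul, inv_one, mul_one] at this
  refine su_fin (hσ := hσ) hne hF (by omega) C ψ φ f (fun k => by rw [← p3, C.comp, v1]) (fun x => by rw [← p1, C.comp, w1]) W τ hτ
    (fun i h => (T4 i (i + 2) le_rfl h).imp fun l hl j hj => by rw [hl j hj]; split_ifs <;> omega) f0 f1 (fun i j h1 h2 u x => ?_) (.inl hb)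
    (fun M hM k => ?_) fun j => ?_
  · refine mem_centralizer_singleton_iff.1 (su3_gen (hq := hq) (hσ := hσ) (hne := hne) hb
      (M := (centralizer {_}).comap ((MulAut.conj (ψ (τ j))).toMonoidHom.comp φ)) (fun u' => mem_centralizer_singleton_iff.2 ?_)
      (fun u' => mem_centralizer_singleton_iff.2 ?_) x)
    · exact CC i j h1 (by omega) _ _ (fun a ha => hτ i (by omega) a (by omega)) (fun a ha => hτ j h2 a (by omega)) u u'
    · have := CC i (j + 1) (by omega) (by omega) _ _ (fun a ha => hτ i (by omega) a (by omega)) (tc j h2) u u'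
      rw [← L] at this; exact this
  · obtain ⟨n, rfl⟩ : ∃ m, n = m + 2 := ⟨n - 2, by omega⟩
    refine (mem_map_iff_mem (subtype_injective _)).1 (alt_consec (M := M.map (Subgroup.subtype _)) (fun i j e => ⟨_, hM i (by omega) c z e1, ?_⟩) _ k.2)
    have t := fun a : Fin 3 => hτ i (by omega) (e3 a) (by simp [e3])
    rw [show i.castSucc = (τ i).1 (e3 0) from Fin.ext (by simp [t, e3]), show j.castSucc = (τ i).1 (e3 1) from Fin.ext (by simp [t, e3, e]),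
      show i.succ = (τ i).1 (e3 1) from Fin.ext (by simp [t, e3]), show j.succ = (τ i).1 (e3 2) from Fin.ext (by simp [t, e3, e]),
      swap_apply_apply, swap_apply_apply]
    simp [c, mul_assoc]
  · rcases j with j | j
    exacts [.inr ⟨_, (f0 _).trans (p2 j).symm⟩, .inl ⟨_, (p4 j).symm⟩]

end H11
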