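import Cfsg.Agent.H11.SUP2

/-! Bounded presentations of `SU_n(q)`: `exists_pres_SU3'`, `pres_SU_two`, `exists_pres_SU`. -/

set_option autoImplicit false

namespace H11
open Subgroup Module PForm Equiv Equiv.Perm
open FreeGroup (of lift)
open scoped MatrixGroups
variable {F : Type*} [Field F] {G H : Type*} [Group G] [Group H] {m n q : ℕ} {σ : F →+* F} {hq : ∀ x, σ x = x ^ q} {ι κ : Type}
  {hσ : ∀ a, σ (σ a) = a}
local notation "u2" => suE hq (sh 0 (by omega) : Fin 2 ↪ Fin 3)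
local notation "l2" => suE hq (sh 1 (by omega) : Fin 2 ↪ Fin 3)
local notation "u3" => suE hq (sh 0 (by omega) : Fin 3 ↪ Fin 4)
local notation "l3" => suE hq (sh 1 (by omega) : Fin 3 ↪ Fin 4)

theorem PForm.Nondeg.pres_SU3_three {V : Type*} [AddCommGroup V] [Module F V] [FiniteDimensional F V] [Finite F] {S : PForm (unitP σ hσ) V}
    (hne : σ ≠ RingHom.id F) (hS : S.Nondeg) (h3 : finrank F V = 3) (hF : Nat.card F = 3 ^ 2)
    (hq : ∀ x, σ x = x ^ 3) : ∃ g : Fin 3 → S.SIsom, PrG g 16 ∧ closure (Set.range g) = ⊤ := by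
  obtain ⟨e, f, w, c, ζ, Hy, h, U, top⟩ := hS.exists_U3 hne h3
  obtain ⟨θ, hθ⟩ := exists_trace_one hσ hne
  obtain ⟨a1, a2, a3, a4, a5⟩ := U.heis
  have z0 : σ ζ ≠ 0 := by simp
  set ξ : F := σ ζ * (σ ζ / ζ) with hξ
  have ξ0 : ξ ≠ 0 := by simp [hξ]
  have ξ3 : ξ ^ (2 * 3 + 1) = ζ ^ 3 := by
    rw [pow_succ, mul_comm 2, pow_mul, ← hq, hξ]; simp only [map_mul, map_div₀, hσ]; field_simp
  have hB : PrG ![U.X 1 θ, U.h', U.k'] 12 ∧ closure (Set.range ![U.X 1 θ, U.h', U.k']) = ⊤ := by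
    have hl := gen_rho hF hq U.hζ (m := 3) (.inr ⟨rfl, by omega, by omega, by omega⟩)
    have pq : ∀ x : F, x ≠ 0 → x ^ (3 - 1) = σ x / x := fun x h => by
      rw [eq_div_iff h, ← pow_succ, hq]
    obtain ⟨ρ, hρ⟩ : ∃ ρ : F, ρ = ζ / σ ζ := ⟨_, rfl⟩
    rw [← hρ] at hl
    have ρ0 : ρ ≠ 0 := by simp [hρ]
    have ρ1 : σ ρ = ρ⁻¹ := by rw [hρ, map_div₀, hσ, inv_div]
    have h1 : 1 + ρ ^ 3 ≠ 0 := fun h => hl.ne hne (by rw [eq_neg_of_add_eq_zero_right h]; simp)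
    obtain ⟨j, hj⟩ := U.prim ((1 + ρ ^ 3) / ρ ^ 2) (by simp [h1, ρ0])
    refine pres_heis_big hσ hne U.hs hθ U.act_h U.act_k U.hμ ξ0 (U.norm_gen hne) a1 a2 a3 (orderOf_pos _) (orderOf_pos _) a4 a5
      (l₁ := 3 - 1) (l₂ := 0) (j₁ := j) (j₂ := 0) ?_ hl (.inr (by simp)) ?_ ?_
    · rw [pq _ ξ0, hρ, hξ]; simp only [map_mul, map_div₀, hσ]; field_simp
    · rw [pq _ (by simp [ξ0]), map_mul, hσ, mul_comm, div_self (by simp [ξ0])]
    · rw [mul_pow, div_pow, ← map_pow, hj]; simp only [map_div₀, map_add, map_pow, map_one, ρ1]; field_simp; ring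
  obtain ⟨h1, h2⟩ := U.pres hne (top ▸ Opp.of_big (unit_big hne hF le_rfl) (by
      rw [restrict_nondeg_iff, hS.perp_top]; exact disjoint_bot_right)) hB
    (g := S.SIsom.subtype ∘ ![⟨_, U.hE 1 θ⟩, ⟨h, U.hh⟩, ⟨_, U.hn⟩]) (u := of 0) (s := of 1) (v := 1) (t := of 2) (by simp) (by simp)
    (by simp) (by simp) (fun j => by fin_cases j <;> simp) ((Enf.triv _).mono le_rfl (by simp)) [1] fun α h => by
      obtain ⟨i, rfl⟩ := U.prim α h
      refine ⟨1, by simp, (2 * 3 + 1) * (3 * i), 0, ?_⟩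
      rw [pow_mul, ξ3, pow_mul, ← hq, ← hq, hσ, pow_zero, mul_one, mul_one]
  exact ⟨_, (PrG.comp_iff _ (subtype_injective _)).1 h1, closure_range_sub h2⟩

theorem exists_pres_SU3' [Fintype F] {q : ℕ} (hF : Fintype.card F = q ^ 2) (h2 : q ≠ 2) :
    ∃ (g : Fin 3 → Cfsg.SU 3 F q) (r : ℕ), PrG g r ∧ closure (Set.range g) = ⊤ ∧ (r + if q = 3 then 4 else 0) ≤ 23 := by
  split_ifs with h
  · subst h
    obtain ⟨σ, hq, hσ, hne⟩ := exists_frob hF
    obtain ⟨g, h⟩ := (stdUnit_nondeg hσ hne (Fin 3)).pres_SU3_three hne (by simp) (by rwa [Nat.card_eq_fintype_card]) hq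
    exact ⟨_, 16, (PrG.equivU (suEquiv hσ hne hq 3).symm h).1, (PrG.equivU (suEquiv hσ hne hq 3).symm h).2, by omega⟩
  · obtain ⟨g, h⟩ := exists_pres_SU3 hF h2
    exact ⟨g, 23, h.1, h.2, le_rfl⟩

theorem alt_stab2 (hn : 5 ≤ n) : ∃ S : List (alternatingGroup (Fin n)), S.length ≤ (if n = 5 then 1 else 2) ∧
    (∀ k ∈ S, ∀ j : Fin n, j.1 < 2 → k.1 j = j) ∧
    ∀ k : alternatingGroup (Fin n), (∀ j : Fin n, j.1 < 2 → k.1 j = j) → k ∈ closure {s | s ∈ S} := by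
  split_ifs with h
  · subst h
    refine ⟨[⟨swap 2 3 * swap 3 4, mem_alternatingGroup.2 (by decide)⟩], le_rfl, by decide, fun k hk => mem_closure_sub ?_⟩
    have : ∀ k : Perm (Fin 5), sign k = 1 → (∀ j : Fin 5, j.1 < 2 → k j = j) → ∃ i : Fin 3, k = (swap 2 3 * swap 3 4) ^ i.1 := by decide +kernel
    obtain ⟨i, hi⟩ := this k.1 k.2 hk
    rw [hi]; exact pow_mem (subset_closure (by simp)) _
  obtain ⟨k, rfl⟩ : ∃ k, n = k + 5 := ⟨n - 5, by omega⟩
  have m : ∀ i < k + 1, (Fin.ofNat (k + 5) (i + 4)).1 = i + 4 := fun i hi => Nat.mod_eq_of_lt (by omega)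
  have P : Pts (⟨2, by omega⟩ : Fin (k + 5)) ⟨3, by omega⟩ (fun i => Fin.ofNat _ (i + 4)) (k + 1) :=
    ⟨by simp, fun i hi => by simp only [Fin.ne_iff_vne, m i hi]; omega, fun i hi => by simp only [Fin.ne_iff_vne, m i hi]; omega,
      fun i hi j hj => by simp only [Fin.ext_iff, m i hi, m j hj]; omega⟩
  obtain ⟨y, y1, y2, y3⟩ := P.stab_gen
  refine ⟨[⟨_, sign_cy P.ab (P.a 0 (by omega))⟩, ⟨y, y1⟩], le_rfl, fun s hs j hj => ?_, fun s hs => mem_closure_sub ?_⟩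
  · have a : j ≠ ⟨2, by omega⟩ := by simp only [Fin.ne_iff_vne]; omega
    have b : j ≠ ⟨3, by omega⟩ := by simp only [Fin.ne_iff_vne]; omega
    have c : ∀ i < k + 1, Fin.ofNat _ (i + 4) ≠ j := by rintro i hi rfl; rw [m i hi] at hj; omega
    rcases List.mem_pair.1 hs with rfl | rfl
    · simp only [cy_apply _ _ _ _ P.ab (P.a 0 (by omega)) (P.b 0 (by omega)), if_neg a, if_neg b, if_neg (c 0 (by omega)).symm]
    · exact y2 j a b c
  · refine closure_mono (by simp [Set.insert_subset_iff]) (y3 _ s.2 fun t a b c => hs t (not_le.1 fun h => ?_))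
    have : t.1 ≠ 2 := fun e => a (Fin.ext e)
    have : t.1 ≠ 3 := fun e => b (Fin.ext e)
    exact c (t - 4) (by omega) (Fin.ext (by rw [m _ (by omega)]; omega))

/-- inclusion into `⊤` -/
def toTop : G →* (⊤ : Subgroup G) := (MonoidHom.id G).codRestrict ⊤ fun _ => trivial

theorem top_stab (m : ℕ) : ∃ S : List (⊤ : Subgroup (Perm (Fin n))), S.length = 2 ∧ (∀ s ∈ S, ∀ j : Fin n, j.1 < m → s.1 j = j) ∧
    ∀ k : (⊤ : Subgroup (Perm (Fin n))), (∀ j : Fin n, j.1 < m → k.1 j = j) → k ∈ closure {s | s ∈ S} := by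
  obtain ⟨S, h1, h2, h3⟩ := perm_stab_gen fun j : Fin n => ¬ j.1 < m
  exact ⟨S.map (⟨·, trivial⟩), by simp [h1], by simpa using h2, fun k hk => mem_closure_sub (Subgroup.closure_mono
    (fun s hs => by exact ⟨⟨s, trivial⟩, List.mem_map.2 ⟨s, hs, rfl⟩, rfl⟩) (h3 k.1 (by simpa using hk)))⟩

theorem via_swap {α β : Type*} [DecidableEq α] [DecidableEq β] (e : α ↪ β) (a b : α) : (swap a b).viaEmbedding e = swap (e a) (e b) := by
  ext x
  by_cases h : x ∈ Set.range e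
  · obtain ⟨x, rfl⟩ := h
    rw [viaEmbedding_apply, e.swap_apply]
  · rw [viaEmbedding_apply_of_notMem _ _ _ h, swap_apply_of_ne_of_ne] <;> exact fun e' => h ⟨_, e'.symm⟩

theorem fix_gen2 {A K : Type*} [Group A] [Group K] (ψ : K →* H) (θ : A →* H) {a b : A} (gen : ∀ M : Subgroup A, a ∈ M → b ∈ M → ∀ u, u ∈ M)
    {S : List K} (h : ∀ s ∈ S ×ˢ [a, b], ψ s.1 * θ s.2 * (ψ s.1)⁻¹ = θ s.2) (u) {k} (hk : k ∈ closure {s | s ∈ S}) :
    ψ k * θ u * (ψ k)⁻¹ = θ u :=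
  fix_of_closure ψ (y := θ u) (fun s hs => gen (((MulAut.conj (ψ s)).toMonoidHom.comp θ).eqLocus θ) (h (s, a) (by simp [hs]))
    (h (s, b) (by simp [hs])) u) hk

theorem comm_gen2 {A B : Type*} [Group A] [Group B] (θ : A →* H) (θ' : B →* H) {a b : A} {c d : B}
    (gen : ∀ M : Subgroup A, a ∈ M → b ∈ M → ∀ u, u ∈ M) (gen' : ∀ M : Subgroup B, c ∈ M → d ∈ M → ∀ u, u ∈ M)
    (h : ∀ s ∈ [a, b] ×ˢ [c, d], θ s.1 * θ' s.2 = θ' s.2 * θ s.1) (u v) : Commute (θ u) (θ' v) := by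
  have k : ∀ x ∈ [a, b], θ x * θ' v = θ' v * θ x := fun x hx => (mem_centralizer_singleton_iff.1 (gen' ((centralizer {θ x}).comap θ')
    (mem_centralizer_singleton_iff.2 (h (x, c) (List.mem_product.2 ⟨hx, by simp⟩)).symm)
    (mem_centralizer_singleton_iff.2 (h (x, d) (List.mem_product.2 ⟨hx, by simp⟩)).symm) v)).symm
  exact mem_centralizer_singleton_iff.1 (gen ((centralizer {θ' v}).comap θ) (mem_centralizer_singleton_iff.2 (k a (by simp)))
    (mem_centralizer_singleton_iff.2 (k b (by simp))) u)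

open H28 in
theorem su3_two_gen2 : ∃ a b : Cfsg.SU 3 K4 2, ∀ M : Subgroup (Cfsg.SU 3 K4 2), a ∈ M → b ∈ M → ∀ u, u ∈ M := by
  let a : Cfsg.SU 3 K4 2 := ⟨⟨!![.i, .v, .v; .w, .w, .v; .w, .v, .w], by decide +kernel⟩, (H19.Iso.mem_SU fr_sq).2 (by decide +kernel)⟩
  let b : Cfsg.SU 3 K4 2 := ⟨⟨!![.v, .w, .i; .w, .v, .i; .i, .i, .i], by decide +kernel⟩, (H19.Iso.mem_SU fr_sq).2 (by decide +kernel)⟩
  refine ⟨a, b, fun M ha hb => su3_gen4 (hq := fr_sq) (hσ := fr_fr) rfl rfl (ω := .w) rfl (by decide) (fun p => perm_adj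
    (M := (M.comap (pmU fr_sq ⊤ (sign_two (two_eq_zero4 (q := 2) rfl rfl)))).comap toTop) (fun i => ?_) p.1)
    ?_ fun s hs => ?_⟩
  · refine mem_comap.2 <| mem_comap.2 <| Set.mem_of_eq_of_mem (y := ![b * b, a * a] i) (Subtype.ext (Subtype.ext (Matrix.ext fun j k => ?_))) (by
      fin_cases i; exacts [mul_mem hb hb, mul_mem ha ha])
    rw [pmU_apply]
    fin_cases i <;> fin_cases j <;> fin_cases k <;> decide +kernel
  · refine Set.mem_of_eq_of_mem (Subtype.ext (Subtype.ext ?_)) (mul_mem (mul_mem hb ha) (mul_mem ha hb))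
    rw [coe_suE, eM_up]; decide +kernel
  · cases s
    · exact (hs rfl).elim
    · exact ⟨b, hb, by decide +kernel⟩
    · exact ⟨_, mul_mem (mul_mem ha ha) (mul_mem hb ha), by decide +kernel⟩
    · exact ⟨_, mul_mem (mul_mem hb ha) hb, by decide +kernel⟩

section
variable [Fintype F] (hne : σ ≠ RingHom.id F) (hF : Fintype.card F = q ^ 2)
include hσ hne hF

set_option maxHeartbeats 2000000 in
include hq in
theorem pres_SU_two (hn : 5 ≤ n) (h2 : (2 : F) = 0) {a b : Cfsg.SU 3 F q} (gen3 : ∀ M : Subgroup (Cfsg.SU 3 F q), a ∈ M → b ∈ M → ∀ u, u ∈ M)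
    {mg : ι → Cfsg.SU 4 F q} {r : ℕ} (hr : PrG mg r) (top : closure (Set.range mg) = ⊤) :
    ∃ g : ι ⊕ Fin 2 → Cfsg.SU n F q, PrG g (r + 23 + if 6 ≤ n then 4 else 0) ∧ closure (Set.range g) = ⊤ := by
  obtain ⟨x, y, gen⟩ := su2_gen2 (hσ := hσ) hne hF hq
  obtain ⟨kg, hs, top'⟩ := PrG.equiv Subgroup.topEquiv.symm (perm_gen2 (Fin n))
  obtain ⟨S, s1, s2, s3⟩ := top_stab (n := n) 3
  obtain ⟨S', t1, t2, t3⟩ := top_stab (n := n) 2
  let P := pmU hq ⊤ (sign_two (n := n) h2)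
  let P4 := pmU hq ⊤ (sign_two (n := 4) h2)
  let P3 := pmU hq ⊤ (sign_two (n := 3) h2)
  let e4 : Fin 4 ↪ Fin n := sh 0 (by omega)
  let g : ι ⊕ Fin 2 → Cfsg.SU n F q := Sum.elim (suE hq e4 ∘ mg) (P ∘ kg)
  obtain ⟨w, w1, E0⟩ := hr.hom top (suE hq e4) (g := g) (fun i => of (.inl i)) (by simp [g])
  obtain ⟨v, v1, E1⟩ := hs.hom top' P (g := g) (fun i => of (.inr i)) (by simp [g])
  have ex : ∀ m ≤ n, ∀ g : ℕ → ℕ, (∀ j < m, g j < n) → (∀ i < m, ∀ j < m, g i = g j → i = j) →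
      ∃ k : (⊤ : Subgroup (Perm (Fin n))), ∀ j : Fin n, j.1 < m → (k.1 j).1 = g j := fun m hm g h1 h2 =>
    (exists_perm_nat hm g h1 h2).elim fun k hk => ⟨⟨k, trivial⟩, hk⟩
  choose! τ hτ using fun i (h : i + 3 ≤ n) => ex 3 (by omega) (i + ·) (fun _ _ => by omega) fun _ _ _ _ => by omega
  have su : ∀ u, suE hq e4 (u3 u) = suE hq (sh 0 (by omega)) u := suE_suE hq fun _ => by simp [e4, Fin.ext_iff]
  have su' : ∀ u, suE hq (sh 0 (by omega) : Fin 3 ↪ Fin n) (u2 u) = suE hq (sh 0 (by omega)) u := suE_suE hq fun _ => by simp [Fin.ext_iff]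
  have w3 : ∀ i (h : i + 3 ≤ n) u, lift g (v (τ i) * w (u3 u) * (v (τ i))⁻¹) = suE hq (sh i h) u := fun i h u => by
    rw [map_mul, map_mul, map_inv, v1, w1, su, pmU_suE (e' := sh i h) _ fun j => Fin.ext (by rw [hτ i h _ (by simp)]; simp)]
  refine ⟨g, ((((((E0.and E1).and
    (Enf.list (List.finRange 3) (fun i => v ⟨(swap i.castSucc i.succ).viaEmbedding e4, trivial⟩) (fun i => w (P4 ⟨swap i.castSucc i.succ, trivial⟩))
      fun i _ => by rw [v1, w1]; exact (pmU_via _ _ _ rfl).symm)).and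
    (Enf.list (S ×ˢ [a, b]) (fun s => v s.1 * w (u3 s.2) * (v s.1)⁻¹) (fun s => w (u3 s.2)) fun s hs => ?_)).and
    (Enf.list (S' ×ˢ [x, y]) (fun s => v s.1 * w (u3 (u2 s.2)) * (v s.1)⁻¹) (fun s => w (u3 (u2 s.2))) fun s hs => ?_)).and
    (Enf.list ([x, y] ×ˢ [a, b]) (fun s => w (u3 (u2 s.1)) * (v (τ 2) * w (u3 s.2) * (v (τ 2))⁻¹))
      (fun s => v (τ 2) * w (u3 s.2) * (v (τ 2))⁻¹ * w (u3 (u2 s.1))) fun s _ => ?_)).and
    (Enf.list (if 6 ≤ n then [a, b] ×ˢ [a, b] else []) (fun s => w (u3 s.1) * (v (τ 3) * w (u3 s.2) * (v (τ 3))⁻¹))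
      (fun s => v (τ 3) * w (u3 s.2) * (v (τ 3))⁻¹ * w (u3 s.1)) fun s hs => ?_)).mono
    (by split_ifs <;> simp [List.length_product, s1, t1] <;> omega)
    fun C ⟨⟨⟨⟨⟨⟨⟨f, p1, p2⟩, ψ, p3, p4⟩, a1⟩, a2⟩, a3⟩, a4⟩, a5⟩ => ?_, eq_top_iff.2 fun y _ =>
      su_gen (hq := hq) (hσ := hσ) (hne := hne) (by omega) (fun k h A => mem_closure_lift.2 ⟨_, w3 k h A⟩) y⟩
  · rw [map_mul, map_mul, map_inv, v1, w1, su, pmU_suE _ fun j => s2 _ (List.mem_product.1 hs).1 _ (by simp)]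
  · rw [map_mul, map_mul, map_inv, v1, w1, su, su', pmU_suE _ fun j => t2 _ (List.mem_product.1 hs).1 _ (by simpa using j.2)]
  · rw [map_mul, map_mul _ _ (w _), w1, su, su', w3 2 (by omega)]
    exact suE_comm _ _ (fun i j => by simp [Fin.ext_iff]; omega) _ _
  · have h6 : 6 ≤ n := by by_contra h; simp [h] at hs
    rw [map_mul, map_mul _ _ (w _), w1, su, w3 3 h6]
    exact suE_comm _ _ (fun i j => by simp [Fin.ext_iff]; omega) _ _
  simp only [map_mul, map_inv, p1, p3] at a1 a2 a3 a4 a5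
  let φ := f.comp u3
  have W := fun u k hk => fix_gen2 ψ φ gen3 a2 u (s3 k hk)
  have W2 := fun u k hk => fix_gen2 ψ (φ.comp u2) gen a3 u (t3 k hk)
  have B := comm_gen2 (φ.comp u2) ((MulAut.conj (ψ (τ 2))).toMonoidHom.comp φ) gen gen3 a4
  have G4 : ∀ p : Perm (Fin 4), ψ ⟨p.viaEmbedding e4, trivial⟩ = f (P4 ⟨p, trivial⟩) := perm_adj
    (M := (ψ.comp (toTop.comp (viaEmbeddingHom e4))).eqLocus (f.comp (P4.comp toTop)))
    fun i => a1 i (by simp)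
  let e3 : Fin 3 ↪ Fin n := sh 0 (by omega)
  have G3 : ∀ i j : Fin 3, ψ ⟨swap (e3 i) (e3 j), trivial⟩ = φ (P3 ⟨swap i j, trivial⟩) := fun i j => by
    have := G4 ((swap i j).viaEmbedding (sh 0 (by omega)))
    rw [← pmU_via (hK' := sign_two h2) (sh 0 (by omega)) ⟨swap i j, trivial⟩ _ rfl] at this
    refine .trans (congrArg ψ (Subtype.ext ?_)) this
    simp only [via_swap]; congr 1 <;> simp [e3, e4, Fin.ext_iff]
  let c : (⊤ : Subgroup (Perm (Fin n))) := ⟨swap (e3 0) (e3 1), trivial⟩ * ⟨swap (e3 1) (e3 2), trivial⟩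
  have c' : ∀ j : Fin n, j.1 < 2 → (c.1 j).1 = j + 1 := fun ⟨j, _⟩ hj => by
    obtain rfl | rfl : j = 0 ∨ j = 1 := by dsimp only at hj; omega
    all_goals simp [c, e3, swap_apply_def, Fin.ext_iff]
  have L : ∀ k u, ψ k * φ (l2 u) * (ψ k)⁻¹ = ψ (k * c) * φ (u2 u) * (ψ (k * c))⁻¹ := fun k u => by
    rw [← pmU_suE (hK := sign_two h2) (⟨swap 0 1, trivial⟩ * ⟨swap 1 2, trivial⟩) (e := sh 0 (by omega)) (fun j => by fin_cases j <;> rfl)]
    simp only [c, map_mul, map_inv, G3, _root_.mul_inv_rev, mul_assoc, P3]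
  have CC : ∀ i j, i + 2 ≤ j ∨ j + 3 ≤ i → i + 2 ≤ n → j + 3 ≤ n → ∀ k : (⊤ : Subgroup (Perm (Fin n))), (∀ a : Fin n, a.1 < 2 → (k.1 a).1 = i + a) →
      ∀ u u', Commute (ψ (τ j) * φ u' * (ψ (τ j))⁻¹) (ψ k * φ (u2 u) * (ψ k)⁻¹) := by
    intro i j h1 h2 h3 k hk u u'
    obtain ⟨l, hl⟩ := ex 5 hn (fun a => if a < 2 then i + a else j + a - 2) (fun a _ => by split_ifs <;> omega)
      fun a _ b _ => by split_ifs <;> omega
    rw [show ψ k * φ (u2 u) * (ψ k)⁻¹ = _ from conj_agree ψ (W2 u) (k' := l) fun a ha => Fin.ext (by rw [hk a ha, hl a (by omega), if_pos ha]),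
      conj_agree ψ (W u') (k' := l * τ 2) fun a ha => Fin.ext (by
        have := hτ 2 hn a ha
        rw [hτ j h3 a ha, Subgroup.coe_mul, Perm.mul_apply, hl _ (by omega), if_neg (by omega)]; omega)]
    simpa [mul_assoc] using (B u u').symm.map (MulAut.conj (ψ l))
  refine su_fin (hσ := hσ) hne hF (by omega) C ψ φ f (fun k => by rw [← p3, C.comp, v1])
    (fun x => by rw [← su, ← w1, ← C.comp, p1]; rfl) W τ hτ
    (fun i h => ex 4 (by omega) (i + ·) (fun _ _ => by omega) fun _ _ _ _ => by omega) (fun _ => rfl) (fun u => ?_)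
    (fun i j h1 h2 u x => CC i j (.inl h1) (by omega) h2 _ (fun a ha => hτ i (by omega) a (by omega)) u x)
    (.inr ⟨fun i j h1 h2 u u' => ?_, fun i h u u' => ?_⟩) (fun M hM k => ?_) fun j => ?_
  · rw [← pmU_suE (hK := sign_two h2) ⟨finRotate 4, trivial⟩ (e := sh 0 (by omega)) (fun j => by fin_cases j <;> rfl), map_mul, map_mul, map_inv, ← G4]
    refine conj_agree ψ (W u) fun j hj => Fin.ext ?_
    rw [hτ 1 (by omega) j hj, show j = e4 ⟨j, by omega⟩ from Fin.ext (by simp [e4])]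
    dsimp only
    rw [viaEmbedding_apply]
    obtain ⟨j, _⟩ := j
    obtain rfl | rfl | rfl : j = 0 ∨ j = 1 ∨ j = 2 := by dsimp only at hj; omega
    all_goals rfl
  · have h6 : 6 ≤ n := by omega
    have B' := comm_gen2 φ ((MulAut.conj (ψ (τ 3))).toMonoidHom.comp φ) gen3 gen3 (by rw [if_pos h6] at a5; exact a5) u u'
    obtain ⟨l, hl⟩ := ex 6 h6 (fun a => if a < 3 then i + a else j + a - 3) (fun a _ => by split_ifs <;> omega)
      fun a _ b _ => by split_ifs <;> omega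
    rw [conj_agree ψ (W u) (k' := l) fun a ha => Fin.ext (by rw [hτ i (by omega) a ha, hl a (by omega), if_pos ha]),
      conj_agree ψ (W u') (k' := l * τ 3) fun a ha => Fin.ext (by
        have := hτ 3 h6 a ha
        rw [hτ j h2 a ha, Subgroup.coe_mul, Perm.mul_apply, hl _ (by omega), if_neg (by omega)]; omega)]
    simpa [mul_assoc] using B'.symm.map (MulAut.conj (ψ l))
  · rw [L]
    refine (CC (i + 3) i (.inr le_rfl) h (by omega) _ (fun a ha => ?_) u u').symm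
    have := c' a ha
    rw [Subgroup.coe_mul, Perm.mul_apply, hτ (i + 2) h _ (by omega)]; omega
  · obtain ⟨n, rfl⟩ : ∃ m, n = m + 1 := ⟨n - 1, by omega⟩
    refine perm_adj (M := M.comap toTop) (fun i => mem_comap.2 ?_) k.1
    have key : ∀ l (h : l + 3 ≤ n + 1) (a b : Fin 3), i.1 = l + a → i.1 + 1 = l + b → toTop (swap i.castSucc i.succ) ∈ M :=
      fun l h a b h1 h2 => Set.mem_of_eq_of_mem (Subtype.ext (by
        have t := fun a : Fin 3 => hτ l h (e3 a) (by simp [e3])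
        rw [show i.castSucc = (τ l).1 (e3 a) from Fin.ext (by simp [t, e3, h1]), show i.succ = (τ l).1 (e3 b) from Fin.ext (by simp [t, e3, h2])]
        exact swap_apply_apply ..)) (hM l h _ _ (G3 a b))
    by_cases h : i.1 + 2 ≤ n
    · exact key i (by omega) 0 1 rfl rfl
    · exact key (n - 2) (by omega) 1 2 (by simp; omega) (by simp; omega)
  · rcases j with j | j
    exacts [.inr ⟨_, (p2 j).symm⟩, .inl ⟨_, (p4 j).symm⟩]

end

/-- `SU` along a field isomorphism -/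
def suMapF {K : Type*} [Field K] (e : F ≃+* K) (n q : ℕ) : Cfsg.SU n F q →* Cfsg.SU n K q :=
  ((Matrix.SpecialLinearGroup.map (e : F →+* K)).comp (Cfsg.SU n F q).subtype).codRestrict _ fun g u v => by
    obtain ⟨u, rfl⟩ := e.surjective.comp_left u
    obtain ⟨v, rfl⟩ := e.surjective.comp_left v
    have := congrArg e (g.2 u v)
    simp only [Cfsg.hermForm, map_sum, map_mul, map_pow, Matrix.mulVec, dotProduct] at this
    exact this

theorem exists_pres_SU [Fintype F] (hF : Fintype.card F = q ^ 2) (hn : 4 ≤ n) :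
    ∃ g : Fin 6 → Cfsg.SU n F q, PrG g (if n ≤ 5 then 35 else 39) ∧ closure (Set.range g) = ⊤ := by
  by_cases h2 : q = 2
  · subst h2
    let e : H28.K4 ≃+* F := FiniteField.ringEquivOfCardEq (hF ▸ rfl)
    refine PrG.equiv (MonoidHom.toMulEquiv (suMapF e n 2) (suMapF e.symm n 2) (by ext g i j; exact e.symm_apply_apply _)
      (by ext g i j; exact e.apply_symm_apply _)) ?_
    obtain ⟨g, h1, h2⟩ := pres_SU4_two
    rcases hn.eq_or_lt with rfl | hn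
    · exact (h1.pad h2 (m := 6) (by simp)).imp fun g h => ⟨h.1.mono (by simp), h.2⟩
    obtain ⟨a, b, h⟩ := su3_two_gen2
    obtain ⟨g, h1, h2⟩ := pres_SU_two (hq := H28.fr_sq) (hσ := H28.fr_fr) H28.fr_ne rfl hn (two_eq_zero4 rfl rfl) h h1 h2
    exact (h1.pad h2 (m := 6) (by simp)).imp fun g h => ⟨h.1.mono (by split_ifs <;> simp <;> omega), h.2⟩
  have q3 : 3 ≤ q := by by_contra; have := Fintype.one_lt_card (α := F); interval_cases q <;> omega
  obtain ⟨σ, hq, hσ, hne⟩ := exists_frob hF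
  obtain ⟨mg, r, h1, h2, h3⟩ := exists_pres_SU3' hF h2
  rcases hn.eq_or_lt with rfl | hn
  · obtain ⟨g, h1, h2⟩ := pres_SU4 (hq := hq) (hσ := hσ) hne hF q3 h1 h2
    exact (h1.pad h2 (m := 6) (by simp)).imp fun g h => ⟨h.1.mono (by simp; omega), h.2⟩
  obtain ⟨S, s1, s2, s3⟩ := alt_stab2 hn
  rcases (show 5 ≤ n from hn).eq_or_lt with rfl | h5
  · obtain ⟨kg, k1, k2⟩ := pres_A5
    obtain ⟨g, h1, h2⟩ := pres_SU_alt (hq := hq) (hσ := hσ) hne hF hn q3 h1 h2 k1 k2 S s2 s3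
    exact (h1.pad h2 (m := 6) (by simp)).imp fun g h => ⟨h.1.mono (by simp at s1 ⊢; omega), h.2⟩
  · obtain ⟨kg, k1, k2, -⟩ := exists_pres_alt n hn
    obtain ⟨g, h1, h2⟩ := pres_SU_alt (hq := hq) (hσ := hσ) hne hF hn q3 h1 h2 k1 k2 S s2 s3
    rw [if_neg h5.ne'] at s1
    exact (h1.pad h2 (m := 6) (by simp)).imp fun g h => ⟨h.1.mono (by rw [if_neg (by omega : ¬ n ≤ 5)]; simp; omega), h.2⟩

end H11
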