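import Cfsg.Agent.H11.Shp2

/-! The spectra of `O⁻₈(q)` and `V ⋊ Ω⁻₈(q)` for even `q` (`shp_eight`); `Ext`, the spectrum of `V ⋊ Ω(V)`. -/

namespace H11
open Module Polynomial
open PForm hiding X

universe u v
theorem ordProj_mul_self {p m : ℕ} [hp : Fact p.Prime] (hm : m ≠ 0) : ordProj[p] (p * m) = p * ordProj[p] m := by
  simp [Nat.factorization_mul hp.out.ne_zero hm, hp.out.factorization, pow_add]

theorem mul_dvd_of_ordProj_lt {p a m : ℕ} [hp : Fact p.Prime] (hm : m ≠ 0) (h : a ∣ m) (h' : ordProj[p] a < ordProj[p] m) : p * a ∣ m := by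
  obtain ⟨k, rfl⟩ := h
  rw [mul_comm a]; refine mul_dvd_mul_right (by_contra fun n => ?_) a
  simp [Nat.factorization_mul (left_ne_zero_of_mul hm) (right_ne_zero_of_mul hm), Nat.factorization_eq_zero_of_not_dvd n] at h'

theorem tO_dvd_tO {q : ℕ} {l : ℕ × Bool} {k : ℕ} (h : 2 * l.1 ∣ k ∨ l.1 ∣ k ∧ l.2) : tO q l ∣ tO q (k, true) := by
  rcases h with ⟨j, rfl⟩ | ⟨h, b⟩
  · refine Dvd.dvd.trans ?_ (Nat.pow_sub_one_dvd_pow_sub_one q (dvd_mul_right (2 * l.1) j))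
    rw [mul_comm, pow_mul, ← one_pow 2, Nat.sq_sub_sq]; unfold tO; split_ifs <;> simp
  · simpa [tO, b] using Nat.pow_sub_one_dvd_pow_sub_one q h

theorem tO_one_dvd (q : ℕ) (b : Bool) : tO q (1, b) ∣ tO q (3, b) := by
  cases b
  exacts [by simpa [tO] using (by decide : Odd 3).nat_add_dvd_pow_add_pow q 1, tO_dvd_tO (by simp)]

theorem four_cases {q : ℕ} {L : Multiset (ℕ × Bool)} (h : ∀ l ∈ L, 0 < l.1) (h' : sL L ≤ 4) : (∃ b, L = {(4, b)}) ∨
    (∃ b, ∀ l ∈ L, tO q l ∣ tO q (3, b) ∨ tO q l ∣ tO q (1, !b)) ∨ ∀ l ∈ L, tO q l ∣ tO q (2, true) ∨ l = (2, false) := by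
  by_cases a : ∃ l ∈ L, 3 ≤ l.1
  · obtain ⟨⟨d, b⟩, hl, a⟩ := a
    obtain ⟨L, rfl⟩ := Multiset.exists_cons_of_mem hl
    simp only [sL_cons] at h' a
    have k : ∀ l ∈ L, l.1 = 1 ∧ d = 3 := fun l hl => by have := le_sL hl; have := h l (by simp [hl]); omega
    rcases (by omega : d = 4 ∨ d = 3) with rfl | rfl
    · exact .inl ⟨b, by rw [Multiset.eq_zero_of_forall_notMem (s := L) fun l hl => by simpa using (k l hl).2]; rfl⟩
    refine .inr (.inl ⟨b, Multiset.forall_mem_cons.2 ⟨.inl dvd_rfl, fun ⟨d, c⟩ hl => ?_⟩⟩)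
    obtain rfl : d = 1 := (k _ hl).1
    by_cases e : c = b
    exacts [.inl (e ▸ tO_one_dvd q c), .inr (Bool.eq_not.2 e ▸ dvd_rfl)]
  · refine .inr (.inr fun ⟨d, b⟩ hl => ?_)
    have := h _ hl
    have := mt (fun h => ⟨_, hl, h⟩) a
    rcases (by simp at *; omega : d = 1 ∨ d = 2) with rfl | rfl
    · exact .inl (tO_dvd_tO (by simp))
    · cases b <;> simp

theorem tO_four (q : ℕ) : tO q (4, true) = tO q (2, false) * tO q (2, true) := by
  simp only [tO]; rw [show q ^ 4 = (q ^ 2) ^ 2 by ring, ← one_pow 2, Nat.sq_sub_sq]; simp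

variable {F : Type u} [Field F] {V W : Type*} [AddCommGroup V] [Module F V] [AddCommGroup W] [Module F W]
  [FiniteDimensional F V] [FiniteDimensional F W] [Finite F] (p : ℕ) [hp : Fact p.Prime] [CharP F p]

theorem Reg.mem_JD {f : End F V} (h : Reg f) : (1, finrank F V) ∈ JD f := by
  obtain ⟨e, he⟩ := Nat.exists_eq_add_one_of_ne_zero h.pos.ne'
  simp [JD, h.unip.ED_eq, h.jt, he, mem_jd irreducible_X_sub_one]

theorem ordProj_eq_of_JD {σ : F →+* F} {P : FParam σ} {S : PForm P V} {g : S.Isom} {z : AC F} {a M : ℕ} (h : (z, p ^ a) ∈ JD (iE g))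
    (h' : orderOf g ∣ M * p ^ a) (hM : M.Coprime (Nat.card F)) : ordProj[p] (orderOf g) = p ^ a := by
  have := finite_isom (S := S)
  have := Fintype.ofFinite F
  refine le_antisymm (Nat.le_of_dvd (pow_pos hp.out.pos _) (Nat.Coprime.dvd_of_dvd_mul_left ?_ ((Nat.ordProj_dvd _ _).trans h')))
    ((ord_dvd_of_JD p (orderOf_pos g).ne').1 dvd_rfl _ h).2
  exact (hM.coprime_dvd_right (by exact_mod_cast char_dvd_card p)).symm.pow_left _

theorem PForm.Nondeg.two_blocks {S : PForm (orthP F) V} (hS : S.Nondeg) (h : Even (finrank F V)) {g : S.Isom} (hg : hS.dick g = 1) {a : ℕ}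
    (ha : (1, a) ∈ JD (iE g)) : ∃ e, 0 < e ∧ {(1, a), (1, e)} ≤ JD (iE g) := by
  obtain ⟨J, e⟩ := Multiset.exists_cons_of_mem ha
  by_contra! n
  have k := finrank_ker_JD (iE g) (X_sub_C_ne_zero 1)
  simp only [Polynomial.map_sub, map_X, map_C, map_one (algebraMap F (AC F))] at k
  rw [e, Multiset.map_cons, Multiset.sum_cons, Multiset.sum_eq_zero fun y hy => ?_, rootMultiplicity_X_sub_C_self,
    min_eq_right (Nat.succ_le_of_lt (JD_pos ha))] at k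
  · rw [hS.dick_apply, neg_one_pow_eq_one_iff_even (by decide), Nat.even_add, show fixSp g = LinearMap.ker (aeval (iE g)
      (Polynomial.X - C (1 : F))) by ext x; simp [mem_fixSp, sub_eq_zero], k] at hg
    simpa using hg.1 h
  obtain ⟨⟨z, b⟩, hx, rfl⟩ := Multiset.mem_map.1 hy
  rw [rootMultiplicity_eq_zero, Nat.min_zero]
  rintro h; obtain rfl : z = 1 := by simpa [sub_eq_zero] using h
  exact n b (JD_pos (x := (1, b)) (e ▸ Multiset.mem_cons_of_mem hx)) (e ▸ Multiset.cons_le_cons _ (Multiset.singleton_le.2 hx))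

/-- `N` is the order of an element of `V ⋊ Ω(V)` -/
def PForm.Ext {S : PForm (orthP F) V} (hS : S.Nondeg) (N : ℕ) : Prop := ∃ g, hS.dick g = 1 ∧ hS.spin g = 1 ∧
  (N ∣ orderOf g ∨ N ∣ p * orderOf g ∧ (1, ordProj[p] (orderOf g)) ∈ JD (iE g))

theorem ext_iff {S : PForm (orthP F) V} (hS : S.Nondeg) (h4 : S.NotO4) {X : Type*} [Group X] [Finite X] (h : ∀ m, m ∈ Set.range (orderOf : X → ℕ) ↔
    ∃ g : commutator S.Isom, m = orderOf g.1 ∨ m = p * orderOf g.1 ∧ ∑ i ∈ Finset.range (orderOf g.1), iE g.1 ^ i ≠ 0) {N : ℕ} :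
      N ∈ Set.range (orderOf : X → ℕ) ↔ Ext p hS N := by
  have := finite_isom (S := S)
  have k : ∀ g : S.Isom, _ := fun g => sum_pow_ne_zero_iff p (f := iE g) (orderOf_pos g).ne' (by rw [← iE_pow, pow_orderOf_eq_one, iE_one])
  refine ⟨fun a => ?_, fun ⟨g, a, b, c⟩ => ?_⟩
  · obtain ⟨g, b⟩ := (h N).1 a
    obtain ⟨c, d⟩ := (hS.mem_commutator_iff h4 _).1 g.2
    exact ⟨g, c, d, b.imp Eq.dvd (And.imp Eq.dvd (k _).1)⟩
  have m := (hS.mem_commutator_iff h4 _).2 ⟨a, b⟩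
  rcases c with c | ⟨c, d⟩
  · obtain ⟨x, e⟩ := (h _).2 ⟨⟨g, m⟩, .inl rfl⟩
    exact mem_range_of_dvd (e ▸ c)
  · obtain ⟨x, e⟩ := (h _).2 ⟨⟨g, m⟩, .inr ⟨rfl, (k _).2 d⟩⟩
    exact mem_range_of_dvd (e ▸ c)

section Two
omit hp [CharP F p]
variable [CharP F 2] {S : PForm (orthP F) V} (hS : S.Nondeg)
include hS

theorem PForm.Nondeg.two_unip (h : 0 < finrank F V) : ∃ (u : S.Isom) (a : ℕ), hS.dick u = 1 ∧ orderOf u ∣ 2 ^ a ∧ (1, 2 ^ a) ∈ JD (iE u) ∧
    finrank F V ≤ 2 * 2 ^ a := by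
  have h2 : (2 : F) = 0 := CharP.cast_eq_zero F 2
  have ev : ∀ {U : Submodule F V}, (S.restrict U).Nondeg → ¬ Odd (finrank F U) := fun h o => h.two_ne_zero_of_odd o h2
  by_cases c : finrank F V ≤ 2
  · obtain ⟨x, hx⟩ := Multiset.exists_mem_of_ne_zero (s := JD (iE (1 : S.Isom))) fun e => by simpa [e, h.ne] using dm_JD (iE (1 : S.Isom))
    have := (ord_dvd_of_JD 2 one_ne_zero).1 (by simp) x hx
    exact ⟨1, 0, map_one _, by simp, by rwa [show (1, 2 ^ 0) = x from Prod.ext (by simpa using this.1.symm) 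
      (le_antisymm (JD_pos hx) (by simpa using this.2))], c⟩
  obtain ⟨a, ha⟩ := Nat.exists_eq_add_one_of_ne_zero (Nat.log_pos one_lt_two (show 2 ≤ finrank F V - 1 by omega)).ne'
  have a1 := Nat.pow_log_le_self 2 (show finrank F V - 1 ≠ 0 by omega)
  have a2 := Nat.lt_pow_succ_log_self one_lt_two (finrank F V - 1)
  rw [ha] at a1 a2
  have d : finrank F (Fin (2 ^ a) ⊕ Fin (2 ^ a) → F) = 2 ^ (a + 1) := by rw [finrank_sum_fun, pow_succ']
  obtain ⟨U, hU, e⟩ := orth_exists_compl hS (sPlus_nondeg (2 ^ a) F) (by omega)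
  have d' := e.finrank_eq
  rw [finrank_prod] at d'
  obtain ⟨x, hx⟩ := orth_reg (sPlus_nondeg (2 ^ a) F) (.inr ⟨h2, by simp⟩)
  obtain ⟨y, hy⟩ := orth_reg hU (.inr ⟨h2, by omega⟩)
  obtain ⟨u, hu⟩ := e.exists_spl x y
  refine ⟨u, a + 1, ?_, hu.orderOf_eq.dvd.trans (Nat.lcm_dvd ?_ ?_), ?_, by omega⟩
  · rw [(hu.dick_spin hS (sPlus_nondeg _ _) hU).1, Nondeg.dick_eq_rank, Nondeg.dick_eq_rank]
    erw [hx.rank, hy.rank]
    have := ev hU
    rw [Odd.neg_one_pow (by grind), Odd.neg_one_pow (by grind)]; simp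
  · rw [← orderOf_iE, hx.unip.orderOf_eq 2]; simp [hx.jt, pow_succ', two_mul]
  · rw [← orderOf_iE, hy.unip.orderOf_eq 2]; simp [hy.jt]; omega
  · rw [sim_iff_JD.1 hu.sim, JD_prodMap, ← d]; exact Multiset.mem_add.2 (.inl hx.mem_JD)

theorem PForm.Nondeg.shp_eight (hV : finrank F V = 2 * 4) (ht : ¬ S.HasTS 4) {N : ℕ} :
    (Shp 2 (Nat.card F) (2 * 4) N ↔ ∃ g : S.Isom, orderOf g = N) ∧ (Shp 2 (Nat.card F) (2 * 4) N ↔ Ext 2 hS N) := by
  have h2 : (2 : F) = 0 := CharP.cast_eq_zero F 2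
  have := finite_isom (S := S)
  have := Fintype.ofFinite F
  have q2 : 2 ∣ Nat.card F := by exact_mod_cast char_dvd_card 2
  have A : Shp 2 (Nat.card F) (2 * 4) N → (∃ g : S.Isom, N ∣ orderOf g) ∧ Ext 2 hS N := fun ⟨L, c, h1, h3, h4⟩ => by
    rcases c.eq_zero_or_pos with rfl | c0
    · obtain ⟨L', a1, a2, a3, a4⟩ : ∃ L' : Multiset (ℕ × Bool), (∀ l ∈ L', 0 < l.1) ∧ sL L' = 4 ∧ ¬ Even (L'.countP (·.2 = false)) ∧
          ∀ m, (∀ l ∈ L', tO (Nat.card F) l ∣ m) → ∀ l ∈ L, tO (Nat.card F) l ∣ m := by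
        rcases four_cases (q := Nat.card F) h1 (by omega) with ⟨_ | _, rfl⟩ | ⟨b, h⟩ | h
        · exact ⟨_, h1, rfl, by decide, fun _ => id⟩
        · refine ⟨{(2, false), (2, true)}, by simp, rfl, by decide, fun m h => ?_⟩
          simp only [Multiset.mem_singleton, forall_eq, tO_four]
          refine Nat.Coprime.mul_dvd_of_dvd_of_dvd ?_ (h _ (by simp)) (h _ (by simp))
          have : 2 ∣ Nat.card F ^ 2 := q2.pow two_ne_zero
          have := Nat.one_le_pow 2 _ (Nat.card_pos (α := F))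
          rw [show tO _ (2, false) = 2 + tO (Nat.card F) (2, true) from show _ ^ 2 + 1 = 2 + (_ ^ 2 - 1) by omega, Nat.coprime_add_self_left, Nat.coprime_two_left]
          simp only [tO]; grind
        · exact ⟨{(3, b), (1, !b)}, by simp, rfl, by cases b <;> decide, fun m k l hl => (h l hl).elim (·.trans (k _ (by simp)))
            (·.trans (k _ (by simp)))⟩
        · exact ⟨{(2, false), (2, true)}, by simp, rfl, by decide, fun m k l hl => (h l hl).elim (·.trans (k _ (by simp))) fun e => k _ (by simp [e])⟩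
      obtain ⟨W, _, _, _, T, t, b1, b2, b3, b4, b5⟩ := orth_tor (F := F) a1
      rw [a2] at b2 b3
      obtain ⟨e⟩ := (orth_eqv_even 4 b1 hS b2 hV (iff_of_false (mt b3.1 a3) ht)).nonempty_mulEquiv
      rw [← e.orderOf_eq] at b4 b5
      have := h4 _ (orderOf_pos _).ne' (a4 _ b4) (by simp)
      exact ⟨⟨_, this⟩, _, hom_eq_one_of_odd _ (b5.coprime_dvd_right q2).odd_of_right, hS.spin_of_two h2 _, .inl this⟩
    obtain ⟨W, _, _, _, T, t, b1, b2, -, b4, b5⟩ := orth_tor (F := F) h1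
    obtain ⟨U, hU, e⟩ := orth_exists_compl hS b1 (by omega)
    have d := e.finrank_eq
    rw [finrank_prod] at d
    obtain ⟨u, -, -, u1⟩ := exists_reg0 2 fun h => orth_reg hU (.inr ⟨h2, h⟩)
    obtain ⟨g, hg⟩ := e.exists_spl t u
    obtain ⟨v, a, v1, v2, v3, v4⟩ := hU.two_unip (by omega)
    obtain ⟨k, hk⟩ := e.exists_spl t v
    have j : (1, 2 ^ a) ∈ JD (iE k) := by rw [sim_iff_JD.1 hk.sim, JD_prodMap]; exact Multiset.mem_add.2 (.inr v3)
    have o := ordProj_eq_of_JD 2 j (hk.orderOf_eq ▸ (Nat.lcm_dvd_mul _ _).trans (mul_dvd_mul_left _ v2)) b5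
    refine ⟨⟨g, h4 _ (orderOf_pos g).ne' (fun l hl => (b4 l hl).trans (hg.orderOf_eq ▸ Nat.dvd_lcm_left _ _)) (le_trans (by omega)
      (u1 _ (orderOf_pos g).ne' (hg.orderOf_eq ▸ Nat.dvd_lcm_right _ _)))⟩, k, ?_, hS.spin_of_two h2 _, .inr ⟨h4 _ (by simp [(orderOf_pos k).ne'])
      (fun l hl => ((b4 l hl).trans (hk.orderOf_eq ▸ Nat.dvd_lcm_left _ _)).mul_left _) ?_, o ▸ j⟩⟩
    · rw [(hk.dick_spin hS b1 hU).1, v1, hom_eq_one_of_odd _ (b5.coprime_dvd_right q2).odd_of_right, one_mul]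
    · rw [ordProj_mul_self (orderOf_pos k).ne', o]; omega
  refine ⟨⟨fun h => (A h).1.elim fun g => mem_range_of_dvd, fun ⟨g, e⟩ => e ▸ hV ▸ hS.shp 2 (.inl h2)⟩, fun h => (A h).2, fun ⟨g, a, _, b⟩ => ?_⟩
  obtain ⟨L, c, h1, h3, h4, h5, h6⟩ := hS.shape g
  have k : ∀ m ≠ 0, (∀ l ∈ L, tO (Nat.card F) l ∣ m) → c ≤ ordProj[2] m → orderOf g ∣ m := fun m a b d => (ord_dvd_of_JD 2 a).2 fun x hx =>
    ⟨h6 m b (.inl (by rw [CharTwo.neg_eq, one_pow])) x hx, (h4 x hx).trans (max_le d one_le_ordProj)⟩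
  refine ⟨L, c, h1, hV ▸ h3, fun m m0 d e => b.elim (·.trans (k m m0 d e)) fun b => b.1.trans (mul_dvd_of_ordProj_lt m0 (k m m0 d e) ?_)⟩
  obtain ⟨j, j0, f⟩ := hS.two_blocks ⟨4, hV⟩ a b.2
  have := h5 _ f (by simp)
  simp at this; omega
end Two

end H11
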