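import Cfsg.Agent.H11.Shp3

/-! The spectra of `Ω₉(q)` and `V ⋊ Ω⁻₈(q)` coincide for odd `q` (`ext_iff_nine`). -/

namespace H11
open Module Polynomial
open PForm hiding X

universe u v
theorem exists_piece {K : Type v} [Field K] {J : Multiset (K × ℕ)} {q : ℕ} (hq : 0 < q) (h : Adm q J) (h' : St (-1) J) {x : K × ℕ} (hx : x ∈ J)
    (h1 : x.1 ^ 2 ≠ 1) : ∃ O J' l, J = O + J' ∧ Adm q J' ∧ St (-1) J' ∧ 0 < l.1 ∧ dm O = 2 * l.1 * x.2 ∧ (∀ y ∈ O, y.1 ^ tO q l = 1) ∧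
      (l.2 → Adm q (orb q l.1 x.1 x.2) ∧ O = orb q l.1 x.1 x.2 + (orb q l.1 x.1 x.2).map (Prod.map (· ^ (-1 : ℤ)) id)) := by
  obtain ⟨z0, e0⟩ := h.ne x hx
  obtain ⟨d, d0, d1, d2, J', rfl, a1⟩ := h.exists_orb hx
  have o : ∀ {z : K} {l d : _}, z ^ tO q l = 1 → ∀ y ∈ orb q d z x.2, y.1 ^ tO q l = 1 := fun h =>
    forall_mem_orb.2 fun i _ => by rw [← zpow_natCast, zpow_comm, zpow_natCast, h, one_zpow]
  rcases Multiset.mem_add.1 (h'.mem hx 1) with m | m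
  · obtain ⟨i, i1, i2⟩ := mem_orb.1 m
    replace i2 : x.1 ^ (q : ℤ) ^ i = x.1 ^ (-1 : ℤ) := by simpa using i2
    have i0 : 0 < i := Nat.pos_of_ne_zero (by rintro rfl; exact h1 (by rw [sq]; nth_rw 2 [show x.1 = x.1⁻¹ by simpa using i2]; simp [z0]))
    have i3 : x.1 ^ (q : ℤ) ^ (2 * i) = x.1 := by rw [two_mul, pow_add, zpow_mul, i2, zpow_comm, i2]; simp
    have i4 : d = 2 * i := by
      by_contra n
      rcases lt_or_gt_of_ne n with n | n
      · refine d2 (2 * i - d) (by omega) (by omega) ?_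
        rwa [← Nat.add_sub_of_le n.le, pow_add, zpow_mul, d1] at i3
      · exact d2 _ (by omega) n i3
    refine ⟨_, J', (i, false), rfl, a1, h'.of_add ?_, i0, by simp [i4], o ?_, by simp⟩
    · rw [St, orb_map, ← i2, ← orb_map, (st_orb d1 _).pow i]
    · simp only [tO, Bool.false_eq_true, if_false, pow_succ]
      rw [← zpow_natCast, Nat.cast_pow, i2]; simp [z0]
  · obtain ⟨d', d3, d4, d5, J'', rfl, a2⟩ := a1.exists_orb m
    simp only [pow_one, zpow_neg_one, inv_zpow, inv_inj, ne_eq] at d4 d5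
    obtain rfl : d' = d := le_antisymm (not_lt.1 fun n => d5 _ d0 n d1) (not_lt.1 fun n => d2 _ d3 n d4)
    have : x.1 ^ tO q (d', true) = 1 := by
      rw [← zpow_natCast, tO, if_pos rfl, Nat.cast_pred (pow_pos hq _), Nat.cast_pow]; exact (pow_fix z0).1 d1
    refine ⟨_, J'', (d', true), (add_assoc ..).symm, a2, St.of_add (by rw [add_assoc]; exact h') ?_, d0, by simp; ring,
      fun y hy => (Multiset.mem_add.1 hy).elim (o this y) (o ?_ y), fun _ => ⟨adm_orb d1 z0 e0, by rw [orb_map]; simp⟩⟩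
    · rw [St, Multiset.map_add, orb_map, orb_map]; simp [add_comm]
    · simp [this]

theorem tO_mod {q d e : ℕ} (hq : Odd q) (hd : Odd d) (he : Odd e) (b : Bool) : tO q (d, b) % 4 = 2 ∨ tO q (e, !b) % 4 = 2 := by
  have k : ∀ {d}, Odd d → q ^ d % 4 = q % 4 := by
    rintro _ ⟨d, rfl⟩
    rw [pow_succ, pow_mul, Nat.mul_mod, Nat.pow_mod, Nat.pow_mod q]
    rcases (by grind : q % 4 = 1 ∨ q % 4 = 3) with h | h <;> simp [h]
  have := k hd; have := k he; have := Nat.odd_iff.1 hq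
  cases b <;> simp only [tO] <;> grind

theorem tO_two_mod {q : ℕ} (hq : Odd q) : tO q (2, false) % 4 = 2 := by
  obtain ⟨k, rfl⟩ := hq; simp only [tO]; grind

theorem three_cases {q : ℕ} (hq : Odd q) {L : Multiset (ℕ × Bool)} (h : ∀ l ∈ L, 0 < l.1 ∧ l.1 ≤ 2) (h' : sL L ≤ 3) : ∃ b c,
    (tO q (2, b) % 4 = 2 ∨ tO q (1, c) % 4 = 2) ∧ ∀ l ∈ L, tO q l ∣ tO q (2, b) ∨ tO q l ∣ tO q (1, c) := by
  by_cases a : (2, false) ∈ L
  · obtain ⟨L, rfl⟩ := Multiset.exists_cons_of_mem a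
    rcases L.empty_or_exists_mem with rfl | ⟨⟨d, c⟩, hl⟩
    · exact ⟨false, true, .inl (tO_two_mod hq), by simp⟩
    refine ⟨false, c, .inl (tO_two_mod hq), Multiset.forall_mem_cons.2 ⟨.inl dvd_rfl, fun l k => .inr ?_⟩⟩
    have := h l (by simp [k]); have := h (d, c) (by simp [hl]); have := le_sL hl
    obtain rfl : l = (d, c) := by_contra fun n => by have := add_le_sL hl k n; simp at *; omega
    obtain rfl : d = 1 := by simp at *; omega
    rfl
  obtain ⟨c, hc⟩ : ∃ c, tO q (1, c) % 4 = 2 := (tO_mod hq odd_one odd_one true).elim (⟨_, ·⟩) (⟨_, ·⟩)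
  refine ⟨true, c, .inr hc, fun ⟨d, b⟩ hl => .inl (tO_dvd_tO ?_)⟩
  rcases (by have := h _ hl; simp at this; omega : d = 1 ∨ d = 2) with rfl | rfl <;> cases b <;> simp_all

variable {F : Type u} [Field F] {V W : Type*} [AddCommGroup V] [Module F V] [AddCommGroup W] [Module F W]
  [FiniteDimensional F V] [FiniteDimensional F W] [Finite F]

theorem JD_leviO {m : ℕ} (A : GL (Fin m) F) : JD (iE (leviO m F A)) = JD (mE A.1) + (JD (mE A.1)).map (Prod.map (· ^ (-1 : ℤ)) id) := by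
  have : Sim (iE (leviO m F A)) ((mE A.1).prodMap (mE (dG (RingHom.id F) A).1)) := ⟨LinearEquiv.sumArrowLequivProdArrow _ _ F F, fun v => by
    ext i <;> simp [leviO_apply, leviGL_mulVec, mE_apply, coe_dG, Matrix.transpose_nonsing_inv] <;> rfl⟩
  rw [sim_iff_JD.1 this, JD_prodMap, JD, JD, ED_dG (fun _ => rfl), Multiset.bind_map, Multiset.map_bind]
  exact congrArg _ (Multiset.bind_congr fun P hP => jd_dualP (fun _ => rfl) frob_id (pp_ED _ P hP)
    (coeff_ne_zero_of_mem_ED (A.isUnit.map _) hP))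

theorem PForm.Nondeg.pr_of_spin {S : PForm (orthP F) V} (hS : S.Nondeg) {g : S.Isom} (h : IsUnit (iE g * iE g - 1)) {J : Multiset (AC F × ℕ)}
    (hJ : Adm (Nat.card F) J) (e : JD (iE g) = J + J.map (Prod.map (· ^ (-1 : ℤ)) id)) (hg : hS.spin g = 1) :
    ∃ c : F, pr J = algebraMap F _ c ^ 2 := by
  obtain ⟨A, hA⟩ := (gl_JD (ι := Fin (dm J)) J).2 ⟨hJ, by simp⟩
  obtain ⟨f, hf, k⟩ := (isim_of_isUnit hS (sPlus_nondeg _ _) (sim_iff_JD.2 (by rw [JD_leviO, hA, e])) h).exists_eq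
  rw [← hS.spin_isomCongr (sPlus_nondeg _ _) f hf, k, spin_leviO, sqSign_eq_one_iff] at hg
  obtain ⟨c, hc⟩ := hg
  exact ⟨c, by rw [← map_pow, sq, ← hc, ← LinearMap.det_toLin', ← pr_JD]; exact congrArg pr hA.symm⟩

omit [Finite F] in
theorem PForm.Nondeg.dick_of_isUnit {S : PForm (orthP F) V} (hS : S.Nondeg) {g : S.Isom} (h : IsUnit (iE g - 1)) : hS.dick g = (-1) ^ finrank F V :=
  hS.dick_eq_of_codim (by rw [(Submodule.eq_bot_iff (fixSp g)).2 (isUnit_sub_one_iff_fix.1 h)]; simp)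

theorem isUnit_aeval_iff_JD {f : End F V} {Q : F[X]} (h : Q ≠ 0) : IsUnit (aeval f Q) ↔ ∀ x ∈ JD f, aeval x.1 Q ≠ 0 := by
  rw [LinearMap.isUnit_iff_ker_eq_bot, ← Submodule.finrank_eq_zero, finrank_ker_JD f h, Multiset.sum_eq_zero_iff, Multiset.forall_mem_map_iff]
  exact forall₂_congr fun x hx => by simp [(JD_pos hx).ne', h, eval_map_algebraMap]

theorem isUnit_sub_one_iff_JD {f : End F V} : IsUnit (f - 1) ↔ ∀ x ∈ JD f, x.1 ≠ 1 := by
  simpa [sub_eq_zero] using isUnit_aeval_iff_JD (f := f) (X_sub_C_ne_zero 1)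

theorem isUnit_sq_iff_JD {f : End F V} : IsUnit (f * f - 1) ↔ ∀ x ∈ JD f, x.1 ^ 2 ≠ 1 := by
  simpa [sub_eq_zero, sq] using isUnit_aeval_iff_JD (f := f) (X_pow_sub_C_ne_zero two_pos 1)

omit [Finite F] [FiniteDimensional F V] [FiniteDimensional F W] in
theorem PForm.Spl.neg {σ : F →+* F} {P : FParam σ} {S : PForm P V} {T : PForm P W} {Y : Type*} [AddCommGroup Y] [Module F Y] {R : PForm P Y}
    {g : S.Isom} {a : T.Isom} {b : R.Isom} (h : Spl (S.neg1 * g) a b) : Spl g (T.neg1 * a) (R.neg1 * b) := by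
  obtain ⟨e, h1, h2⟩ := h
  exact ⟨e, h1, fun x => by simpa [← map_neg] using h2 (-x)⟩

theorem exists_orth_type {l : ℕ × Bool} (h : 0 < l.1) : ∃ (V : Type u) (_ : AddCommGroup V) (_ : Module F V) (_ : FiniteDimensional F V)
    (S : PForm (orthP F) V) (hS : S.Nondeg) (g : S.Isom), finrank F V = 2 * l.1 ∧ (S.HasTS l.1 ↔ l.2) ∧ tO (Nat.card F) l ∣ orderOf g ∧
      ((2 : F) ≠ 0 → hS.dick g = 1) := by
  by_cases b : l.2
  · obtain ⟨p, _⟩ := CharP.exists F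
    have := Fact.mk (CharP.char_is_prime F p)
    have := Fintype.ofFinite F
    obtain ⟨z, -, h1, h2, -⟩ := exists_orb_od (K := AC F) (char_dvd_card (F := F) p) (N := tO (Nat.card F) l) (d := l.1) (by
      rw [tO, if_pos b, Nat.cast_pred (pow_pos Nat.card_pos _), Nat.cast_pow]) h
    obtain ⟨A, hA⟩ := (gl_JD (ι := Fin l.1) _).2 ⟨h2, by simp⟩
    refine ⟨_, _, _, inferInstance, _, sPlus_nondeg _ _, leviO _ F A, finrank_sum_fun _, iff_of_true (sPlus_hasTS _ _) b, ?_,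
      fun h => dick_leviO (notO4_of_two_ne h) A⟩
    have := ((ord_dvd_of_JD p (orderOf_pos (leviO _ F A)).ne').1 dvd_rfl (z, 1) (by simp [JD_leviO, hA, mem_orb_zero h])).1
    exact Int.natCast_dvd_natCast.1 ((h1 _).1 (by rwa [zpow_natCast]))
  obtain ⟨s, T, g, h1, h2, h3, h4⟩ := exists_minus (orthP F) h
  have q1 := Nat.one_lt_pow h.ne' (Finite.one_lt_card (α := F))
  refine ⟨_, _, _, inferInstance, T, h1, g, h2, iff_of_false (fun t => ?_) b, by rw [h3, tO, if_neg b], fun _ => ?_⟩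
  swap
  · rw [h1.dick_of_isUnit (pow_one (iE g) ▸ h4 1 fun a => by have := Nat.le_of_dvd one_pos a; omega), h2]; simp
  let _ : MulAction (Subgroup.zpowers g) {x // T.q x = 1} :=
    { smul k x := ⟨k.1.1 x.1, by simpa using x.2⟩, one_smul _ := rfl, mul_smul _ _ _ := rfl }
  have h5 := Nat.card_congr (MulAction.selfEquivOrbitsQuotientProd (G := Subgroup.zpowers g) (X := {x // T.q x = 1}) fun x =>
    (Subgroup.eq_bot_iff_forall _).2 fun k hk => by
      have := finite_isom (S := T)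
      obtain ⟨k, m, rfl⟩ := k
      obtain ⟨m, hm⟩ := (mem_powers_iff_mem_zpowers).2 (Subgroup.zpow_mem_zpowers g m)
      refine Subtype.ext (hm.symm.trans (orderOf_dvd_iff_pow_eq_one.1 (h3 ▸ by_contra fun n => ?_)))
      have := isUnit_sub_one_iff_fix.1 (h4 m n) x.1 (by rw [← iE_pow]; exact (congrArg (·.1 x.1) hm).trans (congrArg Subtype.val hk))
      simpa [this, orth_q_zero] using x.2)
  have h6 := orth_cnt_even 1 _ h1 h2
  rw [orth_cnt_def, h5, Nat.card_prod, Nat.card_zpowers, h3, if_pos t, if_neg one_ne_zero] at h6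
  generalize Nat.card (Quotient _) = k at h6
  rw [two_mul, pow_add, ← Nat.cast_pow] at h6
  have h7 : ((Nat.card F ^ l.1 + 1 : ℕ) : ℤ) ∣ ((Nat.card F ^ l.1 : ℕ) - 1) * (Nat.card F ^ l.1 : ℕ) := ⟨Nat.card F * k, by
    push_cast at h6 ⊢; linear_combination -h6⟩
  have := Int.le_of_dvd (by omega) (IsCoprime.dvd_of_dvd_mul_right ⟨1, -1, by push_cast; ring⟩ h7)
  omega

variable (h2 : (2 : F) ≠ 0)
include h2

theorem odd_card : Odd (Nat.card F) := by
  have := Fintype.ofFinite F; exact Nat.card_eq_fintype_card (α := F) ▸ two_ne_zero_iff_odd.1 h2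

theorem two_pieces {l l' : ℕ × Bool} (h : 0 < l.1) (h' : 0 < l'.1) (e : tO (Nat.card F) l % 4 = 2 ∨ tO (Nat.card F) l' % 4 = 2) :
    ∃ (V : Type u) (_ : AddCommGroup V) (_ : Module F V) (_ : FiniteDimensional F V) (S : PForm (orthP F) V) (g : S.Isom), S.Nondeg ∧
      finrank F V = 2 * (l.1 + l'.1) ∧ (S.HasTS (l.1 + l'.1) ↔ (l.2 ↔ l'.2)) ∧ g ∈ commutator S.Isom ∧ tO (Nat.card F) l ∣ orderOf g ∧
        tO (Nat.card F) l' ∣ orderOf g := by
  wlog e' : tO (Nat.card F) l' % 4 = 2 generalizing l l'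
  · simpa only [add_comm, and_comm, iff_comm (a := l.2 = true)] using this h' h e.symm (e.resolve_right e')
  obtain ⟨V, _, _, _, S, hS, a, a1, a2, a3, a4⟩ := exists_orth_type (F := F) h
  obtain ⟨W, _, _, _, T, hT, b, b1, b2, b3, -⟩ := exists_orth_type (F := F) h'
  have n : T.neg1 ∉ commutator T.Isom := fun m => by
    have := Nat.odd_iff.1 ((odd_card h2).pow (n := l'.1))
    unfold tO at e'; split_ifs at e' with c
    · have := (hT.negOne_mem_plus h2 b1 (b2.2 c)).1 m; omega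
    · have := (hT.negOne_mem_minus h2 b1 (mt b2.1 c)).1 m; omega
  have n4 := notO4_of_two_ne (S := T) h2
  have d : hT.dick T.neg1 = 1 := (hT.dick_negOne h2).trans (by simp [b1])
  obtain ⟨s1, s2⟩ := (hT.mem_commutator_iff n4 _).1 (hT.sq_mem_comm h2 b)
  obtain ⟨c, c1, c2, c3⟩ : ∃ c : T.Isom, hT.dick c = 1 ∧ hT.spin c = hS.spin a ∧ c ^ 2 = b ^ 4 := by
    rcases Int.units_eq_one_or (hS.spin a) with k | k
    · exact ⟨b ^ 2, s1, k ▸ s2, by group⟩
    refine ⟨T.neg1 * b ^ 2, by simp only [map_mul, d, s1, one_mul], ?_, by rw [(neg1_comm _).mul_pow, neg1_sq]; group⟩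
    rw [map_mul, s2, k, mul_one]; exact (Int.units_eq_one_or _).resolve_left fun k => n ((hT.mem_commutator_iff n4 _).2 ⟨d, k⟩)
  obtain ⟨g, hg⟩ := (Eqv.refl (S.prod T)).exists_spl a c
  have o := a3.trans (hg.orderOf_eq ▸ Nat.dvd_lcm_left _ _ : _ ∣ orderOf g)
  refine ⟨_, _, _, inferInstance, _, g, hS.prod hT, by simp [a1, b1]; ring, by rw [hasTS_prod hS hT a1 b1, a2, b2], ?_, o, ?_⟩
  · simp [(hS.prod hT).mem_commutator_iff (notO4_of_two_ne h2), hg.dick_spin (hS.prod hT) hS hT, a4 h2, c1, c2]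
  obtain ⟨k, hk⟩ := two_dvd_tO (odd_card h2) l'
  have ko : Odd k := Nat.odd_iff.2 (by omega)
  rw [hk] at b3 ⊢
  refine ko.coprime_two_left.mul_dvd_of_dvd_of_dvd ((two_dvd_tO (odd_card h2) l).trans o) ((ko.coprime_two_right.pow_right 2).dvd_of_dvd_mul_left
    ((dvd_of_mul_left_dvd b3).trans (orderOf_dvd_of_pow_eq_one ?_)))
  rw [pow_mul, show b ^ 2 ^ 2 = c ^ 2 from c3.symm, ← pow_mul, pow_mul', hg.orderOf_eq, orderOf_dvd_iff_pow_eq_one.1 (Nat.dvd_lcm_right _ _), one_pow]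

variable (p : ℕ) [hp : Fact p.Prime] [CharP F p]
theorem odd_char : Odd p := hp.out.odd_of_ne_two (by rintro rfl; exact h2 (CharP.cast_eq_zero F 2))

omit h2 [Finite F] in
theorem Unip.ord_dvd {f : End F V} (h : Unip f) {m : ℕ} (hm : ∀ k ∈ JT f, k ≤ ordProj[p] m) : orderOf f ∣ m :=
  ((h.orderOf_eq p).2 hm).trans (Nat.ordProj_dvd _ _)

omit h2 in
theorem PForm.Nondeg.split1 {σ : F →+* F} {P : FParam σ} {S : PForm P V} (hS : S.Nondeg) (g : S.Isom) : ∃ (U : Submodule F V)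
    (a : (S.restrict U).Isom) (u : (S.restrict (S.perp U)).Isom), (S.restrict U).Nondeg ∧ Spl g a u ∧ IsUnit (iE a - 1) ∧ Unip (iE u) := by
  obtain ⟨p, _⟩ := CharP.exists F
  have hp := Fact.mk (CharP.char_is_prime F p)
  have := finite_isom (S := S)
  have h := hS.nondeg_res (g := g ^ ordProj[p] (orderOf g)) (ss_of_pow_eq_one (m := ordCompl[p] (orderOf g)) (mt (CharP.cast_eq_zero_iff F p _).1
    (Nat.not_dvd_ordCompl hp.out (orderOf_pos g).ne')) (by rw [← iE_pow, ← pow_mul, Nat.ordProj_mul_ordCompl_eq_self, pow_orderOf_eq_one, iE_one]))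
  exact ⟨_, _, _, h, spl_rst g h (res_pow_inv g _), pow_one (iE (resP g _)) ▸ isUnit_res_pow hS h fun x hx => pow_apply_fix hx _,
    ⟨_, (pow_char_pow_eq_one_iff p).1 (by rw [← iE_pow, rst_perp_res_pow hS, iE_one])⟩⟩

theorem PForm.Nondeg.mem_comm_of_unip {S : PForm (orthP F) V} (hS : S.Nondeg) {u : S.Isom} (h : Unip (iE u)) : u ∈ commutator S.Isom := by
  obtain ⟨p, _⟩ := CharP.exists F
  have hp := Fact.mk (CharP.char_is_prime F p)
  obtain ⟨j, hj⟩ := (unip_iff_orderOf p).1 h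
  exact hS.mem_comm_of_odd h2 (by rw [← orderOf_iE, hj]; exact (odd_char h2 p).pow)

variable {S : PForm (orthP F) V} {T : PForm (orthP F) W} (hS : S.Nondeg) (hT : T.Nondeg)
include hS hT
theorem ext_of {a : T.Isom} (ha : a ∈ commutator T.Isom) {c N : ℕ} (hc : finrank F W + 2 * (c + 1) = finrank F V)
    (h : ∀ m ≠ 0, orderOf a ∣ m → 2 * c + 3 ≤ ordProj[p] m → N ∣ m) : Ext p hS N := by
  obtain ⟨U, hU, e⟩ := orth_exists_compl hS hT (by omega)
  have d := e.finrank_eq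
  rw [finrank_prod] at d
  obtain ⟨Y, hY, e'⟩ := orth_exists_compl hU (sOdd_nondeg c h2) (by rw [finrank_odd_fun]; omega)
  obtain ⟨r, hr⟩ := orth_reg (sOdd_nondeg c h2) (.inl (by simp))
  obtain ⟨u, hu⟩ := e'.exists_spl r 1
  obtain ⟨g, hg⟩ := e.exists_spl a u
  have := finite_isom (S := S)
  have g0 := (orderOf_pos g).ne'
  obtain ⟨k1, k2⟩ := (hS.mem_commutator_iff (notO4_of_two_ne h2) _).1 ((hg.mem_comm hS hT hU h2 ((hu.mem_comm hU (sOdd_nondeg c h2) hY h2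
    (one_mem _)).2 ((sOdd_nondeg c h2).mem_comm_of_unip h2 hr.unip))).2 ha)
  have j : (1, 2 * c + 1) ∈ JD (iE g) := by
    rw [sim_iff_JD.1 hg.sim, JD_prodMap, sim_iff_JD.1 hu.sim, JD_prodMap, ← finrank_odd_fun (F := F)]; simp only [Multiset.mem_add, hr.mem_JD]; simp
  have o : orderOf a ∣ orderOf g := hg.orderOf_eq ▸ Nat.dvd_lcm_left _ _
  have := ((ord_dvd_of_JD p g0).1 dvd_rfl _ j).2
  have := Nat.odd_iff.1 ((odd_char h2 p).pow (n := (orderOf g).factorization p))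
  refine ⟨g, k1, k2, (le_or_gt (2 * c + 3) _).imp (h _ g0 o) fun l => ⟨h _ (by simp [g0, hp.out.ne_zero]) (o.mul_left _) ?_,
    by rwa [show ordProj[p] (orderOf g) = 2 * c + 1 by omega]⟩⟩
  have := Nat.odd_iff.1 (odd_char h2 p)
  have := hp.out.two_le
  rw [ordProj_mul_self g0]; nlinarith [show 3 ≤ p by omega]

theorem ext_of_eqv (h : Eqv T S) {a : T.Isom} (ha : a ∈ commutator T.Isom) {N : ℕ} (h' : N ∣ orderOf a) : Ext p hS N := by
  obtain ⟨e, he⟩ := h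
  rw [hT.mem_commutator_iff (notO4_of_two_ne h2)] at ha
  exact ⟨isomCongr e he a, by rw [hT.dick_isomCongr, ha.1], by rw [hT.spin_isomCongr, ha.2], .inl (by rwa [MulEquiv.orderOf_eq])⟩

theorem exists_of_ext (hV : finrank F W = finrank F V + 1) (he : Even (finrank F V)) {N : ℕ} (h : Ext p hS N) :
    ∃ g ∈ commutator T.Isom, N ∣ orderOf g := by
  obtain ⟨g, g1, g2, h⟩ := h
  have hg := (hS.mem_commutator_iff (notO4_of_two_ne h2) _).2 ⟨g1, g2⟩
  rcases h with h | ⟨h, j⟩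
  · obtain ⟨U, hU, e⟩ := orth_exists_compl hT hS (by omega)
    obtain ⟨k, hk⟩ := e.exists_spl g 1
    exact ⟨k, (hk.mem_comm hT hS hU h2 (one_mem _)).2 hg, by simpa [hk.orderOf_eq] using h⟩
  obtain ⟨U, a, u, hU, s, ha, hu⟩ := hS.split1 g
  have hY := hS.restrict_perp hU
  replace hg := (s.mem_comm hS hU hY h2 (hY.mem_comm_of_unip h2 hu)).1 hg
  have d := s.finrank_eq
  have ev := ((hU.mem_commutator_iff (notO4_of_two_ne h2) _).1 hg).1
  rw [hU.dick_of_isUnit ha, neg_one_pow_eq_one_iff_even (by decide)] at ev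
  obtain ⟨Y, hY, e⟩ := orth_exists_compl hT hU (by omega)
  have d' := e.finrank_eq
  rw [finrank_prod] at d'
  obtain ⟨r, hr⟩ := orth_reg hY (.inl (by grind))
  obtain ⟨k, hk⟩ := e.exists_spl a r
  have := finite_isom (S := T)
  have k0 := (orderOf_pos k).ne'
  have o := hr.le_ordProj p k0 (by rw [orderOf_iE, hk.orderOf_eq]; exact Nat.dvd_lcm_right _ _)
  refine ⟨k, (hk.mem_comm hT hU hY h2 (hY.mem_comm_of_unip h2 hr.unip)).2 hg, h.trans (mul_dvd_of_ordProj_lt k0 (s.orderOf_eq.dvd.trans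
    (Nat.lcm_dvd (hk.orderOf_eq ▸ Nat.dvd_lcm_left _ _) (orderOf_iE u ▸ hu.ord_dvd p fun i hi => ?_))) ?_)⟩
  · have := JT_sum (iE u) ▸ Multiset.single_le_sum (fun _ _ => Nat.zero_le _) i hi; omega
  obtain ⟨i, i0, l⟩ := hS.two_blocks he g1 j
  rw [sim_iff_JD.1 s.sim, JD_prodMap] at l
  classical
  replace l := Multiset.filter_le_filter (·.1 = 1) l
  rw [Multiset.filter_add, Multiset.filter_eq_self.2 (by simp), Multiset.filter_eq_nil.2 (isUnit_sub_one_iff_JD.1 ha), zero_add] at l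
  obtain ⟨J, l⟩ := Multiset.le_iff_exists_add.1 (l.trans (Multiset.filter_le _ _))
  have := congrArg dm l
  simp [dm_JD] at this; omega

omit hT in
theorem PForm.Nondeg.block_lt {v : S.Isom} (hv : Unip (iE v)) (h : Even (finrank F V)) {i : ℕ} (hi : i ∈ JT (iE v)) : i < finrank F V := by
  have i0 := JT_pos hi
  obtain ⟨μ, e⟩ := Multiset.le_iff_exists_add.1 (Multiset.le_count_iff_replicate_le.1 (le_refl ((JT (iE v)).count i)))
  have d := e ▸ JT_sum (iE v)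
  have c0 := Multiset.count_pos.2 hi
  have := Nat.le_mul_of_pos_left i c0
  simp only [Multiset.sum_add, Multiset.sum_replicate, smul_eq_mul] at d
  by_contra
  obtain ⟨c, e⟩ := orth_par hS h2 hv (j := i) (by rwa [show i = finrank F V by omega])
  have : 2 * i ≤ _ := Nat.mul_le_mul_right i (show 2 ≤ (JT (iE v)).count i by omega); omega

omit hS hT in
theorem pow_of_pr {z : AC F} (z0 : z ≠ 0) {c : F} (hc : pr (orb (Nat.card F) 4 z 1) = algebraMap F _ c ^ 2) {m : ℕ}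
    (i : tO (Nat.card F) (2, false) ∣ m) (i' : tO (Nat.card F) (2, true) ∣ m) : z ^ m = 1 := by
  obtain ⟨r, hr⟩ := odd_card h2
  rw [pr_orb _ _ z0, pow_one] at hc
  have c0 : algebraMap F (AC F) c ^ (2 * r) = 1 := mul_right_cancel₀ (b := algebraMap F _ c) (fun z => by
    simp [z, zpow_ne_zero _ z0] at hc) (by rw [← pow_succ, ← hr, pow_card_algebraMap, one_mul])
  obtain ⟨u, hu⟩ : (2 * r ^ 2 + 2 * r + 1) * (4 * r ^ 2 + 4 * r) ∣ m := by
    refine Nat.Coprime.mul_dvd_of_dvd_of_dvd ?_ (Dvd.dvd.trans ⟨2, ?_⟩ i) (Dvd.dvd.trans (Eq.dvd ?_) i')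
    · rw [show 4 * r ^ 2 + 4 * r = 2 * (2 * r ^ 2 + 2 * r) by ring]
      exact Nat.Coprime.mul_right (Nat.coprime_two_right.2 (by grind)) (by simp)
    · rw [hr]; exact show _ ^ 2 + 1 = _ by ring
    · rw [hr]; exact Nat.eq_sub_of_add_eq (by ring)
  rw [pow_mul, ← hc, ← zpow_natCast, ← zpow_mul] at c0
  rw [hu, pow_mul, ← zpow_natCast z, (congrArg (z ^ ·) ?_).trans c0, one_pow]
  simp [hr, Finset.sum_range_succ]; ring

omit hS in
theorem not_hasTS_four (hW : finrank F W = 2 * 4) {a : T.Isom} (h : orderOf a ∣ tO (Nat.card F) (4, false)) (h' : a ^ 2 ≠ 1) : ¬ T.HasTS 4 := by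
  have t0 := tO_pos (Finite.one_lt_card (α := F)) (l := (4, false)) (by simp)
  obtain ⟨r, hr, r2, m, hm⟩ : ∃ r, r.Prime ∧ r ≠ 2 ∧ r ∣ orderOf a := by
    by_contra! n
    obtain ⟨_ | _ | j, e⟩ : ∃ j, orderOf a = 2 ^ j := ⟨_, Nat.eq_prime_pow_of_unique_prime_dvd (ne_zero_of_dvd_ne_zero t0.ne' h) fun a b =>
      by_contra fun c => n _ a c b⟩
    · exact h' (orderOf_dvd_iff_pow_eq_one.1 (by simp [e]))
    · exact h' (orderOf_dvd_iff_pow_eq_one.1 (by simp [e]))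
    · have := (show 4 ∣ _ from ⟨2 ^ j, by rw [e]; ring⟩).trans h
      have := tO_two_mod (q := Nat.card F ^ 2) (odd_card h2).pow
      simp [tO, ← pow_mul] at *; omega
  have d := (dvd_mul_right r m).trans (hm ▸ h)
  have h0 : (r : F) ≠ 0 := by
    obtain ⟨c, e⟩ := d
    have := Fintype.ofFinite F
    intro z; simpa [tO, z] using congrArg (Nat.cast : ℕ → F) e
  have e : a ^ (m * r) = 1 := by rw [mul_comm, ← hm, pow_orderOf_eq_one]
  have m0 : 0 < m := Nat.pos_of_ne_zero (by rintro rfl; simp [hm, t0.ne'] at h)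
  have l := hT.dN_le frob_id hr h0 e fun c => by
    have := Nat.le_of_dvd m0 (orderOf_dvd_of_pow_eq_one c); nlinarith [hr.two_le]
  obtain ⟨o1, o2⟩ : od F r ∣ 2 ^ 3 ∧ ¬ od F r ∣ 2 ^ 2 := by simpa using (dvd_tO_iff hr r2 Nat.card_pos).1 d
  rw [dN_prime hr r2 h0, Nat.eq_prime_pow_of_dvd_least_prime_pow Nat.prime_two o2 o1, if_neg (by decide)] at l
  have := hT.finrank_res_add (a ^ m)
  have t := orth_type_of_free hT hW hr h0 (g := a ^ m) (j := 1) (by rw [pow_one, ← pow_mul, e]) ((Submodule.eq_bot_iff (fixSp _)).1 (by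
    rw [← hT.perp_res, ← Submodule.finrank_eq_zero]; omega))
  exact fun c => o2 (orderOf_dvd_of_pow_eq_one (by rwa [if_pos c] at t))

set_option maxHeartbeats 1600000 in
theorem ext_eight (hV : finrank F V = 2 * 4) (ht : ¬ S.HasTS 4) (hW : finrank F W = 2 * 4) {a : T.Isom} (ha : a ∈ commutator T.Isom)
    (h1 : IsUnit (iE a - 1)) : Ext p hS (orderOf a) := by
  obtain ⟨U, b, v, hU, s, hb, hv⟩ := hT.split1 (T.neg1 * a)
  replace s := s.neg
  have hY := hT.restrict_perp hU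
  have d := s.finrank_eq
  have j := (sim_iff_JD.1 s.sim).trans (JD_prodMap _ _)
  have y1 := isUnit_sub_one_iff_JD.2 fun x hx => isUnit_sub_one_iff_JD.1 h1 x (j ▸ Multiset.mem_add.2 (.inl hx))
  have y0 := hU.dick_of_isUnit y1
  have ev : (-1 : ℤˣ) ^ finrank F U = 1 := by
    rw [map_mul, hU.dick_of_isUnit hb, mul_eq_right] at y0; rwa [← hU.dick_negOne h2]
  rw [ev] at y0
  rw [neg_one_pow_eq_one_iff_even (by decide)] at ev
  have y2 := isUnit_sq_iff_JD.1 (show IsUnit (iE (neg1 _ * b) * iE (neg1 _ * b) - 1) by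
    convert (y1.mul hb).neg using 1; ext x; simp)
  generalize neg1 _ * b = y at *
  have k : ∀ m, 2 ∣ m → orderOf y ∣ m → (∀ i ∈ JT (iE v), i ≤ ordProj[p] m) → orderOf a ∣ m := fun m ⟨i, e⟩ c f =>
    s.orderOf_eq.dvd.trans (Nat.lcm_dvd c (orderOf_dvd_of_pow_eq_one (by
      rw [(neg1_comm v).mul_pow, (orderOf_dvd_iff_pow_eq_one (x := v)).1 (orderOf_iE v ▸ hv.ord_dvd p f), e, pow_mul, neg1_sq]; simp)))
  have k1 := fun i => hY.block_lt h2 hv (i := i) (by grind)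
  have oq := odd_card h2
  by_cases c : 4 ≤ finrank F (T.perp U)
  · obtain ⟨l, hl⟩ : ∃ l : Bool, (if l then 1 else -1) * sqSign (-1 : F) ^ 1 = hU.spin y := by
      rcases Int.units_eq_one_or (hU.spin y) with k | k <;> rcases Int.units_eq_one_or (sqSign (-1 : F)) with k' | k' <;> simp [k, k']
    obtain ⟨A, _, _, _, R, hR, -, r1, r2, -⟩ := exists_orth_type (F := F) (l := (1, l)) one_pos
    obtain ⟨x, hx⟩ := (Eqv.refl (_root_.H11.PForm.prod _ R)).exists_spl y R.neg1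
    obtain ⟨c', e⟩ : ∃ c, finrank F (T.perp U) = 2 * (c + 2) := ⟨finrank F (T.perp U) / 2 - 2, by grind⟩
    refine ext_of h2 p hS (hU.prod hR) (a := x) ?_ (c := c') (by simp [r1]; omega) fun m _ f g => k m (Dvd.dvd.trans ?_ f)
      (Dvd.dvd.trans (hx.orderOf_eq ▸ Nat.dvd_lcm_left _ _) f) fun i hi => by have := k1 i hi; omega
    · have : hR.spin R.neg1 = hU.spin y := (orth_disc_even h2 1 hR r1).trans (by simpa [r2] using hl)
      simp [(hU.prod hR).mem_commutator_iff (notO4_of_two_ne h2), hx.dick_spin (hU.prod hR) hU hR, y0, this,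
        show hR.dick R.neg1 = 1 from (hR.dick_negOne h2).trans (by simp [r1])]
    · rw [hx.orderOf_eq, orderOf_neg1 h2 (by simp [r1])]; exact Nat.dvd_lcm_right _ _
  have dJ := dm_JD (iE y)
  obtain ⟨x, hx, mx⟩ := Multiset.exists_max_image (s := JD (iE y)) Prod.snd (by rintro e; simp [e] at dJ; omega)
  have x0 := JD_pos hx
  obtain ⟨O, J, l, e, a1, a2, a3, a4, a5, a6⟩ := exists_piece Nat.card_pos (adm_JD (isUnit_iE y))
    ((dl_iff_JD (fun _ => rfl) frob_id (isUnit_iE y)).1 (hU.dl y)) hx (y2 x hx)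
  obtain ⟨L, b1, b2, b3⟩ := exists_pieces Nat.card_pos a1 a2 fun z hz => y2 z (by simp [e, hz])
  rw [e, dm_add, a4] at dJ
  have K : ∀ m ≠ 0, 2 ∣ m → (∀ z ∈ O + J, z.1 ^ m = 1) → x.2 ≤ ordProj[p] m → orderOf a ∣ m := fun m m0 f g i =>
    k m f ((ord_dvd_of_JD p m0).2 fun z hz => ⟨g z (e ▸ hz), (mx z hz).trans i⟩) fun i hi => le_trans (by have := k1 i hi; grind) one_le_ordProj
  have K' : ∀ m ≠ 0, (∀ l' ∈ l ::ₘ L, tO (Nat.card F) l' ∣ m) → x.2 ≤ ordProj[p] m → orderOf a ∣ m := fun m m0 f =>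
    K m m0 ((two_dvd_tO oq l).trans (f l (by simp))) fun z hz => by
      obtain ⟨l', h, g⟩ : ∃ l' ∈ l ::ₘ L, z.1 ^ tO (Nat.card F) l' = 1 := (Multiset.mem_add.1 hz).elim (fun h => ⟨l, by simp, a5 z h⟩)
        fun h => (b3 z h).1.imp fun _ h => ⟨by simp [h.1], h.2⟩
      obtain ⟨i, rfl⟩ := f l' h; rw [pow_mul, g, one_pow]
  have P : ∀ (l₁ l₂ : ℕ × Bool) c, 0 < l₁.1 → 0 < l₂.1 → (tO (Nat.card F) l₁ % 4 = 2 ∨ tO (Nat.card F) l₂ % 4 = 2) → l₁.1 + l₂.1 + c = 3 →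
      x.2 ≤ 2 * c + 3 → (∀ l' ∈ l ::ₘ L, tO (Nat.card F) l' ∣ tO (Nat.card F) l₁ ∨ tO (Nat.card F) l' ∣ tO (Nat.card F) l₂) →
        Ext p hS (orderOf a) := fun l₁ l₂ c c1 c2 c3 c4 c5 c6 => by
    obtain ⟨A, _, _, _, R, g, r1, r2, -, r3, r4, r5⟩ := two_pieces h2 c1 c2 c3
    exact ext_of h2 p hS r1 r3 (c := c) (by omega) fun m m0 f i => K' m m0 (fun l' h => (c6 l' h).elim (·.trans (r4.trans f))
      (·.trans (r5.trans f))) (c5.trans i)
  have Q : ∀ (d₁ d₂ : ℕ) b, 0 < d₁ → 0 < d₂ → (tO (Nat.card F) (d₁, b) % 4 = 2 ∨ tO (Nat.card F) (d₂, !b) % 4 = 2) → d₁ + d₂ = 4 →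
      (∀ m ≠ 0, tO (Nat.card F) (d₁, b) ∣ m → tO (Nat.card F) (d₂, !b) ∣ m → orderOf a ∣ m) → Ext p hS (orderOf a) := fun d₁ d₂ b c1 c2 c3 c4 c5 => by
    obtain ⟨A, _, _, _, R, g, r1, r2, r0, r3, r4, r5⟩ := two_pieces h2 (l := (d₁, b)) (l' := (d₂, !b)) c1 c2 c3
    have := finite_isom (S := R)
    simp only [c4] at r2 r0
    exact ext_of_eqv h2 p hS r1 (orth_eqv_even 4 r1 hS r2 hV (iff_of_false (by simp [r0]) ht)) r3 (c5 _ (orderOf_pos g).ne' r4 r5)
  have pos : ∀ l' ∈ l ::ₘ L, 0 < l'.1 := Multiset.forall_mem_cons.2 ⟨a3, b1⟩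
  rcases (by omega : 4 ≤ x.2 ∨ 2 ≤ x.2 ∧ x.2 ≤ 3 ∨ x.2 = 1) with g | g | g
  · obtain rfl : L = 0 := Multiset.eq_zero_of_forall_notMem fun z hz => by have := le_sL hz; have := b1 z hz; nlinarith
    obtain ⟨i, b⟩ := l
    obtain rfl : i = 1 := by simp at *; nlinarith
    exact P (1, b) (1, !b) 1 one_pos one_pos (tO_mod oq odd_one odd_one b) rfl (by simp at *; omega) (by simp)
  · obtain ⟨b, c, c1, c2⟩ := three_cases oq (L := l ::ₘ L) (Multiset.forall_mem_cons.2 ⟨⟨a3, by nlinarith⟩, fun z hz => ⟨b1 z hz, by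
      have := le_sL hz; nlinarith⟩⟩) (by simp; nlinarith)
    exact P (2, b) (1, c) 0 two_pos one_pos c1 rfl g.2 c2
  simp only [g, one_le_ordProj, forall_const, mul_one] at K K' dJ
  rcases four_cases (q := Nat.card F) pos (by simp; omega) with ⟨b, f⟩ | ⟨b, f⟩ | f
  rotate_left
  · exact Q 3 1 b (by simp) one_pos (tO_mod oq (by decide) odd_one b) rfl fun m m0 i i' => K' m m0 fun z hz => (f z hz).elim (·.trans i) (·.trans i')
  · exact Q 2 2 false two_pos two_pos (.inl (tO_two_mod oq)) rfl fun m m0 i i' => K' m m0 fun z hz => (f z hz).elim (·.trans i') (· ▸ i)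
  obtain ⟨rfl, rfl⟩ : l = (4, b) ∧ L = 0 := (Multiset.singleton_eq_cons_iff _).1 f.symm |>.imp Eq.symm id
  obtain rfl := a1.eq_zero (by simp at dJ; omega)
  rw [(adm_JD (isUnit_iE _)).eq_zero (J := JD (iE (_ * v))) (by rw [dm_JD]; simp at dJ; omega), add_zero] at j
  rw [← j] at y2 e hx
  cases b
  · exact ext_of_eqv h2 p hS hT (orth_eqv_even 4 hT hS hW hV (iff_of_false (not_hasTS_four h2 hT hW (K' _ (tO_pos Finite.one_lt_card a3).ne'
      (by simp)) fun f => y2 x hx ((ord_dvd_of_JD p two_ne_zero).1 (orderOf_dvd_of_pow_eq_one f) x hx).1) ht)) ha dvd_rfl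
  obtain ⟨f1, rfl⟩ := a6 rfl
  obtain ⟨c, hc⟩ := hT.pr_of_spin (isUnit_sq_iff_JD.2 y2) f1 (by rw [e, add_zero]) ((hT.mem_commutator_iff (notO4_of_two_ne h2) _).1 ha).2
  refine Q 2 2 false two_pos two_pos (.inl (tO_two_mod oq)) rfl fun m m0 i i' => K m m0 ((two_dvd_tO oq _).trans i) ?_
  have z0 := ((adm_JD (isUnit_iE a)).ne x hx).1
  have := pow_of_pr h2 z0 (g ▸ hc) i i'
  simp only [add_zero, orb_map, Multiset.mem_add, mem_orb]
  rintro _ (⟨i, -, rfl⟩ | ⟨i, -, rfl⟩) <;> rw [← zpow_natCast, zpow_comm] <;> simp [this]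

theorem ext_iff_nine (hV : finrank F V = 2 * 4) (ht : ¬ S.HasTS 4) (hW : finrank F W = 2 * 4 + 1) {N : ℕ} :
    Ext p hS N ↔ ∃ g ∈ commutator T.Isom, N ∣ orderOf g := by
  refine ⟨exists_of_ext h2 p hS hT (by omega) ⟨4, hV⟩, fun ⟨g, hg, h⟩ => ?_⟩
  obtain ⟨U, a, u, hU, s, ha, hu⟩ := hT.split1 g
  have hY := hT.restrict_perp hU
  replace hg := (s.mem_comm hT hU hY h2 (hY.mem_comm_of_unip h2 hu)).1 hg
  have d := s.finrank_eq
  have ev := ((hU.mem_commutator_iff (notO4_of_two_ne h2) _).1 hg).1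
  rw [hU.dick_of_isUnit ha, neg_one_pow_eq_one_iff_even (by decide)] at ev
  by_cases c : finrank F (T.perp U) ≤ 1
  · obtain ⟨k, a1, a2, a3⟩ := ext_eight h2 p hS hU hV ht (by grind) hg ha
    rw [s.orderOf_eq, ← orderOf_iE u, hu.eq_one c, orderOf_one, Nat.lcm_one_right] at h
    exact ⟨k, a1, a2, a3.imp h.trans (And.imp_left h.trans)⟩
  obtain ⟨c, e⟩ : ∃ c, finrank F (T.perp U) = 2 * c + 3 := ⟨(finrank F (T.perp U) - 3) / 2, by grind⟩
  refine ext_of h2 p hS hU hg (c := c) (by omega) fun m _ f i => h.trans (s.orderOf_eq.dvd.trans (Nat.lcm_dvd f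
    (orderOf_iE u ▸ hu.ord_dvd p fun i hi => ?_)))
  have := JT_sum (iE u) ▸ Multiset.single_le_sum (fun _ _ => Nat.zero_le _) i hi; omega

end H11
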