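import Cfsg.Agent.H11.Syl2
import Cfsg.Agent.H11.PSp1
import Cfsg.Agent.H10.SL

/-! Wreath subgroups of `GL_n` (`exists_wr_gl`), valuations of `|GL_n(q)|`, and Sylow 2-subgroups of `SL_n(q)`, `Sp_{2n}(q)`, `q` odd,
with elementary abelian abelianization (`ex_sl_three`, `ex_sl_one`, `ex_sp`). -/

set_option autoImplicit false

namespace H11
open Subgroup Equiv Matrix
open scoped MatrixGroups

variable {F : Type*} [Field F] {ι κ ρ : Type} [Fintype ι] [DecidableEq ι] [Fintype κ] [DecidableEq κ] [Fintype ρ] [DecidableEq ρ]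

def glRe (e : ι ≃ κ) : GL ι F ≃* GL κ F := Units.mapEquiv (reindexAlgEquiv F F e).toMulEquiv

noncomputable def slRe (e : ι ≃ κ) : SpecialLinearGroup ι F ≃* (GeneralLinearGroup.det : GL κ F →* Fˣ).ker :=
  H10.SLEquivKerDet.trans (subgroupEquivOfIff (glRe e) fun g => by simp [glRe, Units.ext_iff])

theorem exists_wr_gl [Nonempty κ] {A B : Type*} [Group A] [Group B] (a : A →* GL κ F) (b : B →* GL ρ F) (ha : Function.Injective a)
    (hb : Function.Injective b) (ι : Type) [Fintype ι] [DecidableEq ι] :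
    ∃ (β : (ι → A) →* GL (κ × ι ⊕ ρ) F) (π : Perm ι →* GL (κ × ι ⊕ ρ) F) (γ : B →* GL (κ × ι ⊕ ρ) F), Wr β π γ ∧
      (∀ f, (β f).1.det = ∏ i, (a (f i)).1.det) ∧ (∀ s, (π s).1.det = ↑(Perm.sign s ^ Fintype.card κ : ℤˣ)) ∧
        ∀ r, (γ r).1.det = (b r).1.det := by
  let β : (ι → A) →* Matrix (κ × ι ⊕ ρ) (κ × ι ⊕ ρ) F := ⟨⟨fun f => fromBlocks (blockDiagonal fun i => (a (f i)).1) 0 0 1, by
    simp [← Pi.one_def]⟩, fun f g => by simp [fromBlocks_multiply, blockDiagonal_mul]⟩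
  let p : Perm ι →* Perm (κ × ι) := .mk' (fun s => prodCongrRight fun _ => s) fun _ _ => rfl
  let π : Perm ι →* Matrix (κ × ι ⊕ ρ) (κ × ι ⊕ ρ) F := ⟨⟨fun s => fromBlocks (permMatrixHom (p s)) 0 0 1, by simp⟩,
    fun f g => by simp [fromBlocks_multiply]⟩
  let γ : B →* Matrix (κ × ι ⊕ ρ) (κ × ι ⊕ ρ) F := ⟨⟨fun r => fromBlocks 1 0 0 (b r).1, by simp⟩,
    fun f g => by simp [fromBlocks_multiply]⟩
  have h1 : ∀ f, β f = fromBlocks (blockDiagonal fun i => (a (f i)).1) 0 0 1 := fun _ => rfl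
  have h2 : ∀ s, π s = fromBlocks ((p s⁻¹).permMatrix F) 0 0 1 := fun _ => rfl
  have h3 : ∀ r, γ r = fromBlocks 1 0 0 (b r).1 := fun _ => rfl
  have h4 : ∀ s x, p s x = (x.1, s x.2) := fun _ _ => rfl
  refine ⟨β.toHomUnits, π.toHomUnits, γ.toHomUnits, ⟨fun s f => mul_inv_eq_iff_eq_mul.2 (Units.ext ?_), fun r f => Units.ext ?_,
    fun r s => Units.ext ?_, fun f s r h => ?_⟩, fun f => by simp [h1], fun s => ?_, fun r => by simp [h3]⟩
  · simp only [Units.val_mul, MonoidHom.coe_toHomUnits, h1, h2, fromBlocks_multiply, Matrix.mul_zero, Matrix.zero_mul, add_zero,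
      PEquiv.toMatrix_toPEquiv_mul, PEquiv.mul_toMatrix_toPEquiv]
    congr 1; ext x y
    simp [blockDiagonal_apply, ← Perm.inv_def, ← map_inv, h4, symm_apply_eq]
  · simp [h1, h3, fromBlocks_multiply]
  · simp [h2, h3, fromBlocks_multiply]
  · have h := congrArg Units.val h
    simp only [Units.val_mul, MonoidHom.coe_toHomUnits, h1, h2, h3, fromBlocks_multiply, PEquiv.mul_toMatrix_toPEquiv, Units.val_one,
      ← fromBlocks_one, fromBlocks_inj, Matrix.mul_zero, Matrix.zero_mul, add_zero, zero_add, Matrix.mul_one, one_mul] at h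
    obtain ⟨x⟩ := ‹Nonempty κ›
    have h5 := fun x y i => congrFun₂ h.1 (x, i) (y, i)
    simp only [submatrix_apply, id, blockDiagonal_apply, ← Perm.inv_def, ← map_inv, inv_inv, h4] at h5
    obtain rfl : s = 1 := Perm.ext fun i => by_contra fun e => by simpa [show i ≠ s i from Ne.symm e] using h5 x x i
    exact ⟨funext fun i => ha (Units.ext (by ext x y; simpa [one_apply] using h5 x y i)), rfl, hb (Units.ext (by simpa using h.2.2.2))⟩
  · simp [h2, show Perm.sign (p s) = _ from Perm.sign_prodCongrRight fun _ => s]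

theorem val_GL [Finite F] {r : ℕ} [Fact r.Prime] (hr : ¬ r ∣ Nat.card F) : padicValNat r (Nat.card (GL ι F)) =
    ∑ i ∈ Finset.range (Fintype.card ι), padicValNat r (Nat.card F ^ (i + 1) - 1) := by
  have := Fintype.ofFinite F
  have h1 := Finite.one_lt_card (α := F)
  rw [Nat.card_congr (glRe (Fintype.equivFin ι)).toEquiv, card_GL_field, ← Nat.card_eq_fintype_card (α := F),
    Fin.prod_univ_eq_prod_range fun i => _ ^ _ - _ ^ i, ← Finset.sum_range_reflect]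
  generalize Fintype.card ι = n
  have : ∀ s ⊆ Finset.range n, ∏ i ∈ s, (Nat.card F ^ n - Nat.card F ^ i) ≠ 0 := fun s hs => Finset.prod_ne_zero_iff.2 fun i h =>
    Nat.sub_ne_zero_of_lt (Nat.pow_lt_pow_right h1 (Finset.mem_range.1 (hs h)))
  rw [← Nat.factorization_def _ Fact.out, Nat.factorization_prod (Finset.prod_ne_zero_iff.1 (this _ le_rfl)), Finset.sum_apply']
  refine Finset.sum_congr rfl fun i h => ?_
  obtain ⟨k, rfl⟩ := Nat.exists_eq_add_of_lt (Finset.mem_range.1 h)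
  rw [Nat.factorization_def _ Fact.out, add_assoc, pow_add, ← Nat.mul_sub_one, padicValNat.mul (by positivity)
    (Nat.sub_ne_zero_of_lt (Nat.one_lt_pow (by simp) h1)), padicValNat.pow, padicValNat.eq_zero_of_not_dvd hr]
  simp [show i + (k + 1) - 1 - i = k by omega]

theorem val_odd_pow {q : ℕ} (h : q % 2 = 1) (h1 : 1 < q) (i : ℕ) : padicValNat 2 (q ^ (2 * i + 1) - 1) = padicValNat 2 (q - 1) := by
  obtain ⟨q, rfl⟩ : ∃ k, q = k + 1 := ⟨q - 1, by omega⟩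
  have : ∀ n, (∑ j ∈ Finset.range n, (q + 1) ^ j) % 2 = n % 2 := fun n => by
    induction n with
    | zero => simp
    | succ n ih => rw [Finset.sum_range_succ, Nat.add_mod, ih, Nat.pow_mod, h]; simp
  have := this (2 * i + 1)
  rw [← geom_sum_mul_add, Nat.add_sub_cancel, padicValNat.mul (by omega) (by omega), padicValNat.eq_zero_of_not_dvd (by omega)]
  simp

theorem val_sum_three {q : ℕ} (h : q % 4 = 3) (m : ℕ) : ∑ i ∈ Finset.range (2 * m), padicValNat 2 (q ^ (i + 1) - 1) =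
    m * (1 + padicValNat 2 (q ^ 2 - 1)) + padicValNat 2 m.factorial := by
  induction m with
  | zero => simp
  | succ m ih =>
    rw [mul_add, mul_one, Finset.sum_range_succ, Finset.sum_range_succ, ih, val_odd_pow (by omega) (by omega), val_two (n := q - 1) (by omega),
      show 2 * m + 1 + 1 = 2 * (m + 1) by ring, val_pow_sub (by omega) (by omega), Nat.factorial_succ,
      padicValNat.mul (by simp) m.factorial_ne_zero]
    ring

theorem val_sum_one {q : ℕ} (h : q % 4 = 1) (h1 : 1 < q) (m : ℕ) : ∑ i ∈ Finset.range m, padicValNat 2 (q ^ (i + 1) - 1) =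
    m * padicValNat 2 (q - 1) + padicValNat 2 m.factorial := by
  induction m with
  | zero => simp
  | succ m ih =>
    rw [Finset.sum_range_succ, ih, Nat.factorial_succ, padicValNat.mul (by simp) m.factorial_ne_zero]
    obtain ⟨k, rfl | rfl⟩ := m.even_or_odd'
    · rw [val_odd_pow (by omega) h1, padicValNat.eq_zero_of_not_dvd (n := 2 * k + 1) (by omega)]; ring
    · have := padicValNat.pow_two_sub_one h1 (by omega) (n := 2 * k + 1 + 1) (by simp) ⟨k + 1, by ring⟩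
      rw [val_two (n := q + 1) (by omega)] at this
      rw [add_mul (2 * k + 1)]; omega

variable [Finite F]

theorem det_sq_of_syl (h : Nat.card F % 4 = 3) {G : Type*} [Group G] (f : G →* GL κ F) {P : Subgroup G} (hP : IsPGroup 2 P) {x : G}
    (hx : x ∈ P) : (f x).1.det ^ 2 = 1 := by
  have := Fintype.ofFinite F
  obtain ⟨j, hj⟩ := hP ⟨x, hx⟩
  have a : (f x).1.det ^ 2 ^ j = 1 := by
    rw [← det_pow, ← Units.val_pow_eq_pow_val, ← map_pow, show x ^ 2 ^ j = 1 from congrArg (·.1) hj]; simp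
  have b := FiniteField.pow_card_sub_one_eq_one _ (f x).det_ne_zero
  rw [← Nat.card_eq_fintype_card, show Nat.card F - 1 = 2 * (2 * (Nat.card F / 4) + 1) by omega, pow_mul] at b
  exact (pow_eq_one_iff_of_coprime (m := 2 ^ j) (.pow_left _ (by simp))).1 ⟨by rw [← pow_mul, mul_comm, pow_mul, a, one_pow], b⟩

theorem exists_syl_gl2 (h : Nat.card F % 4 = 3) : ∃ (D : Subgroup (GL (Fin 2) F)) (X : Set (GL (Fin 2) F)) (i : GL (Fin 2) F),
    Nat.card D = 2 ^ (1 + padicValNat 2 (Nat.card F ^ 2 - 1)) ∧ D ≤ closure X ∧ X ⊆ D ∧ i ∈ D ∧ i.1.det = 1 ∧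
      (∀ x ∈ X, x * i * x⁻¹ = i⁻¹ ∧ (x ^ 2 = 1 ∨ x ^ 2 = i ^ 2) ∧ x.1.det ^ 2 = 1) ∧ (∃ z ∈ X, z.1.det = -1) ∧ ∃ y ∈ X, y.1.det = 1 ∧
        ∀ d ∈ D, d.1.det = 1 → d ∈ X ∨ y * d * y⁻¹ = d⁻¹ := by
  have := Fintype.ofFinite F
  have h2 : (2 : F) ≠ 0 := two_ne_zero_iff_odd.2 (by rw [Nat.odd_iff, ← Nat.card_eq_fintype_card]; omega)
  have h3 : sqSign (-1 : F) = -1 := (Int.units_eq_one_or _).resolve_left (by
    rw [sqSign_neg_one h2, ← Nat.card_eq_fintype_card]; omega)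
  have h4 : ∀ a b : F, a ^ 2 + b ^ 2 = 0 → a = 0 := fun a b e => by_contra fun h =>
    sqSign_eq_neg_one_iff.1 h3 ⟨b / a, by grind⟩
  obtain ⟨i, hi⟩ : ∃ i : GL (Fin 2) F, i.1 = !![0, -1; 1, 0] := ⟨.mkOfDetNeZero !![0, -1; 1, 0] (by simp), rfl⟩
  have i2 : i⁻¹ = -i := inv_eq_of_mul_eq_one_right (Units.ext (by simp [hi, one_fin_two]))
  have e : ∀ g : GL (Fin 2) F, (g * i = i * g ↔ g.1 1 1 = g.1 0 0 ∧ g.1 0 1 = -g.1 1 0) ∧
      (g * i = -(i * g) ↔ g.1 1 1 = -g.1 0 0 ∧ g.1 0 1 = g.1 1 0) := fun g => by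
    simp only [hi, Units.ext_iff, ← Matrix.ext_iff, Units.val_mul, Units.val_neg, Fin.forall_fin_two, mul_apply, Matrix.neg_apply,
      Fin.sum_univ_two]
    simp; clear * - g; grind
  have hn : ∀ g : GL (Fin 2) F, g ≠ -g ∧ -g ≠ g := fun g => by
    have : g ≠ -g := fun h => g.det_ne_zero (by
      have : ∀ a b, g.1 a b = 0 := fun a b => by
        have : g.1 a b = -g.1 a b := congrArg (·.1 a b) h
        clear * - this h2; grind
      simp [det_fin_two, this])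
    exact ⟨this, this.symm⟩
  let N : Subgroup (GL (Fin 2) F) := ⟨⟨⟨{g | g * i = i * g ∨ g * i = -(i * g)}, by
    rintro a b (h | h) (k | k) <;> simp [mul_assoc, k, ← mul_assoc a, h]⟩, by simp⟩, by
    rintro a (h | h)
    exacts [.inl (Commute.inv_left h), .inr (by rw [inv_mul_eq_iff_eq_mul, mul_neg, ← mul_assoc, h]; simp)]⟩
  classical
  let χ : N →* ℤˣ := .mk' (fun g => if g.1 * i = i * g.1 then 1 else -1) (by
    rintro ⟨a, h | h⟩ ⟨b, k | k⟩ <;> simp [mul_assoc, k, ← mul_assoc a, h, hn])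
  have hχ : ∀ g : N, χ g = -1 ↔ g.1 * i = -(i * g.1) := by rintro ⟨a, h | h⟩ <;> simp [χ, h, hn]
  have hχ' : ∀ g : χ.ker, g.1.1 * i = i * g.1.1 := fun g => g.1.2.resolve_right fun h => by
    simpa using ((hχ _).2 h).symm.trans g.2
  let φ : N := ⟨.mkOfDetNeZero !![1, 0; 0, -1] (by simp), .inr (by simp [e])⟩
  have c1 : Nat.card χ.ker + 1 = Nat.card F ^ 2 := by
    rw [sq, ← Nat.card_prod, ← card_ne_zero_add_one (F × F)]; congr 1
    refine Nat.card_congr ⟨fun g => ⟨(g.1.1 0 0, g.1.1 1 0), fun h => g.1.1.det_ne_zero ?_⟩, fun x => ⟨⟨.mkOfDetNeZero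
      !![x.1.1, -x.1.2; x.1.2, x.1.1] fun h => x.2 ?_, .inl (by simp [e])⟩, by simp [χ, e]⟩, fun g => ?_, fun x => rfl⟩
    · have := (e g.1.1).1.1 (hχ' g); simp [det_fin_two, this, Prod.mk_eq_zero.1 h]
    · simp at h; exact Prod.ext (h4 _ x.1.2 (by grind)) (h4 _ x.1.1 (by grind))
    · have := (e g.1.1).1.1 (hχ' g)
      ext a b; fin_cases a <;> fin_cases b <;> simp [this]
  have c2 : Nat.card N = 2 * (Nat.card F ^ 2 - 1) := by
    rw [← χ.ker.index_mul_card, index_ker, MonoidHom.range_eq_top.2 fun x => by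
      obtain rfl | rfl := Int.units_eq_one_or x; exacts [⟨1, by simp⟩, ⟨φ, by simp [hχ, e, φ]⟩], ← c1]
    simp
  obtain ⟨P⟩ : Nonempty (Sylow 2 N) := inferInstance
  have d1 := fun x => det_sq_of_syl h N.subtype P.2 (x := x)
  have mi : (⟨i, .inl rfl⟩ : N) ∈ P.1 := by
    have : (zpowers (⟨i, .inl rfl⟩ : N)).Normal := ⟨by
      rintro _ ⟨k, rfl⟩ ⟨g, h | h⟩ <;> simp only [← conj_zpow] <;> refine zpow_mem ?_ k
      · exact ⟨1, Subtype.ext (by simp [h])⟩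
      · exact ⟨-1, Subtype.ext (by simp [h, i2])⟩⟩
    refine IsPGroup.le_sylow_of_normal (IsPGroup.of_card_dvd_pow (n := 2) ?_) P (mem_zpowers _)
    rw [Nat.card_zpowers, orderOf_dvd_iff_pow_eq_one]
    exact Subtype.ext (Units.ext (by simp [hi, pow_succ, one_fin_two]))
  obtain ⟨a, b, hab⟩ := exists_quad_eq (F := F) one_ne_zero one_ne_zero (-1)
  have su : ∀ g : N, g.1 * i = -(i * g.1) → g.1.1.det ^ 2 = 1 → ∃ y ∈ P.1, y.1 * i = -(i * y.1) ∧ y.1.1.det = g.1.1.det := by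
    intro g g1 g2
    obtain ⟨y, y1, y2⟩ := syl_surj P (χ.prod (.mk' (fun g => sqSign g.1.1.det) fun a b => by
      simp [sqSign_mul a.1.det_ne_zero b.1.det_ne_zero])) (.of_card (n := 2) (by simp)) g
    refine ⟨y, y1, (hχ y).1 ((congrArg Prod.fst y2).trans ((hχ _).2 g1)), ?_⟩
    have y3 : sqSign y.1.1.det = sqSign g.1.1.det := congrArg Prod.snd y2
    rcases sq_eq_one_iff.1 g2 with a | a <;> rcases sq_eq_one_iff.1 (d1 y y1) with b | b <;> change y.1.1.det = _ at b <;>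
      simp only [a, b, h3, sqSign_one] at y3 ⊢ <;> simp at y3
  obtain ⟨y, y1, y3, y4⟩ := su ⟨.mkOfDetNeZero !![a, b; b, -a] (by simp; grind), .inr (by simp [e])⟩ (by simp [e]) (by simp; grind)
  replace y4 : y.1.1.det = 1 := y4.trans (by simp; grind)
  obtain ⟨z, z1, z3, z4⟩ := su φ (by simp [e, φ]) (by simp [φ])
  refine ⟨P.1.map N.subtype, {x | x ∈ P.1.map N.subtype ∧ x * i = -(i * x)}, i, ?_, ?_, fun _ h => h.1, ⟨_, mi, rfl⟩, by simp [hi], ?_,
    ⟨z, ⟨⟨z, z1, rfl⟩, z3⟩, by simpa [φ] using z4⟩, y, ⟨⟨y, y1, rfl⟩, y3⟩, y4, ?_⟩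
  · rw [card_map_of_injective N.subtype_injective, card_syl, c2, padicValNat.mul (by simp) (by have := Nat.card_pos (α := χ.ker); omega)]
    simp
  · rintro _ ⟨⟨g, h | h⟩, hg, rfl⟩
    · refine (Subgroup.mul_mem_cancel_right _ (x := y.1) (Subgroup.subset_closure ?_)).1 (Subgroup.subset_closure ?_)
      exacts [⟨⟨y, y1, rfl⟩, y3⟩, ⟨⟨_, mul_mem hg y1, rfl⟩, by simp [mul_assoc, y3, ← mul_assoc g, h]⟩]
    · exact Subgroup.subset_closure ⟨⟨_, hg, rfl⟩, h⟩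
  · rintro _ ⟨⟨x, hx, rfl⟩, h⟩
    have h1 : x.1.1.det ^ 2 = 1 := d1 x hx
    have h5 := (e x).2.1 h
    refine ⟨by rw [h]; simp [i2], ?_, h1⟩
    rw [det_fin_two, sq_eq_one_iff] at h1
    simp [hi, sq, Units.ext_iff, ← Matrix.ext_iff, mul_apply]; clear * - h1 h5; grind
  · rintro _ ⟨⟨d, h | h⟩, hd, rfl⟩ h1
    · have h5 := (e d).1.1 h
      have h6 := (e y).2.1 y3
      refine .inr (mul_inv_eq_iff_eq_mul.2 (eq_inv_mul_iff_mul_eq.2 (Units.ext ?_)))
      rw [det_fin_two] at h1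
      simp [← Matrix.ext_iff, mul_apply] at h1 ⊢; clear * - h1 h5 h6; grind
    · exact .inl ⟨⟨_, hd, rfl⟩, h⟩

theorem ex_sl_three (h : Nat.card F % 4 = 3) {n : ℕ} (hn : 2 ≤ n) (Q : Sylow 2 SL(n, F)) : Ex 2 Q := by
  obtain ⟨D, X, i, c1, g1, g2, i1, i2, x1, ⟨z, z1, z2⟩, y, y1, y2, y3⟩ := exists_syl_gl2 h
  obtain ⟨β, π, γ, w, hβ, hπ, hγ⟩ := exists_wr_gl (.id (GL (Fin 2) F)) (.id (GL (Fin (n % 2)) F)) (fun _ _ => id) (fun _ _ => id)
    (Fin (n / 2))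
  obtain ⟨A⟩ : Nonempty (Sylow 2 (Perm (Fin (n / 2)))) := inferInstance
  obtain ⟨R⟩ : Nonempty (Sylow 2 (GL (Fin (n % 2)) F)) := inferInstance
  obtain ⟨T, t1, t2, t3, t4, t5⟩ := w.exists D A R
  refine ex_sylow_equiv (slRe (Fintype.equivOfCardEq (β := Fin 2 × Fin (n / 2) ⊕ Fin (n % 2)) (by simp; omega))) (fun Q => ?_) Q
  have q2 : ¬ 2 ∣ Nat.card F := by omega
  obtain ⟨e⟩ := sylow_inf_equiv (T := T) (by
    rw [t1, c1, card_syl A, card_syl R, val_GL q2, val_GL q2, ← pow_mul, ← pow_add, ← pow_add, mul_comm]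
    obtain h' | h' := Nat.mod_two_eq_zero_or_one n <;> simp [h', Nat.card_perm, Nat.card_fin, Finset.sum_range_succ, val_sum_three h,
      val_odd_pow (q := Nat.card F) (by omega) (by omega), -Nat.card_eq_fintype_card]) Q
  refine .of_equiv ?_ e
  let ρ := fun j : Fin (n / 2) => β.comp (MonoidHom.mulSingle (fun _ => GL (Fin 2) F) j)
  have dρ : ∀ j d, (ρ j d).1.det = d.1.det := fun j d => by
    rw [MonoidHom.comp_apply, hβ, Finset.prod_eq_single j] <;> simp +contextual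
  have mρ : ∀ j, ∀ d ∈ D, ρ j d ∈ T := fun j d h => t2 _ fun l => by by_cases e : l = j <;> simp [e, h, one_mem]
  have cρ : ∀ j l, j ≠ l → ∀ a b, Commute (ρ j a) (ρ l b) := fun j l h a b =>
    (Pi.mulSingle_commute (f := fun _ => GL (Fin 2) F) h a b).map β
  set K := (GeneralLinearGroup.det : GL (Fin 2 × Fin (n / 2) ⊕ Fin (n % 2)) F →* Fˣ).ker
  have mK : ∀ g ∈ T, g.1.det = 1 → g ∈ T ⊓ K := fun g a b => ⟨a, Units.ext b⟩
  have re : ∀ j, ∀ d ∈ D, d.1.det = 1 → y * d * y⁻¹ = d⁻¹ → ρ j d ∈ exN 2 (T ⊓ K) := fun j d a b c =>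
    exN_of_real (mK _ (mρ j d a) (by rwa [dρ])) (mK _ (mρ j y (g2 y1)) (by rwa [dρ])) (by simp only [← map_inv, ← map_mul, c])
  have f1 : ∀ j, ∀ x ∈ X, ρ j x ^ 2 ∈ ⁅T ⊓ K, T ⊓ K⁆ := fun j x hx => by
    rw [← map_pow]
    rcases (x1 x hx).2.1 with e | e <;> rw [e]
    exacts [by simp, by rw [map_pow]; exact (mem_exN.1 (re j i i1 i2 (x1 y y1).1)).2]
  have f2 : ∀ u ∈ T, ∀ v ∈ T, Commute u v → u ^ 2 ∈ ⁅T ⊓ K, T ⊓ K⁆ → v ^ 2 ∈ ⁅T ⊓ K, T ⊓ K⁆ → u.1.det * v.1.det = 1 →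
      u * v ∈ exN 2 (T ⊓ K) := fun u a v b c d e f => mem_exN.2 ⟨mK _ (mul_mem a b) (by simpa), c.mul_pow 2 ▸ mul_mem d e⟩
  have f3 : ∀ r : GL (Fin (n % 2)) F, r.1.det = 1 → r = 1 := fun r e => Units.ext (by
    have : Subsingleton (Fin (n % 2)) := Fin.subsingleton_iff_le_one.2 (by omega)
    ext a b; rw [Subsingleton.elim b a, ← det_eq_elem_of_subsingleton r.1 a, e]; simp)
  let o : Fin (n / 2) := ⟨0, by omega⟩
  refine ex_inf (X := {x | ∃ j, ∃ d ∈ X, ρ j d = x} ∪ A.1.map π ∪ R.1.map γ) (A := D.map (ρ o)) (t5 _ (fun j d h => ?_)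
    (fun _ h => Subgroup.subset_closure (.inl (.inr h))) fun _ h => Subgroup.subset_closure (.inr h)) ?_ ?_ ?_ ?_
  · exact closure_mono (by rintro _ ⟨d, h, rfl⟩; exact .inl (.inl ⟨j, d, h, rfl⟩))
      ((MonoidHom.map_closure (ρ j) _).le (mem_map_of_mem _ (g1 h)))
  · rintro _ ((⟨j, d, h, rfl⟩ | h) | h)
    exacts [mρ j d (g2 h), t3 h, t4 h]
  · rintro _ ⟨d, h, rfl⟩; exact mρ o d h
  · rintro _ ((⟨j, d, h, rfl⟩ | h) | ⟨r, h', rfl⟩)
    · by_cases e : j = o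
      · exact ⟨_, ⟨_, inv_mem (g2 h), rfl⟩, by simp [e]⟩
      · exact ⟨_, ⟨_, g2 h, rfl⟩, f2 _ (mρ _ _ (g2 h)) _ (mρ _ _ (g2 h)) (cρ _ _ e _ _) (f1 _ _ h) (f1 _ _ h)
          (by rw [dρ, dρ, ← sq, (x1 d h).2.2])⟩
    · refine ⟨1, one_mem _, ?_⟩
      rw [mul_one]
      refine exN_mono ?_ ((ex_sym A).map_le π h)
      rintro _ ⟨s, hs, rfl⟩
      exact mK _ (t3 ⟨s, hs, rfl⟩) (by simp [hπ])
    · have h1 := det_sq_of_syl h (.id _) R.2 h'
      obtain e | e := sq_eq_one_iff.1 h1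
      · exact ⟨1, one_mem _, by simp [f3 r e]⟩
      · exact ⟨_, ⟨_, g2 z1, rfl⟩, f2 _ (t4 ⟨r, h', rfl⟩) _ (mρ _ _ (g2 z1)) (w.c1 _ _).symm
          (by rw [← map_pow, f3 (r ^ 2) (by simpa using h1)]; simp) (f1 _ _ z1) (by rw [dρ, hγ, e, z2]; simp)⟩
  · rintro _ ⟨d, h, rfl⟩ hK
    have h1 : d.1.det = 1 := (dρ o d).symm.trans (congrArg Units.val hK)
    exact (y3 d h h1).elim (fun e => mem_exN.2 ⟨⟨mρ _ _ h, hK⟩, f1 _ _ e⟩) (re o d h h1)

set_option maxHeartbeats 1600000 in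
theorem ex_sl_one (h : Nat.card F % 4 = 1) {j n : ℕ} (hn : n = 2 ^ (j + 1)) (Q : Sylow 2 SL(n, F)) : Ex 2 Q := by
  have := Fintype.ofFinite F
  have q1 := Finite.one_lt_card (α := F)
  obtain ⟨β, π, γ, w, hβ, hπ, -⟩ := exists_wr_gl (GeneralLinearGroup.scalar Unit : Fˣ →* _) (1 : Unit →* GL Empty F)
    (fun a b h => Units.ext (congrArg (·.1 () ()) h)) (fun _ _ _ => rfl) (Fin n)
  have n2 : 2 ≤ n := hn ▸ Nat.le_self_pow (by simp) 2
  have cy := isCycle_finRotate_of_le n2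
  obtain ⟨A, hA⟩ := (IsPGroup.of_card (p := 2) (G := zpowers (finRotate n)) (n := j + 1) (by
    rw [Nat.card_zpowers, cy.orderOf, support_finRotate_of_le n2, ← hn]; simp)).exists_le_sylow
  clear hn
  obtain ⟨D⟩ : Nonempty (Sylow 2 Fˣ) := inferInstance
  obtain ⟨T, t1, t2, t3, -, t5⟩ := w.exists D A ⊤
  refine ex_sylow_equiv (slRe (Fintype.equivOfCardEq (β := Unit × Fin n ⊕ Empty) (by simp))) (fun Q => ?_) Q
  obtain ⟨e⟩ := sylow_inf_equiv (T := T) (by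
    rw [t1, card_syl A, card_syl D, val_GL (by omega), val_sum_one h q1, ← pow_mul, ← pow_add, mul_comm, Nat.card_units]
    simp [Fintype.card_perm, mul_comm]) Q
  refine .of_equiv ?_ e
  let ρ := fun i : Fin n => β.comp (MonoidHom.mulSingle (fun _ => Fˣ) i)
  have dρ : ∀ i d, (ρ i d).1.det = d := fun i d => by
    rw [MonoidHom.comp_apply, hβ, Finset.prod_eq_single i] <;> simp +contextual
  have mρ : ∀ i, ∀ d ∈ D.1, ρ i d ∈ T := fun i d h => t2 _ fun l => by by_cases e : l = i <;> simp [e, h, one_mem]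
  have cρ : ∀ i l a b, Commute (ρ i a) (ρ l b) := fun i l a b => (Commute.all _ _).map β
  have pρ : ∀ s i a, π s * ρ i a = ρ (s i) a * π s := fun s i a => mul_inv_eq_iff_eq_mul.1 ((w.conj s _).trans (congrArg β (by
    ext1 l; simp [Pi.mulSingle_apply, symm_apply_eq])))
  set K := (GeneralLinearGroup.det : GL (Unit × Fin n ⊕ Empty) F →* Fˣ).ker
  have mK : ∀ g ∈ T, g.1.det = 1 → g ∈ T ⊓ K := fun g a b => ⟨a, Units.ext b⟩
  obtain ⟨c, hc⟩ := FiniteField.isSquare_neg_one_iff.2 (show Fintype.card F % 4 ≠ 3 by rw [← Nat.card_eq_fintype_card]; omega)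
  obtain ⟨c, rfl⟩ : IsUnit c := (show c ≠ 0 by rintro rfl; simp at hc).isUnit
  replace hc : c ^ 2 = -1 := Units.ext (by simp [sq, ← hc])
  have c1 : c ∈ D.1 := IsPGroup.le_sylow_of_normal (IsPGroup.of_card_dvd_pow (n := 2) (by
    rw [Nat.card_zpowers, orderOf_dvd_iff_pow_eq_one, pow_two 2, pow_mul, hc]; simp)) D (mem_zpowers c)
  have c2 : -1 ∈ D.1 := hc ▸ pow_mem c1 2
  have sg : ∀ s ∈ A.1, ∀ i, ∃ d, (d = 1 ∨ d = -1 ∧ s ≠ 1) ∧ π s * ρ i d ∈ T ⊓ K := fun s hs i => by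
    obtain e | e := Int.units_eq_one_or (Perm.sign s)
    · exact ⟨1, .inl rfl, mK _ (by simpa using t3 ⟨s, hs, rfl⟩) (by simp [hπ, e])⟩
    · exact ⟨-1, .inr ⟨rfl, by rintro rfl; simp at e⟩, mK _ (mul_mem (t3 ⟨s, hs, rfl⟩) (mρ _ _ c2)) (by simp [hπ, e, dρ])⟩
  have l1 : ∀ s ∈ A.1, ∀ i, ∀ d ∈ D.1, ρ (s i) d * (ρ i d)⁻¹ ∈ exN 2 (T ⊓ K) := fun s hs => by
    refine closure_induction (p := fun s _ => ∀ i, ∀ d ∈ D.1, ρ (s i) d * (ρ i d)⁻¹ ∈ exN 2 (T ⊓ K)) (fun s hs i d hd => ?_)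
      (by simp) (fun a b _ _ x y i d h => by simpa using mul_mem (x (b i) d h) (y i d h))
      (fun a _ x i d h => by simpa using inv_mem (x (a⁻¹ i) d h)) (sym_syl_gen A hs)
    obtain ⟨a, -, a2⟩ := sg s hs.1 i
    refine exN_of_real (mK _ (mul_mem (mρ _ _ hd) (inv_mem (mρ _ _ hd))) (by simp [dρ, ← map_inv])) a2 ?_
    rw [mul_inv_eq_iff_eq_mul, mul_assoc, ((cρ ..).mul_right (cρ ..).inv_right).eq, ← mul_assoc, ← mul_assoc, ← mul_assoc, pρ,
      ← map_inv, mul_assoc _ (π s), pρ, ← Perm.mul_apply, ← sq, hs.2]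
    simp [mul_assoc]
  let o : Fin n := ⟨0, by omega⟩
  have l2 : ∀ i l, ∀ d ∈ D.1, ρ i d * (ρ l d)⁻¹ ∈ exN 2 (T ⊓ K) := fun i l => by
    obtain ⟨k, rfl⟩ := cy.exists_zpow_eq (x := l) (y := i) (Perm.mem_support.1 (support_finRotate_of_le n2 ▸ Finset.mem_univ _))
      (Perm.mem_support.1 (support_finRotate_of_le n2 ▸ Finset.mem_univ _))
    exact l1 _ (hA ⟨k, rfl⟩) l
  refine ex_inf (X := {x | ∃ i, ∃ d ∈ D.1, ρ i d = x} ∪ π '' {s | s ∈ A.1 ∧ s ^ 2 = 1}) (A := D.1.map (ρ o)) (t5 _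
    (fun i d h => Subgroup.subset_closure (.inl ⟨i, d, h, rfl⟩)) ?_ (by rintro _ ⟨r, -, rfl⟩; exact (map_one γ).symm ▸ one_mem _)) ?_ ?_ ?_ ?_
  · exact (map_mono (sym_syl_gen A)).trans ((MonoidHom.map_closure ..).trans_le (closure_mono Set.subset_union_right))
  · rintro _ (⟨i, d, h, rfl⟩ | ⟨s, h, rfl⟩)
    exacts [mρ i d h, t3 ⟨s, h.1, rfl⟩]
  · rintro _ ⟨d, h, rfl⟩; exact mρ o d h
  · rintro _ (⟨i, d, h, rfl⟩ | ⟨s, h, rfl⟩)
    · exact ⟨_, ⟨_, inv_mem h, rfl⟩, by simpa using l2 i o d h⟩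
    · obtain ⟨d, rfl | ⟨rfl, -⟩, a2⟩ := sg s h.1 o
      · exact ⟨1, one_mem _, exN_of_pow (by simpa using a2) (by rw [mul_one, ← map_pow, h.2, map_one])⟩
      · refine ⟨_, ⟨_, c2, rfl⟩, mem_exN.2 ⟨a2, ?_⟩⟩
        convert (mem_exN.1 (l2 (s o) o c c1)).2 using 1
        rw [(cρ ..).inv_right.mul_pow, ← map_inv, ← map_pow, ← map_pow, inv_pow, hc, sq]
        nth_rw 1 [pρ]
        rw [mul_assoc, ← mul_assoc (π s), ← map_mul, ← sq, h.2]
        simp
  · rintro _ ⟨d, h, rfl⟩ hK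
    simp [show d = 1 from Units.ext ((dρ o d).symm.trans (congrArg Units.val hK))]

theorem ex_sl_two (h : Nat.card F % 2 = 1) (Q : Sylow 2 SL(2, F)) : Ex 2 Q :=
  (Nat.odd_mod_four_iff.1 h).elim (fun h => ex_sl_one h (j := 0) rfl Q) fun h => ex_sl_three h le_rfl Q

theorem ex_sp (h : Nat.card F % 2 = 1) {n : ℕ} (Q : Sylow 2 (stdSymp n F).Isom) : Ex 2 Q := by
  have := Fintype.ofFinite F
  have q1 := Finite.one_lt_card (α := F)
  obtain ⟨ρ, hρ⟩ := exists_spρ F n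
  obtain ⟨π, hπ⟩ := exists_spP F n
  let β := MonoidHom.noncommPiCoprod ρ fun i j e a b => sp_ext fun l x => by simp only [PForm.isom_mul_apply, hρ]; grind
  have hβ : ∀ f l x, (β f).1 (spι F l x) = spι F l (f l • x) := fun f => pi_mem_of_mulSingle_mem (H := ⟨⟨⟨{f | ∀ l x,
    (β f).1 (spι F l x) = spι F l (f l • x)}, fun a b l x => by simp [a _, b _, mul_smul]⟩, by simp⟩, fun {f} a l x => by
      simpa using (congrArg (β f)⁻¹.1 (a l ((f l)⁻¹ • x))).symm⟩) f fun i l x => by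
        rw [show β _ = _ from MonoidHom.noncommPiCoprod_mulSingle ρ i _, hρ]; by_cases e : i = l <;> simp [e, Pi.mulSingle_apply, eq_comm]
  have inj : ∀ i j x y, spι F i x = spι F j y → x = if i = j then y else 0 := fun i (j : Fin n) x y h => by
    simpa [sppr_ι] using congrArg (sppr i) h
  obtain ⟨D⟩ : Nonempty (Sylow 2 SL(2, F)) := inferInstance
  obtain ⟨A⟩ : Nonempty (Sylow 2 (Perm (Fin n))) := inferInstance
  obtain ⟨T, t1, t2, t3, -, t5⟩ := Wr.exists (β := β) (P := π) (γ := (1 : Unit →* _)) ⟨fun s f => mul_inv_eq_iff_eq_mul.2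
    (sp_ext fun l x => by simp [hβ, hπ]), fun _ _ => .one_right _, fun _ _ => .one_right _, fun f s r h => by
      have h1 := fun l x => inj _ _ _ _ (by simpa [hβ, hπ] using congrArg (·.1 (spι F l x)) h)
      obtain rfl : s = 1 := Perm.ext fun l => by_contra fun e => by
        simpa [show s l ≠ l from e, smul_eq_zero_iff_eq] using h1 l 1
      exact ⟨funext fun l => sl2_ext fun x => by simpa using h1 l x, rfl, rfl⟩⟩ D A ⊤
  have := PForm.finite_isom (S := stdSymp n F)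
  obtain ⟨e⟩ := sylow_equiv (T := T) (by
    rw [t1, card_syl A, card_syl D, PForm.symp_card_Isom n (stdSymp_nondeg n) (by simp [two_mul]), val_odd_mul h, val_prod h q1,
      H10.card_SL2, ← Nat.card_eq_fintype_card, mul_assoc (Nat.card F), ← pow_one (Nat.card F), val_odd_mul h, pow_one, mul_comm (_ - 1),
      ← Nat.sq_sub_sq, ← pow_mul, ← pow_add, mul_comm]
    · simp [Fintype.card_perm, mul_comm]
    all_goals simp [Finset.prod_eq_zero_iff, Nat.sub_eq_zero_iff_le, q1, -Nat.card_eq_fintype_card]) Q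
  refine .of_equiv (ex_iff.2 (t5 _ (fun i d h => ?_) (((ex_sym A).map_le π).trans (exN_mono t3)) (by simp))) e
  refine exN_mono ?_ ((ex_sl_two ‹_› D).map_le (β.comp (MonoidHom.mulSingle (fun _ => SL(2, F)) i)) ⟨d, h, rfl⟩)
  rintro _ ⟨d, h, rfl⟩
  exact t2 (Pi.mulSingle i d) fun l => by by_cases e : l = i <;> simp [e, one_mem]; exact h

end H11
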