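import Cfsg.Agent.H29.TU2

/-! Overgroups of `SU(U) ⊗ SU(W)` in `SU(U ⊗ W)` for `dim U = 3`, `dim W = 4` (variant of `H29/TU2`), part 1:
the structure `TV` and `TV.nl_or`. -/

set_option autoImplicit false
set_option linter.unusedSectionVars false

namespace H11

open Module H11.PForm H29

section Un4
variable {F : Type*} [Field F] [Finite F] {σ : F →+* F} {hσ : ∀ a, σ (σ a) = a} {V : Type*}
  [AddCommGroup V] [Module F V] [FiniteDimensional F V] {S : PForm (unitP σ hσ) V} {x y v z z' : V}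

theorem tv_dec (hS : S.Nondeg) (h : finrank F V = 4) (v0 : v ≠ 0) (hv : S.h v v = 0) (Hz : S.IsHyp z z')
    (h1 : S.h v z = 0) (h2 : S.h v z' = 0) (hx : S.h v x = 0) :
    ∃ a : F, x = a • v + S.h z' x • z + S.h z x • z' := by
  have d := Hz.finrank_perp
  obtain ⟨r, hr⟩ := hS.exists_h_eq_one v0
  have pr : ∀ x, x - S.h z' x • z - S.h z x • z' ∈ S.perp (Submodule.span F {z, z'}) := fun x =>
    S.mem_perp_pair.2 ⟨by simp [Hz.h_ee, Hz.h_ef], by simp [Hz.h_ff, uone Hz.h_ef]⟩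
  have lt : S.perp (Submodule.span F {z, z'}) ⊓ S.perp (F ∙ v) < S.perp (Submodule.span F {z, z'}) :=
    lt_of_le_of_ne inf_le_left fun e => by
      have := S.mem_perp_singleton.1 (e.ge (pr r)).2
      simp [hr, h1, h2] at this
  have d2 := Submodule.finrank_lt_finrank_of_lt lt
  have e : (F ∙ v) = S.perp (Submodule.span F {z, z'}) ⊓ S.perp (F ∙ v) :=
    Submodule.eq_of_le_of_finrank_le ((Submodule.span_singleton_le_iff_mem _ _).2
      ⟨S.mem_perp_pair.2 ⟨S.h_swap_zero h1, S.h_swap_zero h2⟩, S.mem_perp_singleton.2 hv⟩)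
      (by rw [finrank_span_singleton v0]; omega)
  obtain ⟨a, ha⟩ := Submodule.mem_span_singleton.1 (e.ge ⟨pr x, S.mem_perp_singleton.2 (by simp [hx, h1, h2])⟩)
  exact ⟨a, by rw [ha]; abel⟩

theorem tv_spanp (hne : σ ≠ RingHom.id F) (hS : S.Nondeg) (h : finrank F V = 4) (v0 : v ≠ 0) (hv : S.h v v = 0)
    (T : AddSubgroup V) (hT : ∀ x, S.h v x = 0 → S.h x x = 0 → x ∈ T) (hx : S.h v x = 0) : x ∈ T := by
  obtain ⟨v', Hy⟩ := hS.exists_isHyp (us hv) v0
  obtain ⟨z, z', Hz, a1, -, a2, -⟩ := uframe hne hS h.ge Hy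
  obtain ⟨a, e⟩ := tv_dec hS h v0 hv Hz a1 a2 hx
  rw [e]
  exact add_mem (add_mem (hT _ (by simp [hv]) (by simp [hv])) (hT _ (by simp [a1]) (by simp [Hz.h_ee])))
    (hT _ (by simp [a2]) (by simp [Hz.h_ff]))

theorem tv_partner (hS : S.Nondeg) (hz : S.h z z = 0) (h1 : S.h v z = 0) (m : z ∉ F ∙ v) :
    ∃ z', S.IsHyp z z' ∧ S.h v z' = 0 := by
  obtain ⟨r, r1, r2⟩ := usep hS m
  obtain ⟨a, ha⟩ := exists_sing_add' (x := r) (us hz) (by simp [uone r2])
  exact ⟨_, ⟨us hz, ha, by simp [hz, uone r2]⟩, by simp [h1, S.h_swap_zero r1]⟩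

theorem tv_tor (hS : S.Nondeg) (v0 : v ≠ 0) (hv : S.h v v = 0) (hz : S.h z z = 0) (h1 : S.h v z = 0)
    (m : z ∉ F ∙ v) {a : F} (a0 : a ≠ 0) : ∃ g ∈ S.E, g.1 v = a • v ∧ g.1 z = a⁻¹ • z + (a - 1) • v := by
  obtain ⟨r, r1, r2⟩ := usep hS m
  obtain ⟨r', r3, r4⟩ := usep hS (nm_swap v0 m)
  have h1' := S.h_swap_zero h1
  have e1 : ∀ b : F, ∃ g ∈ S.E, g.1 v = v ∧ g.1 z = z + b • v := fun b =>
    ⟨_, S.eich_mem_E v (σ (-b) • r) (S.q _), eich_apply_self _ _ _, by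
      rw [eich_apply_of_perp (.of_q (us hv) (by simp [S.h_swap_zero r1])) h1]; simp [r2, hσ]⟩
  have e2 : ∀ b : F, ∃ g ∈ S.E, g.1 z = z ∧ g.1 v = v + b • z := fun b =>
    ⟨_, S.eich_mem_E z (σ (-b) • r') (S.q _), eich_apply_self _ _ _, by
      rw [eich_apply_of_perp (.of_q (us hz) (by simp [S.h_swap_zero r3])) h1']; simp [r4, hσ]⟩
  obtain ⟨g1, m1, a1, b1⟩ := e2 1
  obtain ⟨g2, m2, a2, b2⟩ := e1 (a - 1)
  obtain ⟨g3, m3, a3, b3⟩ := e2 (-a⁻¹)
  refine ⟨g3 * g2 * g1, mul_mem (mul_mem m3 m2) m1, ?_, ?_⟩ <;>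
  · simp only [isom_mul_apply, a1, b1, a2, b2, a3, b3, map_add, map_smul]
    match_scalars <;> field_simp <;> ring

theorem tv_tz (hσ : ∀ a, σ (σ a) = a) (hne : σ ≠ RingHom.id F) : ∃ a : F, a ≠ 0 ∧ ∀ l : F, ∃ s s' : F,
    s + σ s = 0 ∧ s' + σ s' = 0 ∧ l = s + s' * (a / σ a) := by
  obtain ⟨a, a1, a2⟩ : ∃ a : F, σ a ≠ a ∧ σ a ≠ -a := by
    obtain ⟨c, hc⟩ := exists_σ_ne hne
    by_cases e : σ c = -c
    · refine ⟨1 + c, fun e' => hc (by simpa using e'), fun e' => hc ?_⟩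
      rw [map_add, map_one, e] at e'
      rw [e]; linear_combination (-c) * e' + c * e' - c * e'
    · exact ⟨c, hc, e⟩
  have a0 : a ≠ 0 := by rintro rfl; simp at a1
  have s0 : σ a ≠ 0 := by simpa
  have d0 : a * a - σ a * σ a ≠ 0 := fun e => by
    rcases mul_self_eq_mul_self_iff.1 (sub_eq_zero.1 e).symm with e | e
    exacts [a1 e, a2 e]
  have d1 : σ a * σ a - a * a = -(a * a - σ a * σ a) := by ring
  refine ⟨a, a0, fun l => ⟨l - (l + σ l) * (a * a) / (a * a - σ a * σ a),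
    (l + σ l) * (a * σ a) / (a * a - σ a * σ a), ?_, ?_, ?_⟩⟩
  · simp only [map_sub, map_div₀, map_mul, map_add, hσ, d1, div_neg]
    rw [show ∀ x y z w d : F, x - y / d + (z - -(w / d)) = x + z + (w - y) / d from fun _ _ _ _ _ => by ring,
      add_eq_zero_iff_neg_eq, eq_div_iff d0]
    ring
  · simp only [map_sub, map_div₀, map_mul, map_add, hσ, d1, div_neg]; ring
  · field_simp; ring

theorem tv_fix (hS : S.Nondeg) {k : S.Isom} {N : Submodule F V} (hk : ∀ y, k.1 y - y ∈ N)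
    (hx : ∀ n ∈ N, S.h x n = 0) : k.1 x = x :=
  hS.ext_left fun y => by
    obtain ⟨y, rfl⟩ := k.1.surjective y
    rw [isom_h, ← sub_eq_zero.1 ((map_sub _ _ _).symm.trans (hx _ (hk y)))]

theorem tv_eig {U : Type*} [AddCommGroup U] [Module F U] (h : finrank F U = 3) {γ : U →ₗ[F] U} {δ α : F}
    (e : ∀ u, δ • γ (γ u) + α • γ u = u) : ∃ u, u ≠ 0 ∧ ∃ κ : F, γ u = κ • u := by
  haveI : FiniteDimensional F U := finite_of_finrank_pos (by omega)
  haveI : Nontrivial U := nontrivial_of_finrank_pos (R := F) (by omega)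
  obtain ⟨u, u0⟩ := exists_ne (0 : U)
  by_contra! hn
  have m : γ u ∉ F ∙ u := fun m =>
    let ⟨a, ha⟩ := Submodule.mem_span_singleton.1 m
    hn u u0 a ha.symm
  have d0 : δ ≠ 0 := by
    rintro rfl
    have := e u
    rw [zero_smul, zero_add] at this
    have a0 : α ≠ 0 := by rintro rfl; exact u0 (by simpa using this.symm)
    exact hn u u0 α⁻¹ ((eq_inv_smul_iff₀ a0).2 this)
  let N := (F ∙ u) ⊔ (F ∙ γ u)
  have n1 : u ∈ N := Submodule.mem_sup_left (Submodule.mem_span_singleton_self _)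
  have n2 : γ u ∈ N := Submodule.mem_sup_right (Submodule.mem_span_singleton_self _)
  have n3 : ∀ x ∈ N, γ x ∈ N := fun x hx => by
    obtain ⟨_, ha, _, hb, rfl⟩ := Submodule.mem_sup.1 hx
    obtain ⟨a, rfl⟩ := Submodule.mem_span_singleton.1 ha
    obtain ⟨b, rfl⟩ := Submodule.mem_span_singleton.1 hb
    rw [map_add, map_smul, map_smul]
    refine add_mem (N.smul_mem _ n2) (N.smul_mem _ ((N.smul_mem_iff d0).1 ?_))
    rw [eq_sub_of_add_eq (e u)]
    exact sub_mem n1 (N.smul_mem _ n2)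
  have l1 := Submodule.finrank_lt_finrank_of_lt (show (F ∙ u) < N from
    lt_of_le_of_ne le_sup_left fun e => m (e.ge n2))
  have l2 : finrank F N ≤ _ := Submodule.finrank_add_le_finrank_add_finrank (F ∙ u) (F ∙ γ u)
  have l3 := finrank_span_one_le (F := F) (γ u)
  rw [finrank_span_singleton u0] at l1 l2
  obtain ⟨w, hw⟩ : ∃ w, w ∉ N := by
    by_contra! e'
    have := Submodule.finrank_mono (show ⊤ ≤ N from fun x _ => e' x)
    rw [finrank_top] at this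
    omega
  have l4 := Submodule.finrank_lt_finrank_of_lt (show N < N ⊔ (F ∙ w) from
    lt_of_le_of_ne le_sup_left fun e => hw (e.ge (Submodule.mem_sup_right (Submodule.mem_span_singleton_self _))))
  have top : N ⊔ (F ∙ w) = ⊤ := Submodule.eq_top_of_finrank_eq (le_antisymm (Submodule.finrank_le _) (by omega))
  obtain ⟨n, hn', _, hb, e'⟩ := Submodule.mem_sup.1 (top.ge trivial : γ w ∈ _)
  obtain ⟨κ, rfl⟩ := Submodule.mem_span_singleton.1 hb
  have k1 : δ * κ * κ + α * κ - 1 = 0 := by_contra fun k1 => hw ((N.smul_mem_iff k1).1 (by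
    have := e w
    rw [← e', map_add, map_smul, ← e'] at this
    have e2 : (δ * κ * κ + α * κ - 1) • w = -(δ • γ n + (δ * κ + α) • n) := by
      linear_combination (norm := module) this
    rw [e2]
    exact neg_mem (add_mem (N.smul_mem _ (n3 n hn')) (N.smul_mem _ hn'))))
  refine hn (δ • γ u + (δ * κ + α) • u) (fun e2 => m ((Submodule.smul_mem_iff _ d0).1 ?_)) κ ?_
  · rw [eq_neg_of_add_eq_zero_left e2]
    exact neg_mem (Submodule.smul_mem _ _ (Submodule.mem_span_singleton_self _))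
  · rw [map_add, map_smul, map_smul, eq_sub_of_add_eq (e u)]
    linear_combination (norm := module) (-k1) • u

end Un4

variable {F U W V : Type*} [Field F] [Finite F] {σ : F →+* F} {hσ : ∀ a, σ (σ a) = a}
  [AddCommGroup U] [Module F U] [AddCommGroup W] [Module F W]
  [AddCommGroup V] [Module F V] [FiniteDimensional F U] [FiniteDimensional F W]
  [FiniteDimensional F V] {S : PForm (unitP σ hσ) V} {H : Subgroup S.Isom}
  {A : PForm (unitP σ hσ) U} {B : PForm (unitP σ hσ) W} {t : W →ₗ[F] U →ₗ[F] V}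
  {c : W →ₛₗ[σ] V →ₗ[F] U} {v z : W} {φ φ' : V →ₗ[F] U} {E E' : U →ₗ[F] U}

/-- an overgroup of `SU(U) ⊗ SU(W)` -/
structure TV (A : PForm (unitP σ hσ) U) (B : PForm (unitP σ hσ) W) (t : W →ₗ[F] U →ₗ[F] V)
    (c : W →ₛₗ[σ] V →ₗ[F] U) (H : Subgroup S.Isom) : Prop where
  ne : σ ≠ RingHom.id F
  nd : S.Nondeg
  ndU : A.Nondeg
  ndW : B.Nondeg
  ct : ∀ z w u, c z (t w u) = B.h z w • u
  ext : ∀ T : AddSubgroup V, (∀ w u, t w u ∈ T) → ∀ x, x ∈ T
  hh : ∀ w u x, S.h (t w u) x = A.h u (c w x)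
  hW : ∀ ρ ∈ B.E, ∃ g ∈ H, ∀ w u, g.1 (t w u) = t (ρ.1 w) u
  hU : ∀ γ ∈ A.E, ∃ g ∈ H, ∀ w u, g.1 (t w u) = t w (γ.1 u)
  four : finrank F W = 4
  three : finrank F U = 3
  lt : finrank F U < finrank F W
  two : 2 ≤ finrank F U

namespace TV
variable (h : TV A B t c H)
include h

theorem lext {M : Type*} [AddCommGroup M] [Module F M] {f g : V →ₗ[F] M}
    (e : ∀ w u, f (t w u) = g (t w u)) (x : V) : f x = g x :=
  sub_eq_zero.1 (h.ext (f - g).toAddMonoidHom.ker (fun w u => sub_eq_zero.2 (e w u)) x)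

theorem tt (w w' : W) (u u' : U) : S.h (t w u) (t w' u') = B.h w w' * A.h u u' := by simp [h.hh, h.ct]

theorem inj (hv : v ≠ 0) {u : U} (e : t v u = 0) : u = 0 := by
  obtain ⟨y, hy⟩ := h.ndW.exists_h_eq_one hv
  simpa [h.ct, uone hy] using congrArg (c y) e

theorem cinj {x : V} (e : ∀ y, c y x = 0) : x = 0 :=
  h.nd.eq_zero' (h.ext (S.h.flip x).toAddMonoidHom.ker fun w u => by simp [h.hh, e])

theorem span (hv : v ≠ 0) (T : AddSubgroup V) (e : ∀ y, B.h v y = 0 → ∀ u, t y u ∈ T) {x : V}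
    (hx : c v x = 0) : x ∈ T := by
  obtain ⟨y, hy⟩ := h.ndW.exists_h_eq_one hv
  have := h.ext (T.comap (LinearMap.id - t y ∘ₗ c v : V →ₗ[F] V).toAddMonoidHom)
    (fun w u => by simpa [h.ct] using e (w - B.h v w • y) (by simp [hy]) u) x
  replace this : x - t y (c v x) ∈ T := this
  simpa [hx] using this

theorem eq_t {η : W} (hη : B.h η z = 1) {x : V} (e : ∀ y, B.h z y = 0 → c y x = 0) :
    x = t z (c η x) := sub_eq_zero.1 (h.cinj fun y => by
  simpa [h.ct, ← B.unit_symm] using e (y - B.h z y • η) (by simp [uone hη]))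

theorem c_inv {g : S.Isom} {v' : W} {γ : U → U} (e : ∀ u, g.1 (t v u) = t v' (γ u)) (u : U) (x : V) :
    A.h u (c v (g⁻¹.1 x)) = A.h (γ u) (c v' x) := by
  rw [← h.hh, ← isom_h_left, e, h.hh]

theorem conj (hf : ULv t c H v φ) {g : S.Isom} (hg : g ∈ H) {v' : W} {γ : U →ₗ[F] U}
    (e : ∀ u, g.1 (t v u) = t v' (γ u)) (hγ : Function.Surjective γ) :
    ULv t c H v' (γ ∘ₗ φ ∘ₗ (g⁻¹.1 : V →ₗ[F] V)) := by
  obtain ⟨k, a, b, d⟩ := hf
  refine ⟨g * k * g⁻¹, H.mul_mem (H.mul_mem hg a) (H.inv_mem hg), fun u => by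
    obtain ⟨u, rfl⟩ := hγ u
    rw [← e]; simp [b], fun x hx => ?_⟩
  rw [isom_mul_apply, isom_mul_apply, d _ (h.ndU.eq_zero' fun u => by
    rw [h.c_inv e, hx, map_zero]), map_add, e, isom_apply_inv_self]
  rfl

theorem comp (hf : ULv t c H v φ) {g : S.Isom} (hg : g ∈ H) (e : ∀ u, g.1 (t v u) = t v u) :
    ULv t c H v (φ ∘ₗ (g.1 : V →ₗ[F] V)) :=
  h.conj hf (H.inv_mem hg) (γ := .id) (fun u => g.1.injective (by simp [e])) Function.surjective_id

theorem hE {a : F} (e : B.ECond v z a) : ∃ g ∈ H, ∀ x,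
    g.1 x = x + t z (c v x) - t v (c z x) - a • t v (c v x) := by
  obtain ⟨g, hg, e'⟩ := h.hW _ (B.eich_mem_E v z a)
  exact ⟨g, hg, h.lext (f := g.1) (g := .id + t z ∘ₗ c v - t v ∘ₗ c z - a • t v ∘ₗ c v) fun w u => by
    simp [e', eich_apply e, h.ct]; module⟩

theorem hT (hv : B.h v v = 0) {s : F} (hs : s + σ s = 0) :
    ∃ g ∈ H, ∀ x, g.1 x = x + s • t v (c v x) := by
  obtain ⟨g, hg, e⟩ := h.hE (.of_mem (us hv) (a := -s) (neg_mem hs))
  exact ⟨g, hg, fun x => by simp [e]⟩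

theorem lv_id : TUL B t c H .id := fun v z hv h0 => by
  obtain ⟨k, a, b⟩ := h.hE (.of_q (us hv) (v := -z) (by simp [h0]))
  exact ⟨k, a, fun u => by simp [b, h.ct, hv, B.h_swap_zero h0], fun x hx => by simp [b, hx]⟩

theorem lv0 (hf : ULv t c H v φ) (v0 : v ≠ 0) (hv : B.h v v = 0) (u : U) : φ (t v u) = 0 := by
  obtain ⟨k, -, b, d⟩ := hf
  have := d (t v u) (by simp [h.ct, hv])
  rw [b, left_eq_add] at this
  exact h.inj v0 this

theorem lv_tr (hf : ULv t c H v (E ∘ₗ c z)) {ρ : B.Isom} (hρ : ρ ∈ B.E) :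
    ULv t c H (ρ.1 v) (E ∘ₗ c (ρ.1 z)) := by
  obtain ⟨k, hk, e⟩ := h.hW ρ hρ
  exact (h.conj hf hk (γ := .id) (fun u => by simp [e]) Function.surjective_id).congr
    fun x _ => congrArg E (h.ndU.ext_right fun u =>
      (h.c_inv (γ := id) (fun u => by rw [e, id]) u x).symm)

omit h in
theorem lv_sc {a : F} (a0 : a ≠ 0) (hf : ULv t c H (a • v) φ) : ULv t c H v (a • φ) := by
  obtain ⟨k, k1, k2, k3⟩ := hf
  exact ⟨k, k1, fun u => by simpa [a0] using k2 (a⁻¹ • u), fun x hx => by simp [k3 x (by simp [hx])]⟩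

theorem lv_tv (hf : ULv t c H v φ) (zz : B.h z z = 0) (hz : B.h v z = 0) {s : F} (hs : s + σ s = 0) :
    ULv t c H v (s • (φ ∘ₗ t z) ∘ₗ c z) := by
  obtain ⟨g, hg, e⟩ := h.hT zz hs
  exact ((h.comp hf hg fun u => by simp [e, h.ct, B.h_swap_zero hz]).sub hf).congr fun x _ => by simp [e]

theorem lv_of (hf : ULv t c H v φ) (v0 : v ≠ 0) (hv : B.h v v = 0) (hz : B.h v z = 0) :
    TUL B t c H (φ ∘ₗ t z) := by
  refine tv_spanp h.ne h.ndW h.four v0 hv (subT (fun z => TUL B t c H (φ ∘ₗ t z))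
    (TUL.zero.congr fun x => by simp) fun x y a b => (a.sub b).congr fun x => by simp)
    (fun z hz zz => ?_) hz
  by_cases m : z ∈ F ∙ v
  · obtain ⟨a, rfl⟩ := Submodule.mem_span_singleton.1 m
    exact TUL.zero.congr fun x => by simp [h.lv0 hf v0 hv]
  change TUL B t c H (φ ∘ₗ t z)
  have a1 := fun s hs => h.lv_tv hf zz hz (s := s) hs
  generalize φ ∘ₗ t z = E at a1
  have a2 : ∀ l : F, ULv t c H v (l • E ∘ₗ c z) := fun l => by
    obtain ⟨a, a0, ha⟩ := tv_tz hσ h.ne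
    obtain ⟨s, s', hs, hs', rfl⟩ := ha l
    obtain ⟨ρ, hρ, r1, r2⟩ := tv_tor h.ndW v0 hv zz hz m a0
    have b := h.lv_tr (E := (-s') • E) (z := z) ((a1 (-s') (by rw [map_neg, ← neg_add, hs', neg_zero])).congr
      fun x _ => rfl) hρ
    rw [r1, r2] at b
    refine ((a1 s hs).sub (lv_sc a0 b)).congr fun x hx => ?_
    simp only [LinearMap.smul_apply, LinearMap.sub_apply, LinearMap.comp_apply, map_add, map_smulₛₗ,
      LinearMap.add_apply, hx, smul_zero, add_zero, map_zero, map_inv₀, RingHom.id_apply]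
    match_scalars; ring
  obtain ⟨z', Hz, b1⟩ := tv_partner h.ndW zz hz m
  obtain ⟨s, s0, hs⟩ := exists_mem_unit_Λ hσ h.ne
  have a3 : ∀ l : F, ULv t c H v (l • E ∘ₗ c z') := fun l =>
    (h.lv_tv (a2 (l / s)) Hz.h_ff b1 hs).congr fun x _ => by
      simp [h.ct, Hz.h_ef, smul_smul, mul_div_cancel₀ _ s0]
  have a4 : ∀ y, B.h v y = 0 → ULv t c H v (E ∘ₗ c y) := fun y hy => by
    obtain ⟨a, e⟩ := tv_dec h.ndW h.four v0 hv Hz hz b1 hy
    refine ((a2 (σ (B.h z' y))).sub (a3 (-σ (B.h z y)))).congr fun x hx => ?_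
    conv_lhs => rw [e]
    simp [hx]
  intro v' y hv' h1
  obtain rfl | v0' := eq_or_ne v' 0
  · exact .zero fun x _ => by simp
  obtain ⟨ρ, hρ, rfl⟩ := utrans1 h.ne h.ndW (by have := h.four; omega) v0 v0' hv hv'
  simpa using h.lv_tr (a4 (ρ⁻¹.1 y) (by rw [← isom_h_left, h1])) hρ

theorem lv_conj (hE : TUL B t c H E) {γ : A.Isom} (hγ : γ ∈ A.E) (e : ∀ x, E' (γ.1 x) = γ.1 (E x)) :
    TUL B t c H E' := by
  intro v z hv h0
  obtain ⟨g, hg, e'⟩ := h.hU γ hγ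
  refine (h.conj (hE v z hv h0) hg (γ := γ.1) (fun x => e' v x) γ.1.surjective).congr fun x _ => ?_
  have : γ.1 (c z (g⁻¹.1 x)) = c z x := h.ndU.ext_right fun y => by
    obtain ⟨y, rfl⟩ := γ.1.surjective y
    rw [isom_h, h.c_inv (e' z)]
  conv_lhs => rw [LinearMap.comp_apply, ← this]
  exact e _

theorem hyp : ∃ v v', B.IsHyp v v' := h.ndW.unit_exists_hyp h.ne (by have := h.four; omega)

theorem lv_cen {ψ : U →ₗ[F] U} {j : S.Isom} (hj : j ∈ H) (v0 : v ≠ 0) (hv : B.h v v = 0)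
    (e : ∀ x, j.1 x = x + t v (ψ (c v x))) : TUL B t c H ψ := by
  obtain ⟨v', Hy⟩ := h.ndW.exists_isHyp (us hv) v0
  obtain ⟨z, z', Hz, a1, a2, -, -⟩ := uframe h.ne h.ndW h.four.ge Hy
  have z0 : z ≠ 0 := by rintro rfl; simpa using Hz.h_ef
  have a3 := B.h_swap_zero a1
  obtain ⟨g, hg, eg⟩ := h.hW _ (B.eich_mem_E z (-v') (B.q _))
  have e1 : ∀ u, g.1 (t v u) = t (v + z) u := fun u => by
    rw [eg, eich_apply_of_perp (.of_q Hz.1 (by simp [B.h_swap_zero a2])) a3]; simp [uone Hy.h_ef]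
  have e2 : ∀ x, c v (g⁻¹.1 x) = c (v + z) x := fun x =>
    h.ndU.ext_right fun u => h.c_inv (γ := id) e1 u x
  have e3 : ∀ x, (g * j * g⁻¹).1 x = x + t (v + z) (ψ (c (v + z) x)) := fun x => by
    rw [isom_mul_apply, isom_mul_apply, e, map_add, isom_apply_inv_self, e1, e2]
  refine (h.lv_of (v := z) (z := v') (φ := ψ ∘ₗ c v) ⟨j⁻¹ * (g * j * g⁻¹),
    H.mul_mem (H.inv_mem hj) (H.mul_mem (H.mul_mem hg hj) (H.inv_mem hg)), fun u => j.1.injective ?_,
    fun x hx => j.1.injective ?_⟩ z0 Hz.h_ee (B.h_swap_zero a2)).congr fun u => by simp [h.ct, Hy.h_ef]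
  · rw [isom_mul_apply, isom_apply_inv_self, e3, e]; simp [h.ct, a1, Hz.h_ee]
  · rw [isom_mul_apply, isom_apply_inv_self, e3, e]
    simp only [map_add, LinearMap.add_apply, hx, add_zero, LinearMap.comp_apply, h.ct, a1, zero_smul]
    abel

theorem lv_D {k : S.Isom} (b : ∀ u, k.1 (t v u) = t v u) (d : ∀ x, c v x = 0 → k.1 x = x + t v (φ x))
    (hz : B.h v z = 0) (x : V) : c v (k.1 x - x) = 0 ∧
      ∀ u, A.h u (c z (k.1 x - x)) = -A.h (φ (t z u)) (c v x) := by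
  have e : c v (k.1 x) = c v x := h.ndU.ext_right fun w => by rw [← h.hh, ← h.hh, ← isom_h k _ x, b]
  refine ⟨by simp [e], fun u => ?_⟩
  have := isom_h k (t z u) x
  rw [d _ (by simp [h.ct, hz]), map_add, LinearMap.add_apply, h.hh, h.hh, h.hh, e] at this
  rw [map_sub, map_sub]; linear_combination this

theorem lv_adj (hE : TUL B t c H E) : ∃ E' : U →ₗ[F] U, ∀ u y, A.h (E u) y = A.h u (E' y) := by
  obtain ⟨v, v', Hy⟩ := h.hyp
  obtain ⟨z, z', Hz, a1, -, a2, -⟩ := uframe h.ne h.ndW h.four.ge Hy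
  obtain ⟨k, -, b, d⟩ := hE v z' Hy.h_ee a2
  refine ⟨-(c z ∘ₗ ((k.1 : V →ₗ[F] V) - .id) ∘ₗ t v'), fun u y => ?_⟩
  have := (h.lv_D b d a1 (t v' y)).2 u
  simp only [LinearMap.comp_apply, h.ct, uone Hz.h_ef, Hy.h_ef, one_smul] at this
  rw [← neg_eq_iff_eq_neg] at this
  rw [← this]; simp

theorem lv_br {G G' : U →ₗ[F] U} (hE : TUL B t c H E) (hE' : TUL B t c H E')
    (e : ∀ u y, A.h (E u) y = A.h u (G y)) (e' : ∀ u y, A.h (E' u) y = A.h u (G' y)) :
    TUL B t c H (E' ∘ₗ G - E ∘ₗ G') := by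
  obtain ⟨v, v', Hy⟩ := h.hyp
  obtain ⟨z, z', Hz, a1, -, a2, -⟩ := uframe h.ne h.ndW h.four.ge Hy
  obtain ⟨k, hk, b, d⟩ := hE v z Hy.h_ee a1
  obtain ⟨k', hk', b', d'⟩ := hE' v z' Hy.h_ee a2
  have c1 : ∀ x, c z' (k.1 x - x) = -G (c v x) := fun x => h.ndU.ext_right fun u => by
    rw [(h.lv_D b d a2 x).2 u, map_neg, ← e]; simp [h.ct, Hz.h_ef]
  have c2 : ∀ x, c z (k'.1 x - x) = -G' (c v x) := fun x => h.ndU.ext_right fun u => by
    rw [(h.lv_D b' d' a1 x).2 u, map_neg, ← e']; simp [h.ct, uone Hz.h_ef]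
  refine h.lv_cen (j := (k' * k)⁻¹ * (k * k')) (H.mul_mem (H.inv_mem (H.mul_mem hk' hk)) (H.mul_mem hk hk'))
    (by rintro rfl; simpa using Hy.h_ef) Hy.h_ee fun x => (k' * k).1.injective ?_
  have d1 := d _ (h.lv_D b' d' a1 x).1
  have d2 := d' _ (h.lv_D b d a1 x).1
  rw [LinearMap.comp_apply, c2, map_sub, sub_eq_iff_eq_add] at d1
  rw [LinearMap.comp_apply, c1, map_sub, sub_eq_iff_eq_add] at d2
  rw [isom_mul_apply (k' * k)⁻¹, isom_apply_inv_self, isom_mul_apply, isom_mul_apply, map_add, b, map_add, b', d1, d2]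
  simp only [map_neg, map_sub, LinearMap.sub_apply, LinearMap.comp_apply]
  abel

theorem lv_mul (hE : TUL B t c H E) (hE' : TUL B t c H E') : TUL B t c H (E ∘ₗ E') := by
  obtain ⟨G, e⟩ := h.lv_adj hE
  obtain ⟨G', e'⟩ := h.lv_adj hE'
  have a1 : TUL B t c H G' :=
    ((h.lv_br hE' h.lv_id e' (G' := .id) fun _ _ => rfl).sub (hE'.smul (-1))).congr fun x => by simp
  have a2 : ∀ u y, A.h (G' u) y = A.h u (E' y) := fun u y => by rw [A.unit_symm y, ← e', ← A.unit_symm]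
  have a3 := fun l : F => h.lv_br a1 (hE.smul l) a2 (G' := σ l • G) fun u y => by simp [e]
  obtain ⟨l, hl⟩ := exists_σ_ne h.ne
  refine (((a3 l).sub ((a3 1).smul (σ l))).smul (l - σ l)⁻¹).congr fun x => ?_
  have := sub_ne_zero.2 hl.symm
  simp only [LinearMap.smul_apply, LinearMap.sub_apply, LinearMap.comp_apply, map_smul, map_one]
  match_scalars <;> field_simp <;> ring

theorem lv_rank (hq : (∃ s : F, σ s = s ∧ s ≠ 0 ∧ s ≠ 1) ∨ 3 ≤ finrank F U) (hE : TUL B t c H E) {u : U}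
    (hu : A.h u u = 0) (hb : A.h u (E u) ≠ 0) : TUL B t c H ((A.h u).smulRight u) := by
  have D : ∀ s : F, s + σ s = 0 → TUL B t c H (s • ((A.h u ∘ₗ E).smulRight u - (A.h u).smulRight (E u)) -
      (s * s * A.h u (E u)) • (A.h u).smulRight u) := fun s hs =>
    ((h.lv_conj hE (A.eich_mem_E u 0 (-s)) (E' := E + _) fun x => by
      simp [eich_apply (.of_mem (us hu) (neg_mem hs)), hu]; module).sub hE).congr
        fun x => (add_sub_cancel_left _ _).symm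
  obtain ⟨s, s0, hs⟩ := exists_mem_unit_Λ hσ h.ne
  rcases hq with ⟨r, r1, r2, r3⟩ | hq
  · refine (((D (r * s) (by rw [map_mul, r1, ← mul_add, hs, mul_zero])).sub ((D s hs).smul r)).smul
      (r * (1 - r) * s * s * A.h u (E u))⁻¹).congr fun x => ?_
    have := sub_ne_zero.2 r3.symm
    simp only [LinearMap.smulRight_apply, LinearMap.smul_apply, LinearMap.sub_apply]
    match_scalars <;> field_simp <;> ring
  have := h.ndU.finrank_perp (F ∙ u)
  have := finrank_span_one_le (F := F) u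
  obtain ⟨y, y1, y2⟩ := uex_ns h.ne h.ndU (A.perp (F ∙ u)) (by omega)
  rw [mem_perp_singleton] at y1
  obtain ⟨κ, hκ⟩ : ∃ κ, κ = s * (A.h y (E u) + 2 * A.q y * A.h u (E u) - A.h u (E y) -
    A.h u (E u) * A.h y y) := ⟨_, rfl⟩
  have M : TUL B t c H ((s * A.h u (E u)) • ((A.h y).smulRight u - (A.h u).smulRight y) +
      κ • (A.h u).smulRight u) :=
    ((h.lv_conj (D s hs) (A.eich_mem_E u y (A.q y)) (E' := _ + _) fun x => by
      simp [eich_apply (.of_q (us hu) y1), hu, y1, A.h_swap_zero y1, hκ]; module).sub (D s hs)).congr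
        fun x => (add_sub_cancel_left _ _).symm
  refine ((h.lv_mul M M).smul (-(s * A.h u (E u)) ^ 2 * A.h y y)⁻¹).congr fun x => ?_
  simp only [LinearMap.smulRight_apply, LinearMap.smul_apply, LinearMap.sub_apply, LinearMap.add_apply,
    LinearMap.comp_apply, map_add, map_sub, map_smul, hu, y1, A.h_swap_zero y1]
  match_scalars <;> field_simp <;> ring

theorem lv_flag {u : U} (u0 : u ≠ 0) (uu : A.h u u = 0) (hu : TUL B t c H ((A.h u).smulRight u))
    (a b : U) : TUL B t c H ((A.h a).smulRight b) := by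
  have a2 : ∀ u', u' ≠ 0 → A.h u' u' = 0 → TUL B t c H ((A.h u').smulRight u') := fun u' h1 h2 => by
    obtain ⟨g, hg, r, r0, e⟩ := h.ndU.exists_E_move (unit_rich h.ne A 3) (us uu) u0 (us h2) h1
    refine ((h.lv_conj hu hg (E' := (A.h (g.1 u)).smulRight (g.1 u)) fun x => by simp).smul
      (σ r * r)⁻¹).congr fun x => ?_
    have : σ r ≠ 0 := by simpa
    simp only [e, LinearMap.smulRight_apply, LinearMap.smul_apply, map_smulₛₗ, smul_eq_mul]
    match_scalars; field_simp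
  refine uspan h.ne h.ndU h.two (subT (fun b => TUL B t c H ((A.h a).smulRight b))
    (TUL.zero.congr fun x => by simp) fun x y a b => (a.sub b).congr fun x => by simp [smul_sub])
    (fun b hb => uspan h.ne h.ndU h.two (subT (fun a => TUL B t c H ((A.h a).smulRight b))
      (TUL.zero.congr fun x => by simp) fun x y a b => (a.sub b).congr fun x => by simp [sub_smul])
      (fun a ha => ?_) a) b
  obtain rfl | a0 := eq_or_ne a 0
  · exact TUL.zero.congr fun x => by simp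
  obtain rfl | b0 := eq_or_ne b 0
  · exact TUL.zero.congr fun x => by simp
  obtain ⟨y, y1, y2, y3⟩ := h.ndU.exists_common (unit_rich h.ne A 3) (us ha) a0 (us hb) b0
  have y4 : A.h b y ≠ 0 := mt A.h_swap_zero y3
  refine ((h.lv_mul (a2 b b0 hb) (h.lv_mul (a2 y (by rintro rfl; simp at y2) y1.h_self)
    (a2 a a0 ha))).smul (A.h b y * A.h y a)⁻¹).congr fun x => ?_
  simp only [LinearMap.smulRight_apply, LinearMap.smul_apply, LinearMap.comp_apply, map_smul,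
    smul_eq_mul]
  match_scalars; field_simp

theorem mem_p {x : V} : x ∈ S.perp (LinearMap.range (t v)) ↔ c v x = 0 :=
  ⟨fun e => h.ndU.eq_zero' fun u => by rw [← h.hh, e _ ⟨u, rfl⟩],
    by rintro e _ ⟨u, rfl⟩; rw [h.hh, e, map_zero]⟩

theorem E_le (hL : ∀ a b, TUL B t c H ((A.h a).smulRight b)) : S.E ≤ H := by
  have hq : ∀ v, B.h v v = 0 → ∀ x ∈ LinearMap.range (t v), ∀ y ∈ LinearMap.range (t v),
      S.h x y = 0 := by
    rintro v hv _ ⟨u, rfl⟩ _ ⟨u', rfl⟩; simp [h.tt, hv]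
  obtain ⟨u, u', Hu⟩ := h.ndU.unit_exists_hyp h.ne h.two
  have C : ∀ v v', B.IsHyp v v' → ∀ a, Full H (t v a) := fun v v' Hy a => by
    obtain ⟨y, y', Hz, a1, a2, a3, a4⟩ := uframe h.ne h.ndW (by have := h.four; omega) Hy
    have y1 : S.h (t y u) (t y' u') = 1 := by simp [h.tt, Hz.h_ef, Hu.h_ef]
    have R : ∀ v, v ≠ 0 → B.h v v = 0 → B.h v y = 0 → B.h v y' = 0 → ∀ b ∈ LinearMap.range (t v),
        (∀ a, S.eich b 0 a ∈ H) ∧ ∀ z ∈ S.perp (LinearMap.range (t v)), S.eich b z (S.q z) ∈ H :=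
      fun v v0 hv b1 b2 => urad_eich h.ne h.nd (hq v hv) (h.mem_p.2 (by simp [h.ct, b1]))
        (h.mem_p.2 (by simp [h.ct, b2])) y1 (by
        rintro w hw _ ⟨b, rfl⟩
        obtain ⟨k, k1, k2, k3⟩ := h.span v0 (subT (fun w => ULv t c H v ((S.h w).smulRight b))
          (.zero fun x _ => by simp) fun x y a b => (a.sub b).congr fun x _ => by simp [sub_smul])
          (fun y hy u => (hL u b v y hv hy).congr fun x _ => by simp [h.hh]) (h.mem_p.1 hw)
        exact ⟨k, k1, by rintro _ ⟨u, rfl⟩; exact k2 u, fun x hx => by simp [k3 x (h.mem_p.1 hx)]⟩)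
    exact urad_full (fun x hx => hq v Hy.h_ee x hx x hx) (fun x hx => hq v' Hy.h_ff x hx x hx)
      (R v (by rintro rfl; simpa using Hy.h_ef) Hy.h_ee a1 a3)
      (fun b hb => (R v' (by rintro rfl; simpa using Hy.h_ef) Hy.h_ff a2 a4 b hb).2)
      (h.mem_p.2 (by simp [h.ct, a1])) (h.mem_p.2 (by simp [h.ct, a2]))
      (h.mem_p.2 (by simp [h.ct, a3])) (h.mem_p.2 (by simp [h.ct, a4])) y1
      (fun x => ⟨_, ⟨c v x, rfl⟩, h.mem_p.2 (by simp [h.ct, Hy.h_ef])⟩) ⟨a, rfl⟩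
  obtain ⟨z, z₁, Hy⟩ := h.hyp
  exact S.E_le_iff.2 fun x y a _ => full_all_of_pair h.nd (us (by simp [h.tt, Hy.h_ee]))
    (us (by simp [h.tt, Hy.h_ff])) (C z z₁ Hy u) (C z₁ z ⟨Hy.2, Hy.1, uone Hy.h_ef⟩ u')
    (by simp [h.tt, Hy.h_ef, Hu.h_ef]) x y a

theorem nl_or (hq : (∃ s : F, σ s = s ∧ s ≠ 0 ∧ s ≠ 1) ∨ 3 ≤ finrank F U) :
    S.E ≤ H ∨ ∀ E, TUL B t c H E → ∃ s : F, ∀ u, E u = s • u :=
  or_iff_not_imp_left.2 fun hE E h1 => uscal_of h.ne h.ndU h.two fun u hu => by_contra fun hb =>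
    hE (h.E_le (h.lv_flag (by rintro rfl; simp at hb) hu (h.lv_rank hq h1 hu hb)))

end TV

end H11
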