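import Cfsg.Agent.H11.PSL2
import Cfsg.Agent.H11.Pres2
import Cfsg.Agent.H11.Scal

/-! Presentations of the Borel subgroup of a three-dimensional unitary group: relations modulo a normal subgroup
(`Enf.mod`), Heisenberg systems `HsU`, and `pres_heis_big` (12 relations), `pres_heis_small` (17 relations). -/

set_option autoImplicit false

namespace H11
open Subgroup
open FreeGroup (of lift)

universe u
variable {G G' : Type*} {B : Type u} [Group G] [Group G'] [Group B] {F : Type*} [Field F] {κ : Type}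

def Cov.quot {g : κ → G} (C : Cov g) (f : G →* G') (M : Subgroup C.H) [M.Normal] (h : ∀ x ∈ M, f (C.π x) = 1) : Cov (f ∘ g) where
  H := C.H ⧸ M
  φ := (QuotientGroup.mk' M).comp C.φ
  π := QuotientGroup.lift M (f.comp C.π) h
  surj := (QuotientGroup.mk'_surjective M).comp C.surj
  comp w := by rw [lift_comp, ← C.comp]; rfl

theorem Enf.mod {g : κ → G} (f : G →* G') (w : G → FreeGroup κ) (hw : ∀ x, f x = 1 → lift g (w x) = x) {r : ℕ}
    {P : Cov (f ∘ g) → Prop} (h : Enf (f ∘ g) r P) : Enf g r fun C => ∀ (M : Subgroup C.H) [M.Normal] (h : ∀ x ∈ M, f (C.π x) = 1),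
      (∀ x, f x = 1 → C.φ (w x) ∈ M) → P (C.quot f M h) := by
  obtain ⟨R, h1, h2, h3⟩ := h
  simp only [lift_comp] at h2
  refine ⟨R.map fun v => v * (w (lift g v))⁻¹, by simpa, fun v hv => ?_, fun C hC M _ a1 a2 => h3 _ fun v hv => ?_⟩
  · obtain ⟨v, hv', rfl⟩ := List.mem_map.1 hv
    simp [hw _ (h2 v hv')]
  · have := hC _ (List.mem_map_of_mem hv)
    rw [map_mul, map_inv, mul_inv_eq_one] at this
    exact (QuotientGroup.eq_one_iff _).2 (this ▸ a2 _ (h2 v hv))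

theorem exists_wd2 [Finite F] {g : κ → G} {u s : FreeGroup κ} {ξ : F} (hξ : Gen ξ) {x : F → G}
    (hx : RS (lift g u) (lift g s) ξ x) : ∃ w : F → FreeGroup κ, (∀ c, lift g (w c) = x c) ∧
      (∀ c, w c ∈ closure (Set.range (xs s u))) ∧ ∀ (C : Cov g) (X : F → C.H), RS (C.φ u) (C.φ s) ξ X → ∀ c, C.φ (w c) = X c := by
  obtain ⟨p, hp⟩ := CharP.exists F
  have := Fact.mk (CharP.char_is_prime F p)
  letI := ZMod.algebra F p
  obtain ⟨e, b, h1, -⟩ := hξ.basis p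
  choose w h0 h2 h3 using exists_wd' b (xs s u) hx.toAdd1 fun i => by rw [map_xs, hx.xs, h1]
  exact ⟨w, h2, fun c => W_le (fun i _ => Subgroup.subset_closure (Set.mem_range_self i)) (h0 c),
    fun C X hX c => h3 c C X hX.toAdd1 fun i => by rw [map_xs, hX.xs, h1]⟩

theorem borel_six [Finite F] {g : κ → G} {u s : FreeGroup κ} {ξ : F} {x : F → G} (p : ℕ) [CharP F p] (hξ : Gen ξ)
    (hx : RS (lift g u) (lift g s) ξ x) (h : Nat.card F ≤ p ^ 6) : Enf g 7 fun C => ∃ X, RS (C.φ u) (C.φ s) ξ X := by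
  obtain ⟨e, w, h1, h2, -, h4, h5, h6⟩ := borel_aux p hξ hx
  have he : e ≤ 6 := (Nat.pow_le_pow_iff_right (CharP.char_is_prime F p).one_lt).1 (h2 ▸ h)
  refine (((Enf.rel (u ^ p) 1 (by simpa using h5)).and (Enf.rel w 1 (by simpa using h4))).and
    (Enf.list [1, 2, 3, 4, 5] (fun i => u * xs s u i) (fun i => xs s u i * u) fun i _ => by
      simp only [map_mul, map_xs, hx.xs]; rw [← hx.one]; exact hx.comm _ _)).mono le_rfl fun C ⟨⟨c1, c2⟩, c3⟩ =>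
      h6 C ?_ (by simpa using c1) (by simpa using c2)
  have key : ∀ i j, i ≤ j → j < 6 → Commute (xs (C.φ s) (C.φ u) i) (xs (C.φ s) (C.φ u) j) := fun i j h h' => by
    obtain ⟨d, rfl⟩ := Nat.exists_eq_add_of_le h
    have : Commute (C.φ u) (xs (C.φ s) (C.φ u) d) := by
      rcases Nat.eq_zero_or_pos d with rfl | h0
      · simp
      · have := c3 d (by simp; omega)
        simp only [map_mul, map_xs] at this
        exact this
    rw [← xs_add]; exact this.conj _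
  exact fun i hi j hj => (le_total i j).elim (fun h => key i j h (by omega)) fun h => (key j i h (by omega)).symm

variable (σ : F →+* F)

structure HsU (X : F → F → B) : Prop where
  mul : ∀ α a β b, a + σ a = σ α * α → b + σ b = σ β * β → X α a * X β b = X (α + β) (a + b + σ α * β)
  inj : ∀ α a, a + σ a = σ α * α → X α a = 1 → α = 0 ∧ a = 0

def Act (X : F → F → B) (τ : B) (ξ : F) : Prop :=
  ∀ α a, a + σ a = σ α * α → τ * X α a * τ⁻¹ = X (ξ * α) (σ ξ * ξ * a)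

variable {σ} {X : F → F → B} (hσ : ∀ a, σ (σ a) = a)

theorem HsU.zero (h : HsU σ X) : X 0 0 = 1 := by
  have := h.mul 0 0 0 0 (by simp) (by simp)
  simpa using this

theorem Act.one : Act σ X 1 1 := fun α a _ => by simp

include hσ

theorem Act.mul {τ τ' : B} {ξ ξ' : F} (h : Act σ X τ ξ) (h' : Act σ X τ' ξ') : Act σ X (τ * τ') (ξ * ξ') := fun α a v => by
  rw [show τ * τ' * X α a * (τ * τ')⁻¹ = τ * (τ' * X α a * τ'⁻¹) * τ⁻¹ by group, h' _ _ v, h _ _ (by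
    simp only [map_mul, hσ]; linear_combination (σ ξ' * ξ') * v), map_mul]
  congr 1 <;> ring

theorem Act.pow {τ : B} {ξ : F} (h : Act σ X τ ξ) (n : ℕ) : Act σ X (τ ^ n) (ξ ^ n) := by
  induction n with
  | zero => simpa using Act.one
  | succ n ih => rw [pow_succ, pow_succ]; exact ih.mul hσ h

theorem Act.inv {τ : B} {ξ : F} (h : Act σ X τ ξ) (h0 : ξ ≠ 0) : Act σ X τ⁻¹ ξ⁻¹ := fun α a v => by
  have : σ ξ ≠ 0 := by simpa
  have := h (ξ⁻¹ * α) (σ ξ⁻¹ * ξ⁻¹ * a) (by simp only [map_mul, hσ]; linear_combination (σ ξ⁻¹ * ξ⁻¹) * v)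
  rw [show ξ * (ξ⁻¹ * α) = α by field_simp, show σ ξ * ξ * (σ ξ⁻¹ * ξ⁻¹ * a) = a by rw [map_inv₀]; field_simp] at this
  rw [← this]; group

theorem HsU.comm (h : HsU σ X) {α a c : F} (v : a + σ a = σ α * α) (v' : c + σ c = 0) : X α a * X 0 c = X α (a + c) ∧
    X 0 c * X α a = X α (a + c) := by
  rw [h.mul _ _ _ _ v (by simpa), h.mul _ _ _ _ (by simpa) v]; simp [add_comm]

def HsU.Z (h : HsU σ X) : Subgroup B where
  carrier := {x | ∃ c, c + σ c = 0 ∧ x = X 0 c}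
  mul_mem' := by
    rintro _ _ ⟨c, hc, rfl⟩ ⟨d, hd, rfl⟩
    exact ⟨c + d, by rw [map_add]; linear_combination hc + hd, (h.comm hσ (by simpa) hd).1⟩
  one_mem' := ⟨0, by simp, h.zero.symm⟩
  inv_mem' := by
    rintro _ ⟨c, hc, rfl⟩
    have hd : -c + σ (-c) = 0 := by rw [map_neg]; linear_combination -hc
    exact ⟨-c, hd, inv_eq_of_mul_eq_one_right (by rw [(h.comm hσ (by simpa) hd).1, add_neg_cancel, h.zero])⟩

omit hσ in
theorem Gen.ne [Finite F] {ξ : F} (h : Gen ξ) (hne : σ ≠ RingHom.id F) : σ ξ ≠ ξ := fun e =>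
  hne (RingHom.ext fun a => (RingHom.eqOn_set_closure (f := σ) (g := RingHom.id F) (s := {ξ}) (by simpa using e)) (h.ge (Subring.mem_top a)))

theorem heis_top [Finite F] (hne : σ ≠ RingHom.id F) (hX : HsU σ X) {θ ξ ξ' : F} (hθ : θ + σ θ = 1) {h k : B} (ah : Act σ X h ξ)
    (hξ : ∀ c, c ≠ 0 → σ c = c → ∃ j : ℕ, (σ ξ * ξ) ^ j = c)
    (all : ∀ b, ∃ α a, ∃ i j : ℕ, a + σ a = σ α * α ∧ b = X α a * (h ^ i * k ^ j))
    {l₁ l₂ : ℕ} (as : Act σ X (h ^ l₁ * k ^ l₂) ξ') (hl : Gen ξ') : closure (Set.range ![X 1 θ, h, k]) = ⊤ := by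
  set g := ![X 1 θ, h, k] with hg
  have v1 : θ + σ θ = σ 1 * 1 := by simpa
  have vα : ∀ α, θ * (σ α * α) + σ (θ * (σ α * α)) = σ α * α := fun α => by
    simp only [map_mul, hσ]; linear_combination (σ α * α) * hθ
  have c0 : ξ' - σ ξ' ≠ 0 := sub_ne_zero.2 (hl.ne hne).symm
  have c1 : ξ' - σ ξ' + σ (ξ' - σ ξ') = 0 := by simp [hσ]
  have hc : ∀ c, c + σ c = 0 → σ (c / (ξ' - σ ξ')) = c / (ξ' - σ ξ') := fun c hc => by
    rw [map_div₀, eq_neg_of_add_eq_zero_right hc, eq_neg_of_add_eq_zero_right c1, neg_div_neg_eq]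
  set M := closure (Set.range g)
  have m0 : X 1 θ ∈ M := subset_closure ⟨0, rfl⟩
  have m1 : h ∈ M := subset_closure ⟨1, rfl⟩
  have m2 : k ∈ M := subset_closure ⟨2, rfl⟩
  have m3 : h ^ l₁ * k ^ l₂ ∈ M := mul_mem (pow_mem m1 _) (pow_mem m2 _)
  have m4 : ∀ i : ℕ, X (ξ' ^ i) (σ (ξ' ^ i) * ξ' ^ i * θ) ∈ M := fun i => by
    have := mul_mem (mul_mem (pow_mem m3 i) m0) (inv_mem (pow_mem m3 i))
    rwa [as.pow hσ i _ _ v1, mul_one] at this
  have v2 : σ ξ' * ξ' * θ + σ (σ ξ' * ξ' * θ) = σ ξ' * ξ' := by rw [mul_comm]; exact vα ξ'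
  have m5 : X 0 (ξ' - σ ξ') ∈ M := by
    have m4 := m4 1
    rw [pow_one] at m4
    refine (M.mul_mem_cancel_left (mul_mem m4 m0)).1 ?_
    rw [hX.mul _ _ _ _ v2 v1, (hX.comm hσ (by simp only [map_mul, map_add, hσ, map_one]; linear_combination (σ ξ' * ξ' + 1) * hθ) c1).1]
    convert mul_mem m0 m4 using 1
    rw [hX.mul _ _ _ _ v1 v2, map_one]; congr 1 <;> ring
  have m6 : ∀ c, c + σ c = 0 → X 0 c ∈ M := fun c h0 => by
    rcases eq_or_ne c 0 with rfl | h1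
    · rw [hX.zero]; exact one_mem _
    obtain ⟨j, hj⟩ := hξ _ (div_ne_zero h1 c0) (hc c h0)
    have := mul_mem (mul_mem (pow_mem m1 j) m5) (inv_mem (pow_mem m1 j))
    rwa [ah.pow hσ j _ _ (by simpa using c1), mul_zero, map_pow, ← mul_pow, hj, div_mul_cancel₀ _ c0] at this
  have m7 : ∀ α a b, a + σ a = σ α * α → b + σ b = σ α * α → X α a ∈ M → X α b ∈ M := fun α a b h1 h2 h3 => by
    have h4 : b - a + σ (b - a) = 0 := by rw [map_sub]; linear_combination h2 - h1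
    have := mul_mem h3 (m6 _ h4)
    rwa [(hX.comm hσ h1 h4).1, add_sub_cancel] at this
  have m8 : ∀ α, X α (θ * (σ α * α)) ∈ M := hl.ind (by simpa using m6 0 (by simp)) (fun a b h1 h2 => m7 _ _ _ (by
    simp only [map_mul, map_add, hσ]; linear_combination (σ a * a + σ b * b) * hθ) (vα _)
    (hX.mul _ _ _ _ (vα a) (vα b) ▸ mul_mem h1 h2)) fun i => by rw [mul_comm θ]; exact m4 i
  refine eq_top_iff.2 fun b _ => ?_
  obtain ⟨α, a, i, j, v, rfl⟩ := all b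
  exact mul_mem (m7 _ _ _ (vα α) v (m8 α)) (mul_mem (pow_mem m1 _) (pow_mem m2 _))

set_option maxHeartbeats 1600000 in
theorem pres_heis [Finite F] (hne : σ ≠ RingHom.id F) (hX : HsU σ X) {θ ξ μ : F} (hθ : θ + σ θ = 1) {h k : B} (ah : Act σ X h ξ)
    (ak : Act σ X k μ) (hμ : σ μ * μ = 1) (ξ0 : ξ ≠ 0) (hξ : ∀ c, c ≠ 0 → σ c = c → ∃ j : ℕ, (σ ξ * ξ) ^ j = c) (hk : Commute h k)
    {m n : ℕ} (hm : h ^ m = 1) (hn : k ^ n = 1) (m0 : 0 < m) (n0 : 0 < n)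
    (inj : ∀ α a (i j : ℕ), a + σ a = σ α * α → X α a * (h ^ i * k ^ j) = 1 → m ∣ i ∧ n ∣ j)
    (all : ∀ b, ∃ α a, ∃ i j : ℕ, a + σ a = σ α * α ∧ b = X α a * (h ^ i * k ^ j))
    {l₁ l₂ : ℕ} {ξ' : F} (e' : ξ ^ l₁ * μ ^ l₂ = ξ') (hl : Gen ξ') (hl' : l₁ = 0 ∧ l₂ = 1 ∨ n = 1) {r₁ r₂ : ℕ}
    (E1 : ∀ z c, c + σ c = 0 → lift ![X 1 θ, h, k] z = X 0 c → Enf ![X 1 θ, h, k] r₁ fun C =>
      ∀ (η : σ.eqLocusField (RingHom.id F)) XZ, η = σ ξ * ξ → Gen η → RS (C.φ z) (C.φ (of 1)) η XZ →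
        (∀ c, Commute (C.φ (of 0)) (XZ c)) ∨ Commute (C.φ (of 0)) (C.φ z) ∧ (σ ξ * ξ) ^ l₁ = 1)
    (E2 : ∀ (Q : Type u) [Group Q] (f : B →* Q) (x : F → Q), (∀ α a, a + σ a = σ α * α → f (X α a) = x α) →
      RS (lift (f ∘ ![X 1 θ, h, k]) (of 0)) (lift (f ∘ ![X 1 θ, h, k]) (of 1 ^ l₁ * of 2 ^ l₂)) ξ' x →
      Enf (f ∘ ![X 1 θ, h, k]) r₂ fun C => Commute (C.φ (of 1)) (C.φ (of 2)) →
        ∃ Y, RS (C.φ (of 0)) (C.φ (of 1 ^ l₁ * of 2 ^ l₂)) ξ' Y) :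
    PrG ![X 1 θ, h, k] (7 + r₁ + r₂) ∧ closure (Set.range ![X 1 θ, h, k]) = ⊤ := by
  set g := ![X 1 θ, h, k] with hg
  have μ0 : μ ≠ 0 := by rintro rfl; simp at hμ
  have v1 : θ + σ θ = σ 1 * 1 := by simpa
  have vα : ∀ α, θ * (σ α * α) + σ (θ * (σ α * α)) = σ α * α := fun α => by
    simp only [map_mul, hσ]; linear_combination (σ α * α) * hθ
  have as : Act σ X (h ^ l₁ * k ^ l₂) ξ' := e' ▸ (ah.pow hσ _).mul hσ (ak.pow hσ _)
  obtain ⟨c₀, c0, c1⟩ : ∃ c, c ≠ 0 ∧ c + σ c = 0 := ⟨ξ' - σ ξ', sub_ne_zero.2 (hl.ne hne).symm, by simp [hσ]⟩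
  have hc : ∀ c, c + σ c = 0 → σ (c / c₀) = c / c₀ := fun c hc => by
    rw [map_div₀, eq_neg_of_add_eq_zero_right hc, eq_neg_of_add_eq_zero_right c1, neg_div_neg_eq]
  have top : closure (Set.range g) = ⊤ := heis_top hσ hne hX hθ ah hξ all as hl
  refine ⟨?_, top⟩
  obtain ⟨z, hz⟩ := mem_closure_lift.1 (top.ge (mem_top (X 0 c₀)))
  let K := σ.eqLocusField (RingHom.id F)
  let η : K := ⟨σ ξ * ξ, show σ _ = _ by simp [hσ, mul_comm]⟩
  have vK : ∀ c : K, c * c₀ + σ (c * c₀) = 0 := fun c => by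
    rw [map_mul, show σ c = c from c.2]; linear_combination c * c1
  have hη : ∀ c : K, c ≠ 0 → ∃ j : ℕ, η ^ j = c := fun c h => (hξ c (by simpa using h) c.2).imp fun j h => Subtype.ext (by simpa)
  have gη : Gen η := eq_top_iff.2 fun c _ => by
    rcases eq_or_ne c 0 with rfl | h
    · exact zero_mem _
    · obtain ⟨j, rfl⟩ := hη c h; exact Subring.pow_mem _ (Subring.subset_closure (Set.mem_singleton η)) j
  have rz : RS (lift g z) (lift g (of 1)) η fun c : K => X 0 (c * c₀) := ⟨⟨fun a b => by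
    rw [(hX.comm hσ (by simpa using vK a) (vK b)).1]; simp [add_mul]⟩, by simp [hz], fun a => by
      simp only [g, FreeGroup.lift_apply_of, Matrix.cons_val]; rw [ah _ _ (by simpa using vK a)]; simp [η, mul_assoc]⟩
  obtain ⟨t, ht⟩ : ∃ t : ℕ, (Nat.card K).Prime ∨ η ^ t = 1 + η := by
    by_cases h : 1 + η = 0
    · obtain ⟨p, hp⟩ := CharP.exists K
      have := Fact.mk (CharP.char_is_prime K p)
      refine ⟨0, .inl ?_⟩
      rw [← Nat.card_congr (Equiv.ofBijective (ZMod.castHom (dvd_refl p) K) ⟨(ZMod.castHom (dvd_refl p) K).injective, fun c =>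
        (Subring.closure_le (t := (ZMod.castHom (dvd_refl p) K).range)).2 ?_ (gη.ge (Subring.mem_top c))⟩), Nat.card_zmod]
      · exact this.1
      · rintro _ rfl; exact ⟨-1, by simp [neg_eq_of_add_eq_zero_right h]⟩
    · exact (hη _ h).imp fun _ => .inr
  have EZ := borel (t := of 1 ^ t) gη rz (ht.imp_right fun ht => by rw [map_pow, rz.act_pow, ht, mul_one]) (of 1 ^ m) (of 2 ^ n)
    (by simpa [g]) (by simpa [g])
  obtain ⟨wz, wz1, wz2⟩ := exists_wd gη rz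
  have nZ : (hX.Z hσ).Normal := ⟨by
    rintro _ ⟨c, hc, rfl⟩ b
    obtain ⟨α, a, i, j, v, rfl⟩ := all b
    have h1 : σ (ξ ^ i * μ ^ j) * (ξ ^ i * μ ^ j) * c + σ (σ (ξ ^ i * μ ^ j) * (ξ ^ i * μ ^ j) * c) = 0 := by
      simp only [map_mul, hσ]; linear_combination (σ (ξ ^ i) * σ (μ ^ j) * (ξ ^ i * μ ^ j)) * hc
    refine ⟨_, h1, ?_⟩
    rw [show X α a * (h ^ i * k ^ j) * X 0 c * (X α a * (h ^ i * k ^ j))⁻¹ =
      X α a * (h ^ i * k ^ j * X 0 c * (h ^ i * k ^ j)⁻¹) * (X α a)⁻¹ by group,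
      ((ah.pow hσ i).mul hσ (ak.pow hσ j)) _ _ (by simpa), mul_zero, (hX.comm hσ v h1).1, ← (hX.comm hσ v h1).2, mul_inv_cancel_right]⟩
  let f := QuotientGroup.mk' (hX.Z hσ)
  have fZ : ∀ c, c + σ c = 0 → f (X 0 c) = 1 := fun c hc => (QuotientGroup.eq_one_iff _).2 ⟨c, hc, rfl⟩
  have fX : ∀ α a, a + σ a = σ α * α → f (X α a) = f (X α (θ * (σ α * α))) := fun α a v => by
    have h4 : a - θ * (σ α * α) + σ (a - θ * (σ α * α)) = 0 := by rw [map_sub]; linear_combination v - vα α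
    rw [← mul_one (f (X α (θ * _))), ← fZ _ h4, ← map_mul, (hX.comm hσ (vα α) h4).1, add_sub_cancel]
  have fa : ∀ {τ ζ}, Act σ X τ ζ → ∀ α, f τ * f (X α (θ * (σ α * α))) * (f τ)⁻¹ = f (X (ζ * α) (θ * (σ (ζ * α) * (ζ * α)))) :=
    fun h α => by rw [← map_mul, ← map_inv, ← map_mul, h _ _ (vα α), map_mul σ]; congr 2; ring
  have ru : RS (lift (f ∘ g) (of 0)) (lift (f ∘ g) (of 1 ^ l₁ * of 2 ^ l₂)) ξ' fun α => f (X α (θ * (σ α * α))) := ⟨⟨fun a b => by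
    rw [← map_mul f, hX.mul _ _ _ _ (vα a) (vα b), fX _ (_ + _ + _) (by
      simp only [map_mul, map_add, hσ]; linear_combination (σ a * a + σ b * b) * hθ)]⟩, by simp [g], fun a => by
      rw [lift_comp, ← fa as]; simp [g]⟩
  obtain ⟨wu, wu1, wu3, wu2⟩ := exists_wd2 hl ru
  have fw : ∀ x, f x = 1 → ∃ c : K, X 0 (c * c₀) = x := fun x hx => by
    obtain ⟨c, h1, rfl⟩ := (QuotientGroup.eq_one_iff _).1 hx
    exact ⟨⟨_, hc c h1⟩, by simp [c0]⟩
  choose! cw hcw using fw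
  obtain ⟨c₁, hc₁⟩ : ∃ c : K, lift g ((of 1)⁻¹ * of 0 * of 1) = lift g (wu ξ⁻¹ * wz c) := by
    refine ⟨cw ((lift g (wu ξ⁻¹))⁻¹ * lift g ((of 1)⁻¹ * of 0 * of 1)), ?_⟩
    rw [map_mul _ (wu _), wz1, hcw, mul_inv_cancel_left]
    rw [map_mul, map_inv, ← lift_comp, wu1, inv_mul_eq_one, ← mul_one ξ⁻¹, ← fa (ah.inv hσ ξ0)]
    simp [g]
  have EQ := (E2 _ f _ fX ru).mod f (fun x => wz (cw x)) fun x hx => by rw [wz1, hcw x hx]
  refine ((((((Enf.rel (of 1 * of 2) (of 2 * of 1) (by simpa [g] using hk.eq)).and (Enf.rel (of 2 * z) (z * of 2) (by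
    have := ak 0 _ (by simpa using c1)
    rw [mul_zero, hμ, one_mul, mul_inv_eq_iff_eq_mul] at this
    simpa [g, hz]))).and (Enf.rel _ _ hc₁)).and EZ).and (E1 z _ c1 hz)).and EQ).mono (by omega)
    fun C ⟨⟨⟨⟨⟨a1, a2⟩, a3⟩, a4⟩, a5⟩, a6⟩ => ?_
  simp only [map_mul, map_pow, map_inv] at a1 a2 a3 a4
  replace a1 : Commute (C.φ (of 1)) (C.φ (of 2)) := a1
  replace a2 : Commute (C.φ (of 2)) (C.φ z) := a2
  obtain ⟨⟨XZ, hZ⟩, o1, o2⟩ := a4 ((Commute.refl _).pow_right _) ((Commute.refl _).pow_pow _ _) (a1.symm.pow_pow _ _)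
  rw [wz2 C XZ hZ] at a3
  have πZ := hZ.map gη C.π (by simpa only [C.comp] using rz)
  have kZ : ∀ c, Commute (C.φ (of 2)) (XZ c) := fun c =>
    (comm_of_gen gη hZ.toAdd1 hZ.act a1 (by rw [hZ.one]; exact a2.symm) c).symm
  have uZ : ∀ c, Commute (C.φ (of 0)) (XZ c) := by
    refine (a5 η XZ rfl gη hZ).elim id fun ⟨b1, b2⟩ => ?_
    have sz : Commute (C.φ (of 1 ^ l₁ * of 2 ^ l₂)) (C.φ z) := by
      rw [map_mul, map_pow, map_pow]
      refine Commute.mul_left ?_ (a2.pow_left _)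
      rw [← hZ.one, Commute, SemiconjBy, ← mul_inv_eq_iff_eq_mul, hZ.act_pow, show η ^ l₁ = 1 from Subtype.ext (by simpa [η] using b2), one_mul]
    have sh : Commute (C.φ (of 1 ^ l₁ * of 2 ^ l₂)) (C.φ (of 1)) := by
      rw [map_mul, map_pow, map_pow]; exact ((Commute.refl _).pow_left _).mul_left (a1.symm.pow_left _)
    let A := closure (Set.range (xs (C.φ (of 1 ^ l₁ * of 2 ^ l₂)) (C.φ (of 0))) ∪ Set.range XZ)
    have A1 : ∀ x ∈ A, Commute x (C.φ z) := fun x hx => (closure_le (centralizer {C.φ z})).2 (by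
      rintro _ (⟨i, rfl⟩ | ⟨c, rfl⟩) <;> refine mem_centralizer_singleton_iff.2 ?_
      · exact ((sz.pow_left i).mul_left b1).mul_left (sz.pow_left i).inv_left
      · rw [← hZ.one]; exact hZ.comm _ _) hx |> mem_centralizer_singleton_iff.1
    have A2 : ∀ x ∈ A, C.φ (of 1 ^ l₁ * of 2 ^ l₂) * x * (C.φ (of 1 ^ l₁ * of 2 ^ l₂))⁻¹ ∈ A := conj_mem_closure (by
      rintro _ (⟨i, rfl⟩ | ⟨c, rfl⟩)
      · rw [xs_succ]; exact subset_closure (.inl ⟨_, rfl⟩)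
      · rw [map_mul, map_pow, map_pow, mul_assoc _ _ (XZ c), ((kZ c).pow_left l₂).eq, mul_inv_rev, mul_assoc, mul_assoc, mul_inv_cancel_left,
          ← mul_assoc, hZ.act_pow]
        exact subset_closure (.inr ⟨_, rfl⟩))
    have A3 : ∀ x ∈ A, (C.φ (of 1))⁻¹ * x * (C.φ (of 1))⁻¹⁻¹ ∈ A := conj_mem_closure (by
      rw [inv_inv]
      rintro _ (⟨i, rfl⟩ | ⟨c, rfl⟩)
      · induction i with
        | zero =>
          rw [xs_zero, a3]
          refine mul_mem ((closure_le (A.comap C.φ)).2 ?_ (wu3 _)) (subset_closure (.inr ⟨_, rfl⟩))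
          rintro _ ⟨i, rfl⟩
          exact subset_closure (.inl ⟨i, (map_xs _ _ _ _).symm⟩)
        | succ i ih =>
          convert A2 _ ih using 1
          rw [← xs_succ]; simp only [← mul_assoc]; rw [← sh.inv_right.eq, mul_assoc _ _ (C.φ (of 1)), sh.inv_left.eq, ← mul_assoc]
      · have := hZ.act (η⁻¹ * c)
        rw [mul_inv_cancel_left₀ (by simpa [η, Subtype.ext_iff] using ξ0)] at this
        rw [← this]; simpa [mul_assoc] using (subset_closure (.inr ⟨_, rfl⟩) : XZ (η⁻¹ * c) ∈ A))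
    refine gη.ind (by simp [hZ.zero]) (fun a b h1 h2 => hZ.add a b ▸ h1.mul_right h2) fun i => ?_
    have : (C.φ (of 1) ^ i)⁻¹ * C.φ (of 0) * C.φ (of 1) ^ i ∈ A := by
      induction i with
      | zero => rw [pow_zero, inv_one, one_mul, mul_one]; exact subset_closure (.inl ⟨0, by simp⟩)
      | succ i ih => convert A3 _ ih using 1; group
    have := (A1 _ this).conj (C.φ (of 1) ^ i)
    rw [← hZ.xs]; simpa [mul_assoc, xs] using this
  let M : Subgroup C.H :=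
    { carrier := Set.range XZ
      mul_mem' := by rintro _ _ ⟨a, rfl⟩ ⟨b, rfl⟩; exact ⟨_, hZ.add a b⟩
      one_mem' := ⟨0, hZ.zero⟩
      inv_mem' := by rintro _ ⟨a, rfl⟩; exact ⟨_, hZ.neg a⟩ }
  have nM : M.Normal := normalizer_eq_top_iff.1 (eq_top_iff.2 fun x _ => C.top (fun j => by
    fin_cases j <;> refine mem_normalizer_of ?_ ?_ <;> rintro _ ⟨c, rfl⟩
    · exact ⟨c, by simp [(uZ c).eq]⟩
    · exact ⟨c, by simp [(uZ c).inv_left.eq]⟩
    · exact ⟨_, (hZ.act c).symm⟩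
    · refine ⟨η⁻¹ * c, ?_⟩
      have := hZ.act (η⁻¹ * c)
      rw [mul_inv_cancel_left₀ (by simpa [η, Subtype.ext_iff] using ξ0)] at this
      rw [← this]; simp [mul_assoc]
    · exact ⟨c, by simp [(kZ c).eq]⟩
    · exact ⟨c, by simp [(kZ c).inv_left.eq]⟩) x)
  have hM : ∀ x ∈ M, f (C.π x) = 1 := by rintro _ ⟨c, rfl⟩; rw [πZ]; exact fZ _ (vK c)
  obtain ⟨Y, hY⟩ := a6 M hM (fun x _ => ⟨_, (wz2 C XZ hZ _).symm⟩) (a1.map (QuotientGroup.mk' M))
  let D := C.quot f M hM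
  replace hY : RS (D.φ (of 0)) (D.φ (of 1 ^ l₁ * of 2 ^ l₂)) ξ' Y := hY
  have πY := hY.map hl D.π (by simpa only [D.comp] using ru)
  have d1 : Commute (D.φ (of 1)) (D.φ (of 2)) := a1.map (QuotientGroup.mk' M)
  have d2 : D.φ (of 1) ^ m = 1 := (map_pow (QuotientGroup.mk' M) _ m).symm.trans (by rw [o1, map_one]; rfl)
  have d3 : D.φ (of 2) ^ n = 1 := (map_pow (QuotientGroup.mk' M) _ n).symm.trans (by rw [o2, map_one]; rfl)
  have y1 : ∀ a, (D.φ (of 1))⁻¹ * Y a * (D.φ (of 1))⁻¹⁻¹ = Y (ξ⁻¹ * a) := hY.conj hl hY.toAdd1 hY.act (by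
    rw [map_mul, map_pow, map_pow, (((Commute.refl _).pow_right l₁).mul_right (d1.pow_right l₂)).inv_left.eq]; simp) (by
    have := congrArg (QuotientGroup.mk' M) a3
    rw [map_mul _ (C.φ _), show QuotientGroup.mk' M (XZ c₁) = 1 from (QuotientGroup.eq_one_iff (XZ c₁)).2 ⟨_, rfl⟩, mul_one] at this
    rw [← wu2 D Y hY, inv_inv]; exact this)
  have y2 : ∀ a, ∃ b, D.φ (of 1) * Y a = Y b * D.φ (of 1) := fun a => ⟨ξ * a, by
    have := y1 (ξ * a); rw [inv_mul_cancel_left₀ ξ0] at this; rw [← this]; group⟩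
  have y3 : ∀ a, ∃ b, D.φ (of 2) * Y a = Y b * D.φ (of 2) := fun a => by
    rcases hl' with ⟨rfl, rfl⟩ | rfl
    · exact ⟨_, mul_inv_eq_iff_eq_mul.1 (by simpa using hY.act a)⟩
    · rw [pow_one] at d3; exact ⟨a, by simp [d3]⟩
  have y4 : ∀ {t : D.H}, (∀ a, ∃ b, t * Y a = Y b * t) → ∀ (i : ℕ) a, ∃ b, t ^ i * Y a = Y b * t ^ i := fun h i => by
    induction i with
    | zero => exact fun a => ⟨a, by simp⟩
    | succ i ih =>
      intro a
      obtain ⟨b, h1⟩ := h a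
      obtain ⟨c, h2⟩ := ih b
      exact ⟨c, by rw [pow_succ, mul_assoc, h1, ← mul_assoc, h2, mul_assoc]⟩
  have key : ∀ x : D.H, ∃ a, ∃ i j : ℕ, x = Y a * (D.φ (of 1) ^ i * D.φ (of 2) ^ j) := by
    let S : Submonoid D.H :=
      { carrier := {x | ∃ a, ∃ i j : ℕ, x = Y a * (D.φ (of 1) ^ i * D.φ (of 2) ^ j)}
        mul_mem' := by
          rintro _ _ ⟨a, i, j, rfl⟩ ⟨a', i', j', rfl⟩
          obtain ⟨b, h1⟩ := y4 y3 j a'
          obtain ⟨c, h2⟩ := y4 y2 i b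
          refine ⟨a + c, i + i', j + j', ?_⟩
          rw [hY.add, pow_add, pow_add]
          simp only [mul_assoc]
          rw [← mul_assoc _ (Y a'), h1, mul_assoc, ← mul_assoc _ (Y b), h2, mul_assoc, ← mul_assoc (_ ^ j), ← (d1.pow_pow i' j).eq, mul_assoc]
        one_mem' := ⟨0, 0, 0, by simp [hY.zero]⟩ }
    have s0 : ∀ a, Y a ∈ S := fun a => ⟨a, 0, 0, by simp⟩
    have s1 : ∀ i : ℕ, D.φ (of 1) ^ i ∈ S := fun i => ⟨0, i, 0, by simp [hY.zero]⟩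
    have s2 : ∀ i : ℕ, D.φ (of 2) ^ i ∈ S := fun i => ⟨0, 0, i, by simp [hY.zero]⟩
    have iv : ∀ {t : D.H} {m : ℕ}, 0 < m → t ^ m = 1 → ∀ i : ℕ, (t ^ i)⁻¹ = t ^ (i * (m - 1)) := fun {t m} h0 h i =>
      inv_eq_of_mul_eq_one_right (by rw [← pow_add, ← mul_one_add, show 1 + (m - 1) = m by omega, mul_comm, pow_mul, h, one_pow])
    refine D.top (K := ⟨S, ?_⟩) fun j => ?_
    · rintro _ ⟨a, i, j, rfl⟩
      rw [mul_inv_rev, mul_inv_rev, iv m0 d2, iv n0 d3, ← hY.neg]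
      exact S.mul_mem (S.mul_mem (s2 _) (s1 _)) (s0 _)
    · fin_cases j
      exacts [⟨1, 0, 0, by simp [hY.one]⟩, ⟨0, 1, 0, by simp [hY.zero]⟩, ⟨0, 0, 1, by simp [hY.zero]⟩]
  intro x hx
  obtain ⟨a, i, j, e⟩ := key (QuotientGroup.mk' M x)
  have e1 : f (X a (θ * (σ a * a)) * (h ^ i * k ^ j)) = 1 := by
    have := congrArg D.π e
    rw [show D.π (QuotientGroup.mk' M x) = f (C.π x) from rfl, hx, map_one] at this
    simpa [πY, g] using this.symm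
  obtain ⟨c, h1, h2⟩ := (QuotientGroup.eq_one_iff _).1 e1
  have h3 : -c + σ (-c) = 0 := by rw [map_neg]; linear_combination -h1
  have h4 : X a (θ * (σ a * a) + -c) * (h ^ i * k ^ j) = 1 := by
    rw [← (hX.comm hσ (vα a) h3).2, mul_assoc, h2, (hX.comm hσ (by simpa using h3) h1).1, neg_add_cancel, hX.zero]
  have v4 : θ * (σ a * a) + -c + σ (θ * (σ a * a) + -c) = σ a * a := by rw [map_add]; linear_combination vα a + h3
  obtain ⟨⟨i, rfl⟩, j, rfl⟩ := inj _ _ i j v4 h4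
  rw [pow_mul, pow_mul, hm, hn, one_pow, one_pow, mul_one, mul_one] at h4
  rw [pow_mul, pow_mul, d2, d3, one_pow, one_pow, mul_one, mul_one, (hX.inj _ _ v4 h4).1, hY.zero] at e
  obtain ⟨c, rfl⟩ := (QuotientGroup.eq_one_iff x).1 e
  rw [πZ] at hx
  rw [show c = 0 by simpa [c0] using (hX.inj _ _ (by simpa using vK c) hx).2, hZ.zero]

variable [Finite F] (hne : σ ≠ RingHom.id F) (hX : HsU σ X) {θ ξ μ : F} (hθ : θ + σ θ = 1) {h k : B} (ah : Act σ X h ξ)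
    (ak : Act σ X k μ) (hμ : σ μ * μ = 1) (ξ0 : ξ ≠ 0) (hξ : ∀ c, c ≠ 0 → σ c = c → ∃ j : ℕ, (σ ξ * ξ) ^ j = c) (hk : Commute h k)
    {m n : ℕ} (hm : h ^ m = 1) (hn : k ^ n = 1) (m0 : 0 < m) (n0 : 0 < n)
    (inj : ∀ α a (i j : ℕ), a + σ a = σ α * α → X α a * (h ^ i * k ^ j) = 1 → m ∣ i ∧ n ∣ j)
    (all : ∀ b, ∃ α a, ∃ i j : ℕ, a + σ a = σ α * α ∧ b = X α a * (h ^ i * k ^ j))
include hne hX hθ ah ak hμ ξ0 hξ hk hm hn m0 n0 inj all

theorem pres_heis_big {l₁ l₂ j₁ j₂ : ℕ} {ξ' : F} (e' : ξ ^ l₁ * μ ^ l₂ = ξ') (hl : Gen ξ') (hl' : l₁ = 0 ∧ l₂ = 1 ∨ n = 1)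
    (h1 : (σ ξ * ξ) ^ l₁ = 1) (h2 : ξ ^ j₁ * μ ^ j₂ = 1 + ξ') :
    PrG ![X 1 θ, h, k] 12 ∧ closure (Set.range ![X 1 θ, h, k]) = ⊤ :=
  pres_heis hσ hne hX hθ ah ak hμ ξ0 hξ hk hm hn m0 n0 inj all e' hl hl' (r₁ := 1) (r₂ := 4)
    (fun z c hc hz => (Enf.rel (of 0 * z) (z * of 0) (by
      have := hX.comm hσ (α := 1) (by simpa using hθ) hc
      simp [hz, this.1, this.2])).mono le_rfl fun C h _ _ _ _ _ => .inr ⟨by simpa [Commute, SemiconjBy] using h, h1⟩)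
    fun Q _ f x hx r => (borel (t := of 1 ^ j₁ * of 2 ^ j₂) hl r (.inr (by
      have v : θ + σ θ = σ 1 * 1 := by simpa using hθ
      have := ((ah.pow hσ j₁).mul hσ (ak.pow hσ j₂)) _ _ v
      rw [h2, mul_one] at this
      rw [← hx _ _ v, ← hx _ (σ (1 + ξ') * (1 + ξ') * θ) (by
        rw [map_mul, map_mul, hσ]; linear_combination (σ (1 + ξ') * (1 + ξ')) * hθ), ← this, lift_comp]
      simp)) 1 1 (by simp) (by simp)).mono le_rfl fun C h c => (h (by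
        simp only [map_mul, map_pow]
        exact (((Commute.refl _).pow_pow _ _).mul_right (c.pow_pow _ _)).mul_left
          ((c.symm.pow_pow _ _).mul_right ((Commute.refl _).pow_pow _ _))) (by simp) (by simp)).1

theorem pres_heis_small (hl : Gen ξ) (hl' : n = 1) (p : ℕ) [CharP F p] (h1 : Nat.card F ≤ p ^ 6)
    (h2 : Nat.card (σ.eqLocusField (RingHom.id F)) ≤ p ^ 3) :
    PrG ![X 1 θ, h, k] 17 ∧ closure (Set.range ![X 1 θ, h, k]) = ⊤ := by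
  refine pres_heis hσ hne hX hθ ah ak hμ ξ0 hξ hk hm hn m0 n0 inj all (l₁ := 1) (l₂ := 0) (by simp) hl (.inr hl') (r₁ := 3) (r₂ := 7)
    (fun z c hc hz => (Enf.list [0, 1, 2] (fun i => of 0 * xs (of 1) z i) (fun i => xs (of 1) z i * of 0) fun i _ => ?_).mono le_rfl
      fun C h η XZ _ gη r => .inl ?_) fun Q _ f x hx r => (borel_six p hl r h1).mono le_rfl fun C h _ => h
  · have := hX.comm hσ (α := 1) (c := σ (ξ ^ i) * ξ ^ i * c) (by simpa using hθ) (by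
      rw [map_mul, map_mul, hσ]; linear_combination (σ (ξ ^ i) * ξ ^ i) * hc)
    simp only [map_mul, map_xs, hz, FreeGroup.lift_apply_of, Matrix.cons_val]
    rw [xs, ah.pow hσ i _ _ (by simpa using hc), mul_zero, this.1, this.2]
  · have := Fact.mk (CharP.char_is_prime F p)
    letI := ZMod.algebra (σ.eqLocusField (RingHom.id F)) p
    obtain ⟨e, b, h3, -, h4⟩ := gη.basis p
    have he : e ≤ 3 := (Nat.pow_le_pow_iff_right (CharP.char_is_prime F p).one_lt).1 (h4 ▸ h2)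
    refine add_ind b (by simp [r.zero]) (fun a b h1 h2 => r.add a b ▸ h1.mul_right h2) fun i => ?_
    have := h i (by have := i.2; simp; omega)
    simp only [map_mul, map_xs, r.xs] at this
    rw [h3]; exact this

end H11
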