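import Cfsg.Agent.H11.Shp4
import Cfsg.Agent.H11.Rg
/-! Unipotent isometries in odd characteristic: homogeneous pieces (`Hg`, `isim_of_top`, `peel`), the
set `Mo P` of isomorphism classes of isometries with orthogonal sum, decomposition of unipotent classes
(`UJ.step`) and bounds for the number of classes with given Jordan data (`hb_JD`). -/
namespace H11
open Module Polynomial
open PForm hiding X

universe u
variable {F : Type u} [Field F] {V W : Type*} [AddCommGroup V] [Module F V] [AddCommGroup W]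
  [Module F W] {P : FParam (RingHom.id F)} {S : PForm P V} {T : PForm P W} {d : ℕ}

theorem isIsom_of_two (h2 : (2 : F) ≠ 0) {f : V → W} (h : ∀ x y, T.h (f x) (f y) = S.h x y) :
    IsIsom S T f := ⟨h, fun x => by
  rcases P.ε_cases with e | e
  · have := h x x
    rw [T.h_self, S.h_self, e] at this
    rw [show T.q (f x) - S.q x = 0 from mul_left_cancel₀ h2 (by simpa [two_mul, sub_eq_zero,
      mul_sub] using this)]
    exact P.Λ.zero_mem
  · convert P.sub_mem ((T.q (f x) - S.q x) / 2) using 1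
    rw [e, RingHom.id_apply]; field_simp; ring⟩

theorem top_symm {g : S.Isom} {y : V} (h : ((iE g - 1) ^ (d + 1)) y = 0) (x : V) :
    S.h y (((iE g - 1) ^ d) x) = P.ε * (-1) ^ d * S.h x (((iE g - 1) ^ d) y) := by
  have h1 : (-iE g⁻¹) (((iE g - 1) ^ d) y) = (-1 : F) • ((iE g - 1) ^ d) y := by
    rw [pow_succ', End.mul_apply, LinearMap.sub_apply, sub_eq_zero] at h
    conv_lhs => rw [← show _ = ((iE g - 1) ^ d) y from h]
    simp
  have := End.aeval_apply_of_mem_apply_eq_smul (p := X ^ d) h1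
  rw [map_pow, aeval_X] at this
  rw [S.symm, h_pow_adj, adj_pow, End.mul_apply, this]
  simp [mul_assoc]

variable [FiniteDimensional F V] [FiniteDimensional F W]

/-- unipotent with all blocks of size `d + 1` -/
structure Hg (d : ℕ) (f : End F V) : Prop where
  unip : Unip f
  jt : ∀ k ∈ JT f, k = d + 1

theorem Hg.pow {f : End F V} (h : Hg d f) : (f - 1) ^ (d + 1) = 0 :=
  h.unip.pow_eq_zero_iff.2 fun k hk => (h.jt k hk).le

theorem Hg.ker_eq {f : End F V} (h : Hg d f) {j k : ℕ} (e : j + k = d + 1) :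
    LinearMap.range ((f - 1) ^ j) = LinearMap.ker ((f - 1) ^ k) := by
  refine Submodule.eq_of_le_of_finrank_eq ?_ ?_
  · rintro _ ⟨x, rfl⟩; rw [LinearMap.mem_ker, ← End.mul_apply, ← pow_add, add_comm, e, h.pow]; rfl
  · have := ((f - 1) ^ j).finrank_range_add_finrank_ker
    rw [← JT_sum f] at this
    simp only [h.unip.finrank_ker] at this ⊢
    rw [Multiset.eq_replicate_card.2 h.jt] at this ⊢
    simp only [Multiset.map_replicate, Multiset.sum_replicate, smul_eq_mul, ← e, Nat.le_add_right,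
      Nat.le_add_left, min_eq_left, mul_add] at this ⊢
    omega

theorem hg_shf : Hg d (shf F d + 1) := ⟨(unip_shf d).1, by simp [(unip_shf d).2]⟩

theorem hg_shf₂ : Hg d ((shf F d + 1).prodMap (shf F d + 1)) :=
  ⟨hg_shf.unip.prodMap hg_shf.unip, by simp [JT_prodMap, (unip_shf d).2]⟩

theorem peel (h2 : (2 : F) ≠ 0) (hS : S.Nondeg) {g : S.Isom} {f : End F W} (h0 : Hg d f) (φ : W →ₗ[F] V)
    (hφ : ∀ a, φ (f a) = g.1 (φ a)) (hn : ∀ a, (∀ b, S.h (φ b) (φ (((f - 1) ^ d) a)) = 0) →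
      a ∈ LinearMap.range (f - 1)) : (S.comap φ).Nondeg ∧ ∃ (k : (S.comap φ).Isom) (U : Submodule F V)
        (b : (S.restrict U).Isom), iE k = f ∧ (S.restrict U).Nondeg ∧ Spl g k b := by
  have h1 : ∀ (j : ℕ) a, (∀ b, S.h (φ a) (φ b) = 0) → ((f - 1) ^ j) a = 0 → a = 0 := fun j => by
    induction j with
    | zero => exact fun a _ h => h
    | succ j ih =>
      intro a ha h
      have h3 := ih ((f - 1) a) (fun b => by
        obtain ⟨c, hc⟩ := ((End.isUnit_iff _).1 h0.unip.isUnit).2 b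
        rw [LinearMap.sub_apply, map_sub, map_sub, LinearMap.sub_apply, End.one_apply, ha, ← hc, hφ, hφ,
          isom_h, ha, sub_zero]) (by rwa [pow_succ] at h)
      obtain ⟨x, rfl⟩ : a ∈ LinearMap.range ((f - 1) ^ d) := h0.ker_eq rfl ▸ by rwa [pow_one]
      obtain ⟨y, rfl⟩ := hn x fun b => S.h_swap_zero (ha b)
      rw [← End.mul_apply, ← pow_succ, h0.pow]; rfl
  have hT : (S.comap φ).Nondeg := fun a ha => h1 _ a ha (by rw [h0.pow]; rfl)
  have hi : Function.Injective φ := (injective_iff_map_eq_zero φ).2 fun a ha => hT a (by simp [ha])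
  have he : IsIsom (S.comap φ) (S.restrict (LinearMap.range φ)) (LinearEquiv.ofInjective φ hi) :=
    ⟨fun _ _ => rfl, fun _ => by simp⟩
  have hU := he.nondeg hT
  have h3 : ∀ x ∈ LinearMap.range φ, g.1 x ∈ LinearMap.range φ := by
    rintro _ ⟨a, rfl⟩; exact ⟨_, hφ a⟩
  exact ⟨hT, mkIsom hT f (isIsom_of_two h2 fun x y => by simp [hφ]), _, _, rfl, hS.restrict_perp hU,
    (ISim.prod ⟨_, he, fun x => by exact Subtype.ext (hφ x)⟩ (.refl _)).trans (spl_rst g hU h3)⟩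

theorem exists_shf_hom {N : End F V} (h : N ^ (d + 1) = 0) (w : V) : ∃ φ : (Fin (d + 1) → F) →ₗ[F] V,
    (∀ a, φ (shf F d a) = N (φ a)) ∧ ∀ a, ∃ y, φ a = a (Fin.last d) • w + N y := by
  obtain ⟨φ, h1, h2⟩ := shf_sum (N := N) (d := d) (y := w) (by rw [h]; rfl)
  refine ⟨φ, h1, fun a => ⟨φ (Fin.cons 0 (Fin.init a)), ?_⟩⟩
  rw [← h1, ← h2, ← map_smul, ← map_add]
  congr 1
  ext i
  refine Fin.lastCases ?_ (fun i => ?_) i
  · simp [shf]
  · simp [shf, Fin.castSucc_ne_last]; rfl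

omit [FiniteDimensional F V] in
theorem mem_range_shf {a : Fin (d + 1) → F} (h : a (Fin.last d) = 0) : a ∈ LinearMap.range (shf F d) := by
  refine ⟨Fin.cons 0 (Fin.init a), funext fun i => Fin.lastCases (by simp [shf, h]) (fun i => ?_) i⟩
  simp [shf]; rfl

omit [FiniteDimensional F V] in
theorem top_add {g : S.Isom} (h : (iE g - 1) ^ (d + 1) = 0) (x y x' y' : V) :
    S.h (x + (iE g - 1) x') (((iE g - 1) ^ d) (y + (iE g - 1) y')) = S.h x (((iE g - 1) ^ d) y) := by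
  have h1 : ∀ z, ((iE g - 1) ^ d) ((iE g - 1) z) = 0 := fun z => by
    rw [← End.mul_apply, ← pow_succ, h]; rfl
  rw [map_add _ y, h1, add_zero, map_add, LinearMap.add_apply, top_symm (y := (iE g - 1) x') (by
    rw [h]; rfl), h1, map_zero, mul_zero, add_zero]

variable [Finite F]

theorem isim_of_top (h2 : (2 : F) ≠ 0) {T : PForm P V} (hS : S.Nondeg) (hT : T.Nondeg) {g : S.Isom}
    {k : T.Isom} (e : iE k = iE g) (hg : Hg d (iE g))
    (hb : ∀ x y, T.h x (((iE g - 1) ^ d) y) = S.h x (((iE g - 1) ^ d) y)) : ISim k g := by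
  obtain ⟨a, ha⟩ := exists_rep (fun _ => rfl) hS (B' := T.h)
  have h1 : ∀ x, k.1 x = g.1 x := fun x => congr($e x)
  have h3 : Commute a (iE g) := LinearMap.ext fun x => hS.ext_left fun y => by
    obtain ⟨y, rfl⟩ := g.1.surjective y
    change S.h (a (g.1 x)) _ = S.h (g.1 (a x)) _
    rw [ha, isom_h, ha, ← h1, ← h1, isom_h]
  have h4 : ∀ (j : ℕ) x y, S.h ((a ^ j) x) y = S.h x ((a ^ j) y) := fun j => by
    induction j with
    | zero => simp
    | succ j ih =>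
      intro x y
      rw [pow_succ', End.mul_apply, ha, T.symm, ← ha, ← S.symm, ih, ← End.mul_apply, ← pow_succ, pow_succ']
  have h5 : ∀ x, ∃ y, (iE g - 1) y = (a - 1) x := fun x => by
    rw [← LinearMap.mem_range, ← pow_one (iE g - 1), hg.ker_eq (add_comm _ _), LinearMap.mem_ker]
    refine hS.eq_zero' fun y => ?_
    rw [top_symm (by rw [hg.pow]; rfl), LinearMap.sub_apply, map_sub, LinearMap.sub_apply, ha, hb]
    simp
  have h6 : ∀ (j : ℕ) x, ∃ y, ((iE g - 1) ^ j) y = ((a - 1) ^ j) x := fun j => by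
    induction j with
    | zero => simp
    | succ j ih =>
      intro x
      obtain ⟨y, hy⟩ := ih x
      obtain ⟨z, hz⟩ := h5 y
      refine ⟨z, ?_⟩
      rw [pow_succ, pow_succ', End.mul_apply, End.mul_apply, hz, ← hy, ← End.mul_apply, ← End.mul_apply,
        (((h3.sub_right (.one_right a)).sub_left (.one_left _)).pow_right j).eq]
  have h7 : Unip a := ⟨d + 1, LinearMap.ext fun x => by
    obtain ⟨y, hy⟩ := h6 (d + 1) x; rw [← hy, hg.pow]; rfl⟩
  obtain ⟨p, _⟩ := CharP.exists F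
  have := Fact.mk (CharP.char_is_prime F p)
  obtain ⟨j, hj⟩ := (unip_iff_orderOf p).1 h7
  obtain ⟨m, hm⟩ := hj ▸ (odd_char h2 p).pow (n := j)
  have h8 : a ^ (m + 1) * a ^ (m + 1) = a := by
    rw [← pow_add, show m + 1 + (m + 1) = 2 * m + 1 + 1 by ring, ← hm, pow_succ, pow_orderOf_eq_one, one_mul]
  exact ⟨.ofBijective (a ^ (m + 1)) ((End.isUnit_iff _).1 (h7.isUnit.pow _)), isIsom_of_two h2 fun x y => by
    rw [LinearEquiv.ofBijective_apply, LinearEquiv.ofBijective_apply, ← h4, ← End.mul_apply, h8, ha],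
    fun x => by rw [h1]; exact LinearMap.congr_fun (h3.pow_left (m + 1)).eq x⟩

theorem Unip.JD_eq {f : End F V} (h : Unip f) : JD f = (JT f).map (1, ·) := by
  rw [JD, h.ED_eq, Multiset.bind_map, ← Multiset.bind_singleton]
  refine Multiset.bind_congr fun k hk => ?_
  obtain ⟨k, rfl⟩ := Nat.exists_eq_add_one_of_ne_zero (JT_pos hk).ne'
  simpa [jd_pow irreducible_X_sub_one] using congrArg (Multiset.map (·, k + 1))
    (aroots_X_sub_C (S := AC F) (1 : F))

theorem unip_of_JD {f : End F V} {μ : Multiset ℕ} (h : JD f = μ.map (1, ·)) : Unip f ∧ JT f = μ := by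
  have h1 : Unip f := ⟨finrank F V, by
    have := (aeval_eq_zero_iff_JD (f := f) (Q := (X - C 1) ^ finrank F V)).2 fun x hx => by
      have := dm_JD f ▸ le_dm hx
      obtain ⟨k, -, rfl⟩ := Multiset.mem_map.1 (h ▸ hx)
      simpa using pow_dvd_pow _ this
    rwa [map_pow, map_sub, aeval_X, aeval_C, map_one] at this⟩
  exact ⟨h1, Multiset.map_injective (Prod.mk_right_injective _) (h1.JD_eq.symm.trans h)⟩

omit [FiniteDimensional F V] [FiniteDimensional F W] [Finite F]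

/-- the scaled form -/
def sc (h2 : (2 : F) ≠ 0) (S : PForm P V) (c : F) : PForm P V :=
  have h : ∀ {a}, a ∈ P.Λ → c * a ∈ P.Λ := fun {a} ha => by
    rcases P.ε_cases with e | e
    · have := P.mem_imp a ha
      rw [e, one_mul, RingHom.id_apply, ← two_mul, mul_eq_zero_iff_left h2] at this
      simp [this]
    · convert P.sub_mem (c * a / 2) using 1
      rw [e, RingHom.id_apply]; field_simp; ring
  { h := c • S.h
    q := fun x => c * S.q x
    symm := fun x y => by simp [S.symm x, mul_left_comm]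
    q_add := fun x y => by convert h (S.q_add x y) using 1; simp; ring
    q_smul := fun a x => by convert h (S.q_smul a x) using 1; simp; ring
    h_self := fun x => by simp [S.h_self]; ring }

/-- a nondegenerate space with an isometry -/
structure Ob (P : FParam (RingHom.id F)) where
  V : Type u
  [i1 : AddCommGroup V]
  [i2 : Module F V]
  [i3 : FiniteDimensional F V]
  S : PForm P V
  nd : S.Nondeg
  g : S.Isom

attribute [instance] Ob.i1 Ob.i2 Ob.i3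

instance Ob.st (P : FParam (RingHom.id F)) : Setoid (Ob P) :=
  ⟨fun x y => ISim x.g y.g, fun _ => .refl _, .symm, .trans⟩

/-- isomorphism classes of isometries -/
def Mo (P : FParam (RingHom.id F)) := Quotient (Ob.st P)

section
variable {V W Y : Type u} [AddCommGroup V] [Module F V] [FiniteDimensional F V] [AddCommGroup W]
  [Module F W] [FiniteDimensional F W] [AddCommGroup Y] [Module F Y] [FiniteDimensional F Y]
  {S : PForm P V} {T : PForm P W} {R : PForm P Y} (hS : S.Nondeg) (hT : T.Nondeg) (hR : R.Nondeg)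

/-- the class of an isometry -/
def cls (g : S.Isom) : Mo P := ⟦⟨V, S, hS, g⟩⟧

theorem cls_eq {g : S.Isom} {k : T.Isom} : cls hS g = cls hT k ↔ ISim g k := Quotient.eq

instance : AddCommSemigroup (Mo P) where
  add := Quotient.map₂ (fun x y => ⟨_, _, x.nd.prod y.nd, prodI _ _ (x.g, y.g)⟩) fun _ _ h _ _ h' =>
    ISim.prod h h'
  add_assoc := by
    rintro ⟨x⟩ ⟨y⟩ ⟨z⟩
    exact Quotient.sound ⟨.prodAssoc F _ _ _, ⟨by simp [add_assoc], by simp [add_assoc]⟩, fun _ => rfl⟩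
  add_comm := by
    rintro ⟨x⟩ ⟨y⟩
    exact Quotient.sound (Spl.symm (.refl _))

theorem cls_add (g : S.Isom) (k : T.Isom) :
    cls hS g + cls hT k = cls (hS.prod hT) (prodI _ _ (g, k)) := rfl

theorem PForm.Spl.cls {g : S.Isom} {a : T.Isom} {b : R.Isom} (h : Spl g a b) :
    cls hS g = cls hT a + cls hR b := (Quotient.sound h).symm

/-- the class of `-g` -/
def Mo.ng : Mo P → Mo P := Quotient.map (fun x => ⟨_, _, x.nd, x.S.neg1 * x.g⟩)
  fun _ _ ⟨e, he, h⟩ => ⟨e, he, fun v => by simp [h]⟩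

theorem Mo.ng_ng (x : Mo P) : x.ng.ng = x := by
  obtain ⟨x⟩ := x
  exact Quotient.sound ⟨.refl F _, isIsom_id _, by simp⟩

theorem Mo.ng_add (x y : Mo P) : (x + y).ng = x.ng + y.ng := by
  obtain ⟨x⟩ := x
  obtain ⟨y⟩ := y
  exact Quotient.sound ⟨.refl F _, isIsom_id _, by simp⟩

/-- classes with prescribed endomorphism and top form -/
def Tp (P : FParam (RingHom.id F)) (d : ℕ) (f : End F W) (β : W → W → F) : Set (Mo P) :=
  {r | ∃ (S : PForm P W) (hS : S.Nondeg) (k : S.Isom), cls hS k = r ∧ iE k = f ∧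
    ∀ a b, S.h a (((f - 1) ^ d) b) = β a b}

theorem peel' (h2 : (2 : F) ≠ 0) {g : S.Isom} {f : End F W} (h0 : Hg d f) (φ : W →ₗ[F] V)
    (hφ : ∀ a, φ (f a) = g.1 (φ a)) {β : W → W → F}
    (hβ : ∀ a b, S.h (φ a) (((iE g - 1) ^ d) (φ b)) = β a b)
    (hn : ∀ a, (∀ b, β b a = 0) → a ∈ LinearMap.range (f - 1)) :
    ∃ r ∈ Tp P d f β, ∃ y, r + y = cls hS g := by
  have h1 : ∀ a, φ (((f - 1) ^ d) a) = ((iE g - 1) ^ d) (φ a) := fun a => by
    have := aeval_intertwine (g := iE g) hφ ((X - 1) ^ d) a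
    simpa only [map_pow, map_sub, aeval_X, map_one] using this
  obtain ⟨hT, k, U, b, hk, hU, h⟩ := peel h2 hS h0 φ hφ fun a ha => hn a fun b => by rw [← hβ, ← h1, ha]
  exact ⟨_, ⟨_, hT, k, rfl, hk, fun a b => by rw [comap_h, h1, hβ]⟩, _, (h.cls hS hT hU).symm⟩

variable [Finite F]

/-- Jordan data of a class -/
noncomputable def Mo.JD : Mo P → Multiset (AC F × ℕ) :=
  Quotient.lift (fun x => H11.JD (iE x.g)) fun _ _ h => sim_iff_JD.1 (ISim.sim h)

theorem Mo.JD_add (x y : Mo P) : (x + y).JD = x.JD + y.JD := by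
  obtain ⟨x⟩ := x
  obtain ⟨y⟩ := y
  exact JD_prodMap _ _

theorem Mo.JD_ng (x : Mo P) : x.ng.JD = scl (-1) x.JD := by
  obtain ⟨x⟩ := x
  have := JD_smul (iE x.g) (c := -1) (by simp)
  rw [map_neg, map_one] at this
  exact (congrArg H11.JD (by ext; simp)).trans this

theorem Tp.sub (h2 : (2 : F) ≠ 0) {f : End F W} (h : Hg d f) (β : W → W → F) :
    (Tp P d f β).Subsingleton := by
  rintro _ ⟨S, hS, k, rfl, rfl, h1⟩ _ ⟨T, hT, l, rfl, e, h3⟩
  exact ((cls_eq _ _).2 (isim_of_top h2 hS hT e h fun x y => by rw [h1, h3])).symm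

theorem Tp.JD {f : End F W} {β : W → W → F} {r : Mo P} (h : r ∈ Tp P d f β) : r.JD = JD f := by
  obtain ⟨S, hS, k, rfl, rfl, -⟩ := h; rfl
end

/-- single blocks with top value `t` -/
def Rs (P : FParam (RingHom.id F)) (d : ℕ) (t : F) : Set (Mo P) :=
  Tp P d (shf F d + 1) fun a b => t * a (Fin.last d) * b (Fin.last d)

/-- double blocks -/
def Hs (P : FParam (RingHom.id F)) (d : ℕ) : Set (Mo P) :=
  Tp P d ((shf F d + 1).prodMap (shf F d + 1)) fun a b =>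
    a.1 (Fin.last d) * b.2 (Fin.last d) - a.2 (Fin.last d) * b.1 (Fin.last d)

/-- `t` is a value of the top form -/
def Vl (d : ℕ) (x : Mo P) (t : F) : Prop :=
  ∃ o : Ob P, ⟦o⟧ = x ∧ ∃ w, o.S.h w (((iE o.g - 1) ^ d) w) = t

theorem Vl.of_Rs {t : F} {r : Mo P} (h : r ∈ Rs P d t) : Vl d r t := by
  obtain ⟨S, hS, k, rfl, e, h⟩ := h
  exact ⟨_, rfl, 1, by simp only [e, h]; exact (mul_one _).trans (mul_one _)⟩

theorem Vl.smul {t : F} {x : Mo P} (h : Vl d x t) (c : F) : Vl d x (c ^ 2 * t) := by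
  obtain ⟨o, rfl, w, rfl⟩ := h
  exact ⟨_, rfl, c • w, by simp [sq, mul_assoc]⟩

theorem Vl.add {s t : F} {x y : Mo P} (h : Vl d x s) (h' : Vl d y t) : Vl d (x + y) (s + t) := by
  obtain ⟨o, rfl, w, rfl⟩ := h
  obtain ⟨o', rfl, w', rfl⟩ := h'
  refine ⟨_, rfl, (w, w'), ?_⟩
  have := aeval_prodMap (iE o.g) (iE o'.g) ((X - 1) ^ d)
  simp only [map_pow, map_sub, aeval_X, map_one] at this
  simp [iE_prodI, this]

theorem Rs.sc (h2 : (2 : F) ≠ 0) {s t : F} (ht : t ≠ 0) (hs : s ≠ 0) {r : Mo P} (h : r ∈ Rs P d t) :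
    ∃ (S : PForm P (Fin (d + 1) → F)) (hS : S.Nondeg) (k : S.Isom) (hT : (sc h2 S (s / t)).Nondeg)
      (l : (sc h2 S (s / t)).Isom), cls hS k = r ∧ cls hT l ∈ Rs P d s := by
  obtain ⟨S, hS, k, rfl, e, h⟩ := h
  have hT : (H11.sc h2 S (s / t)).Nondeg := fun x hx => hS x fun y => by simpa [H11.sc, hs, ht] using hx y
  exact ⟨S, hS, k, hT, ⟨k.1, isIsom_of_two h2 fun x y => by simp [H11.sc]⟩, rfl, _, hT, _, rfl, e,
    fun a b => (congrArg (s / t * ·) (h a b)).trans (by field_simp)⟩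

/-- block sizes with symmetric top form -/
def gd (P : FParam (RingHom.id F)) (i : ℕ) : Prop := P.ε * (-1) ^ (i - 1) = 1

open Pointwise
section
variable [Finite F] {x : Mo P} {μ ν : Multiset ℕ}

/-- unipotent classes with Jordan type `μ` -/
def UJ (P : FParam (RingHom.id F)) (μ : Multiset ℕ) : Set (Mo P) := {x | x.JD = μ.map (1, ·)}

theorem UJ.pow {o : Ob P} (h : ⟦o⟧ ∈ UJ P μ) : (iE o.g - 1) ^ d = 0 ↔ ∀ k ∈ μ, k ≤ d :=
  (unip_of_JD h).2 ▸ (unip_of_JD h).1.pow_eq_zero_iff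

theorem Rs.JD {t : F} (h : x ∈ Rs P d t) : x.JD = {(1, d + 1)} := by
  rw [Tp.JD h, hg_shf.unip.JD_eq, (unip_shf d).2]; rfl

theorem Hs.JD (h : x ∈ Hs P d) : x.JD = {(1, d + 1), (1, d + 1)} := by
  rw [Tp.JD h, hg_shf₂.unip.JD_eq, JT_prodMap, (unip_shf d).2]; rfl

theorem add_of_JD (h2 : (2 : F) ≠ 0) (h : x.JD = 0) (y : Mo P) : x + y = y := by
  obtain ⟨x⟩ := x
  obtain ⟨y⟩ := y
  have : Subsingleton x.V := finrank_zero_iff.1 ((dm_JD _).symm.trans (congrArg dm h))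
  have := uniqueOfSubsingleton (0 : x.V)
  exact Quotient.sound ⟨.uniqueProd, isIsom_of_two h2 fun a b => by simp [Subsingleton.elim a.1 0],
    fun _ => rfl⟩

variable (h2 : (2 : F) ≠ 0) (hν : ∀ k ∈ ν, k ≤ d + 1)
include h2 hν

theorem peelG (h : x ∈ UJ P ((d + 1) ::ₘ ν)) {t : F} (ht : Vl d x t) (h0 : t ≠ 0) :
    x ∈ Rs P d t + UJ P ν := by
  obtain ⟨o, rfl, w, rfl⟩ := ht
  have h1 := (UJ.pow h).2 (Multiset.forall_mem_cons.2 ⟨le_rfl, hν⟩)
  obtain ⟨φ, h3, h4⟩ := exists_shf_hom h1 w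
  obtain ⟨r, hr, y, e⟩ : ∃ r ∈ Rs P d (o.S.h w (((iE o.g - 1) ^ d) w)), ∃ y, r + y = cls o.nd o.g :=
    peel' o.nd h2 hg_shf φ (fun a => by simp [h3]) (fun a b => by
    obtain ⟨y, hy⟩ := h4 a
    obtain ⟨z, hz⟩ := h4 b
    rw [hy, hz, top_add h1]
    simp; ring) fun a ha => by simpa using mem_range_shf (by simpa [h0] using ha 1)
  refine ⟨r, hr, y, (Multiset.cons_inj_right (1, d + 1)).1 ?_, e⟩
  rw [← Multiset.singleton_add, ← Rs.JD hr, ← Mo.JD_add, e, ← Multiset.map_cons]; exact h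

theorem exists_vl (hd : gd P (d + 1)) (h : x ∈ UJ P ν) (h' : d + 1 ∈ ν) : ∃ t ≠ 0, Vl d x t := by
  obtain ⟨o⟩ := x
  by_contra! h0
  have h1 : ∀ w, o.S.h w (((iE o.g - 1) ^ d) w) = 0 := fun w => by_contra fun e => h0 _ e ⟨o, rfl, w, rfl⟩
  refine absurd ((UJ.pow h).1 (LinearMap.ext fun y => o.nd.eq_zero' fun x => ?_) _ h') d.not_succ_le_self
  have := h1 (x + y)
  simp only [map_add, LinearMap.add_apply, h1] at this
  rw [top_symm (y := y) (by rw [(UJ.pow h).2 hν]; rfl), show P.ε * (-1) ^ d = 1 from hd] at this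
  exact mul_left_cancel₀ h2 (by linear_combination this)

theorem peelB (hd : ¬ gd P (d + 1)) (h : x ∈ UJ P ((d + 1) ::ₘ ν)) :
    x ∈ Hs P d + UJ P (ν.erase (d + 1)) := by
  classical
  obtain ⟨o⟩ := x
  have h1 := (UJ.pow h).2 (Multiset.forall_mem_cons.2 ⟨le_rfl, hν⟩)
  obtain ⟨w', hw⟩ : ∃ w, ((iE o.g - 1) ^ d) w ∉ (⊥ : Submodule F _) := by_contra fun e => absurd
    ((UJ.pow h).1 (LinearMap.ext fun y => by_contra fun e' => e ⟨y, e'⟩) _ (Multiset.mem_cons_self _ _))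
      d.not_succ_le_self
  obtain ⟨w, -, hw⟩ := o.nd.exists_perp_of_notMem hw 1
  have h5 : ∀ x y, o.S.h y (((iE o.g - 1) ^ d) x) = -o.S.h x (((iE o.g - 1) ^ d) y) := fun x y => by
    rw [top_symm (by rw [h1]; rfl)]
    rcases P.ε_cases with e | e <;> rcases neg_one_pow_eq_or F d with e' | e' <;> simp_all [gd]
  have h6 : ∀ x, o.S.h x (((iE o.g - 1) ^ d) x) = 0 := fun x =>
    mul_left_cancel₀ h2 (by linear_combination h5 x x)
  obtain ⟨φ, h3, h4⟩ := exists_shf_hom h1 w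
  obtain ⟨φ', h3', h4'⟩ := exists_shf_hom h1 w'
  obtain ⟨r, hr, y, e⟩ : ∃ r ∈ Hs P d, ∃ y, r + y = cls o.nd o.g :=
    peel' o.nd h2 hg_shf₂ (φ.coprod φ') (fun a => by simp [h3, h3']) (fun a b => by
    obtain ⟨y, hy⟩ := h4 a.1
    obtain ⟨z, hz⟩ := h4 b.1
    obtain ⟨y', hy'⟩ := h4' a.2
    obtain ⟨z', hz'⟩ := h4' b.2
    rw [LinearMap.coprod_apply, LinearMap.coprod_apply, hy, hz, hy', hz', add_add_add_comm,
      add_add_add_comm (_ • _) _ (_ • w'), ← map_add, ← map_add, top_add h1]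
    simp [h6, h5 w w', hw]; ring) fun a ha => by
      obtain ⟨u, hu⟩ := mem_range_shf (a := a.1) (by simpa using ha (0, 1))
      obtain ⟨v, hv⟩ := mem_range_shf (a := a.2) (by simpa using ha (1, 0))
      exact ⟨(u, v), by simp [hu, hv]⟩
  refine ⟨r, hr, y, ?_, e⟩
  have h7 : (1, d + 1) ::ₘ y.JD = ν.map (1, ·) := (Multiset.cons_inj_right (1, d + 1)).1 <| by
    rw [← Multiset.map_cons, ← show _ = Multiset.map _ _ from h, ← show _ = Quot.mk _ o from e,
      Mo.JD_add, Hs.JD hr]; simp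
  change _ = _
  rw [Multiset.map_erase _ (Prod.mk_right_injective _), ← h7, Multiset.erase_cons_head]

variable {δ : F} (hd : gd P (d + 1)) (h : x ∈ UJ P ((d + 1) ::ₘ ν))
include hd h

theorem peel_one (h' : d + 1 ∈ ν) {c : F} (hc : c ≠ 0) : x ∈ Rs P d c + UJ P ν := by
  obtain ⟨t, ht, h1⟩ := exists_vl h2 (Multiset.forall_mem_cons.2 ⟨le_rfl, hν⟩) hd h (by simp)
  obtain ⟨r, hr, y, hy, rfl⟩ := peelG h2 hν h h1 ht
  obtain ⟨s, hs, h3⟩ := exists_vl h2 hν hd hy h'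
  obtain ⟨a, b, e⟩ := exists_quad_eq ht hs c
  exact peelG h2 hν h (e ▸ ((Vl.of_Rs hr).smul a).add (h3.smul b)) hc

theorem peel_two (hδ : ¬ IsSquare δ) : x ∈ (Rs P d 1 ∪ Rs P d δ) + UJ P ν := by
  obtain ⟨t, ht, h1⟩ := exists_vl h2 (Multiset.forall_mem_cons.2 ⟨le_rfl, hν⟩) hd h (by simp)
  have h0 : δ ≠ 0 := fun e => hδ (e ▸ IsSquare.zero)
  rw [Set.union_add]
  rcases Int.units_eq_one_or (sqSign t) with e | e
  · obtain ⟨c, -, hc⟩ := exists_sq_mul_of_sqSign_eq ht one_ne_zero (e.trans sqSign_one.symm)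
    exact .inl (peelG h2 hν h (hc ▸ h1.smul c) one_ne_zero)
  · obtain ⟨c, -, hc⟩ := exists_sq_mul_of_sqSign_eq ht h0 (e.trans (sqSign_eq_neg_one_iff.2 hδ).symm)
    exact .inr (peelG h2 hν h (hc ▸ h1.smul c) h0)

omit hν hd h

omit h2 in
theorem exists_UJ (x : Mo P) : ∃ μ, ∃ u ∈ UJ P μ, ∃ y, u + y = x ∧ ∀ z ∈ y.JD, z.1 ≠ 1 := by
  obtain ⟨y⟩ := x
  obtain ⟨U, a, u, hU, h1, h3, h4⟩ := y.nd.split1 y.g
  exact ⟨_, _, h4.JD_eq, _, ((h1.cls y.nd hU (y.nd.restrict_perp hU)).trans (add_comm _ _)).symm,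
    isUnit_sub_one_iff_JD.1 h3⟩

omit h2 in
theorem Mo.adm (x : Mo P) : Adm (Nat.card F) x.JD ∧ St (-1) x.JD := by
  obtain ⟨x⟩ := x
  exact ⟨adm_JD (isUnit_iE _), (dl_iff_JD (fun _ => rfl) frob_id (isUnit_iE _)).1 (x.nd.dl _)⟩

theorem UJ.even {i : ℕ} (hi : ¬ gd P i) (h : x ∈ UJ P μ) : Even (μ.count i) := by
  induction μ using Multiset.strongInductionOn generalizing x with | _ μ ih =>
  rcases eq_or_ne μ 0 with rfl | h0
  · simp
  obtain ⟨d, ν, rfl, hν⟩ := exists_max_cons h0 fun k hk =>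
    (x.adm.1.ne (1, k) (h ▸ Multiset.mem_map_of_mem _ hk)).2
  by_cases hd : gd P (d + 1)
  · obtain ⟨δ, -, hδ⟩ := exists_not_isSquare h2
    obtain ⟨r, -, y, hy, rfl⟩ := peel_two h2 hν hd h hδ
    rw [Multiset.count_cons_of_ne (by rintro rfl; exact hi hd)]
    exact ih _ (Multiset.lt_cons_self _ _) hy
  obtain ⟨r, hr, y, hy, rfl⟩ := peelB h2 hν hd h
  have h3 := ih _ ((Multiset.erase_le _ _).trans_lt (Multiset.lt_cons_self _ _)) hy
  have h4 : (d + 1) ::ₘ ν = (d + 1) ::ₘ (d + 1) ::ₘ ν.erase (d + 1) :=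
    Multiset.map_injective (Prod.mk_right_injective (1 : AC F)) <| by
      rw [← show _ = Multiset.map _ _ from h, Mo.JD_add, Hs.JD hr, show y.JD = _ from hy]; simp
  rw [h4, Multiset.count_cons, Multiset.count_cons, add_assoc]
  exact h3.add ⟨_, rfl⟩

open Classical in
theorem Mo.even {i : ℕ} (hi : ¬ gd P i) (x : Mo P) :
    Even (x.JD.count (1, i)) ∧ Even (x.JD.count (-1, i)) := by
  have h : ∀ x : Mo P, Even (x.JD.count (1, i)) := fun x => by
    obtain ⟨μ, u, hu, y, rfl, hy⟩ := exists_UJ x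
    rw [Mo.JD_add, Multiset.count_add, Multiset.count_eq_zero.2 fun h => hy _ h rfl, show u.JD = _ from hu,
      Multiset.count_map_eq_count' _ _ (Prod.mk_right_injective _)]
    exact UJ.even h2 hi hu
  refine ⟨h x, ?_⟩
  rw [← Multiset.count_map_eq_count' (Prod.map (-1 * ·) id) _
    ((mul_right_injective₀ (by simp)).prodMap Function.injective_id)]
  simpa [Mo.JD_ng, scl] using h x.ng
end

theorem encard_le_of_rel {α β : Type*} {A : Set α} {B : Set β} (r : α → β → Prop)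
    (h : ∀ b ∈ B, ∃ a ∈ A, r a b) (h' : ∀ a b b', r a b → r a b' → b = b') : B.encard ≤ A.encard := by
  rcases B.eq_empty_or_nonempty with rfl | ⟨b, hb⟩
  · simp
  have : Nonempty α := ⟨(h b hb).choose⟩
  choose! f h1 h3 using h
  exact Set.encard_le_encard_of_injOn h1 fun b hb b' hb' e => h' _ _ _ (h3 b hb) (e ▸ h3 b' hb')

/-- bound `2 ^ n` for the size of `A`, and `2 ^ (n - 1)` for the fibres of `χ` -/
structure HB (χ : Mo P → ℤˣ) (c : Prop) (A : Set (Mo P)) (n : ℕ) : Prop where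
  tot : A.encard ≤ 2 ^ n
  fib : c → ∀ s, {x ∈ A | χ x = s}.encard ≤ 2 ^ (n - 1)

section HB
variable {χ : Mo P → ℤˣ} {c : Prop} {A B R R' : Set (Mo P)} {n : ℕ}

theorem HB.mono (h : HB χ c A n) (h' : B ⊆ A) : HB χ c B n :=
  ⟨(Set.encard_le_encard h').trans h.1, fun hc s =>
    (Set.encard_le_encard fun _ hx => And.intro (h' hx.1) hx.2).trans (h.2 hc s)⟩

theorem hb_zero (h : A.Subsingleton) : HB χ c A 0 :=
  ⟨Set.encard_le_one_iff_subsingleton.2 h, fun _ _ =>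
    Set.encard_le_one_iff_subsingleton.2 (h.anti fun _ hx => hx.1)⟩

theorem HB.ng (h : HB χ c A n) (hχ : ∀ x, χ x.ng = χ x) : HB χ c (Mo.ng '' A) n :=
  ⟨(Set.encard_image_le _ _).trans h.1, fun hc s => (encard_le_of_rel (Mo.ng · = ·) (by
    rintro _ ⟨⟨a, ha, rfl⟩, e⟩; exact ⟨a, ⟨ha, hχ a ▸ e⟩, rfl⟩) (by simp)).trans (h.2 hc s)⟩

theorem encard_add_le (hR : R.Subsingleton) : (R + A).encard ≤ A.encard :=
  encard_le_of_rel (fun a x => ∃ r ∈ R, r + a = x) (by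
    rintro _ ⟨r, hr, a, ha, rfl⟩; exact ⟨a, ha, r, hr, rfl⟩) (by
    rintro a _ _ ⟨r, hr, rfl⟩ ⟨r', hr', rfl⟩; rw [hR hr hr'])

variable (hχ : ∀ x y, χ (x + y) = χ x * χ y) (h : HB χ c A n) (hR : R.Subsingleton)
include hχ h hR

theorem HB.one : HB χ c (R + A) n := ⟨(encard_add_le hR).trans h.1, fun hc s => by
  rcases hR.eq_empty_or_singleton with rfl | ⟨r, rfl⟩
  · simp
  refine (encard_le_of_rel (r + · = ·) ?_ (by simp)).trans (h.2 hc ((χ r)⁻¹ * s))
  rintro _ ⟨⟨_, rfl, a, ha, rfl⟩, rfl⟩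
  exact ⟨a, ⟨ha, by rw [hχ, inv_mul_cancel_left]⟩, rfl⟩⟩

theorem HB.two (hR' : R'.Subsingleton) (hc : c → ∀ r ∈ R, ∀ r' ∈ R', χ r ≠ χ r') :
    HB χ c ((R ∪ R') + A) (n + 1) := ⟨by
  rw [Set.union_add, pow_succ, mul_two]
  exact (Set.encard_union_le _ _).trans (add_le_add ((encard_add_le hR).trans h.1)
    ((encard_add_le hR').trans h.1)), fun h1 s => by
  refine (encard_le_of_rel (fun a x => ∃ r ∈ R ∪ R', r + a = x ∧ χ x = s) ?_ ?_).trans h.1
  · rintro _ ⟨⟨r, hr, a, ha, rfl⟩, e⟩; exact ⟨a, ha, r, hr, rfl, e⟩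
  rintro a _ _ ⟨r, hr, rfl, e⟩ ⟨r', hr', rfl, e'⟩
  rw [← e', hχ, hχ, mul_left_inj] at e
  rcases hr with hr | hr <;> rcases hr' with hr' | hr'
  · rw [hR hr hr']
  · exact absurd e (hc h1 _ hr _ hr')
  · exact absurd e.symm (hc h1 _ hr' _ hr)
  · rw [hR' hr hr']⟩
end HB

variable [Finite F] (h2 : (2 : F) ≠ 0) {δ : F}

open Classical in
/-- number of good block sizes at the eigenvalue `z` -/
noncomputable def na (P : FParam (RingHom.id F)) (z : AC F) (J : Multiset (AC F × ℕ)) : ℕ :=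
  ((J.map Prod.snd).toFinset.filter fun i => gd P i ∧ (z, i) ∈ J).card

variable {χ : Mo P → ℤˣ} {c : Prop} (hχ : ∀ x y, χ (x + y) = χ x * χ y) {Q : Mo P → Prop}
  (hQ : ∀ x y, Q (x + y) → Q x ∧ Q y) {k : ℕ} (hk : ∀ d A n, gd P (d + 1) → HB χ c A n →
    HB χ c ({r ∈ Rs P d 1 ∪ Rs P d δ | Q r} + A) (n + k)) (hδ : ¬ IsSquare δ)
include h2 hχ hQ hk hδ

open Classical in
theorem hb_UJ {A : Set (Mo P)} {n : ℕ} (h : HB χ c A n) (μ : Multiset ℕ)
    (hμ : ∀ k ∈ μ, 0 < k) : HB χ c ({x ∈ UJ P μ | Q x} + A) (n + k * (μ.toFinset.filter (gd P)).card) := by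
  induction μ using Multiset.strongInductionOn with | _ μ ih =>
  rcases eq_or_ne μ 0 with rfl | h0
  · simpa using h.mono (by rintro _ ⟨x, hx, y, hy, rfl⟩; simpa only [add_of_JD h2 hx.1 y])
  obtain ⟨d, ν, rfl, hν⟩ := exists_max_cons h0 hμ
  have h1 : ∀ {R ρ}, (∀ x ∈ UJ P ((d + 1) ::ₘ ν), x ∈ R + UJ P ρ) → {x ∈ UJ P ((d + 1) ::ₘ ν) | Q x} + A ⊆
      {x ∈ R | Q x} + ({x ∈ UJ P ρ | Q x} + A) := fun h => by
    rw [← add_assoc]
    refine Set.add_subset_add_right fun x hx => ?_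
    obtain ⟨r, hr, y, hy, rfl⟩ := h x hx.1
    exact ⟨r, ⟨hr, (hQ _ _ hx.2).1⟩, y, ⟨hy, (hQ _ _ hx.2).2⟩, rfl⟩
  have h3 := ih ν (Multiset.lt_cons_self _ _) fun k hk => hμ k (Multiset.mem_cons_of_mem hk)
  by_cases hd : gd P (d + 1)
  · by_cases h4 : d + 1 ∈ ν
    · rw [Multiset.toFinset_cons, Finset.insert_eq_of_mem (Multiset.mem_toFinset.2 h4)]
      exact (h3.one hχ ((Tp.sub h2 hg_shf _).anti fun _ h => h.1)).mono
        (h1 fun x hx => peel_one h2 hν hd hx h4 one_ne_zero)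
    · rw [Multiset.toFinset_cons, Finset.filter_insert, if_pos hd, Finset.card_insert_of_notMem
        (by simp [h4]), mul_add, mul_one, ← add_assoc]
      exact (hk _ _ _ hd h3).mono (h1 fun x hx => peel_two h2 hν hd hx hδ)
  · have h4 := ih (ν.erase (d + 1)) ((Multiset.erase_le _ _).trans_lt (Multiset.lt_cons_self _ _))
      fun k hk => hμ k (Multiset.mem_cons_of_mem (Multiset.mem_of_mem_erase hk))
    rw [show ((ν.erase (d + 1)).toFinset.filter (gd P)) = (((d + 1) ::ₘ ν).toFinset.filter (gd P)) from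
      Finset.ext fun i => by by_cases e : i = d + 1 <;> simp [e, hd, Multiset.mem_erase_of_ne]] at h4
    exact (h4.one hχ ((Tp.sub h2 hg_shf₂ _).anti fun _ h => h.1)).mono (h1 fun x hx => peelB h2 hν hd hx)

open Classical in
theorem hb_one {J : Multiset (AC F × ℕ)} {n : ℕ}
    (h : HB χ c {x | x.JD = J.filter (·.1 ≠ 1) ∧ Q x} n) :
    HB χ c {x | x.JD = J ∧ Q x} (n + k * na P 1 J) := by
  rcases {x : Mo P | x.JD = J ∧ Q x}.eq_empty_or_nonempty with e | ⟨⟨o⟩, rfl, -⟩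
  · exact e ▸ ⟨by simp, by simp⟩
  have := hb_UJ h2 hχ hQ hk hδ h (((JD (iE o.g)).filter (·.1 = 1)).map Prod.snd) fun k hk => by
    obtain ⟨x, hx, rfl⟩ := Multiset.mem_map.1 hk
    exact JD_pos (Multiset.mem_of_mem_filter hx)
  convert this.mono _ using 3
  · change na P 1 (JD (iE o.g)) = _
    rw [na]; congr 1; ext i; simp; tauto
  rintro x ⟨e, hy⟩
  obtain ⟨μ, u, hu, y, rfl, h3⟩ := exists_UJ x
  have h6 : JD (iE o.g) = μ.map (1, ·) + y.JD := by rw [← hu, ← Mo.JD_add]; exact e.symm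
  refine ⟨_, ⟨hu.trans ?_, (hQ _ _ hy).1⟩, _, ⟨?_, (hQ _ _ hy).2⟩, rfl⟩
  · rw [h6, Multiset.filter_add, Multiset.filter_eq_self.2 (by simp), Multiset.filter_eq_nil.2 h3]; simp
  · change _ = Multiset.filter _ (JD (iE o.g))
    rw [h6, Multiset.filter_add, Multiset.filter_eq_self.2 h3, Multiset.filter_eq_nil.2 (by simp), zero_add]

theorem hb_JD (hn : ∀ x, χ x.ng = χ x) (hQn : ∀ x, Q x → Q x.ng) (J : Multiset (AC F × ℕ)) :
    HB χ c {x | x.JD = J ∧ Q x} (k * (na P 1 J + na P (-1) J)) := by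
  classical
  have h0 : (-1 : AC F) ≠ 1 := fun e => h2 ((algebraMap F (AC F)).injective (by
    rw [map_ofNat, map_zero]; linear_combination -e))
  have h1 := hb_one h2 hχ hQ hk hδ (J := scl (-1) (J.filter (·.1 ≠ 1))) (hb_zero ?_)
  · have h3 := hb_one h2 hχ hQ hk hδ (J := J) ((h1.ng hn).mono fun x hx =>
      ⟨x.ng, ⟨by rw [Mo.JD_ng, hx.1], hQn _ hx.2⟩, x.ng_ng⟩)
    convert h3 using 1
    rw [zero_add, ← mul_add, add_comm, na, na]
    congr 3
    ext i; simp [scl, neg_eq_iff_eq_neg, h0]; tauto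
  rintro ⟨x⟩ ⟨hx, -⟩ ⟨y⟩ ⟨hy, -⟩
  refine Quotient.sound (isim_of_isUnit x.nd y.nd (sim_iff_JD.2 (hx.trans hy.symm))
    (isUnit_sq_iff_JD.2 fun z hz => ?_))
  obtain ⟨hz, h3⟩ := Multiset.mem_filter.1 (hx ▸ show z ∈ Mo.JD (Quot.mk _ x) from hz)
  have := (forall_mem_scl (P := fun x => x.1 ≠ -1)).2 (fun x hx => by
    simpa using (Multiset.mem_filter.1 hx).2) z hz
  simp [h3, this]

omit hχ hQ hk hδ

theorem hb_all (hχ : ∀ x y, χ (x + y) = χ x * χ y) (hn : ∀ x, χ x.ng = χ x) (hc : c → ∀ d δ, ¬ IsSquare δ →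
    gd P (d + 1) → ∀ r ∈ Rs P d 1, ∀ r' ∈ Rs P d δ, χ r ≠ χ r') (J : Multiset (AC F × ℕ)) :
    HB χ c {x | x.JD = J} (na P 1 J + na P (-1) J) := by
  obtain ⟨δ, -, hδ⟩ := exists_not_isSquare h2
  simpa using hb_JD h2 hχ (Q := fun _ => True) (k := 1) (by simp) (fun d A n hd h =>
    (h.two hχ (Tp.sub h2 hg_shf _) (Tp.sub h2 hg_shf _) fun h => hc h d δ hδ hd).mono
      (Set.add_subset_add_right fun _ h => h.1)) hδ hn (by simp) J

omit h2 in
theorem classes_le_sum {V : Type u} [AddCommGroup V] [Module F V] [FiniteDimensional F V] {S : PForm P V}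
    (hS : S.Nondeg) (p : S.Isom → Prop) (T : Finset (Multiset (AC F × ℕ))) (hT : ∀ g, p g → JD (iE g) ∈ T)
    {Q : Mo P → Prop} (hQ : ∀ g, p g → Q (cls hS g)) {w : Multiset (AC F × ℕ) → ℕ}
    (hw : ∀ J, {x | x.JD = J ∧ Q x}.encard ≤ w J) :
    Nat.card {C : ConjClasses S.Isom // ∃ g, ConjClasses.mk g = C ∧ p g} ≤ ∑ J ∈ T, w J := by
  have := finite_isom (S := S)
  have h := (Set.encard_le_encard_of_injOn (s := Set.univ) (f := fun C : {C : ConjClasses S.Isom //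
    ∃ g, ConjClasses.mk g = C ∧ p g} => cls hS C.2.choose) (fun C _ => Set.mem_biUnion
      (hT _ C.2.choose_spec.2) (show _ ∈ {x : Mo P | x.JD = _ ∧ Q x} from ⟨rfl, hQ _ C.2.choose_spec.2⟩))
    fun C _ D _ e => Subtype.ext (by
      rw [← C.2.choose_spec.1, ← D.2.choose_spec.1, ConjClasses.mk_eq_mk_iff_isConj]
      exact isim_iff_isConj.1 ((cls_eq _ _).1 e))).trans
    ((T.set_encard_biUnion_le _).trans (Finset.sum_le_sum fun J _ => hw J))
  rw [Set.encard_univ, ← Nat.cast_sum, ENat.card_eq_coe_natCard] at h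
  exact_mod_cast h

omit h2 in
/-- discriminant of a class -/
noncomputable def Mo.disc : Mo (orthP F) → ℤˣ :=
  Quotient.lift (fun x => x.nd.disc) fun _ _ h => (ISim.eqv h).disc_eq _ _

omit h2 in
theorem Mo.disc_add (x y : Mo (orthP F)) : (x + y).disc = x.disc * y.disc := by
  obtain ⟨x⟩ := x
  obtain ⟨y⟩ := y
  exact (oSum_prod _ _).disc_eq x.nd y.nd

omit h2 in
theorem Mo.disc_ng (x : Mo (orthP F)) : x.ng.disc = x.disc := by
  obtain ⟨x⟩ := x; rfl

omit h2 [Finite F] in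
theorem gd_orth (h2 : (2 : F) ≠ 0) : gd (orthP F) (d + 1) ↔ Even d := by
  simp [gd, neg_one_pow_eq_one_iff_even (R := F) fun e => h2 (by linear_combination -e)]

omit h2 [Finite F] in
theorem gd_symp (h2 : (2 : F) ≠ 0) : gd (sympP F) (d + 1) ↔ Odd d := by
  rw [gd, sympP_ε, ← pow_succ', neg_one_pow_eq_one_iff_even fun e => h2 (by linear_combination -e)]
  exact Nat.even_add_one.trans Nat.not_even_iff_odd

theorem Rs.disc_ne (hδ : ¬ IsSquare δ) (hd : gd (orthP F) (d + 1)) :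
    ∀ r ∈ Rs (orthP F) d 1, ∀ r' ∈ Rs (orthP F) d δ, r.disc ≠ r'.disc := fun r hr r' hr' e => by
  have h0 : δ ≠ 0 := fun e => hδ (e ▸ IsSquare.zero)
  obtain ⟨S, hS, k, hT, l, rfl, h⟩ := Rs.sc h2 one_ne_zero h0 hr
  obtain rfl := Tp.sub h2 hg_shf _ h hr'
  have := e.trans (hS.disc_scale h2 (c := δ / 1) (by simpa))
  rw [div_one, sqSign_eq_neg_one_iff.2 hδ, finrank_fin_fun, ((gd_orth h2).1 hd).add_one.neg_one_pow] at this
  exact absurd (mul_eq_right.1 this.symm) (by decide)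

end H11
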