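import Cfsg.Agent.H11.Cls4
/-! Zassenhaus' formula for the spinor norm (`Nondeg.spin_eq_det`), the discriminant of a space from the
characteristic polynomial of an isometry, realisation of palindromic polynomials in orthogonal groups and
lower bounds for class numbers (`orth_even_le`, `orth_odd_le`). -/
namespace H11
open Module Polynomial
open PForm hiding X

universe u
variable {F : Type u} [Field F] [Finite F] (h2 : (2 : F) ≠ 0)
include h2

section
variable {V W : Type*} [AddCommGroup V] [Module F V] [FiniteDimensional F V] [AddCommGroup W] [Module F W]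
  [FiniteDimensional F W] {S : PForm (orthP F) V} (hS : S.Nondeg) {U U' : Submodule F V}
include hS

theorem PForm.Polar.spin_fix (h : S.Polar U U') {v : S.Isom} (hv : ∀ u ∈ U, v.1 u = u) :
    (∀ x, v.1 x - x ∈ U) ∧ hS.spin v = 1 := by
  have h1 : ∀ x, v.1 x - x ∈ U := fun x => by
    rw [← MaxTS.perp_eq hS ⟨h.ts1, (h.finrank_eq hS).2⟩]
    intro u hu
    rw [map_sub, ← hv u hu, isom_h, hv u hu, sub_self]
  exact ⟨h1, ((hS.mem_commutator_iff (notO4_of_two_ne h2) _).1 (hS.mem_comm_of_unip h2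
    ⟨2, LinearMap.ext fun x => by rw [sq]; exact sub_eq_zero.2 (hv _ (h1 x))⟩)).2⟩

theorem PForm.Polar.spin_eq {i : W →ₗ[F] V} (hi : Function.Injective i) (h : S.Polar (LinearMap.range i) U')
    {g : S.Isom} {a : End F W} (ha : IsUnit a) (hg : ∀ y, g.1 (i y) - i (a y) ∈ U') :
    hS.spin g = sqSign (LinearMap.det a) := by
  let b := finBasis F W
  have hT := sPlus_nondeg (finrank F W) F
  have hP := sPlus_polar (finrank F W) F
  have h0 : LinearMap.range (sumInl F _ _) = LinearMap.ker (LinearMap.funLeft F F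
      (Sum.inr : Fin (finrank F W) → Fin (finrank F W) ⊕ _)) := Submodule.ext fun x =>
    ⟨by rintro ⟨x, rfl⟩; rfl, fun hx => ⟨x ∘ Sum.inl, by ext (j | j); exacts [rfl, (congrFun hx j).symm]⟩⟩
  obtain ⟨e, he, h1, h3⟩ := h.exists_isom hS hT hP ((LinearEquiv.ofInjective i hi).symm ≪≫ₗ b.equivFun ≪≫ₗ
    .ofInjective (sumInl F _ _) (fun x y e => funext fun j => congrFun e (.inl j)) ≪≫ₗ .ofEq _ _ h0)
  have h4 : ∀ y, e (i y) = Sum.elim (b.equivFun y) 0 := fun y => (h1 ⟨_, y, rfl⟩).trans (by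
    simp [show (LinearEquiv.ofInjective i hi).symm ⟨_, y, rfl⟩ = y from
      (LinearEquiv.symm_apply_eq _).2 rfl]; rfl)
  let A := Matrix.GeneralLinearGroup.mkOfDetNeZero (LinearMap.toMatrix b b a)
    (by simpa using ((LinearMap.isUnit_iff_isUnit_det a).1 ha).ne_zero)
  let l := (isomCongr e he).symm (leviO _ F A)
  have h5 : ∀ x, e (l.1 x) = (leviO _ F A).1 (e x) := fun x => e.apply_symm_apply _
  have h6 : ∀ y, l.1 (i y) = i (a y) := fun y => e.injective (by
    rw [h5, h4, h4, leviO_apply, leviGL_mulVec]; simp [A, LinearMap.toMatrix_mulVec_repr])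
  have h7 : l ∈ S.stab U' := mem_stab_of_le fun x hx => by
    obtain ⟨y, hy, e'⟩ : e (l.1 x) ∈ U'.map e.toLinearMap := by
      have : e x ∘ Sum.inl = 0 := show e x ∈ LinearMap.ker (LinearMap.funLeft F F Sum.inl) from
        h3 ▸ ⟨x, hx, rfl⟩
      rw [h3, h5, leviO_apply, leviGL_mulVec, this]; ext; simp
    exact e.injective e' ▸ hy
  have h8 : ∀ u ∈ LinearMap.range i, (l⁻¹ * g).1 u - u ∈ U' := by
    rintro _ ⟨y, rfl⟩
    rw [h7, map_sub, isom_mul_apply, isom_apply_inv_self, h6]; exact hg y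
  generalize hk : l⁻¹ * g = k at h8
  obtain ⟨u, hu, h9, h10⟩ := h.symm.exists_isom hS hS (U' := U') (W' := (LinearMap.range i).map k.1.toLinearMap)
    ⟨h.ts2, h.ts1.map k, Submodule.disjoint_def.2 fun x hx ⟨y, hy, e⟩ => by
      rw [← e, Submodule.disjoint_def.1 h.compl.1 y hy (by
        simpa using U'.sub_mem (show k.1 y ∈ U' from e ▸ hx) (h8 y hy)), map_zero],
      codisjoint_iff.2 (Submodule.eq_top_iff'.2 fun x => by
        obtain ⟨y, hy, w, hw, rfl⟩ := h.exists_add x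
        exact Submodule.mem_sup.2 ⟨_, U'.sub_mem hw (h8 y hy), _, ⟨y, hy, rfl⟩, by simp; abel⟩)⟩ (.refl _ _)
  obtain ⟨h11, h12⟩ := h.symm.spin_fix h2 hS (v := ⟨u, hu⟩) fun x hx => h9 ⟨x, hx⟩
  have h13 := (h.spin_fix h2 hS (v := ⟨u, hu⟩⁻¹ * k) fun x hx => by
    obtain ⟨y, hy, e⟩ : k.1 x ∈ (LinearMap.range i).map u.toLinearMap := h10 ▸ ⟨x, hx, rfl⟩
    rw [isom_mul_apply, ← e]
    refine (isom_inv_apply_self ⟨u, hu⟩ y).trans (sub_eq_zero.1 (Submodule.disjoint_def.1 h.compl.1 _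
      (sub_mem hy hx) ?_))
    simpa [← e] using U'.sub_mem (h8 x hx) (h11 y)).2
  rw [map_mul, map_inv, h12, inv_one, one_mul, ← hk, map_mul, map_inv, inv_mul_eq_one] at h13
  rw [← h13, ← hS.spin_isomCongr hT e he, MulEquiv.apply_symm_apply, spin_leviO]
  simp [A]

/-- Zassenhaus' formula -/
theorem PForm.Nondeg.spin_eq_det {g : S.Isom} (h : IsUnit (iE g + 1)) :
    hS.spin g = sqSign (LinearMap.det ((2 : F)⁻¹ • (iE g + 1))) := by
  have hT := hS.scale (c := -1) (by simp)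
  have := (Spl.dick_spin (a := g) (b := 1) (ISim.refl _) (hS.prod hT) hS hT).2
  rw [map_one, mul_one] at this
  refine this ▸ Polar.spin_eq h2 (hS.prod hT) (i := .prod .id .id) (U' := LinearMap.graph (-LinearMap.id))
    (fun x y e => congrArg Prod.fst e) ⟨orth_ts_iff.2 (by rintro _ ⟨x, rfl⟩; simp), orth_ts_iff.2 fun x hx => by
      simp [show x.2 = -x.1 from hx, orth_q_neg], Submodule.disjoint_def.2 ?_, codisjoint_iff.2
        (Submodule.eq_top_iff'.2 fun x => Submodule.mem_sup.2 ⟨_, ⟨(2 : F)⁻¹ • (x.1 + x.2), rfl⟩,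
          _, ?_, add_sub_cancel _ _⟩)⟩
    (by rw [Algebra.smul_def]; exact ((IsUnit.mk0 _ (inv_ne_zero h2)).map _).mul h) fun y => ?_
  · rintro _ ⟨x, rfl⟩ hx
    rw [smul_right_injective V h2 (show (2 : F) • x = (2 : F) • 0 by
      simpa [two_smul] using add_eq_zero_iff_eq_neg.2 hx), map_zero]
  all_goals simp; match_scalars <;> field_simp <;> ring

theorem PForm.Nondeg.disc_eq_eval (g : S.Isom) (he : Even (finrank F V))
    (h : (iE g).charpoly.eval 1 * (iE g).charpoly.eval (-1) ≠ 0) :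
    hS.disc = sqSign ((iE g).charpoly.eval 1 * (iE g).charpoly.eval (-1)) := by
  have h1 : (iE g).charpoly.eval 1 = LinearMap.det (iE (S.neg1 * g) + 1) :=
    (LinearMap.eval_charpoly _ _).trans (congrArg _ (by ext; simp [neg_add_eq_sub]))
  have h3 : (iE g).charpoly.eval (-1) = LinearMap.det (iE g + 1) := by
    rw [LinearMap.eval_charpoly, map_neg, map_one, ← neg_add', ← neg_one_smul F, LinearMap.det_smul,
      he.neg_one_pow, one_mul, add_comm]
  rw [h1, h3, mul_ne_zero_iff] at h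
  have h4 : ∀ k : S.Isom, LinearMap.det (iE k + 1) ≠ 0 → hS.spin k = sqSign (LinearMap.det (iE k + 1)) :=
    fun k hk => by
      obtain ⟨m, hm⟩ := he
      rw [hS.spin_eq_det h2 ((LinearMap.isUnit_iff_isUnit_det _).2 hk.isUnit), LinearMap.det_smul,
        sqSign_mul (by simp [h2]) hk, hm, ← two_mul, pow_mul', sqSign_sq, one_mul]
  rw [h1, h3, sqSign_mul h.1 h.2, ← h4 _ h.1, ← h4 _ h.2, map_mul, mul_assoc, Int.units_mul_self, mul_one]
  rfl
end

theorem exists_Rs {P : FParam (RingHom.id F)} {d : ℕ} (hd : gd P (d + 1)) (hm : Md P {d + 1}) {t : F}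
    (ht : t ≠ 0) : (Rs P d t).Nonempty := by
  obtain ⟨x, hx⟩ := hm.uj
  obtain ⟨s, hs, h⟩ := exists_vl h2 (by simp) hd hx (by simp)
  obtain ⟨r, hr, -⟩ := peelG h2 (ν := 0) (by simp) hx h hs
  obtain ⟨_, _, _, _, _, _, h⟩ := Rs.sc h2 hs ht hr
  exact ⟨_, h⟩

theorem orth_UJ (a : ℕ) : (UJ (orthP F) (.replicate a 1)).Nonempty :=
  (md_orth (fun k hk => by simp [Multiset.eq_of_mem_replicate hk]) h2 fun k hk => by
    rw [Multiset.count_replicate, if_neg (by rintro rfl; simp at hk)]; simp).uj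

theorem orth_UJ_disc (a : ℕ) (s : ℤˣ) : ∃ x ∈ UJ (orthP F) (.replicate (a + 1) 1), x.disc = s := by
  obtain ⟨δ, h0, hδ⟩ := exists_not_isSquare h2
  have hd := (gd_orth h2).2 Even.zero
  have hm := md_orth (F := F) (μ := {0 + 1}) (by simp) h2 fun k hk => by
    rw [Multiset.count_singleton, if_neg (by rintro rfl; simp at hk)]; simp
  obtain ⟨r, hr⟩ := exists_Rs h2 hd hm one_ne_zero
  obtain ⟨r', hr'⟩ := exists_Rs h2 hd hm h0
  obtain ⟨y, hy⟩ := orth_UJ h2 a
  have := Rs.disc_ne h2 hδ hd r hr r' hr'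
  have h : ∀ {t r}, r ∈ Rs _ 0 t → r + y ∈ UJ _ (.replicate (a + 1) 1) := fun h => by
    simpa [Multiset.replicate_succ] using UJ.add (μ := {0 + 1}) (Rs.JD h) hy
  by_cases e : (r + y).disc = s
  · exact ⟨_, h hr, e⟩
  refine ⟨_, h hr', ?_⟩
  rw [Mo.disc_add] at e ⊢
  revert e this
  generalize r.disc = a, r'.disc = b, y.disc = c
  revert a b c s; decide

theorem orth_pal {n : ℕ} {p : F[X]} (h : Pal n p) (s : ℤˣ)
    (hs : p.eval 1 * p.eval (-1) ≠ 0 → s = sqSign (p.eval 1 * p.eval (-1))) :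
    ∃ x : Ob (orthP F), (iE x.g).charpoly = p ∧ x.nd.disc = s := by
  obtain ⟨a, b, N, h1, h3, -, -, h4⟩ := exists_el (P := orthP F) h
  obtain ⟨x, hx⟩ := orth_UJ h2 a
  obtain ⟨y, hy⟩ := orth_UJ h2 b
  obtain ⟨z, hz⟩ := h1.exists_Mo h3 hx hy
  suffices ∃ w : Mo (orthP F), w.JD = (x + (y.ng + z)).JD ∧ (¬ (a = 0 ∧ b = 0) → w.disc = s) by
    obtain ⟨⟨w⟩, e, h5⟩ := this
    obtain ⟨-, rfl⟩ := h4 w (e.trans hz)
    refine ⟨w, rfl, (em _).elim (fun ⟨ha, hb⟩ => ?_) h5⟩
    have h6 : (iE w.g).charpoly.eval 1 * (iE w.g).charpoly.eval (-1) ≠ 0 := by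
      have := isUnit_sq_iff_JD.2 (show ∀ x ∈ JD (iE w.g), _ by rw [show JD _ = _ from e.trans hz]; simpa [ha, hb] using h3)
      rw [LinearMap.eval_charpoly, LinearMap.eval_charpoly, ← map_mul]
      convert ((LinearMap.isUnit_iff_isUnit_det _).1 this).ne_zero using 2
      simp [mul_sub, sub_mul]
    rw [hs h6, w.nd.disc_eq_eval h2 _ ⟨n, by rw [← two_mul, ← h.2.1, LinearMap.charpoly_natDegree]⟩ h6]
  obtain _ | a := a
  · obtain _ | b := b
    · exact ⟨_, rfl, by simp⟩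
    obtain ⟨y', hy', e⟩ := orth_UJ_disc h2 b (s * x.disc * z.disc)
    exact ⟨x + (y'.ng + z), by simp only [Mo.JD_add, Mo.JD_ng, show y'.JD = y.JD from hy'.trans hy.symm],
      fun _ => by simp [Mo.disc_add, Mo.disc_ng, e, mul_assoc, mul_left_comm x.disc]⟩
  obtain ⟨x', hx', e⟩ := orth_UJ_disc h2 a (s * (y.ng + z).disc)
  exact ⟨x' + (y.ng + z), by simp only [Mo.JD_add, show x'.JD = x.JD from hx'.trans hx.symm],
    fun _ => by rw [Mo.disc_add, e, mul_assoc, Int.units_mul_self, mul_one]⟩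

variable {V : Type u} [AddCommGroup V] [Module F V] [FiniteDimensional F V] {S : PForm (orthP F) V}
  (hS : S.Nondeg) {n : ℕ}
include hS

theorem exists_charpoly (x : Ob (orthP F)) (h : finrank F x.V = finrank F V) (h' : x.nd.disc = hS.disc) :
    ∃ g : S.Isom, (iE g).charpoly = (iE x.g).charpoly :=
  ((orth_eqv_of_disc h2 _ x.nd hS h rfl h').exists_isim x.g).imp fun _ h => h.sim.charpoly.symm

theorem orth_even_le (hn : 2 ≤ n) (hV : finrank F V = 2 * n) :
    Nat.card F ^ n ≤ 2 * Nat.card (ConjClasses S.Isom) := by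
  have := finite_isom (S := S)
  obtain ⟨δ, h0, hδ⟩ := exists_not_isSquare h2
  obtain ⟨m, rfl⟩ := Nat.exists_eq_add_of_le' hn
  obtain ⟨h1, h3⟩ := card_le_classes (fun g : S.Isom => (iE g).charpoly)
    (fun _ _ h => (sim_of_isConj h).charpoly) _ fun _ h => h
  let φ : F[X] → F[X] := fun p => p + C ((δ - 1) * p.eval 1 / 4) * (X ^ (m + 1) * (X + 1) ^ 2)
  have h4 : (4 : F) ≠ 0 := by simpa [← two_add_two_eq_four, ← two_mul] using h2
  have h5 : ∀ p, (φ p).eval 1 = δ * p.eval 1 := fun p => by simp [φ]; field_simp; ring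
  have h6 : ∀ p, Pal (m + 2) p → Pal (m + 2) (φ p) := fun p hp => by
    obtain ⟨h6, h7, h8⟩ := pal_iff.1 hp
    have h9 : ∀ i, (X ^ (m + 1) * (X + 1) ^ 2 : F[X]).coeff i = (if i = m + 1 then 1 else 0) +
        2 * (if i = m + 2 then 1 else 0) + if i = m + 3 then 1 else 0 := fun i => by
      rw [show (X ^ (m + 1) * (X + 1) ^ 2 : F[X]) = X ^ (m + 1) + C 2 * X ^ (m + 2) + X ^ (m + 3) by
        rw [C_ofNat]; ring]
      simp only [coeff_add, coeff_C_mul, coeff_X_pow]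
    refine pal_iff.2 ⟨(natDegree_add_eq_left_of_natDegree_lt (h6 ▸ lt_of_le_of_lt (b := m + 3)
      (by compute_degree) (by omega))).trans h6, by simp [φ, h7], fun i hi => ?_⟩
    simp only [φ, coeff_add, coeff_C_mul, h9, h8 i hi, show 2 * (m + 2) - i = m + 1 ↔ i = m + 3 by omega,
      show 2 * (m + 2) - i = m + 2 ↔ i = m + 2 by omega, show 2 * (m + 2) - i = m + 3 ↔ i = m + 1 by omega]
    ring
  have h7 : ∀ p, Pal (m + 2) p → (p.eval 1 * p.eval (-1) ≠ 0 → hS.disc = sqSign (p.eval 1 * p.eval (-1))) →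
      ∃ g : S.Isom, (iE g).charpoly = p := fun p hp h => by
    obtain ⟨x, rfl, e⟩ := orth_pal h2 hp _ h
    exact exists_charpoly h2 hS x (by rw [hV, ← hp.2.1, LinearMap.charpoly_natDegree]) e
  rw [← card_pal]
  refine le_trans ?_ (Nat.mul_le_mul_left 2 h3)
  rw [two_mul, ← Nat.card_sum]
  classical
  refine Nat.card_le_card_of_injective (fun p => if h : ∃ g : S.Isom, (iE g).charpoly = p.1 then .inl ⟨_, h⟩
    else .inr ⟨φ p.1, h7 _ (h6 _ p.2) fun h' => by_contra fun e => h (h7 _ p.2 fun h'' => ?_)⟩) fun p p' e => ?_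
  · rw [h5, show (φ p.1).eval (-1) = p.1.eval (-1) by simp [φ], mul_assoc, sqSign_mul h0 h'',
      sqSign_eq_neg_one_iff.2 hδ] at e
    revert e
    generalize sqSign (p.1.eval 1 * p.1.eval (-1)) = a, hS.disc = b
    revert a b; decide
  · simp only at e
    split_ifs at e <;> simp only [Sum.inl.injEq, Sum.inr.injEq, Subtype.mk.injEq] at e
    · exact Subtype.ext e
    · have := mul_left_cancel₀ h0 ((h5 _).symm.trans ((congrArg _ e).trans (h5 _)))
      exact Subtype.ext (by simpa [φ, this] using e)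

theorem orth_odd_le (hV : finrank F V = 2 * n + 1) : 2 * Nat.card F ^ n ≤ Nat.card (ConjClasses S.Isom) := by
  have := finite_isom (S := S)
  obtain ⟨h1, h3⟩ := card_le_classes (fun g : S.Isom => (iE g).charpoly)
    (fun _ _ h => (sim_of_isConj h).charpoly) _ fun _ h => h
  have h4 : ∀ p, Pal n p → ∀ c : ℤˣ, ∃ g : S.Isom, (iE g).charpoly = (X - C (c : F)) * p := fun p hp c => by
    obtain ⟨x, rfl, -⟩ := orth_pal h2 hp _ fun _ => rfl
    obtain ⟨⟨y⟩, hy, e⟩ := orth_UJ_disc h2 0 (hS.disc * x.nd.disc)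
    have h5 : finrank F y.V = 1 := (dm_JD _).symm.trans (congrArg dm hy)
    obtain ⟨k, hk⟩ : ∃ k : y.S.Isom, iE k = (c : F) • 1 := by
      rcases Int.units_eq_one_or c with rfl | rfl
      exacts [⟨1, by ext; simp⟩, ⟨y.S.neg1, by ext; simp⟩]
    obtain ⟨g, hg⟩ := exists_charpoly h2 hS ⟨_, _, y.nd.prod x.nd, prodI _ _ (k, x.g)⟩
      (by simp [h5, hV, ← hp.2.1, LinearMap.charpoly_natDegree, add_comm])
      (((oSum_prod _ _).disc_eq y.nd x.nd).trans (by rw [show y.nd.disc = _ from e]; simp [mul_assoc]))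
    refine ⟨g, hg.trans ((LinearMap.charpoly_prodMap (iE k) _).trans (congrArg (· * _) ?_))⟩
    simpa [hk, h5, sub_eq_add_neg] using LinearMap.charpoly_sub_smul (0 : End F y.V) (-c : F)
  rw [← card_pal, show 2 = Nat.card ℤˣ by simp, ← Nat.card_prod]
  refine le_trans (Nat.card_le_card_of_injective (fun x => ⟨_, h4 _ x.2.2 x.1⟩) fun x y e => ?_) h3
  have h5 : x.1 = y.1 := by
    have := congrArg (coeff ·.1 0) e
    simp only [mul_coeff_zero, x.2.2.2.2.1, y.2.2.2.2.1] at this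
    rcases Int.units_eq_one_or x.1 with h | h <;> rcases Int.units_eq_one_or y.1 with h' | h' <;>
      simp_all [eq_neg_iff_add_eq_zero, neg_eq_iff_add_eq_zero, one_add_one_eq_two]
  exact Prod.ext h5 (Subtype.ext (mul_left_cancel₀ (X_sub_C_ne_zero _) (h5 ▸ Subtype.mk.inj e)))

end H11
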